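import Groth.Agent.AbCubeLib.ExistsAmple
import Groth.Agent.AmpleLib.Local
import Groth.Agent.AmpleLib.Relative
import Groth.Agent.CubeLib.FibrewiseTriv
import Groth.Agent.DimLib.Maximal
import Groth.Agent.DimLib.Zero

/-!
# Multiplication by `n` on an abelian variety is finite
-/

set_option autoImplicit false
set_option backward.isDefEq.respectTransparency.types false

universe u

open CategoryTheory CategoryTheory.Limits MonoidalCategory CartesianMonoidalCategory AlgebraicGeometry MonObj
  TopologicalSpace
open Groth.Agent.PicLib Groth.Agent.CubeLib Groth.Agent.AmpleLib Groth.Agent.Coherent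

namespace Groth.Agent.AbCubeLib

/-- A proper scheme over a field with ample structure module is finite. -/
theorem isFinite_of_isAmple_structureModule {K : Type u} [Field K] {X : Scheme.{u}}
    (π : X ⟶ Spec (CommRingCat.of K)) [IsProper π] (h : CohB1.IsAmple (Coh.structureModule X)) : IsFinite π := by
  have : CompactSpace X := QuasiCompact.compactSpace_of_compactSpace π
  have : X.IsQuasiAffine := isAmple_structureModule_iff.1 h
  have : IsSeparated (Spec.map π.appTop) := inferInstance
  have : UniversallyClosed (X.toSpecΓ ≫ Spec.map π.appTop) := by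
    rw [← Scheme.toSpecΓ_naturality]
    infer_instance
  have : UniversallyClosed X.toSpecΓ := .of_comp_of_isSeparated _ (Spec.map π.appTop)
  have : IsClosedImmersion X.toSpecΓ := IsClosedImmersion.of_isPreimmersion _ X.toSpecΓ.isClosedMap.isClosed_range
  have : IsAffine X := isAffine_of_isAffineHom X.toSpecΓ
  exact (IsFinite.iff_isProper_and_isAffineHom).2 ⟨inferInstance, isAffineHom_of_isAffine π⟩

/-- A proper morphism to a separated scheme pulling some invertible module back to an ample one is finite. -/
theorem isFinite_of_isAmple_pullback {X Y : Scheme.{u}} (g : X ⟶ Y) [IsProper g] [Y.IsSeparated]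
    {M : Y.Modules} (hM : PicF.IsInvertible M) (h : CohB1.IsAmple ((Scheme.Modules.pullback g).obj M)) :
    IsFinite g := by
  have hfib : ∀ y : Y, (g ⁻¹' {y}).Finite := by
    intro y
    have : IsAffineHom (Y.fromSpecResidueField y) := by
      have : IsAffineHom (Y.fromSpecResidueField y ≫ terminal.from Y) := isAffineHom_of_isAffine _
      exact IsAffineHom.of_comp _ (terminal.from Y)
    have : IsAffineHom (g.fiberι y) := MorphismProperty.pullback_fst (P := @IsAffineHom) _ _ inferInstance
    have h1 := isAmple_pullback_of_isAffineHom (g.fiberι y) h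
    have h2 := fibre_eq_one_of_pull (f := g) (PicM.of hM) y
    rw [PicM.pull_of, PicM.pull_of, PicM.of_eq_one_iff] at h2
    obtain ⟨e⟩ := h2
    have : IsProper (g.fiberToSpecResidueField y) := MorphismProperty.pullback_snd (P := @IsProper) _ _ inferInstance
    have := isFinite_of_isAmple_structureModule (K := Y.residueField y) (g.fiberToSpecResidueField y) (isAmple_of_iso e h1)
    have : Subsingleton (Spec (Y.residueField y)) := inferInstanceAs (Subsingleton (PrimeSpectrum (Y.residueField y)))
    have hQ : (Set.univ : Set (g.fiber y)).Finite :=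
      ((g.fiberToSpecResidueField y).finite_preimage_singleton default).subset fun q _ => Subsingleton.elim _ _
    have : Finite (g.fiber y) := Set.finite_univ_iff.1 hQ
    exact Set.finite_coe_iff.1 (Finite.of_equiv _ (g.fiberHomeo y).toEquiv)
  have : LocallyQuasiFinite g := .of_finite_preimage_singleton g hfib
  exact (IsFinite.iff_isProper_and_locallyQuasiFinite g).2 ⟨inferInstance, inferInstance⟩

/-- A finite endomorphism of an irreducible variety is surjective. -/
theorem surjective_of_isFinite_endo {K : Type u} [Field K] {X : Scheme.{u}} [IrreducibleSpace X]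
    (p : X ⟶ Spec (CommRingCat.of K)) [LocallyOfFiniteType p] (f : X ⟶ X) (hf : f ≫ p = p) [IsFinite f] :
    Surjective f := by
  have : LocallyOfFiniteType (f ≫ p) := hf.symm ▸ ‹LocallyOfFiniteType p›
  let ξ := genericPoint X
  have : IsFinite (f.fiberToSpecResidueField (f ξ)) := MorphismProperty.pullback_snd (P := @IsFinite) _ _ inferInstance
  have : Subsingleton (Spec (X.residueField (f ξ))) := inferInstanceAs (Subsingleton (PrimeSpectrum (X.residueField (f ξ))))
  have : Finite (f.fiber (f ξ)) := Set.finite_univ_iff.1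
    (((f.fiberToSpecResidueField (f ξ)).finite_preimage_singleton default).subset fun q _ => Subsingleton.elim _ _)
  have := DimLib.discreteTopology_of_finite (k := X.residueField (f ξ)) (f.fiberToSpecResidueField (f ξ))
  have h := DimLib.ptDim_eq_add_of_mem_fiber p f ξ
  rw [(DimLib.ptDim_eq_zero_iff (k := X.residueField (f ξ)) (f.fiberToSpecResidueField (f ξ)) (f.asFiber ξ)).2
    (isClosed_discrete _), add_zero] at h
  simp only [hf] at h
  have e : ξ = f ξ := DimLib.eq_of_specializes_of_ptDim_le p (genericPoint_specializes (f ξ)) h.le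
  refine ⟨Set.range_eq_univ.1 (Set.univ_subset_iff.1 ?_)⟩
  rw [← genericPoint_closure (α := X)]
  exact f.isClosedMap.isClosed_range.closure_subset_iff.2 (Set.singleton_subset_iff.2 ⟨ξ, e.symm⟩)

theorem choose_two_succ (m : ℕ) : (m + 1).choose 2 = m.choose 2 + m := by
  rw [show (2 : ℕ) = 1 + 1 from rfl, Nat.choose_succ_succ', Nat.choose_one_right]; omega

variable {k : Type u} [Field k] {A : Over (Spec (CommRingCat.of k))} [GrpObj A] [IsProper A.hom]
  [GeometricallyIntegral A.hom]

/-- Pullback of a class along the `n`-th power of a morphism. -/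
theorem pb_pow (a : PicM A.left) {V : Over (Spec (CommRingCat.of k))} (f : V ⟶ A) (n : ℕ) :
    pb (f ^ n) a = pb f a ^ (n + 1).choose 2 * pb f⁻¹ a ^ n.choose 2 := by
  suffices h : ∀ n : ℕ, pb (f ^ n) a = pb f a ^ (n + 1).choose 2 * pb f⁻¹ a ^ n.choose 2 ∧
      pb (f ^ (n + 1)) a = pb f a ^ (n + 2).choose 2 * pb f⁻¹ a ^ (n + 1).choose 2 from (h n).1
  intro n
  induction n with
  | zero => refine ⟨?_, ?_⟩ <;> simp [pb_one]
  | succ n ih =>
    refine ⟨ih.2, (PicM.isUnit (pb (f ^ n) a)).mul_left_inj.1 ?_⟩
    have hc := cube_relation a (f ^ (n + 1)) f f⁻¹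
    rw [mul_inv_cancel_right, mul_inv_cancel, pb_one, _root_.mul_one, ← pow_succ,
      show f ^ (n + 1) * f⁻¹ = f ^ n by rw [pow_succ, mul_inv_cancel_right], ih.2] at hc
    rw [← hc, ih.1]
    have e1 : (n + 3).choose 2 = (n + 2).choose 2 + (n + 2) := by
      exact choose_two_succ (n + 2)
    have e2 : (n + 2).choose 2 = (n + 1).choose 2 + (n + 1) := by
      exact choose_two_succ (n + 1)
    have e3 : (n + 1).choose 2 = n.choose 2 + n := by
      exact choose_two_succ n
    rw [show n + 1 + 1 = n + 2 from rfl, show n + 1 + 2 = n + 3 from rfl, e1, e2, e3]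
    generalize pb f a = x, pb f⁻¹ a = y, n.choose 2 = c
    simp only [pow_add, pow_one, pow_succ]
    ac_rfl

/-- A symmetric ample class. -/
theorem exists_symmetric_ample_class : ∃ (M : A.left.Modules) (hM : PicF.IsInvertible M), CohB1.IsAmple M ∧
    pb (𝟙 A)⁻¹ (PicM.of hM) = PicM.of hM := by
  obtain ⟨L, hL, hamp⟩ := exists_ample A
  have : IsIso ((𝟙 A)⁻¹).left := inferInstanceAs (IsIso ((Over.forget _).map (ι[A])))
  have : CompactSpace A.left := QuasiCompact.compactSpace_of_compactSpace A.hom
  have hamp' := isAmple_pullback_of_isEmbedding ((𝟙 A)⁻¹).left ((𝟙 A)⁻¹).left.homeomorph.isEmbedding hamp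
  refine ⟨_, isInvertible_tensorMod hL hamp'.1, isAmple_tensorMod hamp hamp', ?_⟩
  rw [← PicM.of_mul hL hamp'.1, ← PicM.pull_of ((𝟙 A)⁻¹).left hL, pb, map_mul]
  change pb _ _ * pb _ (pb _ _) = _
  rw [pb_pb, GrpObj.comp_inv, Category.comp_id, _root_.inv_inv, pb_id, _root_.mul_comm]

/-- `[n]^* M` is a positive power of `M` for a symmetric `M`. -/
theorem pb_pow_symmetric {M : PicM A.left} (h : pb (𝟙 A)⁻¹ M = M) (n : ℕ) :
    pb ((𝟙 A) ^ n) M = M ^ (n * n) := by
  rw [pb_pow, pb_id, h, ← pow_add]
  congr 1
  induction n with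
  | zero => rfl
  | succ n ih =>
    have e2 : (n + 2).choose 2 = (n + 1).choose 2 + (n + 1) := by
      exact choose_two_succ (n + 1)
    have e3 : (n + 1).choose 2 = n.choose 2 + n := by
      exact choose_two_succ n
    rw [e2, e3]
    nlinarith [e3, ih]

/-- Multiplication by a positive integer is finite. -/
theorem isFinite_pow {n : ℕ} (hn : 0 < n) : IsFinite ((𝟙 A) ^ n).left := by
  have : A.left.IsSeparated := Serre.isSeparated_of_isProper A.hom
  have : IsProper (((𝟙 A) ^ n).left ≫ A.hom) := by rw [Over.w]; infer_instance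
  have : IsProper ((𝟙 A) ^ n).left := IsProper.of_comp _ A.hom
  obtain ⟨M, hM, hamp, hsym⟩ := exists_symmetric_ample_class (A := A)
  refine isFinite_of_isAmple_pullback _ hM ?_
  have h := pb_pow_symmetric hsym n
  rw [pb, PicM.pull_of, ← PicM.of_tensorPow hM, PicM.of_eq_iff] at h
  obtain ⟨e⟩ := h
  exact isAmple_of_iso e.symm ((isAmple_pow_iff hM (n * n) (Nat.mul_pos hn hn)).2 hamp)

/-- Multiplication by a positive integer is surjective. -/
theorem surjective_pow {n : ℕ} (hn : 0 < n) : Surjective ((𝟙 A) ^ n).left := by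
  have := isFinite_pow (A := A) hn
  have : IsIntegral A.left := GeometricallyIntegral.isIntegral_of_subsingleton A.hom
  exact surjective_of_isFinite_endo A.hom ((𝟙 A) ^ n).left (Over.w _)

end Groth.Agent.AbCubeLib
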