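import Mathlib

/-!
# Multiplicativity of the rank of finite flat morphisms
-/

set_option autoImplicit false
set_option backward.isDefEq.respectTransparency.types false

universe u

open CategoryTheory CategoryTheory.Limits AlgebraicGeometry TensorProduct Module

namespace Groth.Agent.AbCubeLib

section Algebra

variable (R T S : Type u) [CommRing R] [CommRing T] [CommRing S] [Algebra R T] [Algebra T S] [Algebra R S]
  [IsScalarTower R T S] [Module.Finite R T] [Module.Flat R T] [Module.Finite T S] [Module.Flat T S]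

/-- Ranks multiply in towers when the upper rank is constant. -/
theorem rankAtStalk_trans {n : ℕ} (h : ∀ q : PrimeSpectrum T, Module.rankAtStalk (R := T) S q = n)
    (p : PrimeSpectrum R) : Module.rankAtStalk (R := R) S p = n * Module.rankAtStalk (R := R) T p := by
  haveI : Module.Finite R S := Module.Finite.trans T S
  haveI : Module.Flat R S := Module.Flat.trans R T S
  rw [Module.rankAtStalk_eq, Module.rankAtStalk_eq]
  let κ := p.asIdeal.ResidueField
  show finrank κ (κ ⊗[R] S) = n * finrank κ (κ ⊗[R] T)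
  letI : Algebra T (κ ⊗[R] T) := Algebra.TensorProduct.rightAlgebra
  let e : (κ ⊗[R] T) ⊗[T] S ≃ₗ[κ] κ ⊗[R] S := Algebra.IsPushout.cancelBaseChange R κ T (κ ⊗[R] T) S
  haveI : IsArtinianRing (κ ⊗[R] T) := IsArtinianRing.of_finite κ _
  obtain ⟨b⟩ := Module.nonempty_basis_of_flat_of_finrank_eq (κ ⊗[R] T) ((κ ⊗[R] T) ⊗[T] S) n fun P => by
    letI : Field ((κ ⊗[R] T) ⧸ P.1) := Ideal.Quotient.field P.1
    have hq := Module.rankAtStalk_baseChange (R := κ ⊗[R] T) (S := (κ ⊗[R] T) ⧸ P.1)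
      (M := (κ ⊗[R] T) ⊗[T] S) ⟨⊥, Ideal.isPrime_bot⟩
    rw [Module.rankAtStalk_eq_finrank_of_free, Pi.natCast_apply, Nat.cast_id] at hq
    rw [hq, Module.rankAtStalk_baseChange, h]
  rw [← e.finrank_eq, (b.equivFun.restrictScalars κ).finrank_eq, Module.finrank_pi_fintype, Finset.sum_const,
    Finset.card_univ, Fintype.card_fin, smul_eq_mul]

end Algebra

variable {X Y Z : Scheme.{u}} (f : X ⟶ Y) (g : Y ⟶ Z) [IsFinite f] [Flat f] [IsFinite g] [Flat g]

/-- The rank does not see an isomorphism of the target. -/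
theorem finrank_comp_iso {W : Scheme.{u}} (e : Y ⟶ W) [IsIso e] (y : Y) :
    Scheme.Hom.finrank (f ≫ e) (e y) = Scheme.Hom.finrank f y :=
  (Scheme.Hom.finrank_of_isPullback (𝟙 X) f (f ≫ e) e (IsPullback.of_horiz_isIso ⟨by simp⟩) y).symm

omit [Flat f] in
theorem finrank_comp_affine {R T S : CommRingCat.{u}} (φ : T ⟶ S) (ψ : R ⟶ T) [IsFinite (Spec.map φ)] [Flat (Spec.map φ)]
    [IsFinite (Spec.map ψ)] [Flat (Spec.map ψ)] {n : ℕ} (h : ∀ q, Scheme.Hom.finrank (Spec.map φ) q = n)
    (p : Spec R) :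
    Scheme.Hom.finrank (Spec.map φ ≫ Spec.map ψ) p = n * Scheme.Hom.finrank (Spec.map ψ) p := by
  have h1 : φ.hom.Finite := (IsFinite.SpecMap_iff _).1 ‹_›
  have h2 : φ.hom.Flat := Flat.SpecMap_iff.1 ‹_›
  have h3 : ψ.hom.Finite := (IsFinite.SpecMap_iff _).1 ‹_›
  have h4 : ψ.hom.Flat := Flat.SpecMap_iff.1 ‹_›
  algebraize [φ.hom, ψ.hom, φ.hom.comp ψ.hom]
  haveI : Module.Finite R S := Module.Finite.trans T S
  haveI : Module.Flat R S := Module.Flat.trans R T S
  have hq : ∀ q, Module.rankAtStalk (R := T) S q = n := fun q =>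
    (Scheme.Hom.finrank_SpecMap_algebraMap T S q).symm.trans (h q)
  rw [← Spec.map_comp]
  show Scheme.Hom.finrank (Spec.map (CommRingCat.ofHom (algebraMap R S))) p =
    n * Scheme.Hom.finrank (Spec.map (CommRingCat.ofHom (algebraMap R T))) p
  rw [Scheme.Hom.finrank_SpecMap_algebraMap, Scheme.Hom.finrank_SpecMap_algebraMap, rankAtStalk_trans R T S hq]

/-- The rank is multiplicative over an affine base. -/
theorem finrank_comp_base {R : CommRingCat.{u}} {X Y : Scheme.{u}} (f : X ⟶ Y) (g : Y ⟶ Spec R) [IsFinite f] [Flat f]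
    [IsFinite g] [Flat g] {n : ℕ} (h : ∀ y, Scheme.Hom.finrank f y = n) (p : Spec R) :
    Scheme.Hom.finrank (f ≫ g) p = n * Scheme.Hom.finrank g p := by
  haveI : IsAffine Y := isAffine_of_isAffineHom g
  haveI : IsAffine X := isAffine_of_isAffineHom f
  obtain ⟨φ, hφ⟩ := Spec.map_surjective (X.isoSpec.inv ≫ f ≫ Y.isoSpec.hom)
  obtain ⟨ψ, hψ⟩ := Spec.map_surjective (Y.isoSpec.inv ≫ g)
  haveI : IsFinite (Spec.map φ) := by rw [hφ]; infer_instance
  haveI : Flat (Spec.map φ) := by rw [hφ]; infer_instance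
  haveI : IsFinite (Spec.map ψ) := by rw [hψ]; infer_instance
  haveI : Flat (Spec.map ψ) := by rw [hψ]; infer_instance
  have hφn : ∀ q, Scheme.Hom.finrank (Spec.map φ) q = n := fun q => by
    obtain ⟨y, rfl⟩ := Y.isoSpec.hom.surjective q
    rw [hφ, Scheme.Hom.finrank_comp_left_of_isIso, finrank_comp_iso f Y.isoSpec.hom y, h]
  have key := finrank_comp_affine φ ψ hφn p
  rw [hφ, hψ] at key
  simp only [Category.assoc, Iso.hom_inv_id_assoc, Scheme.Hom.finrank_comp_left_of_isIso] at key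
  exact key

/-- **The rank is multiplicative.** -/
theorem finrank_comp {n : ℕ} (h : ∀ y, Scheme.Hom.finrank f y = n) (z : Z) :
    Scheme.Hom.finrank (f ≫ g) z = n * Scheme.Hom.finrank g z := by
  obtain ⟨R, i, _, p, rfl⟩ := Z.exists_Spec_apply_eq z
  rw [← Scheme.Hom.finrank_pullback_snd, ← Scheme.Hom.finrank_pullback_snd g]
  rw [← pullbackRightPullbackFstIso_inv_snd_snd g i f, Scheme.Hom.finrank_comp_left_of_isIso]
  have h' : ∀ y, Scheme.Hom.finrank (pullback.snd f (pullback.fst g i)) y = n := fun y => by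
    rw [Scheme.Hom.finrank_pullback_snd, h]
  exact finrank_comp_base _ _ h' p

end Groth.Agent.AbCubeLib
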