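import Groth.Agent.RelVALib.OfPn
import Groth.Agent.PnEmb.Ample
import Groth.Agent.PnEmb.Segre

/-!
# Closed immersions into projective space over an affine base
-/

set_option autoImplicit false
set_option backward.isDefEq.respectTransparency.types false
set_option maxHeartbeats 1000000

universe u

open AlgebraicGeometry CategoryTheory CategoryTheory.Limits TopologicalSpace Opposite
open Groth.Agent.Coherent Groth.Agent.PicLib Groth.Agent.AmpleLib

namespace Groth.Agent.AbCubeLib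

variable {R : Type u} [CommRing R] {X : Scheme.{u}}

/-- A very ample module on a proper scheme over an affine base gives a closed immersion into projective space. -/
theorem exists_isClosedImmersion_projSpace (q : X ⟶ Spec (CommRingCat.of R)) [IsProper q] {L : X.Modules}
    (hL : PicF.IsInvertible L) (h : RelAmple.IsRelVeryAmplePn q L) :
    ∃ (n : ℕ) (f : X ⟶ CohB1.ProjSpace n R), IsClosedImmersion f ∧ f ≫ CohB1.ProjSpace.toSpec n R = q ∧
      Nonempty ((Scheme.Modules.pullback f).obj (Twist.twistProjSpace n R 1) ≅ L) := by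
  obtain ⟨n, i, hi, hiq, ⟨eL⟩⟩ := h
  have := hi
  let pr₁ := pullback.fst (CohB1.ProjSpace.toSpec n (ULift.{u} ℤ)) (specULiftZIsTerminal.from (Spec (CommRingCat.of R)))
  let a := i ≫ pr₁
  let τa : (Scheme.Modules.pullback a).obj (Twist.twistProjSpace n (ULift.{u} ℤ) 1) ≅ L :=
    ((Scheme.Modules.pullbackComp i pr₁).app _).symm ≪≫ eL.symm
  let σ : Fin (n + 1) → Γ(L, ⊤) := fun l => τa.hom.app ⊤ (ProjUP.pullSec a _ (ProjUP.coord n _ l))
  have hcov : ∀ x : X, ∃ k, x ∈ glocus L (σ k) := fun x => by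
    obtain ⟨k, hk⟩ := Opens.mem_iSup.1 ((Proj.iSup_basicOpen_eq_top (CohB1.polyGrading n (ULift.{u} ℤ)) _
      (ProjLib.irrelevant_le_span_X n _)).ge (show a x ∈ (⊤ : (CohB1.ProjSpace n (ULift.{u} ℤ)).Opens) from trivial))
    exact ⟨k, (PnEmb.preimage_chartOpen a τa (σ := σ) (fun _ => rfl) k).le hk⟩
  obtain ⟨f, hfq, τ, hτ⟩ := UPLib.exists_hom_projSpace n q hL σ hcov
  let O : (CohB1.ProjSpace n R).Modules := Twist.twistProjSpace n R 1
  let id' := (Scheme.Modules.pullback (𝟙 (CohB1.ProjSpace n R))).obj O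
  let s : Fin (n + 1) → Γ(id', ⊤) := fun l => ProjUP.pullSec (𝟙 _) O (ProjUP.coord n R l)
  have hO : PicF.IsInvertible O :=
    PnEmb.isInvertible_twist_one (UPLib.adjoin_one_eq_top (UPLib.linForm_mem (R := R) n) (UPLib.isSymmetricAlgebra_linForm n))
  have hcov' : ∀ z : CohB1.ProjSpace n R, ∃ k, z ∈ glocus id' (s k) := fun z => by
    obtain ⟨k, hk⟩ := Opens.mem_iSup.1 ((Proj.iSup_basicOpen_eq_top (CohB1.polyGrading n R) _
      (ProjLib.irrelevant_le_span_X n _)).ge (show z ∈ (⊤ : (CohB1.ProjSpace n R).Opens) from trivial))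
    exact ⟨k, (PnEmb.preimage_chartOpen (𝟙 _) (Iso.refl id') (σ := s) (fun _ => rfl) k).le hk⟩
  obtain ⟨φ, -, τφ, hτφ⟩ := UPLib.exists_hom_projSpace n (specULiftZIsTerminal.from (CohB1.ProjSpace n R))
    (PicLoc.isInvertible_pullback _ hO) s hcov'
  obtain ⟨c, hc⟩ := RelVALib.exists_compIso f (𝟙 _) f (Category.comp_id f) O
  obtain ⟨θ, hθ⟩ := RelVALib.exists_coordIso f φ τφ (c.symm ≪≫ τ)
  have hfφ : f ≫ φ = a := RelVALib.eq_of_coords θ τa fun l => by
    rw [hθ, hτφ]
    show τ.hom.app ⊤ (c.inv.app ⊤ (PicLib.pullSec f (U := ⊤) (ProjUP.pullSec (𝟙 _) O (ProjUP.coord n R l)))) = σ l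
    have h1 : c.hom.app ⊤ (ProjUP.pullSec f O (ProjUP.coord n R l)) =
        PicLib.pullSec f (U := ⊤) (ProjUP.pullSec (𝟙 _) O (ProjUP.coord n R l)) :=
      (hc ⊤ _ le_rfl).trans (resM_self _ _ _)
    rw [← h1, ← hτ l]
    exact congrArg _ (show (c.hom ≫ c.inv).app ⊤ _ = _ by rw [c.hom_inv_id]; rfl)
  let g : CohB1.ProjSpace n R ⟶ CohB1.ProjSpaceOver n (Spec (CommRingCat.of R)) :=
    pullback.lift φ (CohB1.ProjSpace.toSpec n R) (specULiftZIsTerminal.hom_ext _ _)
  have hfg : f ≫ g = i := pullback.hom_ext ((Category.assoc _ _ _).trans (by rw [pullback.lift_fst]; exact hfφ))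
    ((Category.assoc _ _ _).trans (by rw [pullback.lift_snd]; exact hfq.trans hiq.symm))
  have hs₁ : IsSeparated (CohB1.ProjSpace.toSpec n (ULift.{u} ℤ)) :=
    MorphismProperty.comp_mem @IsSeparated (Proj.toSpecZero (CohB1.polyGrading n (ULift.{u} ℤ))) _ inferInstance inferInstance
  have hs₂ : IsSeparated (CohB1.ProjSpace.toSpec n R) :=
    MorphismProperty.comp_mem @IsSeparated (Proj.toSpecZero (CohB1.polyGrading n R)) _ inferInstance inferInstance
  have : IsSeparated (CohB1.ProjSpaceOver.toBase n (Spec (CommRingCat.of R))) :=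
    MorphismProperty.pullback_snd _ _ hs₁
  have : IsProper (i ≫ CohB1.ProjSpaceOver.toBase n (Spec (CommRingCat.of R))) := hiq.symm ▸ ‹IsProper q›
  have : IsProper i := IsProper.of_comp i (CohB1.ProjSpaceOver.toBase n (Spec (CommRingCat.of R)))
  have hi' : IsClosedImmersion i := IsClosedImmersion.of_isPreimmersion i i.isClosedMap.isClosed_range
  have : IsSeparated (g ≫ CohB1.ProjSpaceOver.toBase n (Spec (CommRingCat.of R))) := by
    rw [show g ≫ CohB1.ProjSpaceOver.toBase n (Spec (CommRingCat.of R)) = CohB1.ProjSpace.toSpec n R from pullback.lift_snd _ _ _]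
    exact hs₂
  have : IsSeparated g := IsSeparated.of_comp g (CohB1.ProjSpaceOver.toBase n (Spec (CommRingCat.of R)))
  have : IsClosedImmersion (f ≫ g) := hfg ▸ hi'
  exact ⟨n, f, IsClosedImmersion.of_comp f g, hfq, ⟨τ⟩⟩

end Groth.Agent.AbCubeLib
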