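import Groth.Agent.CurveRR24.PointInv
import Groth.Agent.AmpleLib.GenLocus
import Groth.Agent.VarietyLib.Dual

/-!
# The canonical section of an effective Cartier divisor
-/

set_option autoImplicit false
set_option backward.isDefEq.respectTransparency.types false

universe u

open CategoryTheory CategoryTheory.Limits AlgebraicGeometry Opposite TopologicalSpace
open Groth.Agent.Coherent Groth.Agent.PicLib Groth.Agent.AmpleLib

namespace Groth.Agent.AbCubeLib

variable {X : Scheme.{u}}

/-- The module inverse to the ideal of an effective Cartier divisor has a section cutting out the divisor. -/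
theorem exists_section_of_effCartier (I : X.IdealSheafData) (hI : BlowUp.IsEffCartierIdeal I) {L : X.Modules}
    (hL : PicF.IsInvertible L) (hLI : ClSub.IsInverseOf L (ClSub.idealMod I)) :
    ∃ s : Γ(L, ⊤), (glocus L s : Set X) = (I.support : Set X)ᶜ := by
  classical
  obtain ⟨e⟩ := hLI
  have := mono_idealModι I
  have loc : ∀ x : X, ∃ (W : X.Opens) (l : Γ(L, W)) (k : Γ(ClSub.idealMod I, W)) (f : Γ(X, W)),
      x ∈ W ∧ IsGen L W l ∧ IsGen (ClSub.idealMod I) W k ∧ (ClSub.idealModι I).app W k = f ∧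
        e.hom.app W (tmul l k) = (1 : Γ(X, W)) ∧ (W : Set X) ∩ (I.support : Set X)ᶜ = X.basicOpen f := by
    intro x
    obtain ⟨U, hxU, f, hf, hspan⟩ := hI x
    obtain ⟨k, hk⟩ := (mem_range_idealModι I U.1 f).2 (RingHom.mem_ker.1
      ((I.ker_subschemeι_app U).symm ▸ hspan.ge (Ideal.mem_span_singleton_self f)))
    have hreg : IsLeftRegular f := fun b c (h : f * b = f * c) => sub_eq_zero.1
      ((mem_nonZeroDivisors_iff.1 hf).2 _ (by rw [sub_mul, mul_comm b, mul_comm c, h, sub_self]))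
    have hkgen := CurveRR24.bijective_smul_of_affine_gen I U.2 hk hreg hspan
    obtain ⟨W₀, hxW₀, l₀, hl₀⟩ := exists_isGen hL x
    let W := U.1 ⊓ W₀
    have hl := hl₀.restrict (inf_le_right : W ≤ W₀)
    have hkW := hkgen.restrict (inf_le_left : W ≤ U.1)
    have hT := isGen_tmul hl hkW
    let u : Γ(X, W) := e.hom.app W (tmul (resM L inf_le_right l₀) (resM _ inf_le_left k))
    have hu : IsUnit u := by
      obtain ⟨c, hc⟩ := (hT W le_rfl).2 (e.inv.app W (1 : Γ(X, W)))
      have hc' : c • tmul (resM L (inf_le_right : W ≤ W₀) l₀) (resM _ (inf_le_left : W ≤ U.1) k) =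
          e.inv.app W (1 : Γ(X, W)) := by
        have hc2 : c • resM _ (le_refl W) (tmul (resM L inf_le_right l₀) (resM _ inf_le_left k)) = _ := hc
        rwa [resM_self] at hc2
      have h2 := congrArg (e.hom.app W) hc'
      rw [Scheme.Modules.Hom.app_smul] at h2
      refine IsUnit.of_mul_eq_one_right c (h2.trans ?_)
      exact congr(($(e.inv_hom_id)).app W (1 : Γ(X, W)))
    obtain ⟨v, hv⟩ := hu.exists_left_inv
    have hvu : IsUnit v := IsUnit.of_mul_eq_one _ hv
    refine ⟨W, v • resM L inf_le_right l₀, resM _ inf_le_left k, res (inf_le_left : W ≤ U.1) f, ⟨hxU, hxW₀⟩, ?_,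
      hkW, (app_resM _ _ k).trans (congrArg (resM _ inf_le_left) hk), ?_, ?_⟩
    · have := hl.smul_unit hvu.unit
      rwa [IsUnit.unit_spec] at this
    · rw [tmul_smul_left, Scheme.Modules.Hom.app_smul]
      exact hv
    · rw [Scheme.basicOpen_res]
      have h := I.coe_support_inter U
      rw [hspan] at h
      refine Set.ext fun z => ⟨fun ⟨hz, hzs⟩ => ⟨hz, ?_⟩, fun ⟨hz, hzf⟩ => ⟨hz, fun hzs => ?_⟩⟩
      · by_contra hzf
        refine hzs (h.ge ⟨?_, hz.1⟩).1
        simp only [Scheme.mem_zeroLocus_iff, SetLike.mem_coe]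
        intro g hg hzg
        obtain ⟨r, rfl⟩ := Ideal.mem_span_singleton'.1 hg
        rw [Scheme.basicOpen_mul] at hzg
        exact hzf hzg.2
      · have := (h.le ⟨hzs, hz.1⟩).1
        simp only [Scheme.mem_zeroLocus_iff, SetLike.mem_coe] at this
        exact this f (Ideal.mem_span_singleton_self f) hzf
  choose W l k f hxW hl hk hkf he hsupp using loc
  have hcov : (⊤ : X.Opens) ≤ ⨆ x, W x := fun x _ => Opens.mem_iSup.2 ⟨x, hxW x⟩
  obtain ⟨s, hs, -⟩ := TopCat.Sheaf.existsUnique_gluing' (⟨L.presheaf, L.isSheaf⟩ : TopCat.Sheaf Ab X)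
    W ⊤ (fun x => homOfLE le_top) hcov (fun x => f x • l x) fun i j => by
      show resM L (inf_le_left : W i ⊓ W j ≤ W i) (f i • l i) = resM L (inf_le_right : W i ⊓ W j ≤ W j) (f j • l j)
      obtain ⟨c, hc⟩ := (hk i _ (inf_le_left : W i ⊓ W j ≤ W i)).2 (resM _ (inf_le_right : W i ⊓ W j ≤ W j) (k j))
      obtain ⟨d, hd⟩ := (hl i _ (inf_le_left : W i ⊓ W j ≤ W i)).2 (resM _ (inf_le_right : W i ⊓ W j ≤ W j) (l j))
      have hc' : c • resM _ (inf_le_left : W i ⊓ W j ≤ W i) (k i) = resM _ (inf_le_right : W i ⊓ W j ≤ W j) (k j) := hc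
      have hd' : d • resM _ (inf_le_left : W i ⊓ W j ≤ W i) (l i) = resM _ (inf_le_right : W i ⊓ W j ≤ W j) (l j) := hd
      have hf1 := congrArg ((ClSub.idealModι I).app (W i ⊓ W j)) hc'
      rw [Scheme.Modules.Hom.app_smul, app_resM, app_resM, hkf, hkf] at hf1
      have hf2 : res (inf_le_right : W i ⊓ W j ≤ W j) (f j) = c * res (inf_le_left : W i ⊓ W j ≤ W i) (f i) := hf1.symm
      have h1 : d * c = 1 := by
        have h := congrArg (resM _ (inf_le_right : W i ⊓ W j ≤ W j)) (he j)
        rw [← app_resM, resM_tmul, ← hc', ← hd', tmul_smul_smul, Scheme.Modules.Hom.app_smul, ← resM_tmul,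
          app_resM, he] at h
        have h' : (d * c) * res (inf_le_left : W i ⊓ W j ≤ W i) (1 : Γ(X, W i)) =
            res (inf_le_right : W i ⊓ W j ≤ W j) (1 : Γ(X, W j)) := h
        rwa [map_one, map_one, mul_one] at h'
      rw [resM_smul, resM_smul, ← hd']
      show _ = res (inf_le_right : W i ⊓ W j ≤ W j) (f j) • d • _
      rw [hf2, ← mul_smul, show c * res (inf_le_left : W i ⊓ W j ≤ W i) (f i) * d =
        (d * c) * res (inf_le_left : W i ⊓ W j ≤ W i) (f i) by ring, h1, one_mul]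
  refine ⟨s, Set.ext fun z => ?_⟩
  have hsW : resM L (le_top : W z ≤ ⊤) s = f z • l z := hs z
  have hg : glocus L s ⊓ W z = X.basicOpen (f z) := by
    rw [glocus_inf s (hl z)]
    refine congrArg X.basicOpen ((hl z).coef_eq le_rfl ?_)
    rw [resM_self, hsW]
  constructor
  · intro hz
    exact ((hsupp z).ge ((SetLike.ext'_iff.1 hg).le ⟨hz, hxW z⟩)).2
  · intro hz
    exact (((SetLike.ext'_iff.1 hg).ge) ((hsupp z).le ⟨hxW z, hz⟩)).1

end Groth.Agent.AbCubeLib
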