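import Groth.Agent.AbCubeLib.AmpleOfAffine
import Groth.Agent.AbCubeLib.CanonicalSection
import Groth.Agent.AbCubeLib.EffCartierCompl
import Groth.Agent.CubeLib.FourPoint
import Groth.Agent.NeronLib.MonHomOfUnit
import Groth.Agent.VarietyLib.Dual

/-!
# Abelian varieties are projective
-/

set_option autoImplicit false
set_option backward.isDefEq.respectTransparency.types false

universe u

open CategoryTheory CategoryTheory.Limits MonoidalCategory CartesianMonoidalCategory AlgebraicGeometry MonObj
  TopologicalSpace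
open Groth.Agent.PicLib Groth.Agent.CubeLib Groth.Agent.AmpleLib Groth.Agent.Coherent

namespace Groth.Agent.AbCubeLib

/-- The ideal of an effective Cartier divisor is invertible. -/
theorem isInvertible_idealMod {X : Scheme.{u}} (I : X.IdealSheafData) (hI : BlowUp.IsEffCartierIdeal I) :
    PicF.IsInvertible (ClSub.idealMod I) := by
  refine isInvertible_of_gens fun x => ?_
  obtain ⟨U, hxU, f, hf, hspan⟩ := hI x
  obtain ⟨k, hk⟩ := (mem_range_idealModι I U.1 f).2 (RingHom.mem_ker.1
    ((I.ker_subschemeι_app U).symm ▸ hspan.ge (Ideal.mem_span_singleton_self f)))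
  have hreg : IsLeftRegular f := fun b c (h : f * b = f * c) => sub_eq_zero.1
    ((mem_nonZeroDivisors_iff.1 hf).2 _ (by rw [sub_mul, mul_comm b, mul_comm c, h, sub_self]))
  exact ⟨U.1, hxU, k, CurveRR24.bijective_smul_of_affine_gen I U.2 hk hreg hspan⟩

variable {k : Type u} [Field k] (A : Over (Spec (CommRingCat.of k)))
  [GrpObj A] [IsProper A.hom] [GeometricallyIntegral A.hom]

/-- An abelian variety carries an ample invertible module. -/
theorem exists_ample : ∃ L : A.left.Modules, PicF.IsInvertible L ∧ CohB1.IsAmple L := by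
  have : CompactSpace A.left := QuasiCompact.compactSpace_of_compactSpace A.hom
  have : A.left.IsSeparated := Serre.isSeparated_of_isProper A.hom
  have : IsIntegral A.left := GeometricallyIntegral.isIntegral_of_subsingleton A.hom
  have : Smooth A.hom := NeronLib.smooth_of_geometricallyIntegral A
  have : IsLocallyNoetherian A.left := LocallyOfFiniteType.isLocallyNoetherian A.hom
  obtain ⟨z⟩ := (inferInstance : Nonempty A.left)
  obtain ⟨U, hU, hzU, -⟩ := exists_isAffineOpen_mem_and_subset (x := z) (U := (⊤ : A.left.Opens)) trivial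
  obtain ⟨I, hI, hsupp⟩ := exists_effCartier_compl (fun _ _ hV hW => hV.inf hW) hU
    (U.isOpen.dense ⟨z, hzU⟩) fun x _ => ⟨inferInstance, ufd_of_smooth x⟩
  obtain ⟨L, ⟨e⟩⟩ := VarietyLib.exists_isInverseOf (isInvertible_idealMod I hI)
  have hL : PicF.IsInvertible L := PicM.isInvertible_of_tensor (isInvertible_idealMod I hI) (by
    intro y
    obtain ⟨W, hy, ⟨e'⟩⟩ := (AmpleLib.isInvertible_structureModule (X := A.left)) y
    exact ⟨W, hy, ⟨(Scheme.Modules.restrictFunctor W.ι).mapIso e ≪≫ e'⟩⟩)
  obtain ⟨s, hs⟩ := exists_section_of_effCartier I hI hL ⟨tensorComm _ _ ≪≫ e⟩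
  have hloc : glocus L s = U := Opens.ext (hs.trans (by rw [hsupp, compl_compl]))
  exact ⟨L, hL, isAmple_of_affine_glocus' hL s (hloc ▸ hU) (hloc ▸ ⟨z, hzU⟩)⟩

end Groth.Agent.AbCubeLib
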