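import Groth.Agent.EulerLib.HilbPoly
import Groth.Agent.Coherent.DevissageIdeal
import Groth.Agent.AssSch12.Primary
import Mathlib.RingTheory.Length

/-!
# Intersection degrees are generic rank times the degree of the structure sheaf
-/

set_option autoImplicit false
set_option linter.style.haveILetI false
set_option backward.isDefEq.respectTransparency.types false

universe u

open CategoryTheory CategoryTheory.Limits AlgebraicGeometry Opposite TopologicalSpace
open Groth.Agent.Coherent Groth.Agent.PicLib Groth.Agent.AmpleLib Groth.Agent.AssSch12 Groth.Agent.EulerLib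

namespace Groth.Agent.AbCubeLib

variable {X : Scheme.{u}} [IsIntegral X]

local notation "ξ" => genericPoint X
local notation "St" => DerSch.stalkFunctor X

/-- The dimension of the stalk at the generic point over the function field. -/
noncomputable def genRank (M : X.Modules) : ℕ :=
  Module.finrank (X.presheaf.stalk ξ) (M.presheaf.stalk ξ)

theorem genRank_congr {M N : X.Modules} (e : M ≅ N) : genRank M = genRank N :=
  ((St ξ).mapIso e).toLinearEquiv.finrank_eq

theorem genRank_eq_zero {M : X.Modules} (h : ξ ∉ CohB1.support M) : genRank M = 0 := by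
  have : Subsingleton (M.presheaf.stalk ξ) := ModuleCat.subsingleton_of_isZero ((notMem_support_iff M _).1 h)
  exact Module.finrank_zero_of_subsingleton

theorem genRank_add [IsLocallyNoetherian X] {S : ShortComplex X.Modules} (hS : S.ShortExact)
    (h₂ : Coh.IsCoh S.X₂) : genRank S.X₂ = genRank S.X₁ + genRank S.X₃ := by
  letI : Field (X.presheaf.stalk ξ) := inferInstanceAs (Field X.functionField)
  haveI := finite_stalk h₂ ξ
  have h : (S.map (St ξ)).ShortExact := hS.map_of_exact _
  let f : S.X₁.presheaf.stalk ξ →ₗ[X.presheaf.stalk ξ] S.X₂.presheaf.stalk ξ := ((St ξ).map S.f).hom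
  let g : S.X₂.presheaf.stalk ξ →ₗ[X.presheaf.stalk ξ] S.X₃.presheaf.stalk ξ := ((St ξ).map S.g).hom
  have hf : Function.Injective f := h.moduleCat_injective_f
  have hg : Function.Surjective g := h.moduleCat_surjective_g
  have hex : LinearMap.range f = LinearMap.ker g := h.exact.moduleCat_range_eq_ker
  have e := LinearMap.finrank_range_add_finrank_ker g
  rw [← hex, LinearMap.finrank_range_of_inj hf, LinearMap.range_eq_top.2 hg, finrank_top] at e
  unfold genRank
  omega

variable (k : Type u) [Field k] [X.Over (Spec (CommRingCat.of k))] [IsProper (X ↘ Spec (CommRingCat.of k))]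

/-- Intersection degree of a coherent module in terms of its generic rank. -/
theorem interDeg_eq_genRank {r : ℕ} (hr : topologicalKrullDim X ≤ r) (c : Fin r → InvCl X) (F : X.Modules)
    (hF : Coh.IsCoh F) :
    interDeg c (chiCl k F) = genRank F * interDeg c (chiCl k (clM ξ)) := by
  haveI := isNoetherian_of_proper (X := X) k
  have huniv : closure {ξ} = (Set.univ : Set X) := genericPoint_closure X
  have hru : topologicalKrullDim (Set.univ : Set X) ≤ r :=
    ((Homeomorph.Set.univ X).isInducing.topologicalKrullDim_le).trans hr
  have hone : genRank (clM ξ) = 1 := by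
    letI : Field (X.presheaf.stalk ξ) := inferInstanceAs (Field X.functionField)
    haveI := finite_stalk (isCoh_clM (X := X) ξ) ξ
    have h := length_stalk_clM (X := X) ξ
    rw [Module.length_eq_finrank] at h
    unfold genRank
    exact_mod_cast h
  have hK : ExtClass (fun M : X.Modules => interDeg c (chiCl k M) = genRank M * interDeg c (chiCl k (clM ξ))) :=
    { iso := fun e h => by rw [← chiCl_congr k e, ← genRank_congr e]; exact h
      zero := fun M hM => by
        have he : CohB1.support M = ∅ := Set.subset_empty_iff.1 (support_of_isZero hM ∅)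
        rw [genRank_eq_zero (by rw [he]; exact id), Nat.cast_zero, zero_mul,
          interDeg_eq_zero c (finDeg_chiCl k (isCoh_of_isZero hM) (by rw [he]; exact dim_empty_lt r))]
      ext := fun S hS h₁ h₂ h₃ a b => by
        rw [chiCl_additive k S hS h₁ h₂ h₃, interDeg_add_fun, a, b, genRank_add hS h₂, Nat.cast_add, add_mul] }
  refine mem_of_ideals hK Set.univ (fun y _ I ι hι hI hI0 => ?_) F hF (Set.subset_univ _)
  let i := (clI y).subschemeι
  haveI := hι
  haveI : Mono ((Coh.push i).map ι) :=
    haveI : (Coh.push i).IsRightAdjoint := (Scheme.Modules.pullbackPushforwardAdjunction i).isRightAdjoint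
    inferInstance
  haveI := hI
  haveI : Coh.IsQCoh ((Coh.push i).obj I) := isQCoh_push i I
  have hM : Coh.IsCoh ((Coh.push i).obj I) :=
    isCoh_of_mono (show (Coh.push i).obj I ⟶ clM y from (Coh.push i).map ι) (isCoh_clM y) inferInstance
  let j : (Coh.push i).obj I ⟶ clM y := (Coh.push i).map ι
  haveI : Mono j := inferInstanceAs (Mono ((Coh.push i).map ι))
  have hsub : CohB1.support ((Coh.push i).obj I) ⊆ closure {y} :=
    (support_subset_of_mono j).trans (support_clM_subset y)
  rcases eq_or_ne y ξ with rfl | hy
  · have hy : ξ ∈ CohB1.support ((Coh.push i).obj I) := by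
      by_contra hy
      have h0 : (Coh.push i).map (𝟙 I) = (Coh.push i).map 0 := (isZero_of_mono_clM j hM hy).eq_of_src _ _
      exact hI0 ((IsZero.iff_id_eq_zero I).2 ((Coh.push i).map_injective h0))
    have hc : Coh.IsCoh (cokernel j) := isCoh_cokernel j hM.1 (isCoh_clM _)
    have hcy : ξ ∉ CohB1.support (cokernel j) := fun hy' => hy' (subsingleton_of_forall_eq 0 fun a => by
      obtain ⟨x, rfl⟩ := (ModuleCat.epi_iff_surjective ((St ξ).map (cokernel.π j))).1 inferInstance a
      obtain ⟨w, rfl⟩ := surjective_stalk_of_mono_clM j hy x
      refine (stalk_comp_apply _ _ _).trans ?_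
      rw [cokernel.condition]
      exact stalk_zero_apply _)
    have hlt := dim_lt_of_notMem (isClosed_support _ (locallyFinGen_of_isFT _ hc.2))
      (Set.subset_univ _) isClosed_univ huniv hcy hru
    have hS : (ShortComplex.mk j (cokernel.π j) (cokernel.condition j)).ShortExact :=
      { exact := ShortComplex.exact_cokernel j }
    have e := genRank_add hS (isCoh_clM _)
    rw [show genRank (cokernel j) = 0 from genRank_eq_zero hcy, hone, add_zero] at e
    show interDeg c (chiCl k ((Coh.push i).obj I)) = _
    rw [← e, Nat.cast_one, one_mul, chiCl_additive k _ hS hM (isCoh_clM _) hc, interDeg_add_fun,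
      interDeg_eq_zero c (finDeg_chiCl k hc hlt), add_zero]
  · have hξ : ξ ∉ closure ({y} : Set X) := fun h =>
      hy (((genericPoint_specializes y).antisymm (specializes_iff_mem_closure.2 h)).eq).symm
    have hlt := dim_lt_of_notMem isClosed_closure (Set.subset_univ _) isClosed_univ huniv hξ hru
    show interDeg c (chiCl k ((Coh.push i).obj I)) = _
    rw [genRank_eq_zero fun h => hξ (hsub h), Nat.cast_zero, zero_mul,
      interDeg_eq_zero c (finDeg_chiCl k hM ((dim_mono hsub).trans_lt hlt))]

end Groth.Agent.AbCubeLib
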