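import Groth.Agent.AbCubeLib.GenericRank
import Groth.Agent.SDiv28.GenFreeRank
import Groth.Agent.Props12.FinLocFree
import Groth.Agent.SerreDual.PushEquiv
import Groth.Agent.Coherent.ProjFormula
import Groth.Agent.Coherent.FinitePres
import Groth.Agent.Coherent.CohBC.PushStructureIso
import Groth.Agent.PicLib.PicMonoid
import Mathlib.AlgebraicGeometry.Morphisms.FlatRank

/-!
# The degree of a finite flat endomorphism scaling an ample class
-/

set_option autoImplicit false
set_option linter.style.haveILetI false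
set_option backward.isDefEq.respectTransparency.types false

universe u

open CategoryTheory CategoryTheory.Limits AlgebraicGeometry Opposite TopologicalSpace
open Groth.Agent.Coherent Groth.Agent.PicLib Groth.Agent.AmpleLib Groth.Agent.EulerLib

namespace Groth.Agent.AbCubeLib

variable {X X' : Scheme.{u}}

/-- The degree of a finite flat morphism to an integral scheme is the generic rank of the pushed structure sheaf. -/
theorem finrank_eq_genRank [IsIntegral X] [IsLocallyNoetherian X] (g : X' ⟶ X) [IsFinite g] [Flat g] (y : X) :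
    Scheme.Hom.finrank g y = genRank ((Coh.push g).obj (Coh.structureModule X')) := by
  have : IsLocallyNoetherian X' := LocallyOfFiniteType.isLocallyNoetherian g
  have hE : Coh.IsCoh ((Coh.push g).obj (Coh.structureModule X')) :=
    isCoh_push_finite g (isCoh_structureModule _)
  obtain ⟨U, hU, ⟨e⟩⟩ := SDiv28.GenRank.exists_open_free _ hE.1 hE.2
  obtain ⟨p, hp⟩ := hU
  obtain ⟨W, hW, hpW, hWU⟩ := exists_isAffineOpen_mem_and_subset (x := p) (U := U) hp
  obtain ⟨b⟩ := Props12.exists_basis_sections e hWU
  have : Nonempty W := ⟨⟨p, hpW⟩⟩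
  have hV : IsAffineOpen (g ⁻¹ᵁ W) := hW.preimage g
  have sq : IsPullback hV.fromSpec (Spec.map (g.app W)) g hW.fromSpec := by
    refine (IsOpenImmersion.isPullback _ _ _ _ ?_ ?_).flip
    · rw [← IsAffineOpen.SpecMap_appLE_fromSpec g hW hV le_rfl, Scheme.Hom.app_eq_appLE]
    · rw [hW.opensRange_fromSpec, hV.opensRange_fromSpec]
  have : LocallyOfFinitePresentation g := CohBC.locallyOfFinitePresentation_of_isLocallyNoetherian g
  letI := (g.app W).hom.toAlgebra
  have hfin : Module.Finite Γ(X, W) Γ(X', g ⁻¹ᵁ W) := IsFinite.finite_app g W hW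
  have hfl : Flat (Spec.map (g.app W)) := MorphismProperty.of_isPullback (P := @Flat) sq ‹Flat g›
  have : Module.Flat Γ(X, W) Γ(X', g ⁻¹ᵁ W) := (RingHom.flat_algebraMap_iff).1 (Flat.SpecMap_iff.1 hfl)
  let b' : Module.Basis (Fin (genRank ((Coh.push g).obj (Coh.structureModule X')))) Γ(X, W) Γ(X', g ⁻¹ᵁ W) :=
    b.map { toFun := fun x => x, invFun := fun x => x, map_add' := fun _ _ => rfl, map_smul' := fun _ _ => rfl }
  have : Module.Free Γ(X, W) Γ(X', g ⁻¹ᵁ W) := Module.Free.of_basis b'
  have hconst := g.isLocallyConstant_finrank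
  rw [hconst.apply_eq_of_preconnectedSpace y (hW.fromSpec (hW.primeIdealOf ⟨p, hpW⟩))]
  rw [← Scheme.Hom.finrank_of_isPullback _ _ _ _ sq]
  refine (Scheme.Hom.finrank_SpecMap_algebraMap Γ(X, W) Γ(X', g ⁻¹ᵁ W) _).trans ?_
  rw [Module.rankAtStalk_eq_finrank_of_free]
  show Module.finrank Γ(X, W) Γ(X', g ⁻¹ᵁ W) = _
  rw [Module.finrank_eq_card_basis b', Fintype.card_fin]

/-- The structure sheaf has generic rank one. -/
theorem genRank_structureModule [IsIntegral X] [IsLocallyNoetherian X] : genRank (Coh.structureModule X) = 1 := by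
  have h := finrank_eq_genRank (𝟙 X) (Classical.arbitrary X)
  rw [Scheme.Hom.finrank_eq_one_of_isIso] at h
  exact (genRank_congr ((Scheme.Modules.pushforwardId X).app (Coh.structureModule X))).symm.trans h.symm

/-- The structure sheaf is supported everywhere. -/
theorem support_structureModule_eq_univ [IsIntegral X] [IsLocallyNoetherian X] :
    CohB1.support (Coh.structureModule X) = Set.univ := by
  refine Set.univ_subset_iff.1 ?_
  rw [← genericPoint_closure X]
  refine closure_subset_support (isCoh_structureModule X) ?_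
  by_contra h
  have := genRank_structureModule (X := X)
  rw [genRank_eq_zero h] at this
  exact zero_ne_one this

variable (k : Type u) [Field k] [X.Over (Spec (CommRingCat.of k))] [IsProper (X ↘ Spec (CommRingCat.of k))]
  [X'.Over (Spec (CommRingCat.of k))]

omit [IsProper (X ↘ Spec (CommRingCat.of k))] in
/-- Euler characteristics along an affine morphism. -/
theorem euler_push (g : X' ⟶ X) [IsAffineHom g] [X.IsSeparated]
    (hg : g ≫ (X ↘ Spec (CommRingCat.of k)) = X' ↘ Spec (CommRingCat.of k)) (M : X'.Modules) [Coh.IsQCoh M] :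
    Curv2.euler k X' M = Curv2.euler k X ((Coh.push g).obj M) :=
  finsum_congr fun q => by rw [(SerreDual.hpush g k hg M q).finrank_eq]

/-- A finite flat endomorphism multiplying an ample class by `N` has degree `N ^ dim`. -/
theorem finrank_eq_pow_of_pullback_ample [IsIntegral X] (g : X ⟶ X) [IsFinite g] [Flat g]
    (hg : g ≫ (X ↘ Spec (CommRingCat.of k)) = X ↘ Spec (CommRingCat.of k))
    {L : X.Modules} (hL : CohB1.IsAmple L) {N : ℕ}
    (hN : PicM.pull g (PicM.of hL.1) = PicM.of hL.1 ^ N) {r : ℕ} (hr : topologicalKrullDim X = r) (y : X) :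
    Scheme.Hom.finrank g y = N ^ r := by
  haveI := isNoetherian_of_proper (X := X) k
  haveI := isSeparated_of_proper (X := X) k
  let O := Coh.structureModule X
  have hO : Coh.IsCoh O := isCoh_structureModule _
  have hE : Coh.IsCoh ((Coh.push g).obj O) := isCoh_push_finite g hO
  have hsupp : CohB1.support O = Set.univ := support_structureModule_eq_univ
  have hdim : topologicalKrullDim (CohB1.support O) = r := by
    rw [hsupp]
    exact (IsHomeomorph.topologicalKrullDim_eq _ (Homeomorph.Set.univ X).isHomeomorph).trans hr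
  have hdimE : topologicalKrullDim (CohB1.support ((Coh.push g).obj O)) ≤ r :=
    ((dim_mono (Set.subset_univ _)).trans ((IsHomeomorph.topologicalKrullDim_eq _ (Homeomorph.Set.univ X).isHomeomorph).le)).trans hr.le
  obtain ⟨P, hP⟩ := exists_isHilbPoly k hL.1 hO hdim.le
  have hPE : ShStab.IsHilbPoly k X L ((Coh.push g).obj O) (P.comp (Polynomial.C (N : ℚ) * Polynomial.X)) := by
    intro m
    have hm := isInvertible_tensorPow hL.1 m
    have hmF : FlatMod.IsFinLocFree (CohB1.tensorPow L m) :=
      fun x => let ⟨U, hx, e⟩ := isFinLocFreeOfRank_one hm x; ⟨U, 1, hx, e⟩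
    have hNm := isInvertible_tensorPow hL.1 (N * m)
    obtain ⟨ep⟩ : Nonempty ((Scheme.Modules.pullback g).obj (CohB1.tensorPow L m) ≅ CohB1.tensorPow L (N * m)) := by
      refine (PicM.of_eq_iff (PicLoc.isInvertible_pullback g hm) hNm).1 ?_
      rw [← PicM.pull_of g hm, PicM.of_tensorPow hL.1, PicM.of_tensorPow hL.1, map_pow, hN, pow_mul]
    have hqc : Coh.IsQCoh (CohB1.tensorMod ((Scheme.Modules.pullback g).obj (CohB1.tensorPow L m)) O) :=
      (isCoh_twist (F := O) (PicLoc.isInvertible_pullback g hm) hO |> fun h => (isCoh_iso (tensorComm _ _) h).1)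
    rw [Polynomial.eval_comp, Polynomial.eval_mul, Polynomial.eval_C, Polynomial.eval_X, ← Nat.cast_mul, ← hP (N * m)]
    norm_cast
    show Curv2.euler k X (CohB1.tensorMod ((Coh.push g).obj O) (CohB1.tensorPow L m)) =
      Curv2.euler k X (CohB1.tensorMod O (CohB1.tensorPow L (N * m)))
    rw [euler_congr k X (tensorComm _ _ ≪≫ (projIso (f := g) hmF).app O),
      euler_congr k X (tensorComm O (CohB1.tensorPow L (N * m))),
      euler_congr k X ((AmpleLib.tensorIso ep (Iso.refl O)).symm)]
    exact (euler_push k g hg (CohB1.tensorMod ((Scheme.Modules.pullback g).obj (CohB1.tensorPow L m)) O)).symm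
  have hdeg := (alpha_eq_interDeg k hL.1 hO hP hdim.le).1
  have hαE := (alpha_eq_interDeg k hL.1 hE hPE hdimE).2
  have hαO := (alpha_eq_interDeg k hL.1 hO hP hdim.le).2
  have hpos := alpha_pos k hL hO hP hdim
  rw [interDeg_eq_genRank k hr.le _ _ hE, ← finrank_eq_genRank g y] at hαE
  rw [interDeg_eq_genRank k hr.le _ _ hO] at hαO
  have hO1 : genRank O = 1 := by
    show Module.finrank (X.presheaf.stalk (genericPoint X)) (O.presheaf.stalk (genericPoint X)) = 1
    exact genRank_structureModule
  have hscale : StabCat.alpha r (P.comp (Polynomial.C (N : ℚ) * Polynomial.X)) = (N : ℚ) ^ r * StabCat.alpha r P := by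
    rw [StabCat.alpha, StabCat.alpha, Polynomial.comp_C_mul_X_coeff]
    ring
  rw [hO1] at hαO
  push_cast at hαE hαO
  rw [one_mul] at hαO
  rw [hscale, ← hαO] at hαE
  exact_mod_cast (mul_right_cancel₀ hpos.ne' hαE).symm

end Groth.Agent.AbCubeLib
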