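import Groth.Agent.AbCubeLib.EndSimple
import Groth.Agent.DimLib.BaseChange
import Groth.Agent.AbVarLib.HomDim

/-!
# Finite products of abelian varieties and their dimension; homomorphisms between simple ones
-/

set_option autoImplicit false
set_option backward.isDefEq.respectTransparency.types false

universe u

open CategoryTheory CategoryTheory.Limits MonoidalCategory CartesianMonoidalCategory AlgebraicGeometry MonObj

namespace Groth.Agent.AbCubeLib

variable {k : Type u} [Field k]

/-- An abelian variety of dimension zero is a point. -/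
theorem subsingleton_of_dim_zero {B : Over (Spec (CommRingCat.of k))} [IsProper B.hom] [GeometricallyIntegral B.hom]
    (h : topologicalKrullDim B.left = 0) : Subsingleton B.left := by
  haveI : IsIntegral B.left := GeometricallyIntegral.isIntegral_of_subsingleton B.hom
  have h0 : DimLib.ptDim B.hom (genericPoint B.left) = 0 := by
    have := (DimLib.topologicalKrullDim_eq_ptDim_genericPoint B.hom).symm.trans h
    exact_mod_cast this
  have hc := (DimLib.ptDim_eq_zero_iff B.hom _).1 h0
  have : ∀ b : B.left, b = genericPoint B.left := fun b => by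
    have := (genericPoint_specializes b).mem_closed hc rfl
    exact this
  exact ⟨fun a b => (this a).trans (this b).symm⟩

theorem geometricallyIntegral_id : GeometricallyIntegral (𝟙 (Spec (CommRingCat.of k))) := by
  refine ⟨fun K _ y Z fst snd h => ?_⟩
  haveI : IsIso snd := h.isIso_snd_of_isIso
  haveI : Nonempty ↥Z := ⟨(inv snd) (IsLocalRing.closedPoint K)⟩
  exact isIntegral_of_isOpenImmersion snd

/-- The product of abelian varieties is geometrically integral. -/
theorem geometricallyIntegral_tensor' (X Y : Over (Spec (CommRingCat.of k))) [GrpObj X] [IsProper X.hom]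
    [GeometricallyIntegral X.hom] [GrpObj Y] [IsProper Y.hom] [GeometricallyIntegral Y.hom] :
    GeometricallyIntegral (X ⊗ Y).hom := by
  have : Smooth X.hom := AbVarLib.smooth_of_geometricallyReduced X
  have : Smooth Y.hom := AbVarLib.smooth_of_geometricallyReduced Y
  exact NeronLib.geometricallyIntegral_tensor X Y

/-- The dimension of a product of abelian varieties. -/
theorem dim_tensor {X Y : Over (Spec (CommRingCat.of k))} [GrpObj X] [IsProper X.hom] [GeometricallyIntegral X.hom]
    [GrpObj Y] [IsProper Y.hom] [GeometricallyIntegral Y.hom] {a b : ℕ}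
    (ha : topologicalKrullDim X.left = a) (hb : topologicalKrullDim Y.left = b) :
    topologicalKrullDim (X ⊗ Y).left = ((a + b : ℕ) : WithBot ℕ∞) := by
  haveI : IsIntegral X.left := GeometricallyIntegral.isIntegral_of_subsingleton X.hom
  haveI : IsIntegral Y.left := GeometricallyIntegral.isIntegral_of_subsingleton Y.hom
  haveI := geometricallyIntegral_tensor' X Y
  haveI : IsIntegral (pullback X.hom Y.hom) := GeometricallyIntegral.isIntegral_of_subsingleton (X ⊗ Y).hom
  show topologicalKrullDim ↥(pullback X.hom Y.hom) = _
  let z := genericPoint ↥(pullback X.hom Y.hom)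
  have hz : ∀ w, w ⤳ z → z = w := fun w hw => ((genericPoint_specializes w).antisymm hw).eq
  haveI : LocallyOfFiniteType (pullback.fst X.hom Y.hom ≫ X.hom) := inferInstance
  rw [DimLib.topologicalKrullDim_eq_ptDim_genericPoint (pullback.fst X.hom Y.hom ≫ X.hom),
    DimLib.ptDim_product_eq_of_maximal X.hom Y.hom hz,
    show pullback.fst X.hom Y.hom z = genericPoint X.left from
      DimLib.maximal_apply_fst X.hom Y.hom hz _ (genericPoint_specializes _),
    show pullback.snd X.hom Y.hom z = genericPoint Y.left from
      DimLib.maximal_apply_snd X.hom Y.hom hz _ (genericPoint_specializes _)]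
  rw [DimLib.topologicalKrullDim_eq_ptDim_genericPoint X.hom] at ha
  rw [DimLib.topologicalKrullDim_eq_ptDim_genericPoint Y.hom] at hb
  have ha' : DimLib.ptDim X.hom (genericPoint X.left) = a := by exact_mod_cast ha
  have hb' : DimLib.ptDim Y.hom (genericPoint Y.left) = b := by exact_mod_cast hb
  rw [ha', hb']

/-- Finite products of abelian varieties. -/
theorem exists_product {J : Type} [DecidableEq J] (B : J → Over (Spec (CommRingCat.of k))) [∀ t, GrpObj (B t)]
    [∀ t, IsProper (B t).hom] [∀ t, GeometricallyIntegral (B t).hom] (d : J → ℕ)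
    (hd : ∀ t, topologicalKrullDim (B t).left = d t) (s : Finset J) :
    ∃ (P : Over (Spec (CommRingCat.of k))) (_ : GrpObj P) (pr : ∀ t, t ∈ s → (P ⟶ B t)),
      IsProper P.hom ∧ GeometricallyIntegral P.hom ∧ (∀ t h, IsMonHom (pr t h)) ∧
      topologicalKrullDim P.left = ((∑ t ∈ s, d t : ℕ) : WithBot ℕ∞) ∧
      ∀ (T : Over (Spec (CommRingCat.of k))) (f : ∀ t, t ∈ s → (T ⟶ B t)), ∃! g : T ⟶ P, ∀ t h, g ≫ pr t h = f t h := by
  induction s using Finset.induction with
  | empty =>
    refine ⟨𝟙_ _, inferInstance, fun t h => absurd h (Finset.notMem_empty t),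
      inferInstanceAs (IsProper (𝟙 (Spec (CommRingCat.of k)))),
      geometricallyIntegral_id,
      fun t h => absurd h (Finset.notMem_empty t), ?_,
      fun T f => ⟨toUnit T, fun t h => absurd h (Finset.notMem_empty t), fun g _ => toUnit_unique _ _⟩⟩
    rw [Finset.sum_empty]
    show topologicalKrullDim (PrimeSpectrum k) = _
    rw [PrimeSpectrum.topologicalKrullDim_eq_ringKrullDim, ringKrullDim_eq_zero_of_field]
    rfl
  | @insert a s ha ih =>
    obtain ⟨P, _, pr, hPp, hPg, hpr, hdim, hu⟩ := ih
    haveI : IsProper (B a ⊗ P).hom := inferInstanceAs (IsProper (pullback.fst (B a).hom P.hom ≫ (B a).hom))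
    haveI : GeometricallyIntegral (B a ⊗ P).hom := geometricallyIntegral_tensor' _ _
    let pr' : ∀ t, t ∈ insert a s → (B a ⊗ P ⟶ B t) := fun t h =>
      if e : a = t then fst (B a) P ≫ eqToHom (congrArg B e)
      else snd (B a) P ≫ pr t (Finset.mem_of_mem_insert_of_ne h (Ne.symm e))
    refine ⟨B a ⊗ P, inferInstance, pr', inferInstance, inferInstance, fun t h => ?_, ?_, fun T f => ?_⟩
    · by_cases e : a = t
      · subst e
        simp only [pr', dite_true, eqToHom_refl, Category.comp_id]
        infer_instance
      · simp only [pr', dif_neg e]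
        have := hpr t (Finset.mem_of_mem_insert_of_ne h (Ne.symm e))
        infer_instance
    · rw [Finset.sum_insert ha]
      exact dim_tensor (hd a) hdim
    · obtain ⟨g, hg, hguniq⟩ := hu T fun t h => f t (Finset.mem_insert_of_mem h)
      refine ⟨lift (f a (Finset.mem_insert_self a s)) g, fun t h => ?_, fun g' hg' => ?_⟩
      · by_cases e : a = t
        · subst e
          simp only [pr', dite_true, eqToHom_refl, Category.comp_id, lift_fst]
        · simp only [pr', dif_neg e, lift_snd_assoc]
          exact hg t _
      · refine CartesianMonoidalCategory.hom_ext _ _ ?_ ?_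
        · have := hg' a (Finset.mem_insert_self a s)
          simp only [pr', dite_true, eqToHom_refl, Category.comp_id] at this
          rw [this, lift_fst]
        · rw [lift_snd]
          refine hguniq _ fun t h => ?_
          have := hg' t (Finset.mem_insert_of_mem h)
          have e : a ≠ t := fun e => ha (e ▸ h)
          simp only [pr', dif_neg e] at this
          rw [Category.assoc, this]

/-- A homomorphism between non-isogenous simple abelian varieties is trivial. -/
theorem hom_eq_one_of_simple {A A' : Over (Spec (CommRingCat.of k))} [GrpObj A] [IsProper A.hom]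
    [GeometricallyIntegral A.hom] [GrpObj A'] [IsProper A'.hom] [GeometricallyIntegral A'.hom]
    (hA : ∀ (C : Over (Spec (CommRingCat.of k))) [GrpObj C], IsProper C.hom → GeometricallyIntegral C.hom →
      ∀ (j : C ⟶ A) [IsMonHom j], IsClosedImmersion j.left → IsIso j ∨ topologicalKrullDim C.left = 0)
    (hA' : ∀ (C : Over (Spec (CommRingCat.of k))) [GrpObj C], IsProper C.hom → GeometricallyIntegral C.hom →
      ∀ (j : C ⟶ A') [IsMonHom j], IsClosedImmersion j.left → IsIso j ∨ topologicalKrullDim C.left = 0)
    (f : A ⟶ A') [IsMonHom f] (hf : ¬ (IsFinite f.left ∧ Surjective f.left)) : f = 1 := by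
  haveI : IsCommMonObj A := isCommMonObj_of_isProper_of_geometricallyIntegral A
  obtain ⟨B, _, iB, qB, hBp, hBg, hiB, hiBc, -, hqBs, hfac, -⟩ := exists_image_subvariety f
  rcases hA' B hBp hBg iB hiBc with hiso | hs
  swap
  · haveI := subsingleton_of_dim_zero hs
    rw [← hfac, eq_one_of_subsingleton qB, MonObj.one_comp]
  haveI : Surjective iB.left := by
    haveI : IsIso iB.left := inferInstanceAs (IsIso ((Over.forget _).map iB))
    infer_instance
  haveI : Surjective f.left := by rw [← hfac, Over.comp_left]; infer_instance
  obtain ⟨Z, _, j, hZp, hZg, hjG, hjc, hj1, d, hd, hdZ⟩ := exists_kernel_subvariety f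
  rcases hA Z hZp hZg j hjc with hiso' | hs
  · rw [← cancel_epi j, hj1, MonObj.comp_one]
  haveI := subsingleton_of_dim_zero hs
  refine absurd ⟨?_, inferInstance⟩ hf
  refine isFinite_of_finite_geom_ker f ?_
  let g := Spec.map (CommRingCat.ofHom (algebraMap k (AlgebraicClosure k)))
  letI : GrpObj ((Over.pullback g).obj A) := Functor.grpObjObj
  haveI : IsProper ((Over.pullback g).obj A).hom := inferInstanceAs (IsProper (pullback.snd A.hom g))
  haveI : GeometricallyIntegral ((Over.pullback g).obj A).hom :=
    inferInstanceAs (GeometricallyIntegral (pullback.snd A.hom g))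
  haveI : IsCommMonObj ((Over.pullback g).obj A) := isCommMonObj_of_isProper_of_geometricallyIntegral _
  have := finite_torsPts (A := (Over.pullback g).obj A) hd
  refine Set.Finite.of_finite_image (f := bcPts g A) ((Set.finite_coe_iff.1 this).subset ?_)
    (bcPts_bijective g A).1.injOn
  rintro _ ⟨x, hx, rfl⟩
  show bcPts g A x ∈ AbDual.torsPts _ d _
  obtain ⟨z, hz⟩ := hdZ x hx
  rw [AbDual.mem_torsPts, ← map_pow, ← hz, eq_one_of_subsingleton z, MonObj.one_comp, map_one]

end Groth.Agent.AbCubeLib
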