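import Groth.Agent.AbCubeLib.CubeRel
import Groth.Agent.PicLib.PicGroup
import Mathlib.AlgebraicGeometry.Group.Abelian

/-!
# Consequences of the cubical relation: square, inversion
-/

set_option autoImplicit false
set_option backward.isDefEq.respectTransparency.types false

universe u

open CategoryTheory CategoryTheory.Limits MonoidalCategory CartesianMonoidalCategory AlgebraicGeometry MonObj
open Groth.Agent.PicLib Groth.Agent.CubeLib

namespace Groth.Agent.AbCubeLib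

variable {k : Type u} [Field k] {A : Over (Spec (CommRingCat.of k))}

/-- Constant maps pull every class back to the trivial one. -/
theorem pb_const {V W : Over (Spec (CommRingCat.of k))} (x : 𝟙_ (Over (Spec (CommRingCat.of k))) ⟶ W)
    (a : PicM W.left) : pb (toUnit V ≫ x) a = 1 := by
  rw [← pb_pb]
  have h : pb x a = 1 := PicM.eq_one_of_field k _
  rw [h]
  exact map_one _

theorem pb_id (a : PicM A.left) : pb (𝟙 A) a = a := by
  rw [pb, Over.id_left, PicM.pull_id]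

variable [GrpObj A] [IsProper A.hom] [GeometricallyIntegral A.hom]

/-- The theorem of the square for two morphisms and a constant: with `c = x₀` constant. -/
theorem square_const (a : PicM A.left) {V : Over (Spec (CommRingCat.of k))} (f : V ⟶ A)
    (x y : 𝟙_ (Over (Spec (CommRingCat.of k))) ⟶ A) :
    pb (f * (toUnit V ≫ (x * y))) a * pb f a = pb (f * (toUnit V ≫ x)) a * pb (f * (toUnit V ≫ y)) a := by
  have h := cube_relation a f (toUnit V ≫ x) (toUnit V ≫ y)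
  rw [pb_const, pb_const, ← comp_mul] at h
  rw [pb_const, _root_.mul_one, _root_.mul_one, _root_.mul_one] at h
  rw [_root_.mul_assoc (b := (toUnit V ≫ x)), ← comp_mul] at h
  exact h

/-- `t_a^* (-1)^* L ⊗ L = (-1)^* L ⊗ t_a^* L`. -/
theorem pb_inv_translate (a : PicM A.left) (x : 𝟙_ (Over (Spec (CommRingCat.of k))) ⟶ A) :
    pb (𝟙 A * (toUnit A ≫ x)) (pb (𝟙 A)⁻¹ a) * a = pb (𝟙 A)⁻¹ a * pb (𝟙 A * (toUnit A ≫ x)) a := by
  haveI : IsCommMonObj A := isCommMonObj_of_isProper_of_geometricallyIntegral A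
  have h1 := cube_relation a (𝟙 A) (𝟙 A)⁻¹ (toUnit A ≫ x⁻¹)
  rw [mul_inv_cancel, _root_.one_mul, pb_one, pb_const, pb_id, _root_.one_mul, _root_.mul_one,
    _root_.one_mul] at h1
  have h2 := square_const a (𝟙 A) x x⁻¹
  rw [mul_inv_cancel, comp_one, _root_.mul_one, pb_id] at h2
  have hX : pb (𝟙 A * (toUnit A ≫ x)) (pb (𝟙 A)⁻¹ a) = pb ((𝟙 A)⁻¹ * (toUnit A ≫ x⁻¹)) a := by
    rw [pb_pb, GrpObj.comp_inv, Category.comp_id, mul_inv_rev, ← GrpObj.comp_inv, _root_.mul_comm]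
  rw [hX]
  refine (PicM.isUnit (pb (𝟙 A * (toUnit A ≫ x⁻¹)) a)).mul_left_cancel ?_
  calc pb (𝟙 A * (toUnit A ≫ x⁻¹)) a * (pb ((𝟙 A)⁻¹ * (toUnit A ≫ x⁻¹)) a * a)
      = (a * pb (𝟙 A)⁻¹ a) * a := by rw [h1, _root_.mul_assoc]
    _ = pb (𝟙 A)⁻¹ a * (a * a) := by rw [_root_.mul_comm a (pb (𝟙 A)⁻¹ a), _root_.mul_assoc]
    _ = pb (𝟙 A)⁻¹ a * (pb (𝟙 A * (toUnit A ≫ x)) a * pb (𝟙 A * (toUnit A ≫ x⁻¹)) a) := by rw [h2]
    _ = pb (𝟙 A * (toUnit A ≫ x⁻¹)) a * (pb (𝟙 A)⁻¹ a * pb (𝟙 A * (toUnit A ≫ x)) a) := by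
      simp only [_root_.mul_comm, _root_.mul_left_comm]

end Groth.Agent.AbCubeLib
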