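import Groth.Agent.AbCubeLib.AmpleOfAffine
import Groth.Agent.CubeLib.FibreRankLoci
import Groth.Agent.CubeLib.FibrewiseTriv
import Groth.Agent.AmpleLib.Local
import Groth.Agent.Props12.KerReduced

/-!
# The points fixing a class under translation
-/

set_option autoImplicit false
set_option backward.isDefEq.respectTransparency.types false

universe u

open CategoryTheory CategoryTheory.Limits MonoidalCategory CartesianMonoidalCategory AlgebraicGeometry MonObj
  TopologicalSpace
open Groth.Agent.PicLib Groth.Agent.CubeLib Groth.Agent.AmpleLib Groth.Agent.Coherent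

namespace Groth.Agent.AbCubeLib

variable {k : Type u} [Field k] [IsAlgClosed k]

/-- A rational point is closed. -/
theorem isClosed_point {T : Over (Spec (CommRingCat.of k))} [LocallyOfFiniteType T.hom]
    (t : 𝟙_ (Over (Spec (CommRingCat.of k))) ⟶ T) :
    IsClosed ({t.left (IsLocalRing.closedPoint k)} : Set T.left) :=
  ((pointEquivClosedPoint T.hom) ⟨t.left, Over.w t⟩).2

/-- A rational point is determined by its image. -/
theorem point_ext {T : Over (Spec (CommRingCat.of k))} [LocallyOfFiniteType T.hom]
    {s t : 𝟙_ (Over (Spec (CommRingCat.of k))) ⟶ T}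
    (h : s.left (IsLocalRing.closedPoint k) = t.left (IsLocalRing.closedPoint k)) : s = t := by
  refine Over.OverMorphism.ext ?_
  exact congrArg Subtype.val ((pointEquivClosedPoint T.hom).injective
    (a₁ := ⟨s.left, Over.w s⟩) (a₂ := ⟨t.left, Over.w t⟩) (Subtype.ext h))

/-- Triviality on a closed fibre is triviality on the slice. -/
theorem pull_fiberι_eq_one_iff {T W : Over (Spec (CommRingCat.of k))} [LocallyOfFiniteType T.hom]
    (a : PicM (T ⊗ W).left) (t : 𝟙_ (Over (Spec (CommRingCat.of k))) ⟶ T) :
    PicM.pull ((fst T W).left.fiberι (t.left (IsLocalRing.closedPoint k))) a = 1 ↔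
      pb (lift (toUnit W ≫ t) (𝟙 W)) a = 1 := by
  let y := t.left (IsLocalRing.closedPoint k)
  have hy : IsClosed ({y} : Set T.left) := isClosed_point t
  have ht : t.left = Spec.map (residueFieldIsoBase T.hom y hy).hom ≫ T.left.fromSpecResidueField y :=
    congrArg CommaMorphism.left (point_ext (s := t)
      (t := Over.homMk (pointOfClosedPoint T.hom y hy) (pointOfClosedPoint_comp T.hom y hy))
      (pointOfClosedPoint_apply T.hom y hy _).symm)
  constructor
  · intro h
    have e : (lift (toUnit W ≫ t) (𝟙 W)).left ≫ (fst T W).left =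
        (W.hom ≫ Spec.map (residueFieldIsoBase T.hom y hy).hom) ≫ T.left.fromSpecResidueField y := by
      rw [← Over.comp_left, lift_fst, Over.comp_left, ht,
        show (toUnit W).left = W.hom from (Category.comp_id _).symm.trans (Over.w (toUnit W)), Category.assoc]
    show PicM.pull (lift (toUnit W ≫ t) (𝟙 W)).left a = 1
    rw [show (lift (toUnit W ≫ t) (𝟙 W)).left = pullback.lift _ _ e ≫ (fst T W).left.fiberι y from
      (pullback.lift_fst _ _ _).symm, ← PicM.pull_pull]
    exact (congrArg _ h).trans (map_one _)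
  · intro h
    let ψ : (fst T W).left.fiber y ⟶ W.left := (fst T W).left.fiberι y ≫ (snd T W).left
    have hfac : (fst T W).left.fiberι y = ψ ≫ (lift (toUnit W ≫ t) (𝟙 W)).left := by
      refine hom_ext_prod ?_ ?_
      · rw [Category.assoc, ← Over.comp_left, lift_fst, Over.comp_left, ht,
          show (toUnit W).left = W.hom from (Category.comp_id _).symm.trans (Over.w (toUnit W))]
        show _ = ((fst T W).left.fiberι y ≫ (snd T W).left) ≫ W.hom ≫
          Spec.map (residueFieldIsoBase T.hom y hy).hom ≫ T.left.fromSpecResidueField y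
        rw [Category.assoc, ← Category.assoc (snd T W).left, show (snd T W).left ≫ W.hom = (fst T W).left ≫ T.hom from
          (Over.w (snd T W)).trans (Over.w (fst T W)).symm, Category.assoc, ← Category.assoc,
          Scheme.Hom.fiber_fac, Category.assoc, ← Category.assoc _ T.hom, ← SpecMap_residueFieldIsoBase_inv T.hom y hy,
          ← Category.assoc (Spec.map _) (Spec.map _), ← Spec.map_comp, Iso.hom_inv_id, Spec.map_id, Category.id_comp]
      · rw [Category.assoc, ← Over.comp_left, lift_snd, Over.id_left, Category.comp_id]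
    show PicM.pull ((fst T W).left.fiberι y) a = 1
    rw [hfac, ← PicM.pull_pull]
    exact (congrArg _ h).trans (map_one _)

variable {A : Over (Spec (CommRingCat.of k))} [GrpObj A] [IsProper A.hom] [GeometricallyIntegral A.hom]

omit [GeometricallyIntegral A.hom] in
theorem translate_class_slice [IsCommMonObj A] {a b : PicM A.left} (hb : a * b = 1)
    (x : 𝟙_ (Over (Spec (CommRingCat.of k))) ⟶ A) :
    pb (lift (toUnit A ≫ x) (𝟙 A)) (pb (fst A A * snd A A) a * pb (snd A A) b) = 1 ↔
      pb (𝟙 A * (toUnit A ≫ x)) a = a := by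
  have e : pb (lift (toUnit A ≫ x) (𝟙 A)) (pb (fst A A * snd A A) a * pb (snd A A) b) =
      pb (𝟙 A * (toUnit A ≫ x)) a * b := by
    rw [pb, map_mul]
    change pb _ (pb _ a) * pb _ (pb _ b) = _
    rw [pb_pb, pb_pb, comp_mul, lift_fst, lift_snd, pb_id, _root_.mul_comm (toUnit A ≫ x)]
  rw [e]
  exact ⟨fun h => by rw [← _root_.mul_one (pb (𝟙 A * (toUnit A ≫ x)) a), ← hb, _root_.mul_left_comm, h,
    _root_.mul_one], fun h => by rw [h, hb]⟩

/-- The points whose translation fixes a class form a closed set. -/
theorem exists_closed_fixing (a : PicM A.left) :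
    ∃ Z : Set A.left, IsClosed Z ∧ ∀ x : 𝟙_ (Over (Spec (CommRingCat.of k))) ⟶ A,
      x.left (IsLocalRing.closedPoint k) ∈ Z ↔ pb (𝟙 A * (toUnit A ≫ x)) a = a := by
  haveI : IsCommMonObj A := isCommMonObj_of_isProper_of_geometricallyIntegral A
  have : IsProper (fst A A).left := inferInstanceAs (IsProper (pullback.fst A.hom A.hom))
  have : GeometricallyIntegral (fst A A).left := inferInstanceAs (GeometricallyIntegral (pullback.fst A.hom A.hom))
  have : Flat A.hom := flat_of_field _
  have : Flat (fst A A).left := inferInstanceAs (Flat (pullback.fst A.hom A.hom))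
  have : IsLocallyNoetherian A.left := LocallyOfFiniteType.isLocallyNoetherian A.hom
  obtain ⟨b, hb⟩ := PicM.exists_mul_eq_one a
  obtain ⟨N, hN, hNe⟩ := PicM.exists_eq_of (pb (fst A A * snd A A) a * pb (snd A A) b)
  refine ⟨_, isClosed_setOf_trivial_fibre (fst A A).left (fun y =>
    GeometricallyIntegral.geometrically_isIntegral (f := (fst A A).left) _ _ _
      (IsPullback.of_hasPullback (fst A A).left (A.left.fromSpecResidueField y))) hN, fun x => ?_⟩
  rw [← translate_class_slice hb x, hNe]
  exact pull_fiberι_eq_one_iff (PicM.of hN) x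

/-- On an integral closed set of points fixing a class, `a ⊗ (-1)^* a` is trivial. -/
theorem pb_mul_pb_inv_eq_one {a : PicM A.left} {T : Over (Spec (CommRingCat.of k))} [IsProper T.hom]
    [IsReduced T.left] (i : T ⟶ A)
    (h : ∀ t : 𝟙_ (Over (Spec (CommRingCat.of k))) ⟶ T, pb (𝟙 A * (toUnit A ≫ t ≫ i)) a = a) :
    pb i a * pb i⁻¹ a = 1 := by
  haveI : IsCommMonObj A := isCommMonObj_of_isProper_of_geometricallyIntegral A
  have : IsProper (fst T A).left := inferInstanceAs (IsProper (pullback.fst T.hom A.hom))
  have : GeometricallyIntegral (fst T A).left := inferInstanceAs (GeometricallyIntegral (pullback.fst T.hom A.hom))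
  have : GeometricallyConnected (fst T A).left := ⟨fun K _ w Q p q hQ => by
    have := GeometricallyIrreducible.geometrically_irreducibleSpace (f := (fst T A).left) w p q hQ
    infer_instance⟩
  have : Flat A.hom := flat_of_field _
  have : Flat (fst T A).left := inferInstanceAs (Flat (pullback.fst T.hom A.hom))
  have : IsLocallyNoetherian T.left := LocallyOfFiniteType.isLocallyNoetherian T.hom
  have : JacobsonSpace T.left := LocallyOfFiniteType.jacobsonSpace T.hom
  obtain ⟨b, hb⟩ := PicM.exists_mul_eq_one a
  obtain ⟨N, hN, hNe⟩ := PicM.exists_eq_of (pb (fst T A ≫ i * snd T A) a * pb (snd T A) b)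
  have hall : ∀ y, PicM.pull ((fst T A).left.fiberι y) (PicM.of hN) = 1 := by
    intro y
    by_contra hy
    obtain ⟨z, hz, hzc⟩ := nonempty_inter_closedPoints
      (Z := {y : T.left | PicM.pull ((fst T A).left.fiberι y) (PicM.of hN) = 1}ᶜ) ⟨y, hy⟩
      (isClosed_setOf_trivial_fibre (fst T A).left (fun y =>
        GeometricallyIntegral.geometrically_isIntegral (f := (fst T A).left) _ _ _
          (IsPullback.of_hasPullback (fst T A).left (T.left.fromSpecResidueField y))) hN).isOpen_compl.isLocallyClosed
    let t : 𝟙_ (Over (Spec (CommRingCat.of k))) ⟶ T :=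
      Over.homMk (pointOfClosedPoint T.hom z hzc) (pointOfClosedPoint_comp T.hom z hzc)
    refine hz ?_
    show PicM.pull ((fst T A).left.fiberι z) (PicM.of hN) = 1
    rw [show z = t.left (IsLocalRing.closedPoint k) from (pointOfClosedPoint_apply _ _ _ _).symm,
      pull_fiberι_eq_one_iff, ← hNe, pb, map_mul]
    change pb _ (pb _ a) * pb _ (pb _ b) = _
    rw [pb_pb, pb_pb, comp_mul, ← Category.assoc, lift_fst, lift_snd, pb_id, Category.assoc,
      _root_.mul_comm (toUnit A ≫ t ≫ i), h t, hb]
  obtain ⟨c, hc⟩ := exists_pull_eq (f := (fst T A).left) (bijective_algebraMap_fibre _) (PicM.of hN) hall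
  have key : ∀ j : T ⟶ A, pb (i * j) a * pb j b = c := fun j => by
    have h2 := congrArg (pb (lift (𝟙 T) j)) (hc.trans hNe.symm)
    change pb (lift (𝟙 T) j) (pb (fst T A) c) = _ at h2
    rw [pb_pb, lift_fst, pb_id, pb, map_mul] at h2
    change c = pb _ (pb _ a) * pb _ (pb _ b) at h2
    rw [pb_pb, pb_pb, comp_mul, ← Category.assoc, lift_fst, lift_snd, Category.id_comp] at h2
    exact h2.symm
  have h0 := key 1
  rw [_root_.mul_one, pb_one, _root_.mul_one] at h0
  have h1 := key i⁻¹
  rw [mul_inv_cancel, pb_one, _root_.one_mul, ← h0] at h1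
  rw [← h1, ← map_mul, _root_.mul_comm, hb, map_one]

/-- For ample classes, only finitely many points are fixing. -/
theorem finite_fixing_of_isAmple {L : A.left.Modules} (hL : CohB1.IsAmple L) :
    Set.Finite {x : 𝟙_ (Over (Spec (CommRingCat.of k))) ⟶ A |
      pb (𝟙 A * (toUnit A ≫ x)) (PicM.of hL.1) = PicM.of hL.1} := by
  obtain ⟨Z, hZ, hZx⟩ := exists_closed_fixing (PicM.of hL.1)
  have : CompactSpace A.left := QuasiCompact.compactSpace_of_compactSpace A.hom
  have : IsLocallyNoetherian A.left := LocallyOfFiniteType.isLocallyNoetherian A.hom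
  have : JacobsonSpace A.left := LocallyOfFiniteType.jacobsonSpace A.hom
  have hsub : ∀ C : Set A.left, IsClosed C → IsIrreducible C → C ⊆ Z → C.Subsingleton := by
    intro C hC hCirr hCZ
    let C' : Closeds A.left := ⟨C, hC⟩
    let I := Scheme.IdealSheafData.vanishingIdeal C'
    have : IsReduced I.subscheme := Props12.isReduced_subscheme_vanishingIdeal C'
    have hr : Set.range I.subschemeι = C := by rw [Scheme.IdealSheafData.range_subschemeι]; rfl
    have : IrreducibleSpace I.subscheme := by
      have he := I.subschemeι.isEmbedding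
      have : CompactSpace I.subscheme := QuasiCompact.compactSpace_of_compactSpace I.subschemeι
      have hne : Nonempty I.subscheme := by
        obtain ⟨c, hc⟩ := hCirr.1
        obtain ⟨w, -⟩ : c ∈ Set.range I.subschemeι := hr ▸ hc
        exact ⟨w⟩
      have hpre : PreirreducibleSpace I.subscheme := ⟨fun u v hu hv hu' hv' => by
        obtain ⟨U', hU', rfl⟩ := he.isInducing.isOpen_iff.1 hu
        obtain ⟨V', hV', rfl⟩ := he.isInducing.isOpen_iff.1 hv
        obtain ⟨p, -, hp⟩ := hu'
        obtain ⟨q, -, hq⟩ := hv'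
        obtain ⟨w, hwC, hwU, hwV⟩ := hCirr.2 U' V' hU' hV' ⟨_, hr ▸ ⟨p, rfl⟩, hp⟩ ⟨_, hr ▸ ⟨q, rfl⟩, hq⟩
        obtain ⟨w', rfl⟩ : w ∈ Set.range I.subschemeι := hr ▸ hwC
        exact ⟨w', trivial, hwU, hwV⟩⟩
      exact { toPreirreducibleSpace := hpre, toNonempty := hne }
    have : CompactSpace I.subscheme := QuasiCompact.compactSpace_of_compactSpace I.subschemeι
    have : IsIntegral I.subscheme := isIntegral_of_irreducibleSpace_of_isReduced _
    let T : Over (Spec (CommRingCat.of k)) := Over.mk (I.subschemeι ≫ A.hom)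
    have : IsProper T.hom := inferInstanceAs (IsProper (I.subschemeι ≫ A.hom))
    have : IsReduced T.left := inferInstanceAs (IsReduced I.subscheme)
    let i : T ⟶ A := Over.homMk I.subschemeι rfl
    have h1 := pb_mul_pb_inv_eq_one (a := PicM.of hL.1) i fun t => (hZx _).1 (hCZ (hr ▸ ⟨_, rfl⟩))
    have : IsClosedImmersion i.left := inferInstanceAs (IsClosedImmersion I.subschemeι)
    have : IsIso ((𝟙 A)⁻¹).left := inferInstanceAs (IsIso ((Over.forget _).map (ι[A])))
    have : IsAffineHom (i⁻¹).left := by
      rw [show i⁻¹ = i ≫ (𝟙 A)⁻¹ by rw [GrpObj.comp_inv, Category.comp_id], Over.comp_left]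
      infer_instance
    have hamp := AmpleLib.isAmple_tensorMod (AmpleLib.isAmple_pullback_of_isAffineHom i.left hL)
      (AmpleLib.isAmple_pullback_of_isAffineHom (i⁻¹).left hL)
    rw [pb, pb, PicM.pull_of, PicM.pull_of, PicM.of_mul, PicM.of_eq_one_iff] at h1
    obtain ⟨e⟩ := h1
    have : Scheme.IsQuasiAffine I.subscheme := isAmple_structureModule_iff.1 (AmpleLib.isAmple_of_iso e hamp)
    have : Subsingleton (PrimeSpectrum Γ(I.subscheme, ⊤)) := by
      letI := (isField_of_universallyClosed (K := k) (I.subschemeι ≫ A.hom)).toField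
      exact (inferInstance : Subsingleton (PrimeSpectrum Γ(I.subscheme, ⊤)))
    have : Subsingleton (Spec Γ(I.subscheme, ⊤)) := ‹Subsingleton (PrimeSpectrum Γ(I.subscheme, ⊤))›
    have : Subsingleton I.subscheme := I.subscheme.toSpecΓ.isEmbedding.injective.subsingleton
    rw [← hr]
    exact Set.subsingleton_range _
  have : IsNoetherian A.left := { }
  have hZfin : Z.Finite := by
    obtain ⟨S, hS, hScl, hSirr, hSeq⟩ := NoetherianSpace.exists_finite_set_isClosed_irreducible hZ
    rw [hSeq]
    exact hS.sUnion fun C hC => (hsub C (hScl C hC) (hSirr C hC) (hSeq ▸ Set.subset_sUnion_of_mem hC)).finite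
  refine (hZfin.preimage (f := fun x : 𝟙_ (Over (Spec (CommRingCat.of k))) ⟶ A => x.left (IsLocalRing.closedPoint k))
    fun s _ t _ h => point_ext h).subset fun x hx => (hZx x).2 hx

end Groth.Agent.AbCubeLib
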