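import Groth.Agent.AbCubeLib.FiniteQuotient
import Groth.Agent.AbCubeLib.KernelPhi
import Groth.Agent.AbCubeLib.CubeCor
import Groth.Agent.AlgGrpLib.ClosureSubgroup

/-!
# The quotient by the fixing points of a class, and the bilinear class `Λ`
-/

set_option autoImplicit false
set_option linter.style.haveILetI false
set_option backward.isDefEq.respectTransparency.types false
set_option maxHeartbeats 1600000

universe u

open CategoryTheory CategoryTheory.Limits MonoidalCategory CartesianMonoidalCategory MonObj GrpObj AlgebraicGeometry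
open Groth.Agent.PicLib Groth.Agent.CubeLib

namespace Groth.Agent.AbCubeLib

variable {k : Type u} [Field k] [IsAlgClosed k] {A : Over (Spec (CommRingCat.of k))} [GrpObj A] [IsProper A.hom]
  [GeometricallyIntegral A.hom]

/-- A class on `T × A` with trivial fibres over the rational points and trivial along the unit is trivial. -/
theorem eq_one_of_trivial_slices {T : Over (Spec (CommRingCat.of k))} [IsProper T.hom] [IsReduced T.left]
    (Q : PicM (T ⊗ A).left) (hsec : pb (lift (𝟙 T) (1 : T ⟶ A)) Q = 1)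
    (h : ∀ t : 𝟙_ (Over (Spec (CommRingCat.of k))) ⟶ T, pb (lift (toUnit A ≫ t) (𝟙 A)) Q = 1) : Q = 1 := by
  have : IsProper (fst T A).left := inferInstanceAs (IsProper (pullback.fst T.hom A.hom))
  have : GeometricallyIntegral (fst T A).left := inferInstanceAs (GeometricallyIntegral (pullback.fst T.hom A.hom))
  have : GeometricallyConnected (fst T A).left := ⟨fun K _ w Q p q hQ => by
    have := GeometricallyIrreducible.geometrically_irreducibleSpace (f := (fst T A).left) w p q hQ
    infer_instance⟩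
  have : Flat A.hom := flat_of_field _
  have : Flat (fst T A).left := inferInstanceAs (Flat (pullback.fst T.hom A.hom))
  have : IsLocallyNoetherian T.left := LocallyOfFiniteType.isLocallyNoetherian T.hom
  have : JacobsonSpace T.left := LocallyOfFiniteType.jacobsonSpace T.hom
  obtain ⟨N, hN, hNe⟩ := PicM.exists_eq_of Q
  have hall : ∀ y, PicM.pull ((fst T A).left.fiberι y) (PicM.of hN) = 1 := by
    intro y
    by_contra hy
    obtain ⟨z, hz, hzc⟩ := nonempty_inter_closedPoints
      (Z := {y : T.left | PicM.pull ((fst T A).left.fiberι y) (PicM.of hN) = 1}ᶜ) ⟨y, hy⟩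
      (isClosed_setOf_trivial_fibre (fst T A).left (fun y =>
        GeometricallyIntegral.geometrically_isIntegral (f := (fst T A).left) _ _ _
          (IsPullback.of_hasPullback (fst T A).left (T.left.fromSpecResidueField y))) hN).isOpen_compl.isLocallyClosed
    let t : 𝟙_ (Over (Spec (CommRingCat.of k))) ⟶ T :=
      Over.homMk (pointOfClosedPoint T.hom z hzc) (pointOfClosedPoint_comp T.hom z hzc)
    refine hz ?_
    show PicM.pull ((fst T A).left.fiberι z) (PicM.of hN) = 1
    rw [show z = t.left (IsLocalRing.closedPoint k) from (pointOfClosedPoint_apply _ _ _ _).symm,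
      pull_fiberι_eq_one_iff, ← hNe]
    exact h t
  obtain ⟨c, hc⟩ := exists_pull_eq (f := (fst T A).left) (bijective_algebraMap_fibre _) (PicM.of hN) hall
  have hc' : pb (fst T A) c = Q := hc.trans hNe.symm
  have hc1 : c = 1 := by
    have h2 := congrArg (pb (lift (𝟙 T) (1 : T ⟶ A))) hc'
    rw [hsec, pb_pb, lift_fst] at h2
    rw [← h2, pb, Over.id_left, PicM.pull_id]
  rw [← hc', hc1]
  exact map_one _

/-- `Λ(l) = m^*l ⊗ p₁^*l⁻¹ ⊗ p₂^*l⁻¹`. -/
noncomputable def lam (l l' : PicM A.left) : PicM (A ⊗ A).left :=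
  pb (fst A A * snd A A) l * pb (fst A A) l' * pb (snd A A) l'

omit [IsAlgClosed k] [IsProper A.hom] [GeometricallyIntegral A.hom] in
theorem pb_lift_lam (l l' : PicM A.left) {V : Over (Spec (CommRingCat.of k))} (f g : V ⟶ A) :
    pb (lift f g) (lam l l') = pb (f * g) l * pb f l' * pb g l' := by
  rw [lam, pb, map_mul, map_mul]
  change pb (lift f g) (pb _ l) * pb (lift f g) (pb _ l') * pb (lift f g) (pb _ l') = _
  rw [pb_pb, pb_pb, pb_pb, comp_mul, lift_fst, lift_snd]

omit [IsAlgClosed k] in
/-- Bilinearity of `Λ`. -/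
theorem pb_lift_lam_mul {l l' : PicM A.left} (hl : l * l' = 1) {V : Over (Spec (CommRingCat.of k))} (f g h : V ⟶ A) :
    pb (lift f (g * h)) (lam l l') = pb (lift f g) (lam l l') * pb (lift f h) (lam l l') := by
  rw [pb_lift_lam, pb_lift_lam, pb_lift_lam]
  have hone : ∀ x : V ⟶ A, pb x l * pb x l' = 1 := fun x => by
    rw [pb, ← map_mul, hl, map_one]
  have hu : ∀ x : V ⟶ A, IsUnit (pb x l) := fun x => IsUnit.of_mul_eq_one _ (hone x)
  refine ((((hu f).mul (hu f)).mul (hu g)).mul (hu h)).mul (hu (g * h)) |>.mul_left_injective ?_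
  show (pb (f * (g * h)) l * pb f l' * pb (g * h) l') * (pb f l * pb f l * pb g l * pb h l * pb (g * h) l) =
    (pb (f * g) l * pb f l' * pb g l' * (pb (f * h) l * pb f l' * pb h l')) * (pb f l * pb f l * pb g l * pb h l * pb (g * h) l)
  rw [← _root_.mul_assoc f g h]
  calc (pb (f * g * h) l * pb f l' * pb (g * h) l') * (pb f l * pb f l * pb g l * pb h l * pb (g * h) l)
      = (pb (f * g * h) l * pb f l * pb g l * pb h l) * (pb f l * pb f l') * (pb (g * h) l * pb (g * h) l') := by ac_rfl
    _ = pb (f * g) l * pb (f * h) l * pb (g * h) l := by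
      rw [hone, hone, _root_.mul_one, _root_.mul_one]
      exact cube_relation l f g h
    _ = (pb (f * g) l * pb (f * h) l * pb (g * h) l) *
          ((pb f l * pb f l') * (pb f l * pb f l') * (pb g l * pb g l') * (pb h l * pb h l')) := by
      rw [hone, hone, hone]; simp only [_root_.mul_one]
    _ = _ := by ac_rfl

/-- The fixing points of a class form a subgroup. -/
def fixing (l : PicM A.left) : Subgroup (𝟙_ (Over (Spec (CommRingCat.of k))) ⟶ A) where
  carrier := {x | pb (𝟙 A * (toUnit A ≫ x)) l = l}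
  one_mem' := by
    show pb (𝟙 A * (toUnit A ≫ 1)) l = l
    rw [comp_one, _root_.mul_one, pb_id]
  mul_mem' {x y} hx hy := by
    show pb (𝟙 A * (toUnit A ≫ (x * y))) l = l
    have e : (𝟙 A * (toUnit A ≫ x)) ≫ (𝟙 A * (toUnit A ≫ y)) = 𝟙 A * (toUnit A ≫ (x * y)) := by
      rw [comp_mul, Category.comp_id, comp_mul, ← Category.assoc, comp_toUnit, _root_.mul_assoc]
    rw [← e, ← pb_pb, show pb (𝟙 A * (toUnit A ≫ y)) l = l from hy]
    exact hx
  inv_mem' {x} hx := by
    show pb (𝟙 A * (toUnit A ≫ x⁻¹)) l = l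
    have e : (𝟙 A * (toUnit A ≫ x⁻¹)) ≫ (𝟙 A * (toUnit A ≫ x)) = 𝟙 A := by
      rw [comp_mul, Category.comp_id, ← Category.assoc, comp_toUnit, _root_.mul_assoc, ← comp_mul, inv_mul_cancel,
        comp_one, _root_.mul_one]
    conv_lhs => rw [← show pb (𝟙 A * (toUnit A ≫ x)) l = l from hx]
    rw [pb_pb, e, pb_id]

/-- The quotient by the finitely many fixing points, along which `Λ` is invariant. -/
theorem exists_quotient_fixing {l l' : PicM A.left} (hl : l * l' = 1)
    (hfin : ((fixing l : Subgroup _) : Set (𝟙_ (Over (Spec (CommRingCat.of k))) ⟶ A)).Finite) :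
    ∃ (B : Over (Spec (CommRingCat.of k))) (_ : GrpObj B) (q : A ⟶ B), IsProper B.hom ∧ GeometricallyIntegral B.hom ∧
      IsMonHom q ∧ IsFinite q.left ∧ Flat q.left ∧ Surjective q.left ∧ LocallyOfFinitePresentation q.left ∧
      (∀ x ∈ fixing l, x ≫ q = 1) ∧
      ∀ (V W : Over (Spec (CommRingCat.of k))) (φ : W ⟶ A) (g₁ g₂ : V ⟶ A) (t : W ⟶ V), g₁ ≫ q = g₂ ≫ q →
        pb (lift φ (t ≫ g₁)) (lam l l') = pb (lift φ (t ≫ g₂)) (lam l l') := by
  obtain ⟨H, _, i, hi, hic, hgr, hrange, hS⟩ := AlgGrpLib.exists_closure_subgroup A (fixing l)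
  haveI : Mono i := Over.mono_of_mono_left i
  let S : Set (𝟙_ (Over (Spec (CommRingCat.of k))) ⟶ A) := ↑(fixing l)
  have hclosed : IsClosed (AlgGrpLib.ptOf '' S) :=
    Set.biUnion_of_singleton (AlgGrpLib.ptOf '' S) ▸ (hfin.image AlgGrpLib.ptOf).isClosed_biUnion (fun y hy => by
      obtain ⟨x, -, rfl⟩ := hy
      exact isClosed_point x)
  have hrange' : Set.range i.left.base = AlgGrpLib.ptOf '' S := hrange.trans hclosed.closure_eq
  have hrfin : (Set.range i.left.base).Finite := hrange' ▸ hfin.image _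
  haveI : IsProper H.hom := by rw [← Over.w i]; infer_instance
  haveI : Finite H.left :=
    Set.finite_univ_iff.1 ((Set.preimage_range (f := i.left.base)).symm ▸ hrfin.preimage i.left.isEmbedding.injective.injOn)
  haveI : LocallyQuasiFinite H.hom := LocallyQuasiFinite.of_finite_preimage_singleton H.hom fun _ => Set.toFinite _
  haveI : IsFinite H.hom := IsFinite.of_isProper_of_locallyQuasiFinite _
  haveI : IsReduced H.left :=
    GeometricallyReduced.geometrically_isReduced (f := H.hom) (𝟙 (Spec (CommRingCat.of k))) (𝟙 H.left) H.hom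
      (IsPullback.of_horiz_isIso ⟨by rw [Category.id_comp]; rfl⟩)
  haveI : IsCommMonObj A := isCommMonObj_of_isProper_of_geometricallyIntegral A
  obtain ⟨B, hBg, q, hB, hBi, hq, hqf, hqfl, hqs, hiq, hker⟩ := exists_quotient_finite_subgroup A H i
  haveI : LocallyOfFiniteType q.left := by haveI := hqf; infer_instance
  haveI : IsLocallyNoetherian B.left := by haveI := hB; exact LocallyOfFiniteType.isLocallyNoetherian B.hom
  refine ⟨B, hBg, q, hB, hBi, hq, hqf, hqfl, hqs, locallyOfFinitePresentation_of_noetherian_base q.left,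
    fun x hx => ?_, fun V W φ g₁ g₂ t hg => ?_⟩
  · obtain ⟨x', rfl⟩ := hS x hx
    rw [Category.assoc, hiq, comp_one]
  · have hQ : pb (lift (snd H A) (fst H A ≫ i)) (lam l l') = 1 := by
      refine eq_one_of_trivial_slices _ ?_ fun s => ?_
      · rw [pb_pb, comp_lift, lift_snd, ← Category.assoc, lift_fst, Category.id_comp, pb_lift_lam, _root_.one_mul,
          pb_one, _root_.mul_one, pb, pb, ← map_mul, hl, map_one]
      · have hs : s ≫ i ∈ fixing l := by
          have hm : AlgGrpLib.ptOf (s ≫ i) ∈ Set.range i.left.base := ⟨_, rfl⟩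
          rw [hrange'] at hm
          obtain ⟨x, hx, hxe⟩ := hm
          rw [← point_ext hxe]
          exact hx
        rw [pb_pb, comp_lift, lift_snd, ← Category.assoc, lift_fst, Category.assoc, pb_lift_lam,
          show pb (𝟙 A * (toUnit A ≫ s ≫ i)) l = l from hs, pb_id, pb_const, _root_.mul_one, hl]
    obtain ⟨h, hh⟩ := hker V (g₁⁻¹ * g₂) (by rw [MonObj.mul_comp, GrpObj.inv_comp, hg, inv_mul_cancel])
    have hg2 : t ≫ g₂ = (t ≫ g₁) * ((t ≫ h) ≫ i) := by
      rw [Category.assoc, hh, ← comp_mul, mul_inv_cancel_left]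
    have h1 : pb (lift φ ((t ≫ h) ≫ i)) (lam l l') = 1 := by
      have e : lift φ ((t ≫ h) ≫ i) = lift (t ≫ h) φ ≫ lift (snd H A) (fst H A ≫ i) := by
        rw [comp_lift, lift_snd, ← Category.assoc, lift_fst]
      rw [e, ← pb_pb, hQ]
      exact map_one _
    rw [hg2, pb_lift_lam_mul hl, h1, _root_.mul_one]

end Groth.Agent.AbCubeLib
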