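import Groth.Agent.AbCubeLib.KernelPhi
import Groth.Agent.RedSepLib.Immersion
import Groth.Agent.SGA3cLib.Transporter
import Groth.Agent.AbVarLib.HomDim
import Groth.Agent.AbVarLib.HomFlat

/-!
# Abelian subvarieties from subgroups of rational points
-/

set_option autoImplicit false
set_option backward.isDefEq.respectTransparency.types false

universe u

open CategoryTheory CategoryTheory.Limits MonoidalCategory CartesianMonoidalCategory AlgebraicGeometry MonObj
  TopologicalSpace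
open Groth.Agent.PicLib Groth.Agent.CubeLib Groth.Agent.AmpleLib Groth.Agent.Coherent

namespace Groth.Agent.AbCubeLib

variable {k : Type u} [Field k]

/-- The image of a rational point. -/
noncomputable abbrev ptOf {A : Over (Spec (CommRingCat.of k))}
    (a : 𝟙_ (Over (Spec (CommRingCat.of k))) ⟶ A) : A.left := a.left (IsLocalRing.closedPoint k)

theorem ptOf_comp {A B : Over (Spec (CommRingCat.of k))} (a : 𝟙_ (Over (Spec (CommRingCat.of k))) ⟶ A) (f : A ⟶ B) :
    ptOf (a ≫ f) = f.left (ptOf a) := rfl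

variable [IsAlgClosed k]

theorem exists_ptOf {A : Over (Spec (CommRingCat.of k))} [LocallyOfFiniteType A.hom] {x : A.left}
    (hx : IsClosed ({x} : Set A.left)) : ∃ a : 𝟙_ (Over (Spec (CommRingCat.of k))) ⟶ A, ptOf a = x :=
  ⟨Over.homMk (pointOfClosedPoint A.hom x hx) (pointOfClosedPoint_comp A.hom x hx),
    pointOfClosedPoint_apply A.hom x hx _⟩

/-- A morphism with closed points sent into a closed set maps into it. -/
theorem range_subset_of_points {T A : Over (Spec (CommRingCat.of k))} [LocallyOfFiniteType T.hom] (f : T ⟶ A)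
    {Z : Set A.left} (hZ : IsClosed Z) (h : ∀ t : 𝟙_ (Over (Spec (CommRingCat.of k))) ⟶ T, ptOf (t ≫ f) ∈ Z) :
    Set.range f.left ⊆ Z := by
  rintro _ ⟨w, rfl⟩
  by_contra hw
  have : JacobsonSpace T.left := LocallyOfFiniteType.jacobsonSpace T.hom
  obtain ⟨v, hv, hvc⟩ := nonempty_inter_closedPoints (Z := f.left ⁻¹' Zᶜ) ⟨w, hw⟩
    (hZ.isOpen_compl.preimage f.left.continuous).isLocallyClosed
  obtain ⟨t, rfl⟩ := exists_ptOf (mem_closedPoints_iff.1 hvc)
  exact hv (h t)

variable {A : Over (Spec (CommRingCat.of k))} [GrpObj A] [IsProper A.hom]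

/-- An irreducible closed set whose points form a subgroup is an abelian subvariety. -/
theorem exists_subvariety {Z : Set A.left} (hZ : IsClosed Z) (hZi : IsIrreducible Z)
    (h1 : ptOf (1 : 𝟙_ (Over (Spec (CommRingCat.of k))) ⟶ A) ∈ Z)
    (hsub : ∀ a b : 𝟙_ (Over (Spec (CommRingCat.of k))) ⟶ A, ptOf a ∈ Z → ptOf b ∈ Z → ptOf (a * b⁻¹) ∈ Z) :
    ∃ (B : Over (Spec (CommRingCat.of k))) (_ : GrpObj B) (i : B ⟶ A), IsMonHom i ∧ IsClosedImmersion i.left ∧
      GeometricallyIntegral B.hom ∧ IsProper B.hom ∧ Set.range i.left = Z := by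
  let Z' : Closeds A.left := ⟨Z, hZ⟩
  let I := Scheme.IdealSheafData.vanishingIdeal Z'
  have : IsReduced I.subscheme := Props12.isReduced_subscheme_vanishingIdeal Z'
  have hrg : Set.range I.subschemeι = Z := by rw [Scheme.IdealSheafData.range_subschemeι]; rfl
  have : IrreducibleSpace I.subscheme := by
    have he := I.subschemeι.isEmbedding
    have hne' : Nonempty I.subscheme := by
      obtain ⟨w, -⟩ : ptOf (1 : 𝟙_ (Over (Spec (CommRingCat.of k))) ⟶ A) ∈ Set.range I.subschemeι := hrg ▸ h1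
      exact ⟨w⟩
    have hpre : PreirreducibleSpace I.subscheme := ⟨fun u v hu hv hu' hv' => by
      obtain ⟨U', hU', rfl⟩ := he.isInducing.isOpen_iff.1 hu
      obtain ⟨V', hV', rfl⟩ := he.isInducing.isOpen_iff.1 hv
      obtain ⟨p, -, hp⟩ := hu'
      obtain ⟨q, -, hq⟩ := hv'
      obtain ⟨w, hwC, hwU, hwV⟩ := hZi.2 U' V' hU' hV' ⟨_, hrg ▸ ⟨p, rfl⟩, hp⟩ ⟨_, hrg ▸ ⟨q, rfl⟩, hq⟩
      obtain ⟨w', rfl⟩ : w ∈ Set.range I.subschemeι := hrg ▸ hwC
      exact ⟨w', trivial, hwU, hwV⟩⟩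
    exact { toPreirreducibleSpace := hpre, toNonempty := hne' }
  have : IsIntegral I.subscheme := isIntegral_of_irreducibleSpace_of_isReduced _
  let B : Over (Spec (CommRingCat.of k)) := Over.mk (I.subschemeι ≫ A.hom)
  have : IsProper B.hom := inferInstanceAs (IsProper (I.subschemeι ≫ A.hom))
  have : IsIntegral B.left := inferInstanceAs (IsIntegral I.subscheme)
  have hgi : GeometricallyIntegral B.hom := AbVarLib.geometricallyIntegral_of_isAlgClosed B.hom
  have : IsReduced (B ⊗ B).left := by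
    show IsReduced (pullback B.hom B.hom)
    have : Flat B.hom := flat_of_field _
    have : LocallyOfFinitePresentation B.hom := CohBC.locallyOfFinitePresentation_of_isLocallyNoetherian B.hom
    have : UniversallyOpen B.hom := inferInstance
    have : IsLocallyNoetherian B.left := LocallyOfFiniteType.isLocallyNoetherian B.hom
    have : IsIntegral (pullback B.hom B.hom) := inferInstance
    infer_instance
  have : IsReduced (𝟙_ (Over (Spec (CommRingCat.of k)))).left := inferInstanceAs (IsReduced (Spec (CommRingCat.of k)))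
  let i : B ⟶ A := Over.homMk I.subschemeι rfl
  have : IsClosedImmersion i.left := inferInstanceAs (IsClosedImmersion I.subschemeι)
  have : IsImmersion i.left := inferInstance
  have : Mono i := (Over.forget _).mono_of_mono_map (inferInstanceAs (Mono i.left))
  have hi : ∀ t : 𝟙_ (Over (Spec (CommRingCat.of k))) ⟶ B, ptOf (t ≫ i) ∈ Z := fun t => by
    rw [← hrg]; exact ⟨ptOf t, rfl⟩
  have lift : ∀ (T : Over (Spec (CommRingCat.of k))) [IsReduced T.left] [LocallyOfFiniteType T.hom] (f : T ⟶ A),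
      (∀ t : 𝟙_ (Over (Spec (CommRingCat.of k))) ⟶ T, ptOf (t ≫ f) ∈ Z) → ∃ z : T ⟶ B, z ≫ i = f := by
    intro T _ _ f hf
    obtain ⟨z, hz⟩ := RedSepLib.exists_lift_of_range_subset f.left i.left
      (by rw [show Set.range i.left = Z from hrg]; exact range_subset_of_points f hZ hf)
    exact ⟨Over.homMk z (by rw [← Over.w i, reassoc_of% hz]; exact Over.w f), Over.OverMorphism.ext hz⟩
  have : LocallyOfFiniteType (𝟙_ (Over (Spec (CommRingCat.of k)))).hom :=
    inferInstanceAs (LocallyOfFiniteType (𝟙 (Spec (CommRingCat.of k))))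
  have : LocallyOfFiniteType (B ⊗ B).hom := inferInstanceAs (LocallyOfFiniteType (pullback.fst B.hom B.hom ≫ B.hom))
  obtain ⟨e, he⟩ := lift _ (1 : 𝟙_ (Over (Spec (CommRingCat.of k))) ⟶ A) fun t => by
    rw [MonObj.comp_one]; exact h1
  obtain ⟨d, hd⟩ := lift (B ⊗ B) ((fst B B ≫ i) * (snd B B ≫ i)⁻¹) fun t => by
    rw [MonObj.comp_mul, GrpObj.comp_inv, ← Category.assoc, ← Category.assoc]
    exact hsub _ _ (hi _) (hi _)
  have hdiv : ∀ (T : Over (Spec (CommRingCat.of k))) (a b : T ⟶ B), ∃ z : T ⟶ B, z ≫ i = (a ≫ i) * (b ≫ i)⁻¹ :=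
    fun T a b => ⟨CartesianMonoidalCategory.lift a b ≫ d, by rw [Category.assoc, hd, MonObj.comp_mul, GrpObj.comp_inv, ← Category.assoc,
      ← Category.assoc, lift_fst, lift_snd]⟩
  have hone : ∀ T : Over (Spec (CommRingCat.of k)), ∃ z : T ⟶ B, z ≫ i = (1 : T ⟶ A) := fun T =>
    ⟨toUnit T ≫ e, by rw [Category.assoc, he, MonObj.comp_one]⟩
  have hinv : ∀ (T : Over (Spec (CommRingCat.of k))) (a : T ⟶ B), ∃ z : T ⟶ B, z ≫ i = (a ≫ i)⁻¹ := fun T a => by
    obtain ⟨o, ho⟩ := hone T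
    obtain ⟨z, hz⟩ := hdiv T o a
    exact ⟨z, by rw [hz, ho, _root_.one_mul]⟩
  obtain ⟨hG, hiG⟩ := SGA3cLib.exists_grpObj_of_subgroup i hone (fun T a b => by
    obtain ⟨b', hb'⟩ := hinv T b
    obtain ⟨z, hz⟩ := hdiv T a b'
    exact ⟨z, by rw [hz, hb', inv_inv]⟩) hinv
  exact ⟨B, hG, i, hiG, inferInstance, hgi, inferInstance, hrg⟩

/-- Translation by a rational point, as a map of spaces. -/
theorem ptOf_mul [IsCommMonObj A] (x a : 𝟙_ (Over (Spec (CommRingCat.of k))) ⟶ A) :
    (𝟙 A * (toUnit A ≫ a)).left (ptOf x) = ptOf (x * a) := by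
  rw [← ptOf_comp, MonObj.comp_mul, Category.comp_id, ← Category.assoc, toUnit_unique (x ≫ toUnit A) (𝟙 _),
    Category.id_comp]

theorem translate_comp_translate [IsCommMonObj A] (a b : 𝟙_ (Over (Spec (CommRingCat.of k))) ⟶ A) :
    (𝟙 A * (toUnit A ≫ a)) ≫ (𝟙 A * (toUnit A ≫ b)) = 𝟙 A * (toUnit A ≫ (a * b)) := by
  rw [MonObj.comp_mul, Category.comp_id, ← Category.assoc, toUnit_unique (_ ≫ toUnit A) (toUnit A),
    MonObj.comp_mul, _root_.mul_assoc]

/-- Translation as a homeomorphism. -/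
noncomputable def translHomeo [IsCommMonObj A] (a : 𝟙_ (Over (Spec (CommRingCat.of k))) ⟶ A) :
    A.left ≃ₜ A.left where
  toFun := (𝟙 A * (toUnit A ≫ a)).left
  invFun := (𝟙 A * (toUnit A ≫ a⁻¹)).left
  left_inv x := by
    rw [← Scheme.Hom.comp_apply, ← Over.comp_left, translate_comp_translate, mul_inv_cancel, MonObj.comp_one,
      _root_.mul_one]
    rfl
  right_inv x := by
    rw [← Scheme.Hom.comp_apply, ← Over.comp_left, translate_comp_translate, inv_mul_cancel, MonObj.comp_one,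
      _root_.mul_one]
    rfl
  continuous_toFun := (𝟙 A * (toUnit A ≫ a)).left.continuous
  continuous_invFun := (𝟙 A * (toUnit A ≫ a⁻¹)).left.continuous

theorem translHomeo_apply [IsCommMonObj A] (x a : 𝟙_ (Over (Spec (CommRingCat.of k))) ⟶ A) :
    translHomeo a (ptOf x) = ptOf (x * a) := ptOf_mul x a

/-- Every subgroup of rational points has a finite index subgroup whose closure is an abelian subvariety. -/
theorem exists_subvariety_of_subgroup [IsCommMonObj A] (H : Subgroup (𝟙_ (Over (Spec (CommRingCat.of k))) ⟶ A)) :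
    ∃ (B : Over (Spec (CommRingCat.of k))) (_ : GrpObj B) (i : B ⟶ A) (H₁ : Subgroup (𝟙_ (Over (Spec (CommRingCat.of k))) ⟶ A)),
      IsMonHom i ∧ IsClosedImmersion i.left ∧ GeometricallyIntegral B.hom ∧ IsProper B.hom ∧ H₁ ≤ H ∧
      (H₁.subgroupOf H).index ≠ 0 ∧ Set.range i.left = closure (ptOf '' (SetLike.coe H₁)) := by
  have : IsLocallyNoetherian A.left := LocallyOfFiniteType.isLocallyNoetherian A.hom
  have : QuasiCompact A.hom := inferInstance
  have : CompactSpace A.left := QuasiCompact.compactSpace_of_compactSpace A.hom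
  have : IsNoetherian A.left := ⟨⟩
  -- choose a finite index subgroup with minimal closure
  let S : Set (Closeds A.left) := {C | ∃ H₁ : Subgroup (𝟙_ (Over (Spec (CommRingCat.of k))) ⟶ A), H₁ ≤ H ∧
    (H₁.subgroupOf H).index ≠ 0 ∧ (C : Set A.left) = closure (ptOf '' (SetLike.coe H₁))}
  obtain ⟨C, ⟨H₀, hH₀, hH₀i, hC⟩, hmin⟩ := wellFounded_lt.has_min S
    ⟨⟨_, isClosed_closure⟩, H, le_rfl, by simp, rfl⟩
  set F := closure (ptOf '' (SetLike.coe H₀)) with hF
  have hstab : ∀ h ∈ H₀, translHomeo h '' F = F := by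
    intro h hh
    rw [hF, Homeomorph.image_closure]
    refine congrArg closure (Set.Subset.antisymm ?_ ?_)
    · rintro _ ⟨_, ⟨x, hx, rfl⟩, rfl⟩
      exact ⟨x * h, mul_mem hx hh, (translHomeo_apply x h).symm⟩
    · rintro _ ⟨x, hx, rfl⟩
      exact ⟨ptOf (x * h⁻¹), ⟨_, mul_mem hx (inv_mem hh), rfl⟩, by rw [translHomeo_apply, inv_mul_cancel_right]⟩
  -- the kernel of the action on the components
  let comps : Set (Set A.left) := {c | c ⊆ F ∧ IsIrreducible c ∧ ∀ d, d ⊆ F → IsIrreducible d → c ⊆ d → d ⊆ c}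
  obtain ⟨T, hTf, hTc, hTi, hTF⟩ := NoetherianSpace.exists_finite_set_isClosed_irreducible
    (isClosed_closure (s := ptOf '' (SetLike.coe H₀)))
  have hTF' : F = ⋃₀ T := hTF
  have hcf : comps.Finite := by
    refine hTf.subset fun c hc => ?_
    obtain ⟨hcF, hci, hcmax⟩ := hc
    obtain ⟨t, htT, hct⟩ : ∃ t ∈ T, c ⊆ t := by
      have h := hci
      rw [isIrreducible_iff_sUnion_isClosed] at h
      obtain ⟨t, ht, hct⟩ := h hTf.toFinset (by simpa using hTc) (by simpa [← hTF'] using hcF)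
      exact ⟨t, by simpa using ht, hct⟩
    have htF : t ⊆ F := (Set.subset_sUnion_of_mem htT).trans hTF.ge
    rwa [Set.Subset.antisymm hct (hcmax t htF (hTi t htT) hct)]
  have hperm : ∀ h ∈ H₀, ∀ c ∈ comps, translHomeo h '' c ∈ comps := by
    rintro h hh c ⟨hcF, hci, hcmax⟩
    refine ⟨(Set.image_mono hcF).trans (hstab h hh).le, hci.image _ (translHomeo h).continuous.continuousOn, ?_⟩
    intro d hdF hdi hcd
    have h1 : (translHomeo h).symm '' d ⊆ F := by
      rintro _ ⟨y, hy, rfl⟩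
      obtain ⟨z, hz, rfl⟩ := (hstab h hh).ge (hdF hy)
      rwa [Homeomorph.symm_apply_apply]
    have h2 := hcmax _ h1 (hdi.image _ (translHomeo h).symm.continuous.continuousOn) (by
      intro x hx
      exact ⟨translHomeo h x, hcd ⟨x, hx, rfl⟩, Homeomorph.symm_apply_apply _ _⟩)
    intro y hy
    exact ⟨(translHomeo h).symm y, h2 ⟨y, hy, rfl⟩, Homeomorph.apply_symm_apply _ _⟩
  have : Finite comps := hcf.to_subtype
  let act : H₀ →* Equiv.Perm comps :=
    MonoidHom.mk' (fun h => Equiv.ofBijective (fun c => ⟨translHomeo h.1 '' c.1, hperm h.1 h.2 c.1 c.2⟩)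
      (Finite.injective_iff_bijective.1 fun c c' e => Subtype.ext
        ((translHomeo h.1).injective.image_injective (congrArg Subtype.val e)))) fun h h' => by
      refine Equiv.ext fun c => Subtype.ext ?_
      show translHomeo (h.1 * h'.1) '' c.1 = translHomeo h.1 '' (translHomeo h'.1 '' c.1)
      rw [Set.image_image]
      refine Set.image_congr' fun x => ?_
      show (𝟙 A * (toUnit A ≫ (h.1 * h'.1))).left x = (𝟙 A * (toUnit A ≫ h.1)).left ((𝟙 A * (toUnit A ≫ h'.1)).left x)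
      rw [← Scheme.Hom.comp_apply, ← Over.comp_left, translate_comp_translate, _root_.mul_comm h'.1]
  let H₁ : Subgroup (𝟙_ (Over (Spec (CommRingCat.of k))) ⟶ A) := act.ker.map H₀.subtype
  have hH₁0 : H₁ ≤ H₀ := (Subgroup.map_le_range _ _).trans H₀.range_subtype.le
  have hi1 : (H₁.subgroupOf H).index ≠ 0 := by
    have hrel : H₁.relIndex H₀ ≠ 0 := by
      rw [Subgroup.relIndex, show H₁.subgroupOf H₀ = act.ker from Subgroup.comap_map_eq_self_of_injective
        (Subgroup.subtype_injective _) _, Subgroup.index_ker]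
      exact Nat.card_pos.ne'
    show H₁.relIndex H ≠ 0
    rw [← Subgroup.relIndex_mul_relIndex H₁ H₀ H hH₁0 hH₀]
    exact mul_ne_zero hrel hH₀i
  have hFeq : closure (ptOf '' (SetLike.coe H₁)) = F := by
    have hle : closure (ptOf '' (SetLike.coe H₁)) ⊆ F := closure_mono (Set.image_mono hH₁0)
    by_contra hne
    exact hmin ⟨_, isClosed_closure⟩ ⟨H₁, hH₁0.trans hH₀, hi1, rfl⟩
      (lt_of_le_of_ne (show _ ⊆ (C : Set A.left) from hC ▸ hle) fun e => hne ((congrArg SetLike.coe e).trans hC))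
  -- the component through the neutral element
  have h1F : ptOf (1 : 𝟙_ (Over (Spec (CommRingCat.of k))) ⟶ A) ∈ F := subset_closure ⟨1, one_mem _, rfl⟩
  obtain ⟨t, htT, h1t⟩ := Set.mem_sUnion.1 (hTF'.subset h1F)
  obtain ⟨c, htc, hcC⟩ : ∃ c, t ⊆ c ∧ c ∈ comps := by
    have htF : t ⊆ F := (Set.subset_sUnion_of_mem htT).trans hTF.ge
    obtain ⟨m, ⟨hmT, htm⟩, hmmax⟩ := (hTf.subset (Set.sep_subset T fun s => t ⊆ s)).exists_maximal ⟨t, htT, subset_rfl⟩
    refine ⟨m, htm, (Set.subset_sUnion_of_mem hmT).trans hTF.ge, hTi m hmT, fun d hdF hdi hmd => ?_⟩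
    have h := hdi
    rw [isIrreducible_iff_sUnion_isClosed] at h
    obtain ⟨s, hs, hds⟩ := h hTf.toFinset (by simpa using hTc) (by simpa [← hTF'] using hdF)
    exact hds.trans (hmmax ⟨by simpa using hs, htm.trans (hmd.trans hds)⟩ (hmd.trans hds))
  have hcl : IsClosed c := by
    have h := hcC.2.2 (closure c) (isClosed_closure.closure_subset_iff.2 hcC.1) hcC.2.1.closure subset_closure
    exact isClosed_of_closure_subset h
  have hFc : F = c := by
    refine Set.Subset.antisymm ?_ hcC.1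
    rw [← hFeq, hcl.closure_subset_iff]
    rintro _ ⟨h, hh, rfl⟩
    obtain ⟨h', hh', rfl⟩ := hh
    have he : translHomeo (h' : H₀).1 '' c = c :=
      congrArg Subtype.val (Equiv.ext_iff.1 (MonoidHom.mem_ker.1 hh') ⟨c, hcC⟩)
    rw [← he]
    exact ⟨_, htc h1t, (translHomeo_apply _ _).trans (by rw [_root_.one_mul]; rfl)⟩
  have hsub : ∀ a b : 𝟙_ (Over (Spec (CommRingCat.of k))) ⟶ A, ptOf a ∈ F → ptOf b ∈ F → ptOf (a * b⁻¹) ∈ F := by
    intro a b ha hb
    let m : A ⟶ A := (toUnit A ≫ a) * (𝟙 A)⁻¹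
    have hm : ∀ x : 𝟙_ (Over (Spec (CommRingCat.of k))) ⟶ A, m.left (ptOf x) = ptOf (a * x⁻¹) := fun x => by
      rw [← ptOf_comp, MonObj.comp_mul, GrpObj.comp_inv, Category.comp_id, ← Category.assoc,
        toUnit_unique (x ≫ toUnit A) (𝟙 _), Category.id_comp]
    have hpre : ptOf '' (SetLike.coe H₀) ⊆ m.left ⁻¹' F := by
      rintro _ ⟨h, hh, rfl⟩
      show m.left (ptOf h) ∈ F
      rw [hm, ← translHomeo_apply, ← hstab h⁻¹ (inv_mem hh)]
      exact ⟨_, ha, rfl⟩
    have := (isClosed_closure.preimage m.left.continuous).closure_subset_iff.2 hpre hb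
    rw [← hm]
    exact this
  obtain ⟨B, hG, i, hiG, hci, hgi, hp, hrg⟩ := exists_subvariety (Z := F) isClosed_closure (hFc.symm ▸ hcC.2.1) h1F hsub
  exact ⟨B, hG, i, H₁, hiG, hci, hgi, hp, hH₁0.trans hH₀, hi1, hrg.trans hFeq.symm⟩

end Groth.Agent.AbCubeLib
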