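import Groth.Agent.AbSchLib.RigidityOver
import Mathlib.AlgebraicGeometry.Sites.Fpqc
import Mathlib.AlgebraicGeometry.Geometrically.Integral
import Mathlib.AlgebraicGeometry.Morphisms.Proper
import Mathlib.FieldTheory.IsAlgClosed.Basic
import Mathlib.RingTheory.Algebraic.Integral
import Groth.Agent.AbVarLib.HomDim
import Groth.Agent.AbCubeLib.Subvariety

/-!
# Descent of homomorphisms from the algebraic closure
-/

set_option autoImplicit false
set_option backward.isDefEq.respectTransparency.types false

universe u

open CategoryTheory CategoryTheory.Limits MonoidalCategory CartesianMonoidalCategory AlgebraicGeometry MonObj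
  TopologicalSpace
open Groth.Agent.CubeLib Groth.Agent.AbVarLib Groth.Agent.Coherent

namespace Groth.Agent.AbCubeLib

variable {K : Type u} [Field K] (L : Type u) [Field L] [Algebra K L]

/-- The spectrum of an extension field, over the base field. -/
noncomputable abbrev extPt : Over (Spec (CommRingCat.of K)) :=
  Over.mk (Spec.map (CommRingCat.ofHom (algebraMap K L)))

/-- The action of an endomorphism of the extension field. -/
noncomputable def extPtMap (σ : L →ₐ[K] L) : extPt (K := K) L ⟶ extPt (K := K) L :=
  Over.homMk (Spec.map (CommRingCat.ofHom σ.toRingHom)) (by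
    show Spec.map _ ≫ Spec.map _ = Spec.map _
    rw [← Spec.map_comp]
    congr 1
    ext r
    exact σ.commutes r)

/-- Two points with values in a field differ by an automorphism of an algebraically closed algebraic extension. -/
theorem exists_extPtMap [IsAlgClosed L] [Algebra.IsAlgebraic K L] (E : Type u) [Field E]
    {T : Over (Spec (CommRingCat.of K))} (t : Spec (CommRingCat.of E) ⟶ T.left) (u v : T ⟶ extPt L) :
    ∃ σ : L →ₐ[K] L, t ≫ v.left = t ≫ u.left ≫ (extPtMap L σ).left := by
  obtain ⟨u', hu⟩ := Spec.map_surjective (t ≫ u.left)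
  obtain ⟨v', hv⟩ := Spec.map_surjective (t ≫ v.left)
  have h : CommRingCat.ofHom (algebraMap K L) ≫ v' = CommRingCat.ofHom (algebraMap K L) ≫ u' := by
    apply Spec.map_injective
    rw [Spec.map_comp, Spec.map_comp, hu, hv, Category.assoc, Category.assoc]
    exact congrArg (t ≫ ·) ((Over.w v).trans (Over.w u).symm)
  letI : Algebra L E := u'.hom.toAlgebra
  letI : Algebra K E := (u'.hom.comp (algebraMap K L)).toAlgebra
  haveI : IsScalarTower K L E := IsScalarTower.of_algebraMap_eq fun _ => rfl
  let g : L →ₐ[K] E := { v'.hom with commutes' := fun r => congr($h r) }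
  have hg : ∀ x, ∃ y, algebraMap L E y = g x := by
    intro x
    have hxK : IsIntegral K (g x) := (Algebra.IsIntegral.isIntegral (R := K) x).map g
    exact minpoly.mem_range_of_degree_eq_one L (g x)
      (IsAlgClosed.degree_eq_one_of_irreducible L (minpoly.irreducible hxK.tower_top))
  choose y hy using hg
  let σ : L →ₐ[K] L :=
    { toFun := y
      map_one' := (algebraMap L E).injective (by rw [hy, map_one, map_one])
      map_mul' := fun a b => (algebraMap L E).injective (by rw [hy, map_mul, map_mul, hy, hy])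
      map_zero' := (algebraMap L E).injective (by rw [hy, map_zero, map_zero])
      map_add' := fun a b => (algebraMap L E).injective (by rw [hy, map_add, map_add, hy, hy])
      commutes' := fun r => (algebraMap L E).injective (by
        rw [hy, g.commutes, ← IsScalarTower.algebraMap_apply]) }
  refine ⟨σ, ?_⟩
  rw [← Category.assoc, ← hu, ← hv]
  show Spec.map v' = Spec.map u' ≫ Spec.map _
  rw [← Spec.map_comp]
  congr 1
  ext x
  exact (hy x).symm

variable {A B : Over (Spec (CommRingCat.of K))} [GrpObj A] [GrpObj B] [IsProper A.hom] [GeometricallyIntegral A.hom]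
  [IsProper B.hom]

/-- A morphism defined over the algebraic closure, respecting units and invariant under all automorphisms, is
defined over the base field. -/
theorem exists_descend_hom [IsAlgClosed L] [Algebra.IsAlgebraic K L] (Φ : A ⊗ extPt L ⟶ B)
    (h1 : lift (toUnit (extPt (K := K) L) ≫ η[A]) (𝟙 _) ≫ Φ = 1)
    (hinv : ∀ σ : L →ₐ[K] L, (A ◁ extPtMap L σ) ≫ Φ = Φ) :
    ∃ ψ : A ⟶ B, IsMonHom ψ ∧ fst A (extPt L) ≫ ψ = Φ := by
  let U := extPt (K := K) L
  haveI : Surjective U.hom := ⟨fun x => ⟨IsLocalRing.closedPoint L, Subsingleton.elim (α := PrimeSpectrum K) _ _⟩⟩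
  haveI : Flat A.hom := flat_of_field _
  haveI : LocallyOfFinitePresentation A.hom := CohBC.locallyOfFinitePresentation_of_isLocallyNoetherian A.hom
  haveI := AbSchLib.geometricallyConnected_of_irreducible A.hom
  let T := U ⊗ U
  let g : A ⊗ T ⟶ T := snd A T
  let D : A ⊗ T ⟶ B := ((A ◁ fst U U) ≫ Φ) * ((A ◁ snd U U) ≫ Φ)⁻¹
  haveI : IsProper g.left := inferInstanceAs (IsProper (pullback.snd A.hom T.hom))
  haveI : Flat g.left := inferInstanceAs (Flat (pullback.snd A.hom T.hom))
  haveI : LocallyOfFinitePresentation g.left := inferInstanceAs (LocallyOfFinitePresentation (pullback.snd A.hom T.hom))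
  haveI : GeometricallyConnected g.left := inferInstanceAs (GeometricallyConnected (pullback.snd A.hom T.hom))
  haveI : GeometricallyReduced g.left := inferInstanceAs (GeometricallyReduced (pullback.snd A.hom T.hom))
  let e : T ⟶ A ⊗ T := lift (toUnit T ≫ η[A]) (𝟙 T)
  have he : e ≫ D = 1 := by
    have key : ∀ q : T ⟶ U, e ≫ (A ◁ q) ≫ Φ = 1 := fun q => by
      have h := congrArg (q ≫ ·) h1
      simp only [MonObj.comp_one] at h
      rw [← h, ← Category.assoc, ← Category.assoc]
      congr 1
      apply CartesianMonoidalCategory.hom_ext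
      · rw [Category.assoc, Category.assoc, whiskerLeft_fst, lift_fst, lift_fst, ← Category.assoc q,
          toUnit_unique (q ≫ toUnit U) (toUnit T)]
      · rw [Category.assoc, Category.assoc, whiskerLeft_snd, lift_snd_assoc, lift_snd, Category.id_comp,
          Category.comp_id]
    rw [MonObj.comp_mul, GrpObj.comp_inv, key, key, inv_one, _root_.mul_one]
  have hD : D = 1 := by
    refine Over.OverMorphism.ext ((AbSchLib.eq_comp_section_of_collapsed T.hom B.hom g.left D.left
      ((Over.w D).trans (Over.w g).symm) e.left (congrArg Over.Hom.left (lift_snd _ _)) fun t => ?_).trans ?_)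
    · rintro _ ⟨x, -, rfl⟩ _ ⟨y, -, rfl⟩
      have key : ∀ x, ∃ c, D.left x = η[B].left c := fun x => by
        let E := (A ⊗ T).left.residueField x
        let F : Over (Spec (CommRingCat.of K)) := Over.mk ((A ⊗ T).left.fromSpecResidueField x ≫ (A ⊗ T).hom)
        let px : F ⟶ A ⊗ T := Over.homMk ((A ⊗ T).left.fromSpecResidueField x) rfl
        obtain ⟨σ, hσ⟩ := exists_extPtMap L E (T := F) (𝟙 _) (px ≫ snd A T ≫ fst U U) (px ≫ snd A T ≫ snd U U)
        rw [Category.id_comp, Category.id_comp] at hσ
        have hv : px ≫ snd A T ≫ snd U U = (px ≫ snd A T ≫ fst U U) ≫ extPtMap L σ := Over.OverMorphism.ext hσ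
        have e2 : px ≫ (A ◁ snd U U) = (px ≫ (A ◁ fst U U)) ≫ (A ◁ extPtMap L σ) := by
          apply CartesianMonoidalCategory.hom_ext
          · simp only [U, Category.assoc, whiskerLeft_fst]
          · simpa using hv
        have h0 : px ≫ D = 1 := by
          rw [MonObj.comp_mul, GrpObj.comp_inv, mul_inv_eq_one, ← Category.assoc, ← Category.assoc, e2,
            Category.assoc (px ≫ _), hinv σ]
        refine ⟨(toUnit F).left (IsLocalRing.closedPoint E), ?_⟩
        rw [← Scheme.Hom.comp_apply, ← Over.comp_left, ← Hom.one_def, ← h0, Over.comp_left, Scheme.Hom.comp_apply]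
        exact congrArg _ ((A ⊗ T).left.fromSpecResidueField_apply x _).symm
      obtain ⟨c, hc⟩ := key x
      obtain ⟨c', hc'⟩ := key y
      rw [hc, hc']
      exact congrArg _ (Subsingleton.elim (α := PrimeSpectrum K) _ _)
    · rw [← Over.comp_left, ← Over.comp_left, he, MonObj.comp_one]
  haveI : IsAffineHom U.hom := inferInstanceAs (IsAffineHom (Spec.map _))
  haveI : Flat U.hom := flat_of_field _
  haveI : Surjective (fst A U).left := MorphismProperty.pullback_fst (P := @Surjective) A.hom U.hom inferInstance
  haveI : Flat (fst A U).left := inferInstanceAs (Flat (pullback.fst A.hom U.hom))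
  haveI : QuasiCompact (fst A U).left := inferInstanceAs (QuasiCompact (pullback.fst A.hom U.hom))
  have hd : ∀ {Z : Scheme.{u}} (g₁ g₂ : Z ⟶ (A ⊗ U).left), g₁ ≫ (fst A U).left = g₂ ≫ (fst A U).left →
      g₁ ≫ Φ.left = g₂ ≫ Φ.left := fun {Z} g₁ g₂ h => by
    let W : Over (Spec (CommRingCat.of K)) := Over.mk (g₁ ≫ (A ⊗ U).hom)
    let a : W ⟶ A ⊗ U := Over.homMk g₁ rfl
    let b : W ⟶ A ⊗ U := Over.homMk g₂ (by
      show g₂ ≫ (A ⊗ U).hom = g₁ ≫ (A ⊗ U).hom
      rw [← Over.w (fst A U), ← Category.assoc, ← h, Category.assoc])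
    have hab : a ≫ fst A U = b ≫ fst A U := Over.OverMorphism.ext h
    let w : W ⟶ A ⊗ T := lift (a ≫ fst A U) (lift (a ≫ snd A U) (b ≫ snd A U))
    have ha : w ≫ (A ◁ fst U U) = a := by apply CartesianMonoidalCategory.hom_ext <;> simp [w]
    have hb : w ≫ (A ◁ snd U U) = b := by apply CartesianMonoidalCategory.hom_ext <;> simp [w, hab]
    have h2 := congrArg (w ≫ ·) hD
    simp only [D, MonObj.comp_one, MonObj.comp_mul, GrpObj.comp_inv] at h2
    rw [← Category.assoc, ← Category.assoc, ha, hb, mul_inv_eq_one] at h2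
    exact congrArg Over.Hom.left h2
  let m : A.left ⟶ B.left := EffectiveEpi.desc (fst A U).left Φ.left hd
  have hm : (fst A U).left ≫ m = Φ.left := EffectiveEpi.fac _ _ hd
  let ψ : A ⟶ B := Over.homMk m (by
    rw [← cancel_epi (fst A U).left, reassoc_of% hm, Over.w, Over.w])
  have hψ : fst A U ≫ ψ = Φ := Over.OverMorphism.ext hm
  refine ⟨ψ, AbSchLib.isMonHom_of_one A B ψ ?_, hψ⟩
  haveI : Epi (toUnit U).left := by
    rw [Over.toUnit_left]; infer_instance
  haveI : Epi (toUnit U) := Over.epi_of_epi_left _
  rw [← cancel_epi (toUnit U)]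
  have h := h1
  rw [← hψ, lift_fst_assoc, Category.assoc, Hom.one_def] at h
  exact h

end Groth.Agent.AbCubeLib
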