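import Mathlib
import Groth.Prelude.Def_AbDual

/-!
# Points after base change
-/

set_option autoImplicit false
set_option backward.isDefEq.respectTransparency.types false

universe u

open CategoryTheory CategoryTheory.Limits MonoidalCategory CartesianMonoidalCategory AlgebraicGeometry MonObj

namespace Groth.Agent.AbCubeLib

variable {S T : Scheme.{u}} (g : T ⟶ S)

/-- The tautological point. -/
noncomputable def tautPt : 𝟙_ (Over T) ⟶ (Over.pullback g).obj (Over.mk g) :=
  Over.homMk (pullback.lift (𝟙 T) (𝟙 T) rfl) (pullback.lift_snd _ _ _)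

theorem tautPt_map_left {A : Over S} (a : Over.mk g ⟶ A) :
    (tautPt g ≫ (Over.pullback g).map a).left ≫ pullback.fst A.hom g = a.left := by
  rw [Over.comp_left, Category.assoc]
  have h : ((Over.pullback g).map a).left ≫ pullback.fst A.hom g = pullback.fst (Over.mk g).hom g ≫ a.left :=
    pullback.lift_fst _ _ _
  rw [h, ← Category.assoc]
  refine (congrArg (· ≫ a.left) (pullback.lift_fst _ _ _)).trans ?_
  exact Category.id_comp _

variable (A : Over S) [GrpObj A]

noncomputable local instance : GrpObj ((Over.pullback g).obj A) := Functor.grpObjObj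

/-- Points with values in `T` are the rational points of the base change. -/
noncomputable def bcPts : (Over.mk g ⟶ A) →* (𝟙_ (Over T) ⟶ (Over.pullback g).obj A) :=
  MonoidHom.mk' (fun a => tautPt g ≫ (Over.pullback g).map a) fun a b => by
    show tautPt g ≫ (Over.pullback g).homMonoidHom (a * b) = _
    rw [map_mul, MonObj.comp_mul]
    rfl

theorem bcPts_bijective : Function.Bijective (bcPts g A) := by
  constructor
  · intro a b h
    refine Over.OverMorphism.ext ?_
    rw [← tautPt_map_left g a, ← tautPt_map_left g b]
    exact congrArg (fun x : 𝟙_ (Over T) ⟶ (Over.pullback g).obj A => x.left ≫ pullback.fst A.hom g) h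
  · intro x
    have hx : x.left ≫ pullback.snd A.hom g = 𝟙 T := Over.w x
    let a : Over.mk g ⟶ A := Over.homMk (x.left ≫ pullback.fst A.hom g)
      (by rw [Category.assoc, pullback.condition, reassoc_of% hx]; rfl)
    refine ⟨a, Over.OverMorphism.ext (pullback.hom_ext ?_ ?_)⟩
    · exact tautPt_map_left g a
    · exact (Over.w (tautPt g ≫ (Over.pullback g).map a)).trans hx.symm

theorem bcPts_comp {B : Over S} [GrpObj B] (a : Over.mk g ⟶ A) (φ : A ⟶ B) :
    bcPts g B (a ≫ φ) = bcPts g A a ≫ (Over.pullback g).map φ := by
  show tautPt g ≫ (Over.pullback g).map (a ≫ φ) = (tautPt g ≫ (Over.pullback g).map a) ≫ (Over.pullback g).map φ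
  rw [Functor.map_comp, Category.assoc]

end Groth.Agent.AbCubeLib
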