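import Groth.Agent.AbCubeLib.TorsionGroup
import Groth.Prelude.Def_AbDual

/-!
# Tate modules with prescribed numbers of torsion points are free
-/

set_option autoImplicit false

universe u

open CategoryTheory CategoryTheory.Limits AlgebraicGeometry MonObj MonoidalCategory CartesianMonoidalCategory

namespace Groth.Agent.AbCubeLib

variable {S : Scheme.{u}} {A : Over S} [GrpObj A] [IsCommMonObj A] {T : Over S}

/-- Torsion points, written additively. -/
def torsPtsEquiv (A : Over S) [GrpObj A] [IsCommMonObj A] (T : Over S) (N : ℕ) :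
    AbDual.torsPts A N T ≃* Multiplicative (tors (Additive (T ⟶ A)) N) where
  toFun x := Multiplicative.ofAdd ⟨Additive.ofMul x.1, congrArg Additive.ofMul x.2⟩
  invFun y := ⟨(Multiplicative.toAdd y).1.toMul, congrArg Additive.toMul (Multiplicative.toAdd y).2⟩
  left_inv _ := rfl
  right_inv _ := rfl
  map_mul' _ _ := rfl

theorem natCard_tors_eq (A : Over S) [GrpObj A] [IsCommMonObj A] (T : Over S) (N : ℕ) :
    Nat.card (tors (Additive (T ⟶ A)) N) = Nat.card (AbDual.torsPts A N T) :=
  (Nat.card_congr ((torsPtsEquiv A T N).toEquiv.trans Multiplicative.toAdd)).symm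

/-- The `n`-th component of an element of the Tate module, as a torsion point. -/
theorem coe_mem_tors {l : ℕ} (x : AbDual.TateMod A l T) (n : ℕ) :
    (x : ℕ → Additive (T ⟶ A)) n ∈ tors (Additive (T ⟶ A)) (l ^ n) := x.2.1 n

/-- With `l ^ (r n)` points killed by `l ^ n`, the Tate module has a basis of `r` elements. -/
theorem exists_tate_basis {l : ℕ} [Fact l.Prime] {r : ℕ}
    (hcard : ∀ n, Nat.card (AbDual.torsPts A (l ^ n) T) = l ^ (r * n)) :
    Nonempty (Module.Basis (Fin r) ℤ_[l] (AbDual.TateMod A l T)) := by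
  classical
  have hl : l.Prime := Fact.out
  have hc : ∀ n, Nat.card (tors (Additive (T ⟶ A)) (l ^ n)) = l ^ (r * n) := fun n =>
    (natCard_tors_eq A T _).trans (hcard n)
  obtain ⟨x, hx1, hx2, hx3⟩ := exists_compatible_generators hl hc
  let e : Fin r → AbDual.TateMod A l T := fun i => ⟨fun n => x n i, fun n => hx1 n i, fun n => hx2 n i⟩
  let Ψ : ∀ n, (Fin r → ZMod (l ^ n)) →+ tors (Additive (T ⟶ A)) (l ^ n) := fun n =>
    zmodPiHom fun i => ⟨x n i, hx1 n i⟩
  have hΨ : ∀ n, Function.Bijective (Ψ n) := fun n =>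
    zmodPiHom_bijective (pow_pos hl.pos n) (by rw [hc n, ← pow_mul, mul_comm]) _ (hx3 n)
  let Φ : (Fin r → ℤ_[l]) →ₗ[ℤ_[l]] AbDual.TateMod A l T := Fintype.linearCombination ℤ_[l] e
  have hcomp : ∀ a n, (Φ a : ℕ → Additive (T ⟶ A)) n = ((Ψ n fun i => PadicInt.toZModPow n (a i)) : _) := by
    intro a n
    simp only [Φ, Fintype.linearCombination_apply, Ψ]
    simp_rw [AbDual.toZModPow_eq_appr]
    rw [zmodPiHom_natCast]
    show AbDual.TateMod.component A l T n (∑ i, a i • e i) = _
    rw [map_sum]
    rfl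
  refine ⟨(Module.Basis.ofEquivFun (LinearEquiv.ofBijective Φ ⟨?_, fun y => ?_⟩).symm)⟩
  · rw [injective_iff_map_eq_zero]
    intro a ha
    funext i
    refine PadicInt.ext_of_toZModPow.1 fun n => ?_
    have h1 : (Ψ n fun i => PadicInt.toZModPow n (a i)) = 0 := Subtype.ext (by rw [← hcomp a n, ha]; rfl)
    rw [Pi.zero_apply, map_zero]
    exact congrFun ((hΨ n).1 (h1.trans (map_zero _).symm)) i
  · -- the coefficients form a compatible system
    choose c hcy using fun n => (hΨ n).2 ⟨(y : ℕ → Additive (T ⟶ A)) n, coe_mem_tors y n⟩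
    have hcompat : ∀ n i, ZMod.castHom (pow_dvd_pow l n.le_succ) (ZMod (l ^ n)) (c (n + 1) i) = c n i := by
      intro n
      refine congrFun ((hΨ n).1 (Subtype.ext ?_))
      have h1 : ((Ψ (n + 1) fun i => ((c (n + 1) i).val : ZMod (l ^ (n + 1)))) : Additive (T ⟶ A)) =
          (y : ℕ → Additive (T ⟶ A)) (n + 1) := by
        simp only [ZMod.natCast_zmod_val]
        exact congrArg Subtype.val (hcy (n + 1))
      rw [hcy n]
      show _ = (y : ℕ → Additive (T ⟶ A)) n
      rw [← y.2.2 n, ← h1]
      simp only [Ψ]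
      rw [show (fun i => ZMod.castHom (pow_dvd_pow l n.le_succ) (ZMod (l ^ n)) (c (n + 1) i)) =
        fun i => ((c (n + 1) i).val : ZMod (l ^ n)) from funext fun i => by
          rw [ZMod.castHom_apply, ZMod.natCast_val], zmodPiHom_natCast, zmodPiHom_natCast, Finset.smul_sum]
      exact Finset.sum_congr rfl fun i _ => by rw [smul_comm]; exact congrArg _ (hx2 n i).symm
    have hlim : ∀ i, ∃ a : ℤ_[l], ∀ n, PadicInt.toZModPow n a = c n i := by
      intro i
      let f : ∀ n, Polynomial ℤ →+* ZMod (l ^ n) := fun n => Polynomial.eval₂RingHom (Int.castRingHom _) (c n i)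
      have hf : ∀ (k1 k2 : ℕ) (hk : k1 ≤ k2), (ZMod.castHom (pow_dvd_pow l hk) (ZMod (l ^ k1))).comp (f k2) = f k1 := by
        intro k1 k2 hk
        induction k2, hk using Nat.le_induction with
        | base =>
          refine RingHom.ext fun z => ?_
          simp
        | succ k hk' ih =>
          rw [← ih]
          have h2 : (ZMod.castHom (pow_dvd_pow l k.le_succ) (ZMod (l ^ k))).comp (f (k + 1)) = f k := by
            refine Polynomial.ringHom_ext' (RingHom.ext_int _ _) ?_
            simp only [f, RingHom.coe_comp, Function.comp_apply, Polynomial.coe_eval₂RingHom, Polynomial.eval₂_X]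
            exact hcompat k i
          rw [← h2, ← RingHom.comp_assoc]
          congr 1
          exact Subsingleton.elim _ _
      refine ⟨PadicInt.lift hf Polynomial.X, fun n => ?_⟩
      have := RingHom.congr_fun (PadicInt.lift_spec hf n) Polynomial.X
      simpa [f] using this
    choose a ha using hlim
    refine ⟨a, AbDual.TateMod.ext fun n => ?_⟩
    rw [hcomp a n]
    simp only [ha]
    exact congrArg Subtype.val (hcy n)

end Groth.Agent.AbCubeLib
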