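import Groth.Agent.AbCubeLib.DenseTorsion

/-!
# Homomorphisms are detected on torsion points
-/

set_option autoImplicit false
set_option backward.isDefEq.respectTransparency.types false

universe u

open CategoryTheory CategoryTheory.Limits MonoidalCategory CartesianMonoidalCategory AlgebraicGeometry MonObj
  TopologicalSpace

namespace Groth.Agent.AbCubeLib

variable {k : Type u} [Field k] [IsAlgClosed k] {A : Over (Spec (CommRingCat.of k))} [GrpObj A] [IsCommMonObj A]
  [IsProper A.hom] [GeometricallyIntegral A.hom]

/-- A morphism killing all `l`-power torsion points is trivial. -/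
theorem eq_one_of_forall_powTors {B : Over (Spec (CommRingCat.of k))} [GrpObj B] [IsSeparated B.hom] (φ : A ⟶ B)
    {l : ℕ} (hl : l.Prime) (hlk : (l : k) ≠ 0) (h : ∀ a ∈ powTors A l, a ≫ φ = 1) : φ = 1 := by
  have : IsIntegral A.left := GeometricallyIntegral.isIntegral_of_subsingleton A.hom
  let e : Spec (CommRingCat.of k) ⟶ B.left := (1 : 𝟙_ (Over (Spec (CommRingCat.of k))) ⟶ B).left
  have he : e ≫ B.hom = 𝟙 _ := Over.w (1 : 𝟙_ (Over (Spec (CommRingCat.of k))) ⟶ B)
  have : IsClosedImmersion e := by
    have : IsClosedImmersion (e ≫ B.hom) := by rw [he]; infer_instance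
    exact IsClosedImmersion.of_comp e B.hom
  have hsub : Set.range φ.left ⊆ Set.range e := by
    rw [← Set.image_univ, ← closure_eq_univ_of_powTors_le hl hlk (powTors A l) le_rfl]
    refine (image_closure_subset_closure_image φ.left.continuous).trans ?_
    refine e.isClosedEmbedding.isClosed_range.closure_subset_iff.2 ?_
    rintro _ ⟨_, ⟨a, ha, rfl⟩, rfl⟩
    exact ⟨IsLocalRing.closedPoint k, by rw [← ptOf_comp, h a ha]⟩
  obtain ⟨z, hz⟩ := RedSepLib.exists_lift_of_range_subset φ.left e hsub
  refine Over.OverMorphism.ext ?_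
  have hz' : z = A.hom := by rw [← Category.comp_id z, ← he, reassoc_of% hz]; exact Over.w φ
  rw [← hz, hz']
  exact (one_left_eq A).symm

/-- Every torsion point is a component of an element of the Tate module. -/
theorem exists_tate_component {l : ℕ} (hl : l.Prime) {n : ℕ} (a : 𝟙_ (Over (Spec (CommRingCat.of k))) ⟶ A)
    (ha : a ∈ AbDual.torsPts A (l ^ n) _) :
    ∃ x : AbDual.TateMod A l (𝟙_ (Over (Spec (CommRingCat.of k)))),
      (AbDual.TateMod.component A l _ n x).toMul = a := by
  choose d hd using fun b => exists_pow_eq (A := A) hl.pos b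
  let s : ℕ → (𝟙_ (Over (Spec (CommRingCat.of k))) ⟶ A) :=
    fun m => if m ≤ n then a ^ (l ^ (n - m)) else d^[m - n] a
  have hstep : ∀ m, s (m + 1) ^ l = s m := by
    intro m
    rcases lt_trichotomy m n with h | h | h
    · simp only [s]
      rw [if_pos (Nat.succ_le_iff.2 h), if_pos h.le, ← pow_mul, ← pow_succ, show n - (m + 1) + 1 = n - m by omega]
    · subst h
      simp only [s]
      rw [if_neg (by omega), if_pos le_rfl, Nat.sub_self, pow_zero, pow_one, show m + 1 - m = 1 by omega]
      exact hd a
    · simp only [s]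
      rw [if_neg (by omega), if_neg (by omega), show m + 1 - n = m - n + 1 by omega, Function.iterate_succ_apply']
      exact hd _
  have htor : ∀ m, s m ^ (l ^ m) = 1 := by
    intro m
    induction m with
    | zero =>
      simp only [s]
      rw [if_pos (Nat.zero_le n), pow_zero, pow_one, Nat.sub_zero]
      exact ha
    | succ m ih => rw [pow_succ', pow_mul, hstep, ih]
  refine ⟨⟨fun m => Additive.ofMul (s m), fun m => ?_, fun m => ?_⟩, ?_⟩
  · exact congrArg Additive.ofMul (htor m)
  · exact congrArg Additive.ofMul (hstep m)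
  · show s n = a
    simp [s]

end Groth.Agent.AbCubeLib
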