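import Groth.Agent.AbCubeLib.HomQuadratic
import Groth.Agent.AbCubeLib.TorsionDetects
import Groth.Agent.AbCubeLib.TateFree
import Groth.Agent.AbCubeLib.PointsBC
import Groth.Agent.AbVarLib.KernelQuot
import Groth.Agent.AbSchLib.SmoothReduced
import Groth.Agent.DimLib.BaseChange
import Groth.Agent.DimLib.Zero
import Groth.Prelude.Def_EndTate
import Groth.Prelude.Def_AlgGrp

/-!
# Homomorphisms of abelian varieties and their action on Tate modules
-/

set_option autoImplicit false
set_option backward.isDefEq.respectTransparency.types false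

universe u

open CategoryTheory CategoryTheory.Limits MonoidalCategory CartesianMonoidalCategory AlgebraicGeometry MonObj
  TopologicalSpace

namespace Groth.Agent.AbCubeLib

section Algebra

variable {M : Type*} [AddCommGroup M]

/-- The Gram determinant of independent vectors of a positive form is nonzero. -/
theorem gram_det_ne_zero (b : M →+ M →+ ℤ) (hb : ∀ x, x ≠ 0 → b x x ≠ 0) {n : ℕ} (e : Fin n → M)
    (he : LinearIndependent ℤ e) : (Matrix.of fun i j => b (e i) (e j)).det ≠ 0 := by
  intro h
  obtain ⟨c, hc0, hc⟩ := Matrix.exists_vecMul_eq_zero_iff.2 h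
  refine hc0 (funext (Fintype.linearIndependent_iff.1 he c ?_))
  by_contra hx
  refine hb _ hx ?_
  have hcol : ∀ j, b (∑ i, c i • e i) (e j) = 0 := fun j => by
    have := congrFun hc j
    simpa [Matrix.vecMul, dotProduct, map_sum, map_zsmul] using this
  conv_lhs => arg 2; change ∑ i, c i • e i
  rw [map_sum]
  exact Finset.sum_eq_zero fun j _ => by rw [map_zsmul, hcol j, smul_zero]

/-- Independence over the `l`-adic integers from a positive form and divisibility. -/
theorem linearIndependent_of_form (b : M →+ M →+ ℤ) (hb : ∀ x, x ≠ 0 → b x x ≠ 0) {l : ℕ} [Fact l.Prime]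
    {V : Type*} [AddCommGroup V] [Module ℤ_[l] V] (T : M →+ V)
    (hdiv : ∀ (m : ℕ) (x : M) (v : V), T x = ((l : ℤ_[l]) ^ m) • v → ∃ y, x = ((l : ℤ) ^ m) • y)
    {n : ℕ} (e : Fin n → M) (he : LinearIndependent ℤ e) :
    LinearIndependent ℤ_[l] fun i => T (e i) := by
  rw [Fintype.linearIndependent_iff]
  intro a ha
  let G : Matrix (Fin n) (Fin n) ℤ := Matrix.of fun i j => b (e i) (e j)
  have hdet : (G.map (Int.castRingHom ℤ_[l])).det ≠ 0 := by
    rw [← RingHom.mapMatrix_apply, ← RingHom.map_det]
    exact (map_ne_zero_iff _ (RingHom.injective_int (Int.castRingHom ℤ_[l]))).2 (gram_det_ne_zero b hb e he)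
  suffices hz : Matrix.vecMul a (G.map (Int.castRingHom ℤ_[l])) = 0 from
    fun i => congrFun (Matrix.eq_zero_of_vecMul_eq_zero hdet hz) i
  funext j
  refine PadicInt.ext_of_toZModPow.1 fun m => ?_
  rw [Pi.zero_apply, map_zero, ← RingHom.mem_ker, PadicInt.ker_toZModPow, Ideal.mem_span_singleton]
  choose w hw using fun i => Ideal.mem_span_singleton.1 (PadicInt.appr_spec m (a i))
  let c : Fin n → ℤ := fun i => ((a i).appr m : ℤ)
  have hc : ∀ i, (c i : ℤ_[l]) = a i - (l : ℤ_[l]) ^ m * w i := fun i => by
    rw [← hw i]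
    simp [c]
  have hT : T (∑ i, c i • e i) = ((l : ℤ_[l]) ^ m) • -∑ i, w i • T (e i) := by
    rw [map_sum, smul_neg, Finset.smul_sum, ← sub_zero (∑ x, T (c x • e x)), ← ha, ← Finset.sum_sub_distrib,
      ← Finset.sum_neg_distrib]
    refine Finset.sum_congr rfl fun i _ => ?_
    rw [map_zsmul, ← Int.cast_smul_eq_zsmul ℤ_[l], hc, sub_smul, mul_smul]
    abel
  obtain ⟨y, hy⟩ := hdiv m _ _ hT
  have hb' : (∑ i, c i * G i j : ℤ) = (l : ℤ) ^ m * b y (e j) := by
    have h := congrArg (fun x => b x (e j)) hy
    simpa [map_sum, map_zsmul, G] using h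
  refine ⟨(b y (e j) : ℤ_[l]) + ∑ i, w i * (G i j : ℤ_[l]), ?_⟩
  have h' : (∑ i, (c i : ℤ_[l]) * (G i j : ℤ_[l])) = (l : ℤ_[l]) ^ m * (b y (e j) : ℤ_[l]) := by
    exact_mod_cast congrArg (fun x : ℤ => (x : ℤ_[l])) hb'
  rw [mul_add, ← h', Finset.mul_sum, ← Finset.sum_add_distrib]
  simp only [Matrix.vecMul, dotProduct, Matrix.map_apply, Int.coe_castRingHom]
  refine Finset.sum_congr rfl fun i _ => ?_
  rw [hc]
  ring

/-- With a positive form and bounded rank, the group is free of bounded rank. -/
theorem free_finite_of_form (b : M →+ M →+ ℤ) (hsymm : ∀ x y, b x y = b y x) (hb : ∀ x, x ≠ 0 → b x x ≠ 0) (N : ℕ)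
    (hN : ∀ (n : ℕ) (e : Fin n → M), LinearIndependent ℤ e → n ≤ N) :
    Module.Free ℤ M ∧ Module.Finite ℤ M ∧ Module.finrank ℤ M ≤ N := by
  classical
  let P : ℕ → Prop := fun n => ∃ e : Fin n → M, LinearIndependent ℤ e
  have h0 : P 0 := ⟨Fin.elim0, linearIndependent_empty_type⟩
  obtain ⟨n, hn⟩ : ∃ n, n = Nat.findGreatest P N := ⟨_, rfl⟩
  obtain ⟨e, he⟩ : P n := hn ▸ Nat.findGreatest_spec (P := P) (Nat.zero_le N) h0
  let Φ : M →ₗ[ℤ] (Fin n → ℤ) := (AddMonoidHom.mk' (fun x j => b x (e j)) fun x y => by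
    funext j; simp).toIntLinearMap
  have hinj : Function.Injective Φ := by
    rw [injective_iff_map_eq_zero]
    intro x hx
    by_contra hx0
    have hx' : ∀ j, b x (e j) = 0 := fun j => congrFun hx j
    have he' : LinearIndependent ℤ (Fin.cons x e : Fin (n + 1) → M) := by
      refine Fintype.linearIndependent_iff.2 fun c hc => ?_
      rw [Fin.sum_univ_succ] at hc
      simp only [Fin.cons_zero, Fin.cons_succ] at hc
      set y := ∑ i : Fin n, c i.succ • e i with hy
      have hxy : b x y = 0 := by
        rw [hy, map_sum]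
        exact Finset.sum_eq_zero fun i _ => by rw [map_zsmul, hx', smul_zero]
      have hy0 : y = 0 := by
        by_contra hy0
        refine hb y hy0 ?_
        have hyeq : y = (-c 0) • x := by rw [neg_smul]; exact (neg_eq_of_add_eq_zero_right hc).symm
        calc b y y = b ((-c 0) • x) y := by rw [← hyeq]
          _ = (-c 0) * b x y := by rw [map_zsmul, AddMonoidHom.zsmul_apply, smul_eq_mul]
          _ = 0 := by rw [hxy, mul_zero]
      have hcs : ∀ i : Fin n, c i.succ = 0 := Fintype.linearIndependent_iff.1 he _ hy0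
      intro i
      induction i using Fin.cases with
      | succ i => exact hcs i
      | zero =>
        rw [hy0, add_zero] at hc
        by_contra hc0
        have := congrArg (fun z => b z x) hc
        simp only [map_zsmul, AddMonoidHom.zsmul_apply, map_zero, AddMonoidHom.zero_apply, smul_eq_mul,
          mul_eq_zero] at this
        exact this.elim hc0 (hb x hx0)
    have hle : n + 1 ≤ N := hN _ _ he'
    exact absurd (⟨_, he'⟩ : P (n + 1)) (Nat.findGreatest_is_greatest (P := P) (by rw [← hn]; exact Nat.lt_succ_self n) hle)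
  have hfin : Module.Finite ℤ M := Module.Finite.of_injective Φ hinj
  refine ⟨?_, hfin, ?_⟩
  · exact Module.Free.of_equiv (LinearEquiv.ofInjective Φ hinj).symm
  · refine (LinearMap.finrank_le_finrank_of_injective hinj).trans ?_
    rw [Module.finrank_pi, Fintype.card_fin]
    exact hn ▸ Nat.findGreatest_le N

end Algebra

section Tate

variable {S : Scheme.{u}} {A : Over S} [GrpObj A] [IsCommMonObj A] {T : Over S}

/-- Torsion points extend to elements of the Tate module when the points are divisible. -/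
theorem exists_tate_component_of_divisible {l : ℕ} (hdiv : ∀ a : T ⟶ A, ∃ b : T ⟶ A, b ^ l = a) {n : ℕ}
    (a : T ⟶ A) (ha : a ∈ AbDual.torsPts A (l ^ n) T) :
    ∃ x : AbDual.TateMod A l T, (AbDual.TateMod.component A l T n x).toMul = a := by
  choose d hd using hdiv
  let s : ℕ → (T ⟶ A) := fun m => if m ≤ n then a ^ (l ^ (n - m)) else d^[m - n] a
  have hstep : ∀ m, s (m + 1) ^ l = s m := by
    intro m
    rcases lt_trichotomy m n with h | h | h
    · simp only [s]
      rw [if_pos (Nat.succ_le_iff.2 h), if_pos h.le, ← pow_mul, ← pow_succ, show n - (m + 1) + 1 = n - m by omega]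
    · subst h
      simp only [s]
      rw [if_neg (by omega), if_pos le_rfl, Nat.sub_self, pow_zero, pow_one, show m + 1 - m = 1 by omega]
      exact hd a
    · simp only [s]
      rw [if_neg (by omega), if_neg (by omega), show m + 1 - n = m - n + 1 by omega, Function.iterate_succ_apply']
      exact hd _
  have htor : ∀ m, s m ^ (l ^ m) = 1 := by
    intro m
    induction m with
    | zero =>
      simp only [s]
      rw [if_pos (Nat.zero_le n), pow_zero, pow_one, Nat.sub_zero]
      exact ha
    | succ m ih => rw [pow_succ', pow_mul, hstep, ih]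
  refine ⟨⟨fun m => Additive.ofMul (s m), fun m => ?_, fun m => ?_⟩, ?_⟩
  · exact congrArg Additive.ofMul (htor m)
  · exact congrArg Additive.ofMul (hstep m)
  · show s n = a
    simp [s]

end Tate

variable {k : Type u} [Field k] {K : Type u} [Field K] [IsAlgClosed K]
  (g : Spec (CommRingCat.of K) ⟶ Spec (CommRingCat.of k)) {A B : Over (Spec (CommRingCat.of k))}

/-- Points with values in an algebraically closed extension are divisible. -/
theorem exists_pow_eq_of_algClosed [GrpObj A] [IsProper A.hom] [GeometricallyIntegral A.hom] {n : ℕ} (hn : 0 < n)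
    (a : Over.mk g ⟶ A) : ∃ b : Over.mk g ⟶ A, b ^ n = a := by
  letI : GrpObj ((Over.pullback g).obj A) := Functor.grpObjObj
  haveI : IsProper ((Over.pullback g).obj A).hom := inferInstanceAs (IsProper (pullback.snd A.hom g))
  haveI : GeometricallyIntegral ((Over.pullback g).obj A).hom :=
    inferInstanceAs (GeometricallyIntegral (pullback.snd A.hom g))
  obtain ⟨b', hb'⟩ := exists_pow_eq hn (bcPts g A a)
  obtain ⟨b, rfl⟩ := (bcPts_bijective g A).2 b'
  exact ⟨b, (bcPts_bijective g A).1 ((map_pow (bcPts g A) b n).trans hb')⟩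

variable [GrpObj A] [IsCommMonObj A] [IsProper A.hom] [GeometricallyIntegral A.hom] [GrpObj B] [IsSeparated B.hom]

/-- A homomorphism killing the geometric `n`-torsion factors through multiplication by `n`. -/
theorem exists_eq_pow_comp {n : ℕ} (hn : (n : k) ≠ 0) (φ : A ⟶ B) [IsMonHom φ]
    (h : ∀ a : Over.mk g ⟶ A, a ^ n = 1 → a ≫ φ = 1) :
    ∃ ψ : A ⟶ B, IsMonHom ψ ∧ φ = (𝟙 A ^ n) ≫ ψ := by
  have hn0 : 0 < n := Nat.pos_of_ne_zero fun h => hn (by rw [h, Nat.cast_zero])
  let f : A ⟶ A := 𝟙 A ^ n
  have : IsMonHom f := by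
    show IsMonHom (𝟙 A ^ n)
    rw [← zpow_natCast]
    exact isMonHom_zpow _
  have : IsFinite f.left := isFinite_pow (A := A) hn0
  have : Flat f.left := flat_pow (A := A) hn0
  have : Surjective f.left := surjective_pow (A := A) hn0
  have := AbVarLib.smooth_of_geometricallyReduced A
  have : Etale f.left := by
    show Etale (𝟙 A ^ n).left
    rw [← zpow_natCast]
    refine AbVarLib.etale_zpow A (n : ℤ) ?_
    have := (isUnit_iff_ne_zero.2 hn).map (Scheme.ΓSpecIso (CommRingCat.of k)).inv.hom
    rwa [map_natCast, ← Int.cast_natCast] at this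
  let N : Over (Spec (CommRingCat.of k)) := Over.mk (pullback.snd f.left (η[A]).left)
  let i : N ⟶ A := Over.homMk (pullback.fst f.left (η[A]).left) (by
    rw [← Over.w f, pullback.condition_assoc, Over.w (η[A])]
    exact Category.comp_id _)
  have hN : AlgGrp.IsKernel i f := by
    refine IsPullback.of_map (Over.forget _) (Over.OverMorphism.ext ?_) ?_
    · show pullback.fst f.left (η[A]).left ≫ f.left = (toUnit N).left ≫ (η[A]).left
      rw [pullback.condition, toUnit_left']
      rfl
    · show IsPullback (pullback.fst f.left (η[A]).left) (toUnit N).left f.left (η[A]).left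
      rw [toUnit_left']
      exact IsPullback.of_hasPullback _ _
  have : Etale (pullback.snd f.left (η[A]).left) := MorphismProperty.pullback_snd _ _ inferInstance
  have : IsReduced N.left :=
    haveI : IsReduced (𝟙_ (Over (Spec (CommRingCat.of k)))).left :=
      inferInstanceAs (IsReduced (Spec (CommRingCat.of k)))
    AbSchLib.isReduced_of_smooth (pullback.snd f.left (η[A]).left)
  have : IsFinite N.hom := MorphismProperty.pullback_snd (P := @IsFinite) f.left (η[A]).left inferInstance
  have hi : i ≫ φ = 1 := by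
    refine eq_one_of_range_subset (i ≫ φ) ?_
    rintro _ ⟨z, rfl⟩
    obtain ⟨z', hz', -⟩ := Scheme.Pullback.exists_preimage_pullback (f := N.hom) (g := g) z
      (IsLocalRing.closedPoint K) (Subsingleton.elim _ _)
    have : IsFinite (pullback.snd N.hom g) := MorphismProperty.pullback_snd (P := @IsFinite) _ _ inferInstance
    have : Subsingleton (Spec (CommRingCat.of K)) := inferInstanceAs (Subsingleton (PrimeSpectrum K))
    have : Finite ↥(pullback N.hom g) := Set.finite_univ_iff.1
      (((pullback.snd N.hom g).finite_preimage_singleton default).subset fun q _ => Subsingleton.elim _ _)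
    have := DimLib.discreteTopology_of_finite (k := K) (pullback.snd N.hom g)
    have hc : IsClosed ({z'} : Set ↥(pullback N.hom g)) := isClosed_discrete _
    let p : Over.mk g ⟶ N := Over.homMk (pointOfClosedPoint (pullback.snd N.hom g) z' hc ≫ pullback.fst N.hom g) (by
      rw [Category.assoc, pullback.condition, pointOfClosedPoint_comp_assoc]
      rfl)
    have hp : p.left (IsLocalRing.closedPoint K) = z := by
      show (pointOfClosedPoint (pullback.snd N.hom g) z' hc ≫ pullback.fst N.hom g) _ = z
      rw [Scheme.Hom.comp_apply, pointOfClosedPoint_apply]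
      exact hz'
    have hpn : (p ≫ i) ^ n = 1 := by
      have h1 : i ≫ f = 1 := hN.w
      rw [← Category.comp_id (p ≫ i), ← MonObj.comp_pow, Category.assoc]
      exact (congrArg (p ≫ ·) h1).trans (MonObj.comp_one p)
    refine ⟨IsLocalRing.closedPoint k, ?_⟩
    have h2 := congrArg (fun a : Over.mk g ⟶ B => a.left (IsLocalRing.closedPoint K)) ((Category.assoc _ _ _).symm.trans (h _ hpn))
    simp only [one_left_eq (B := B) (Over.mk g)] at h2
    rw [Over.comp_left, Scheme.Hom.comp_apply, hp] at h2
    refine Eq.trans ?_ h2.symm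
    rw [Scheme.Hom.comp_apply]
    exact congrArg _ (Subsingleton.elim _ _)
  obtain ⟨ψ, ⟨hψ, hψf⟩, -⟩ := AbVarLib.existsUnique_lift_of_kernel f i hN φ hi
  exact ⟨ψ, hψ, hψf.symm⟩

variable [IsCommMonObj B]

/-- A homomorphism divisible on the Tate module is divisible. -/
theorem exists_eq_pow_comp_of_tateMap {l : ℕ} [Fact l.Prime] (hl : (l : k) ≠ 0) (φ : A ⟶ B) [IsMonHom φ] (m : ℕ)
    (v : AbDual.TateMod A l (Over.mk g) →ₗ[ℤ_[l]] AbDual.TateMod B l (Over.mk g))
    (hv : AbDual.tateMapₗ (l := l) (T := Over.mk g) φ = ((l : ℤ_[l]) ^ m) • v) :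
    ∃ ψ : A ⟶ B, IsMonHom ψ ∧ φ = (𝟙 A ^ (l ^ m)) ≫ ψ := by
  refine exists_eq_pow_comp g (by rw [Nat.cast_pow]; exact pow_ne_zero _ hl) φ fun a ha => ?_
  obtain ⟨x, hx⟩ := exists_tate_component_of_divisible
    (fun b => exists_pow_eq_of_algClosed g (Fact.out : l.Prime).pos b) a (n := m) ha
  have h1 := AbDual.tateMap_component φ x m
  have h2 : AbDual.tateMap φ x = (l ^ m) • v x :=
    (LinearMap.congr_fun hv x).trans (by rw [LinearMap.smul_apply, ← Nat.cast_smul_eq_nsmul ℤ_[l], Nat.cast_pow])
  rw [h2, map_nsmul, hx] at h1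
  refine h1.symm.trans ?_
  exact congrArg Additive.toMul ((v x).2.1 m)

variable [IsProper B.hom] [GeometricallyIntegral B.hom]

/-- Independent homomorphisms stay independent on the Tate modules. -/
theorem linearIndependent_tateMap {l : ℕ} [Fact l.Prime] (hl : (l : k) ≠ 0) {n : ℕ} (e : Fin n → EndAV.Hom A B)
    (he : LinearIndependent ℤ e) :
    LinearIndependent ℤ_[l] fun i => EndAV.Hom.tateMap (A := A) (B := B) l (Over.mk g) (e i) := by
  obtain ⟨b, -, hb⟩ := exists_hom_form (A := A) (B := B)
  refine linearIndependent_of_form b (fun x hx => (hb x hx).ne') _ (fun m x v hv => ?_) e he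
  obtain ⟨ψ, hψ, h⟩ := exists_eq_pow_comp_of_tateMap g hl x.toHom m v hv
  refine ⟨EndAV.Hom.of ψ, EndAV.Hom.ext ?_⟩
  rw [EndAV.Hom.toHom_zsmul, EndAV.Hom.toHom_of, h, MonObj.pow_comp, Category.id_comp, ← Nat.cast_pow, zpow_natCast]

end Groth.Agent.AbCubeLib
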