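import Groth.Agent.AbCubeLib.FiniteQuotient
import Groth.Agent.AbCubeLib.HomDescend
import Groth.Agent.AbCubeLib.HomTate
import Groth.Agent.UnipStruct.Group
import Groth.Prelude.Def_SGA7a

/-!
# Galois stable finite subgroups of points and subgroup schemes
-/

set_option autoImplicit false
set_option backward.isDefEq.respectTransparency.types false
set_option maxHeartbeats 1600000

universe u

open CategoryTheory CategoryTheory.Limits MonoidalCategory CartesianMonoidalCategory AlgebraicGeometry MonObj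
  TopologicalSpace

namespace Groth.Agent.AbCubeLib

variable {k : Type u} [Field k] {Ω : Type u} [Field Ω] [Algebra k Ω] [IsAlgClosed Ω]

/-- Through every closed point passes a point with values in an algebraically closed extension. -/
theorem exists_pts_through {X : Over (Spec (CommRingCat.of k))} [LocallyOfFiniteType X.hom] {c : X.left}
    (hc : IsClosed ({c} : Set X.left)) :
    ∃ x : SGA7.pt (K := k) Ω ⟶ X, x.left (IsLocalRing.closedPoint Ω) = c := by
  let g := Spec.map (CommRingCat.ofHom (algebraMap k Ω))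
  haveI : Surjective g := ⟨fun x => ⟨IsLocalRing.closedPoint Ω, Subsingleton.elim (α := PrimeSpectrum k) _ _⟩⟩
  haveI : Surjective (pullback.fst X.hom g) := MorphismProperty.pullback_fst (P := @Surjective) _ _ inferInstance
  obtain ⟨v, hv⟩ := (pullback.fst X.hom g).surjective c
  haveI : JacobsonSpace ↥(pullback X.hom g) := LocallyOfFiniteType.jacobsonSpace (pullback.snd X.hom g)
  obtain ⟨w, hw1, hw2⟩ := nonempty_inter_closedPoints (X := ↥(pullback X.hom g))
    (Z := (pullback.fst X.hom g) ⁻¹' {c}) ⟨v, hv⟩ (hc.preimage (pullback.fst X.hom g).continuous).isLocallyClosed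
  refine ⟨Over.homMk (pointOfClosedPoint (pullback.snd X.hom g) w hw2 ≫ pullback.fst X.hom g) (by
    rw [Category.assoc, pullback.condition, pointOfClosedPoint_comp_assoc]; rfl), ?_⟩
  show (pointOfClosedPoint (pullback.snd X.hom g) w hw2 ≫ pullback.fst X.hom g) _ = c
  rw [Scheme.Hom.comp_apply, pointOfClosedPoint_apply]
  exact hw1

/-- Two geometric points over the same point are conjugate. -/
theorem exists_galAct_eq [Algebra.IsAlgebraic k Ω] {X : Over (Spec (CommRingCat.of k))}
    (x y : SGA7.pt (K := k) Ω ⟶ X) (h : x.left (IsLocalRing.closedPoint Ω) = y.left (IsLocalRing.closedPoint Ω)) :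
    ∃ σ : Ω ≃ₐ[k] Ω, x = SGA7.galAct σ y := by
  obtain ⟨p, hp1, hp2⟩ := Scheme.Pullback.exists_preimage_pullback (f := x.left) (g := y.left) _ _ h
  let T : Over (Spec (CommRingCat.of k)) := Over.mk (pullback.fst x.left y.left ≫ (SGA7.pt (K := k) Ω).hom)
  let u : T ⟶ extPt (K := k) Ω := Over.homMk (pullback.fst x.left y.left) rfl
  let v : T ⟶ extPt (K := k) Ω := Over.homMk (pullback.snd x.left y.left) (by
    show pullback.snd x.left y.left ≫ (SGA7.pt (K := k) Ω).hom = pullback.fst x.left y.left ≫ (SGA7.pt (K := k) Ω).hom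
    rw [← Over.w x, pullback.condition_assoc, Over.w y, Over.w x])
  let t : Spec (CommRingCat.of ((pullback x.left y.left).residueField p)) ⟶ T.left :=
    (pullback x.left y.left).fromSpecResidueField p
  obtain ⟨σ, hσ⟩ := exists_extPtMap Ω ((pullback x.left y.left).residueField p) t u v
  let e := AlgEquiv.ofBijective σ (Algebra.IsAlgebraic.algHom_bijective σ)
  refine ⟨e, Over.OverMorphism.ext ?_⟩
  let s : Spec (CommRingCat.of ((pullback x.left y.left).residueField p)) ⟶ Spec (CommRingCat.of Ω) := t ≫ u.left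
  haveI : Surjective s := ⟨fun z => ⟨IsLocalRing.closedPoint _, Subsingleton.elim (α := PrimeSpectrum Ω) _ _⟩⟩
  haveI : Flat s := CubeLib.flat_of_field _
  haveI : Epi s := inferInstance
  refine (cancel_epi s).1 ?_
  show (t ≫ u.left) ≫ x.left = (t ≫ u.left) ≫ ((SGA7.specAut e).left ≫ y.left)
  have hy : t ≫ v.left ≫ y.left = t ≫ u.left ≫ x.left := by
    show t ≫ pullback.snd x.left y.left ≫ y.left = t ≫ pullback.fst x.left y.left ≫ x.left
    rw [pullback.condition]
  rw [Category.assoc, Category.assoc, ← hy, ← Category.assoc, hσ]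
  simp only [Category.assoc]
  rfl

/-- A finite Galois stable subgroup of geometric torsion points is the group of points of a finite subgroup scheme,
through which every torsion morphism with image in it factors. -/
theorem exists_subgroupScheme_fac [Algebra.IsAlgebraic k Ω] (X : Over (Spec (CommRingCat.of k))) [GrpObj X]
    [IsProper X.hom] [GeometricallyIntegral X.hom] {n : ℕ} (hn0 : 0 < n)
    (P : Subgroup (SGA7.pt (K := k) Ω ⟶ X)) (hP : ∀ x ∈ P, x ^ n = 1)
    (hstab : ∀ (σ : Ω ≃ₐ[k] Ω), ∀ x ∈ P, SGA7.galAct σ x ∈ P) :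
    ∃ (H : Over (Spec (CommRingCat.of k))) (_ : GrpObj H) (i : H ⟶ X), IsFinite H.hom ∧ IsMonHom i ∧
      IsClosedImmersion i.left ∧ i ^ n = 1 ∧
      (∀ x : SGA7.pt (K := k) Ω ⟶ X, (∃ h, h ≫ i = x) ↔ x ∈ P) ∧
      ∀ (T : Over (Spec (CommRingCat.of k))) (x : T ⟶ X), x ^ n = 1 →
        (∀ t : T.left, ∃ p ∈ P, p.left (IsLocalRing.closedPoint Ω) = x.left t) → ∃ h : T ⟶ H, h ≫ i = x := by
  classical
  haveI : IsCommMonObj X := isCommMonObj_of_isProper_of_geometricallyIntegral X
  let f : X ⟶ X := 𝟙 X ^ n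
  haveI : IsMonHom f := by
    show IsMonHom (𝟙 X ^ n)
    rw [← zpow_natCast]; exact isMonHom_zpow _
  haveI : IsFinite f.left := isFinite_pow (A := X) hn0
  haveI : IsClosedImmersion η[X].left :=
    haveI : IsClosedImmersion (η[X].left ≫ X.hom) := by
      rw [Over.w]; exact (inferInstance : IsClosedImmersion (𝟙 (Spec (CommRingCat.of k))))
    IsClosedImmersion.of_comp η[X].left X.hom
  let N := UnipStruct.kerObj f
  let κ : N ⟶ X := UnipStruct.kerι f
  have hk : AlgGrp.IsKernel κ f := UnipStruct.isKernel_kerι f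
  haveI : IsClosedImmersion κ.left := MorphismProperty.of_isPullback (P := @IsClosedImmersion)
    (hk.map (Over.forget _)).flip ‹IsClosedImmersion η[X].left›
  haveI : IsFinite N.hom := by
    have := MorphismProperty.of_isPullback (P := @IsFinite) (hk.map (Over.forget _)) ‹IsFinite f.left›
    rw [← Over.w (toUnit N)]
    exact MorphismProperty.comp_mem @IsFinite _ _ this (inferInstanceAs (IsFinite (𝟙 (Spec (CommRingCat.of k)))))
  haveI : Subsingleton (Spec (CommRingCat.of k)) := inferInstanceAs (Subsingleton (PrimeSpectrum k))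
  haveI : Finite ↥N.left := Set.finite_univ_iff.1
    ((N.hom.finite_preimage_singleton (IsLocalRing.closedPoint k)).subset fun q _ => Subsingleton.elim _ _)
  haveI : DiscreteTopology ↥N.left := DimLib.discreteTopology_of_finite (k := k) N.hom
  let Z : Set X.left := (fun x : SGA7.pt (K := k) Ω ⟶ X => x.left (IsLocalRing.closedPoint Ω)) '' (P : Set _)
  let U : N.left.Opens := ⟨κ.left ⁻¹' Z, isOpen_discrete _⟩
  let H : Over (Spec (CommRingCat.of k)) := Over.mk (U.ι ≫ N.hom)
  let j : H ⟶ N := Over.homMk U.ι rfl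
  haveI : IsClosedImmersion j.left :=
    IsClosedImmersion.of_isPreimmersion U.ι (isClosed_discrete _)
  haveI : IsClosedImmersion U.ι := ‹IsClosedImmersion j.left›
  haveI : IsFinite H.hom := MorphismProperty.comp_mem @IsFinite U.ι N.hom inferInstance inferInstance
  haveI : Finite ↥H.left := Finite.of_injective _ j.left.isClosedEmbedding.injective
  let i : H ⟶ X := j ≫ κ
  haveI : IsClosedImmersion i.left := by rw [Over.comp_left]; infer_instance
  haveI : Mono i := Over.mono_of_mono_left i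
  have hin : i ^ n = 1 := by
    rw [← Category.comp_id i, ← MonObj.comp_pow, Category.assoc]
    show j ≫ κ ≫ f = 1
    rw [AlgGrpLib.kernel_comp hk, MonObj.comp_one]
  -- factorisation criterion
  have hfac : ∀ {T : Over (Spec (CommRingCat.of k))} (x : T ⟶ X), x ^ n = 1 → Set.range x.left ⊆ Z →
      ∃ h : T ⟶ H, h ≫ i = x := by
    intro T x hx hr
    obtain ⟨m, hm⟩ := AlgGrpLib.exists_lift_kernel hk (g := x) (by
      show x ≫ (𝟙 X ^ n) = 1
      rw [MonObj.comp_pow, Category.comp_id, hx])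
    have hmU : Set.range m.left ⊆ Set.range U.ι := by
      rw [Scheme.Opens.range_ι]
      rintro _ ⟨t, rfl⟩
      show κ.left (m.left t) ∈ Z
      rw [← Scheme.Hom.comp_apply, ← Over.comp_left, hm]
      exact hr ⟨t, rfl⟩
    refine ⟨Over.homMk (IsOpenImmersion.lift U.ι m.left hmU) (by
      rw [← Over.w j, ← Category.assoc]
      show (IsOpenImmersion.lift U.ι m.left hmU ≫ U.ι) ≫ N.hom = _
      rw [IsOpenImmersion.lift_fac, Over.w]), ?_⟩
    rw [← Category.assoc, ← hm]
    congr 1
    exact Over.OverMorphism.ext (IsOpenImmersion.lift_fac _ _ _)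
  have hcl : Set.range i.left ⊆ Z := by
    rintro _ ⟨z, rfl⟩
    have hz : j.left z ∈ U := by
      have : j.left z ∈ Set.range U.ι := ⟨z, rfl⟩
      rwa [Scheme.Opens.range_ι] at this
    exact hz
  have hmem : ∀ x : SGA7.pt (K := k) Ω ⟶ X, (∃ h, h ≫ i = x) ↔ x ∈ P := by
    intro x
    constructor
    · rintro ⟨h, rfl⟩
      obtain ⟨y, hy, hxy⟩ : (h ≫ i).left (IsLocalRing.closedPoint Ω) ∈ Z := hcl ⟨h.left _, rfl⟩
      obtain ⟨σ, hσ⟩ := exists_galAct_eq (h ≫ i) y hxy.symm
      rw [hσ]; exact hstab σ y hy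
    · intro hx
      refine hfac x (hP x hx) ?_
      rintro _ ⟨t, rfl⟩
      rw [Subsingleton.elim (α := PrimeSpectrum Ω) t (IsLocalRing.closedPoint Ω)]
      exact ⟨x, hx, rfl⟩
  -- the group structure
  have hrange : ∀ {T : Over (Spec (CommRingCat.of k))} (x : T ⟶ X), IsFinite T.hom →
      (∀ p : SGA7.pt (K := k) Ω ⟶ T, p ≫ x ∈ P) → Set.range x.left ⊆ Z := by
    intro T x _ hp
    rintro _ ⟨t, rfl⟩
    haveI : Finite ↥T.left := Set.finite_univ_iff.1
      ((T.hom.finite_preimage_singleton (IsLocalRing.closedPoint k)).subset fun q _ => Subsingleton.elim _ _)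
    haveI : DiscreteTopology ↥T.left := DimLib.discreteTopology_of_finite (k := k) T.hom
    obtain ⟨p, rfl⟩ := exists_pts_through (Ω := Ω) (c := t) (isClosed_discrete _)
    exact ⟨p ≫ x, hp p, rfl⟩
  have hone : ∃ o : 𝟙_ (Over (Spec (CommRingCat.of k))) ⟶ H, o ≫ i = 1 :=
    hfac 1 (one_pow n) (hrange 1 (inferInstanceAs (IsFinite (𝟙 (Spec (CommRingCat.of k))))) fun p => by
      rw [MonObj.comp_one]; exact one_mem _)
  haveI hHH : IsFinite (H ⊗ H).hom := inferInstanceAs (IsFinite (pullback.fst H.hom H.hom ≫ H.hom))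
  obtain ⟨m, hm⟩ := hfac (T := H ⊗ H) ((fst H H ≫ i) * (snd H H ≫ i))
    (by
      have e1 : (fst H H ≫ i) ^ n = 1 := by rw [← MonObj.comp_pow, hin, MonObj.comp_one]
      have e2 : (snd H H ≫ i) ^ n = 1 := by rw [← MonObj.comp_pow, hin, MonObj.comp_one]
      rw [mul_pow, e1, e2, _root_.one_mul])
    (hrange _ hHH fun p => by
      rw [MonObj.comp_mul]
      exact mul_mem ((hmem _).1 ⟨p ≫ fst H H, Category.assoc _ _ _⟩) ((hmem _).1 ⟨p ≫ snd H H, Category.assoc _ _ _⟩))
  obtain ⟨iv, hiv⟩ := hfac (i⁻¹) (by rw [inv_pow, hin, inv_one]) (hrange _ inferInstance fun p => by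
      rw [GrpObj.comp_inv]
      exact inv_mem ((hmem _).1 ⟨_, rfl⟩))
  obtain ⟨str, hstr⟩ := ShfCat16.exists_grpObj_of_mono i hone
    (fun W a b => ⟨lift a b ≫ m, by rw [Category.assoc, hm, MonObj.comp_mul, lift_fst_assoc, lift_snd_assoc]⟩)
    (fun W a => ⟨a ≫ iv, by rw [Category.assoc, hiv, GrpObj.comp_inv]⟩)
  refine ⟨H, str, i, inferInstance, hstr, inferInstance, hin, hmem, fun T x hx hr => hfac x hx ?_⟩
  rintro _ ⟨t, rfl⟩
  obtain ⟨p, hp, hpt⟩ := hr t
  exact ⟨p, hp, hpt⟩

/-- A finite Galois stable subgroup of geometric torsion points of invertible order is the group of points of a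
finite subgroup scheme. -/
theorem exists_subgroupScheme [Algebra.IsAlgebraic k Ω] (X : Over (Spec (CommRingCat.of k))) [GrpObj X]
    [IsProper X.hom] [GeometricallyIntegral X.hom] {n : ℕ} (hn : (n : k) ≠ 0)
    (P : Subgroup (SGA7.pt (K := k) Ω ⟶ X)) (hP : ∀ x ∈ P, x ^ n = 1)
    (hstab : ∀ (σ : Ω ≃ₐ[k] Ω), ∀ x ∈ P, SGA7.galAct σ x ∈ P) :
    ∃ (H : Over (Spec (CommRingCat.of k))) (_ : GrpObj H) (i : H ⟶ X), IsFinite H.hom ∧ IsMonHom i ∧
      IsClosedImmersion i.left ∧ i ^ n = 1 ∧
      ∀ x : SGA7.pt (K := k) Ω ⟶ X, (∃ h, h ≫ i = x) ↔ x ∈ P := by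
  obtain ⟨H, str, i, h1, h2, h3, h4, h5, -⟩ := exists_subgroupScheme_fac X
    (Nat.pos_of_ne_zero fun h => hn (by rw [h, Nat.cast_zero])) P hP hstab
  exact ⟨H, str, i, h1, h2, h3, h4, h5⟩

end Groth.Agent.AbCubeLib
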