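import Mathlib.FieldTheory.Galois.Basic
import Mathlib.FieldTheory.Normal.Closure
import Mathlib.FieldTheory.IsAlgClosed.AlgebraicClosure
import Mathlib.FieldTheory.IsAlgClosed.Basic
import Mathlib.FieldTheory.PurelyInseparable.PerfectClosure
import Mathlib.FieldTheory.Separable
import Mathlib.FieldTheory.SeparableClosure

/-!
# Automorphisms over a primary extension induce every automorphism of the algebraic closure
-/

universe u

open Polynomial

namespace Groth.Agent.AbCubeLib

variable {k K : Type u} [Field k] [Field K] [Algebra k K]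

/-- A separable element fixed by every endomorphism of the algebraic closure is rational. -/
theorem mem_range_of_forall_algHom {L : Type u} [Field L] [Algebra K L] [IsAlgClosed L] [Algebra.IsAlgebraic K L]
    {y : L} (hs : IsSeparable K y) (h : ∀ τ : L →ₐ[K] L, τ y = y) : y ∈ (algebraMap K L).range := by
  have hy : IsIntegral K y := Algebra.IsIntegral.isIntegral y
  refine minpoly.mem_range_of_degree_eq_one K y ?_
  have h1 : ((minpoly K y).rootSet L) = {y} := by
    rw [← Algebra.IsAlgebraic.range_eval_eq_rootSet_minpoly L y]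
    refine Set.ext fun z => ⟨fun ⟨τ, hτ⟩ => hτ ▸ h τ, fun hz => ⟨AlgHom.id K L, ?_⟩⟩
    rw [Set.mem_singleton_iff.1 hz]
    rfl
  have h2 := card_rootSet_eq_natDegree hs (IsAlgClosed.splits ((minpoly K y).map (algebraMap K L)))
  rw [degree_eq_natDegree (minpoly.ne_zero hy), ← h2]
  simp [h1]

/-- An automorphism over a primary ground field agrees on a finite subextension with one over the big field. -/
theorem exists_algHom_agree (hprim : ∀ x : K, IsSeparable k x → x ∈ (algebraMap k K).range)
    {L₀ L : Type u} [Field L₀] [Algebra k L₀] [Algebra.IsAlgebraic k L₀] [IsAlgClosed L₀]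
    [Field L] [Algebra K L] [Algebra k L] [IsScalarTower k K L] [IsAlgClosed L] [Algebra.IsAlgebraic K L]
    (ι : L₀ →ₐ[k] L) (F : IntermediateField k L₀) [FiniteDimensional k F] (σ : L₀ →ₐ[k] L₀) :
    ∃ τ : L →ₐ[K] L, ∀ x ∈ F, τ (ι x) = ι (σ x) := by
  haveI : IsAlgClosure k L₀ := ⟨inferInstance, inferInstance⟩
  haveI : Normal k L₀ := IsAlgClosure.normal k L₀
  let N : IntermediateField k L₀ := IntermediateField.normalClosure k F L₀
  letI : Algebra N L := (ι.comp N.val).toRingHom.toAlgebra
  haveI : IsScalarTower k N L := IsScalarTower.of_algebraMap_eq fun x => ((ι.comp N.val).commutes x).symm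
  let res : (L ≃ₐ[K] L) →* (N ≃ₐ[k] N) :=
    { toFun := fun τ => (τ.restrictScalars k).restrictNormal N
      map_one' := AlgEquiv.ext fun x => (algebraMap N L).injective (by
        rw [AlgEquiv.restrictNormal_commutes]; rfl)
      map_mul' := fun a b => AlgEquiv.ext fun x => (algebraMap N L).injective (by
        rw [AlgEquiv.mul_apply, AlgEquiv.restrictNormal_commutes, AlgEquiv.restrictNormal_commutes,
          AlgEquiv.restrictNormal_commutes]
        rfl) }
  let H : Subgroup (N ≃ₐ[k] N) := res.range
  let σe : L₀ ≃ₐ[k] L₀ := AlgEquiv.ofBijective σ (Algebra.IsAlgebraic.algHom_bijective σ)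
  let g : N ≃ₐ[k] N := σe.restrictNormal N
  have hg : g ∈ H := by
    rw [← IntermediateField.fixingSubgroup_fixedField H]
    rw [IntermediateField.mem_fixingSubgroup_iff]
    intro x hx
    obtain ⟨q, hq⟩ := ExpChar.exists k
    haveI := hq
    obtain ⟨n, z, hz⟩ := IsPurelyInseparable.pow_mem (separableClosure k N) q x
    have hsep : IsSeparable k (x ^ q ^ n) := by
      rw [← hz]
      exact (mem_separableClosure_iff).1 z.2
    have e : algebraMap N L (x ^ q ^ n) = ι ((x : L₀) ^ q ^ n) :=
      (map_pow (algebraMap N L) x (q ^ n)).trans (map_pow ι (x : L₀) (q ^ n)).symm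
    have hy : IsSeparable k (ι ((x : L₀) ^ q ^ n)) := by
      rw [← e]
      exact hsep.map (IsScalarTower.toAlgHom k N L) (RingHom.injective _)
    obtain ⟨c, hc⟩ := mem_range_of_forall_algHom (IsSeparable.tower_top K hy) (fun τ => by
      let τe := AlgEquiv.ofBijective τ (Algebra.IsAlgebraic.algHom_bijective τ)
      have hfix : res τe x = x := hx ⟨res τe, τe, rfl⟩
      have h1 : algebraMap N L (res τe x) = τ (algebraMap N L x) :=
        AlgEquiv.restrictNormal_commutes (τe.restrictScalars k) N x
      rw [hfix] at h1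
      rw [← e, map_pow, map_pow, ← h1])
    have hc' : IsScalarTower.toAlgHom k K L c = ι ((x : L₀) ^ q ^ n) := hc
    obtain ⟨a, ha⟩ := hprim c (IsSeparable.of_algHom (IsScalarTower.toAlgHom k K L) (hc'.symm ▸ hy))
    have hxa : (x : L₀) ^ q ^ n = algebraMap k L₀ a := by
      refine ι.injective ?_
      show ι _ = ι _
      rw [AlgHom.commutes, IsScalarTower.algebraMap_apply k K L, ha]
      exact hc.symm
    apply (algebraMap N L₀).injective
    rw [AlgEquiv.restrictNormal_commutes]
    show σ (x : L₀) = (x : L₀)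
    haveI : ExpChar L₀ q := expChar_of_injective_algebraMap (algebraMap k L₀).injective q
    apply iterateFrobenius_inj L₀ q n
    rw [iterateFrobenius_def, iterateFrobenius_def, ← map_pow]
    rw [hxa, σ.commutes]
  obtain ⟨τe, hτ⟩ := hg
  refine ⟨τe.toAlgHom, fun x hx => ?_⟩
  have hxN : x ∈ N := IntermediateField.le_normalClosure F hx
  have h := congrArg (fun f : N ≃ₐ[k] N => algebraMap N L (f ⟨x, hxN⟩)) hτ
  simp only [res, MonoidHom.coe_mk, OneHom.coe_mk, g] at h
  rw [AlgEquiv.restrictNormal_commutes] at h
  exact h.trans (congrArg ι (AlgEquiv.restrictNormal_commutes σe N ⟨x, hxN⟩))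

end Groth.Agent.AbCubeLib
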