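import Groth.Agent.AbCubeLib.HomDescend
import Groth.Agent.AbCubeLib.PrimaryGalois

/-!
# Points of finite schemes are defined over the small algebraic closure
-/

set_option autoImplicit false
set_option backward.isDefEq.respectTransparency.types false
set_option maxHeartbeats 1600000

universe u

open CategoryTheory CategoryTheory.Limits MonoidalCategory CartesianMonoidalCategory AlgebraicGeometry MonObj

namespace Groth.Agent.AbCubeLib

variable {k : Type u} [Field k] {L₀ L : Type u} [Field L₀] [Field L] [Algebra k L₀] [Algebra k L]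
  [Algebra L₀ L] [IsScalarTower k L₀ L]

/-- An extension of fields, on the points with values in them. -/
noncomputable def extPtIncl : extPt (K := k) L ⟶ extPt (K := k) L₀ :=
  Over.homMk (Spec.map (CommRingCat.ofHom (algebraMap L₀ L))) (by
    show Spec.map _ ≫ Spec.map _ = Spec.map _
    rw [← Spec.map_comp, ← CommRingCat.ofHom_comp, ← IsScalarTower.algebraMap_eq])

theorem epi_extPtIncl : Epi (extPtIncl (k := k) (L₀ := L₀) (L := L)) := by
  let g := Spec.map (CommRingCat.ofHom (algebraMap L₀ L))
  haveI : Surjective g := ⟨fun x => ⟨IsLocalRing.closedPoint L, Subsingleton.elim (α := PrimeSpectrum L₀) _ _⟩⟩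
  haveI : Flat g := CubeLib.flat_of_field _
  haveI : QuasiCompact g := inferInstanceAs (QuasiCompact (Spec.map _))
  haveI : Epi (extPtIncl (k := k) (L₀ := L₀) (L := L)).left := inferInstanceAs (Epi g)
  exact Over.epi_of_epi_left _

section Finite

variable (N : Over (Spec (CommRingCat.of k))) [IsFinite N.hom]

/-- The points of a finite scheme, as algebra homomorphisms. -/
theorem exists_algHom_of_pt : ∃ (R : CommRingCat.{u}) (_ : Algebra k R) (_ : Module.Finite k R) (e : N.left ≅ Spec R),
    e.inv ≫ N.hom = Spec.map (CommRingCat.ofHom (algebraMap k R)) := by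
  haveI : IsAffine N.left := isAffine_of_isAffineHom N.hom
  let φ := Spec.preimage (N.left.isoSpec.inv ≫ N.hom)
  have hfin : φ.hom.Finite := by
    rw [← IsFinite.SpecMap_iff, Spec.map_preimage]
    infer_instance
  letI : Algebra k Γ(N.left, ⊤) := φ.hom.toAlgebra
  exact ⟨_, inferInstance, hfin, N.left.isoSpec, (Spec.map_preimage _).symm⟩

/-- A point with values in a big field of a finite scheme comes from the small algebraic closure. -/
theorem exists_descend_pt [IsAlgClosed L₀] (u : extPt (K := k) L ⟶ N) :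
    ∃ y : extPt (K := k) L₀ ⟶ N, extPtIncl ≫ y = u := by
  obtain ⟨R, _, _, e, he⟩ := exists_algHom_of_pt N
  obtain ⟨χ', hχ'⟩ := Spec.map_surjective (u.left ≫ e.hom : Spec (CommRingCat.of L) ⟶ Spec R)
  have hχ : CommRingCat.ofHom (algebraMap k R) ≫ χ' = CommRingCat.ofHom (algebraMap k L) := Spec.map_injective (by
    rw [Spec.map_comp, ← he, hχ', Category.assoc, Iso.hom_inv_id_assoc]
    exact Over.w u)
  let χ : R →ₐ[k] L := { χ'.hom with commutes' := fun r => congr($(hχ).hom r) }
  have hrange : ∀ r, χ r ∈ (IsScalarTower.toAlgHom k L₀ L).range := by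
    intro r
    have hr : IsIntegral k r := Algebra.IsIntegral.isIntegral r
    have h0 : Polynomial.aeval (χ r) (minpoly k r) = 0 := by
      rw [Polynomial.aeval_algHom_apply, minpoly.aeval, map_zero]
    have hne : (minpoly k r).map (algebraMap k L₀) ≠ 0 := Polynomial.map_ne_zero (minpoly.ne_zero hr)
    obtain ⟨a, ha⟩ := (IsAlgClosed.splits ((minpoly k r).map (algebraMap k L₀))).mem_range_of_isRoot hne
      (i := algebraMap L₀ L) (by
        rw [Polynomial.IsRoot, Polynomial.eval_map, Polynomial.eval₂_map, ← IsScalarTower.algebraMap_eq,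
          ← Polynomial.aeval_def, h0])
    exact ⟨a, ha⟩
  let emb := IsScalarTower.toAlgHom k L₀ L
  let ψ : R →ₐ[k] L₀ := ((AlgEquiv.ofInjective emb emb.injective).symm.toAlgHom).comp (χ.codRestrict emb.range hrange)
  have hψ : ∀ r, algebraMap L₀ L (ψ r) = χ r := fun r =>
    congrArg Subtype.val ((AlgEquiv.ofInjective emb emb.injective).apply_symm_apply (χ.codRestrict emb.range hrange r))
  refine ⟨Over.homMk (Spec.map (CommRingCat.ofHom ψ.toRingHom) ≫ e.inv) ?_, Over.OverMorphism.ext ?_⟩
  · show (Spec.map _ ≫ e.inv) ≫ N.hom = Spec.map _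
    rw [Category.assoc, he, ← Spec.map_comp, ← CommRingCat.ofHom_comp]
    congr 1
    ext r
    exact ψ.commutes r
  · show Spec.map _ ≫ Spec.map _ ≫ e.inv = u.left
    rw [← Spec.map_comp_assoc, ← cancel_mono e.hom, Category.assoc, Iso.inv_hom_id, Category.comp_id, ← hχ']
    congr 1
    ext r
    exact hψ r

variable {K : Type u} [Field K] [Algebra k K] [Algebra K L] [IsScalarTower k K L]

/-- An automorphism over a primary ground field acts on points of finite schemes as one over the big field. -/
theorem exists_agree_pt (hprim : ∀ x : K, IsSeparable k x → x ∈ (algebraMap k K).range)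
    [IsAlgClosed L₀] [Algebra.IsAlgebraic k L₀] [IsAlgClosed L] [Algebra.IsAlgebraic K L]
    (y : extPt (K := k) L₀ ⟶ N) (σ : L₀ →ₐ[k] L₀) :
    ∃ τ : L →ₐ[K] L, Spec.map (CommRingCat.ofHom τ.toRingHom) ≫ (extPtIncl (L := L) ≫ y).left =
      (extPtIncl (L := L) ≫ extPtMap L₀ σ ≫ y).left := by
  obtain ⟨R, _, _, e, he⟩ := exists_algHom_of_pt N
  obtain ⟨χ', hχ'⟩ := Spec.map_surjective (y.left ≫ e.hom : Spec (CommRingCat.of L₀) ⟶ Spec R)
  have hχ : CommRingCat.ofHom (algebraMap k R) ≫ χ' = CommRingCat.ofHom (algebraMap k L₀) := Spec.map_injective (by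
    rw [Spec.map_comp, ← he, hχ', Category.assoc, Iso.hom_inv_id_assoc]
    exact Over.w y)
  let χ : R →ₐ[k] L₀ := { χ'.hom with commutes' := fun r => congr($(hχ).hom r) }
  haveI : Module.Finite k χ.range := Module.Finite.range χ.toLinearMap
  let F : IntermediateField k L₀ :=
    χ.range.toIntermediateField fun x hx => by
      have hi : IsIntegral k x := Algebra.IsIntegral.isIntegral x
      exact χ.range.inv_mem_of_algebraic (x := ⟨x, hx⟩) hi.isAlgebraic
  haveI : FiniteDimensional k F := inferInstanceAs (Module.Finite k χ.range)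
  obtain ⟨τ, hτ⟩ := exists_algHom_agree hprim (IsScalarTower.toAlgHom k L₀ L) F σ
  refine ⟨τ, ?_⟩
  have hy : y.left = Spec.map χ' ≫ e.inv := by rw [hχ', Category.assoc, Iso.hom_inv_id, Category.comp_id]
  rw [Over.comp_left, Over.comp_left, Over.comp_left, hy]
  show Spec.map _ ≫ Spec.map _ ≫ _ = Spec.map _ ≫ Spec.map _ ≫ _
  simp only [← Spec.map_comp_assoc]
  congr 2
  ext r
  exact hτ (χ r) ⟨r, rfl⟩

end Finite

end Groth.Agent.AbCubeLib
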