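import Mathlib.AlgebraicGeometry.PullbackCarrier
import Mathlib.AlgebraicGeometry.AffineScheme
import Mathlib.RingTheory.TensorProduct.Free
import Mathlib.LinearAlgebra.FreeModule.Basic
import Mathlib.Algebra.Category.Ring.Under.Basic

/-!
# A dense set of rational points stays dense after extending the base field
-/

universe u

open CategoryTheory CategoryTheory.Limits AlgebraicGeometry TopologicalSpace
open scoped TensorProduct

namespace Groth.Agent.AbCubeLib

variable {F L : Type u} [Field F] [Field L] [Algebra F L]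

theorem ringHom_lift_eq_zero {R : Type u} [CommRing R] [Algebra F R] (f : R ⊗[F] L) (χ : R →ₐ[F] F)
    (b : Module.Basis (Module.Free.ChooseBasisIndex F L) F L)
    (h : Algebra.TensorProduct.lift ((Algebra.ofId F L).comp χ) (AlgHom.id F L) (fun _ _ => Commute.all _ _) f = 0)
    (i) : χ ((Algebra.TensorProduct.basis R b).repr f i) = 0 := by
  set bR := Algebra.TensorProduct.basis R b
  have hf : f = (bR.repr f).sum fun j a => a ⊗ₜ[F] b j := by
    conv_lhs => rw [← bR.linearCombination_repr f, Finsupp.linearCombination_apply]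
    refine Finsupp.sum_congr fun j _ => ?_
    rw [Algebra.TensorProduct.basis_apply, TensorProduct.smul_tmul', smul_eq_mul, _root_.mul_one]
  rw [hf, Finsupp.sum, map_sum] at h
  have h2 : ∑ j ∈ (bR.repr f).support, χ (bR.repr f j) • b j = 0 := by
    refine Eq.trans (Finset.sum_congr rfl fun j _ => ?_) h
    rw [Algebra.TensorProduct.lift_tmul, Algebra.smul_def]
    rfl
  by_cases hi : i ∈ (bR.repr f).support
  · exact linearIndependent_iff'.1 b.linearIndependent _ _ h2 i hi
  · rw [Finsupp.notMem_support_iff.1 hi, map_zero]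

/-- Closed sets containing the base change of a set of rational points contain the base change of its closure. -/
theorem preimage_closure_subset {X P : Scheme.{u}} {f : X ⟶ Spec (CommRingCat.of F)} {π : P ⟶ X}
    {fL : P ⟶ Spec (CommRingCat.of L)}
    (h : IsPullback π fL f (Spec.map (CommRingCat.ofHom (algebraMap F L))))
    (W : Set (Spec (CommRingCat.of F) ⟶ X)) (hW : ∀ w ∈ W, w ≫ f = 𝟙 _) {C : Set P} (hC : IsClosed C)
    (hWC : ∀ w (hw : w ∈ W), h.lift (Spec.map (CommRingCat.ofHom (algebraMap F L)) ≫ w) (𝟙 _)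
      (by rw [Category.assoc, hW w hw, Category.comp_id, Category.id_comp]) (IsLocalRing.closedPoint L) ∈ C) :
    π ⁻¹' closure ((fun w => w (IsLocalRing.closedPoint F)) '' W) ⊆ C := by
  intro p hp
  obtain ⟨U, hU, hpU, -⟩ := exists_isAffineOpen_mem_and_subset (U := ⊤) (x := π p) trivial
  let R : CommRingCat.{u} := Γ(X, U)
  let φ : CommRingCat.of F ⟶ R := Spec.preimage (hU.fromSpec ≫ f)
  letI : Algebra F R := φ.hom.toAlgebra
  have hj : hU.fromSpec ≫ f = Spec.map (CommRingCat.ofHom (algebraMap F R)) := (Spec.map_preimage _).symm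
  let e := pullbackSpecIso F R L
  have hfst : e.inv ≫ pullback.fst _ _ = Spec.map (CommRingCat.ofHom Algebra.TensorProduct.includeLeftRingHom) :=
    pullbackSpecIso_inv_fst F R L
  let jL : Spec (CommRingCat.of (R ⊗[F] L)) ⟶ P :=
    e.inv ≫ h.lift (pullback.fst _ _ ≫ hU.fromSpec) (pullback.snd _ _)
      (by rw [Category.assoc, hj, pullback.condition])
  have hjL : jL ≫ π = Spec.map (CommRingCat.ofHom Algebra.TensorProduct.includeLeftRingHom) ≫ hU.fromSpec := by
    simp only [jL, Category.assoc, h.lift_fst]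
    rw [← Category.assoc, hfst]
  obtain ⟨P₀, hP₀⟩ : π p ∈ Set.range hU.fromSpec := by rw [hU.range_fromSpec]; exact hpU
  -- `p` comes from the affine piece
  have hsq : IsPullback (h.lift (pullback.fst _ _ ≫ hU.fromSpec) (pullback.snd (Spec.map (CommRingCat.ofHom (algebraMap F R))) (Spec.map (CommRingCat.ofHom (algebraMap F L))))
      (by rw [Category.assoc, hj, pullback.condition])) (pullback.fst _ _) π hU.fromSpec := by
    refine IsPullback.of_right (h₁₂ := fL) (v₁₃ := Spec.map (CommRingCat.ofHom (algebraMap F L))) (h₂₂ := f) ?_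
      (h.lift_fst _ _ _) h.flip
    rw [h.lift_snd, hj]
    exact (IsPullback.of_hasPullback _ _).flip
  obtain ⟨Q', hQ1, -⟩ := Scheme.exists_preimage_of_isPullback hsq p P₀ hP₀.symm
  obtain ⟨Q, rfl⟩ : ∃ Q, e.inv Q = Q' := ⟨e.hom Q', by rw [← Scheme.Hom.comp_apply, e.hom_inv_id]; rfl⟩
  have hQp : jL Q = p := by rw [← hQ1]; rfl
  obtain ⟨J, hJ⟩ := (PrimeSpectrum.isClosed_iff_zeroLocus_ideal _).1 (hC.preimage jL.continuous)
  show p ∈ C
  rw [← hQp]
  show Q ∈ jL ⁻¹' C
  rw [show (jL ⁻¹' C : Set _) = _ from hJ]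
  refine (PrimeSpectrum.mem_zeroLocus _ _).2 ?_
  intro z hz
  let b := Module.Free.chooseBasis F L
  set bR := Algebra.TensorProduct.basis (R : Type u) b
  have hcoef : ∀ i, bR.repr z i ⊗ₜ[F] (1 : L) ∈ Q.asIdeal := by
    intro i
    by_contra hne
    let a : R := bR.repr z i
    let V : X.Opens := hU.fromSpec ''ᵁ PrimeSpectrum.basicOpen a
    have hπV : π p ∈ V := by
      refine ⟨(Spec.map (CommRingCat.ofHom (Algebra.TensorProduct.includeLeftRingHom : R →+* R ⊗[F] L))) Q, hne, ?_⟩
      have := congrArg (fun m : Spec (CommRingCat.of (R ⊗[F] L)) ⟶ X => m Q) hjL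
      simp only [Scheme.Hom.comp_apply] at this
      exact this.symm.trans (congrArg π hQp)
    obtain ⟨_, ⟨q, hq, hqw⟩, w, hwW, rfl⟩ := mem_closure_iff.1 hp V V.2 hπV
    obtain ⟨w₀, hw₀⟩ : ∃ w₀ : Spec (CommRingCat.of F) ⟶ Spec R, w₀ ≫ hU.fromSpec = w := by
      refine ⟨IsOpenImmersion.lift hU.fromSpec w ?_, IsOpenImmersion.lift_fac _ _ _⟩
      rintro _ ⟨y, rfl⟩
      rw [Subsingleton.elim (α := PrimeSpectrum F) y (IsLocalRing.closedPoint F)]
      exact ⟨q, hqw⟩
    obtain ⟨χ', hχ'⟩ := Spec.map_surjective w₀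
    have hχF : CommRingCat.ofHom (algebraMap F R) ≫ χ' = 𝟙 _ := Spec.map_injective (by
      rw [Spec.map_comp, hχ', ← hj, reassoc_of% hw₀, hW w hwW, Spec.map_id])
    let χ : R →ₐ[F] F := { χ'.hom with commutes' := fun r => congr($(hχF).hom r) }
    let Ψ := Algebra.TensorProduct.lift ((Algebra.ofId F L).comp χ) (AlgHom.id F L) fun _ _ => Commute.all _ _
    let s : Spec (CommRingCat.of L) ⟶ Spec (CommRingCat.of (R ⊗[F] L)) :=
      Spec.map (CommRingCat.ofHom Ψ.toRingHom)
    have hs1 : s ≫ Spec.map (CommRingCat.ofHom (Algebra.TensorProduct.includeLeftRingHom : R →+* R ⊗[F] L)) =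
        Spec.map (CommRingCat.ofHom (algebraMap F L)) ≫ w₀ := by
      rw [← hχ', ← Spec.map_comp, ← Spec.map_comp]
      congr 1
      ext r
      show Ψ (r ⊗ₜ 1) = algebraMap F L (χ r)
      simp [Ψ, Algebra.ofId_apply]
    have hsC : (s ≫ jL) (IsLocalRing.closedPoint L) ∈ C := by
      suffices e' : s ≫ jL = _ by rw [e']; exact hWC w hwW
      refine h.hom_ext ?_ ?_
      · rw [Category.assoc, hjL, reassoc_of% hs1, hw₀, h.lift_fst]
      · rw [h.lift_snd, Category.assoc]
        simp only [jL, Category.assoc, h.lift_snd]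
        rw [pullbackSpecIso_inv_snd, ← Spec.map_comp, ← Spec.map_id]
        congr 1
        ext l
        show Ψ (1 ⊗ₜ l) = l
        simp [Ψ]
    have hmem : s (IsLocalRing.closedPoint L) ∈ PrimeSpectrum.zeroLocus (J : Set (R ⊗[F] L)) := by
      rw [← hJ]; exact hsC
    have hzero : Ψ z = 0 := by
      have h3 := (PrimeSpectrum.mem_zeroLocus _ _).1 hmem hz
      have h4 : Ψ z ∈ IsLocalRing.maximalIdeal L := h3
      rwa [IsLocalRing.maximalIdeal_eq_bot, Ideal.mem_bot] at h4
    have hχa := ringHom_lift_eq_zero z χ b hzero i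
    have hq0 : w₀ (IsLocalRing.closedPoint F) = q := hU.fromSpec.isOpenEmbedding.injective
      ((congrArg (fun m : Spec (CommRingCat.of F) ⟶ X => m (IsLocalRing.closedPoint F)) hw₀).trans hqw.symm)
    rw [← hq0, ← hχ'] at hq
    refine hq ?_
    show χ'.hom a ∈ IsLocalRing.maximalIdeal F
    rw [show χ'.hom a = 0 from hχa]
    exact zero_mem _
  rw [SetLike.mem_coe, ← bR.linearCombination_repr z, Finsupp.linearCombination_apply]
  refine sum_mem fun j _ => ?_
  show bR.repr z j • bR j ∈ _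
  rw [show bR.repr z j • bR j = bR.repr z j ⊗ₜ[F] b j by
    rw [Algebra.TensorProduct.basis_apply, TensorProduct.smul_tmul', smul_eq_mul, _root_.mul_one]]
  rw [show bR.repr z j ⊗ₜ[F] b j = (bR.repr z j ⊗ₜ[F] (1 : L)) * ((1 : R) ⊗ₜ[F] b j) by simp]
  exact Ideal.mul_mem_right _ _ (hcoef j)

end Groth.Agent.AbCubeLib
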