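import Groth.Agent.AbCubeLib.MulDegree

/-!
# Multiplication by a nonzero integer is an epimorphism; homomorphisms are torsion free
-/

set_option autoImplicit false
set_option backward.isDefEq.respectTransparency.types false

universe u

open CategoryTheory CategoryTheory.Limits MonoidalCategory CartesianMonoidalCategory AlgebraicGeometry MonObj

namespace Groth.Agent.AbCubeLib

theorem zpow_comp_hom {C : Type*} [Category C] [CartesianMonoidalCategory C] {T G H : C} [GrpObj G] [GrpObj H]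
    (f : T ⟶ G) (φ : G ⟶ H) [IsMonHom φ] (n : ℤ) : (f ^ n) ≫ φ = (f ≫ φ) ^ n :=
  map_zpow (MonoidHom.mk' (fun x : T ⟶ G => x ≫ φ) fun _ _ => MonObj.mul_comp _ _ φ) f n

theorem pow_comp_hom {C : Type*} [Category C] [CartesianMonoidalCategory C] {T G H : C} [GrpObj G] [GrpObj H]
    (f : T ⟶ G) (φ : G ⟶ H) [IsMonHom φ] (n : ℕ) : (f ^ n) ≫ φ = (f ≫ φ) ^ n :=
  map_pow (MonoidHom.mk' (fun x : T ⟶ G => x ≫ φ) fun _ _ => MonObj.mul_comp _ _ φ) f n

variable {k : Type u} [Field k] {A B : Over (Spec (CommRingCat.of k))} [GrpObj A] [IsProper A.hom]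
  [GeometricallyIntegral A.hom] [GrpObj B] [IsSeparated B.hom]

omit [GrpObj B] in
theorem cancel_zpow {n : ℤ} (hn : n ≠ 0) {f g : A ⟶ B} (h : (𝟙 A ^ n) ≫ f = (𝟙 A ^ n) ≫ g) : f = g := by
  obtain ⟨-, -, h3, -⟩ := zpow_properties (A := A) hn
  have : IsIntegral A.left := GeometricallyIntegral.isIntegral_of_subsingleton A.hom
  exact Over.OverMorphism.ext (ext_of_isDominant_of_isSeparated B.hom ((Over.w f).trans (Over.w g).symm)
    (𝟙 A ^ n).left (congrArg CommaMorphism.left h))

/-- A homomorphism with a trivial nonzero multiple is trivial. -/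
theorem eq_one_of_zpow (φ : A ⟶ B) [IsMonHom φ] {n : ℤ} (hn : n ≠ 0) (h : φ ^ n = 1) : φ = 1 := by
  refine cancel_zpow hn ?_
  rw [zpow_comp_hom, Category.id_comp, h, MonObj.comp_one]

end Groth.Agent.AbCubeLib
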