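import Groth.Agent.AbCubeLib.MulBy
import Groth.Agent.AbCubeLib.FiniteDegree
import Groth.Agent.AbVarLib.HomFlat

/-!
# The degree of multiplication by an integer
-/

set_option autoImplicit false
set_option backward.isDefEq.respectTransparency.types false

universe u

open CategoryTheory CategoryTheory.Limits MonoidalCategory CartesianMonoidalCategory AlgebraicGeometry MonObj
  TopologicalSpace
open Groth.Agent.PicLib Groth.Agent.CubeLib Groth.Agent.AmpleLib Groth.Agent.Coherent

namespace Groth.Agent.AbCubeLib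

variable {k : Type u} [Field k] {A : Over (Spec (CommRingCat.of k))} [GrpObj A] [IsProper A.hom]
  [GeometricallyIntegral A.hom]

/-- Powers of the identity are homomorphisms. -/
theorem isMonHom_zpow (n : ℤ) : IsMonHom (𝟙 A ^ n) := by
  haveI : IsCommMonObj A := isCommMonObj_of_isProper_of_geometricallyIntegral A
  have h1 : η[A] = (1 : 𝟙_ (Over (Spec (CommRingCat.of k))) ⟶ A) := by
    rw [Hom.one_def, toUnit_unique (toUnit (𝟙_ (Over (Spec (CommRingCat.of k))))) (𝟙 _), Category.id_comp]
  constructor
  · rw [GrpObj.comp_zpow, Category.comp_id, h1, one_zpow]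
  · have hμ : μ[A] = fst A A * snd A A := by rw [Hom.mul_def, lift_fst_snd, Category.id_comp]
    rw [GrpObj.comp_zpow, Category.comp_id, hμ, mul_zpow, comp_mul, tensorHom_fst, tensorHom_snd,
      GrpObj.comp_zpow, GrpObj.comp_zpow, Category.comp_id, Category.comp_id]

/-- Multiplication by a positive integer is flat. -/
theorem flat_pow {n : ℕ} (hn : 0 < n) : Flat ((𝟙 A) ^ n).left := by
  have := surjective_pow (A := A) hn
  have : IsMonHom (𝟙 A ^ n) := by rw [← zpow_natCast]; exact isMonHom_zpow _
  exact AbVarLib.flat_of_surjective (𝟙 A ^ n)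

/-- Multiplication by a positive integer has degree `n ^ (2g)`. -/
theorem finrank_pow {n : ℕ} (hn : 0 < n) {g : ℕ} (hg : topologicalKrullDim A.left = g) (y : A.left) :
    Scheme.Hom.finrank ((𝟙 A) ^ n).left y = n ^ (2 * g) := by
  have := isFinite_pow (A := A) hn
  have := flat_pow (A := A) hn
  have : IsIntegral A.left := GeometricallyIntegral.isIntegral_of_subsingleton A.hom
  letI : A.left.Over (Spec (CommRingCat.of k)) := ⟨A.hom⟩
  haveI : IsProper (A.left ↘ Spec (CommRingCat.of k)) := ‹IsProper A.hom›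
  obtain ⟨M, hM, hamp, hsym⟩ := exists_symmetric_ample_class (A := A)
  rw [finrank_eq_pow_of_pullback_ample k ((𝟙 A) ^ n).left (Over.w _) hamp (N := n * n) ?_ hg y, pow_mul, pow_two]
  exact pb_pow_symmetric hsym n

/-- Multiplication by a nonzero integer is finite, flat and surjective, of degree `|n| ^ (2g)`. -/
theorem zpow_properties {n : ℤ} (hn : n ≠ 0) :
    IsFinite (𝟙 A ^ n).left ∧ Flat (𝟙 A ^ n).left ∧ Surjective (𝟙 A ^ n).left ∧
      ∀ g : ℕ, topologicalKrullDim A.left = g → ∀ y : A.left,
        Scheme.Hom.finrank (𝟙 A ^ n).left y = n.natAbs ^ (2 * g) := by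
  have hm : 0 < n.natAbs := Int.natAbs_pos.2 hn
  have h1 := isFinite_pow (A := A) hm
  have h2 := flat_pow (A := A) hm
  have h3 := surjective_pow (A := A) hm
  rcases Int.natAbs_eq n with e | e
  · have e' : 𝟙 A ^ n = 𝟙 A ^ n.natAbs := by
      conv_lhs => rw [e, zpow_natCast]
    rw [e']
    exact ⟨h1, h2, h3, fun g hg y => finrank_pow hm hg y⟩
  · have e' : (𝟙 A ^ n).left = ((𝟙 A)⁻¹).left ≫ (𝟙 A ^ n.natAbs).left := by
      rw [← Over.comp_left]
      refine congrArg CommaMorphism.left ?_
      conv_lhs => rw [e, zpow_neg, zpow_natCast]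
      rw [← zpow_natCast (𝟙 A) n.natAbs, GrpObj.comp_zpow, Category.comp_id, zpow_natCast, zpow_natCast, inv_pow]
    have : IsIso ((𝟙 A)⁻¹).left := inferInstanceAs (IsIso ((Over.forget _).map (ι[A])))
    rw [e']
    refine ⟨inferInstance, inferInstance, inferInstance, fun g hg y => ?_⟩
    rw [Scheme.Hom.finrank_comp_left_of_isIso]
    exact finrank_pow hm hg y

end Groth.Agent.AbCubeLib
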