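import Mathlib

/-!
# Counting the points of a finite flat scheme over an algebraically closed field
-/

set_option autoImplicit false
set_option backward.isDefEq.respectTransparency.types false

universe u

open CategoryTheory CategoryTheory.Limits AlgebraicGeometry

namespace Groth.Agent.AbCubeLib

section Alg

variable {k B : Type u} [Field k] [CommRing B] [Algebra k B] [Module.Finite k B]

theorem natCard_algHom_le : Nat.card (B →ₐ[k] k) ≤ Module.finrank k B := by
  classical
  have : Fintype (B →ₐ[k] k) := minpoly.AlgHom.fintype k B k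
  rw [Nat.card_eq_fintype_card]
  exact (linearIndependent_toLinearMap k B k).fintype_card_le_finrank.trans
    (by rw [Module.finrank_linearMap, Module.finrank_self, mul_one])

/-- evaluation at all rational points -/
noncomputable def evPts : B →ₗ[k] ((B →ₐ[k] k) → k) := LinearMap.pi fun χ => χ.toLinearMap

theorem natCard_algHom_eq_of_isReduced [IsAlgClosed k] [IsReduced B] :
    Nat.card (B →ₐ[k] k) = Module.finrank k B := by
  classical
  refine le_antisymm natCard_algHom_le ?_
  have hinj : Function.Injective (evPts (k := k) (B := B)) := by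
    rw [injective_iff_map_eq_zero]
    intro b hb
    have : IsArtinianRing B := IsArtinianRing.of_finite k B
    refine IsReduced.eq_zero b (mem_nilradical.1 ?_)
    rw [nilradical_eq_sInf, Ideal.mem_sInf]
    intro P hP
    have : P.IsPrime := hP
    have : P.IsMaximal := IsArtinianRing.isMaximal_of_isPrime P
    let := Ideal.Quotient.field P
    let e : k ≃ₐ[k] B ⧸ P := AlgEquiv.ofBijective (Algebra.ofId k (B ⧸ P))
      IsAlgClosed.algebraMap_bijective_of_isIntegral
    have h := congrFun hb (e.symm.toAlgHom.comp (Ideal.Quotient.mkₐ k P))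
    have := congrArg e h
    simpa [evPts, Ideal.Quotient.eq_zero_iff_mem] using this
  have : Fintype (B →ₐ[k] k) := minpoly.AlgHom.fintype k B k
  refine (LinearMap.finrank_le_finrank_of_injective hinj).trans ?_
  rw [Module.finrank_pi, Nat.card_eq_fintype_card]

/-- If the rational points are as many as the rank, they separate the functions and interpolate all values. -/
theorem evPts_bijective (h : Nat.card (B →ₐ[k] k) = Module.finrank k B) :
    Function.Bijective (evPts (k := k) (B := B)) := by
  classical
  have : Fintype (B →ₐ[k] k) := minpoly.AlgHom.fintype k B k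
  have hsurj : Function.Surjective (evPts (k := k) (B := B)) := by
    rw [← LinearMap.dualMap_injective_iff, injective_iff_map_eq_zero]
    intro l hl
    have hli := Fintype.linearIndependent_iff.1 (linearIndependent_toLinearMap k B k)
      (fun χ => l (Pi.single χ 1)) ?_
    · refine LinearMap.pi_ext' fun χ => LinearMap.ext_ring ?_
      simpa using hli χ
    · refine LinearMap.ext fun b => ?_
      have := LinearMap.congr_fun hl b
      rw [LinearMap.dualMap_apply, LinearMap.zero_apply, pi_eq_sum_univ' (evPts b), map_sum] at this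
      rw [LinearMap.coe_sum, Finset.sum_apply, LinearMap.zero_apply, ← this]
      refine Finset.sum_congr rfl fun χ _ => ?_
      rw [map_smul, smul_eq_mul, LinearMap.smul_apply, smul_eq_mul, mul_comm]
      rfl
  refine ⟨?_, hsurj⟩
  exact (LinearMap.injective_iff_surjective_of_finrank_eq_finrank
    (by rw [Module.finrank_pi, ← Nat.card_eq_fintype_card, h])).2 hsurj

/-- Then every point with values in dual numbers is constant. -/
theorem dualNumber_const (h : Nat.card (B →ₐ[k] k) = Module.finrank k B)
    (χ : B →ₐ[k] TrivSqZeroExt k k) (b : B) : (χ b).snd = 0 := by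
  classical
  have : Fintype (B →ₐ[k] k) := minpoly.AlgHom.fintype k B k
  have hbij := evPts_bijective h
  let E : B ≃ₗ[k] ((B →ₐ[k] k) → k) := LinearEquiv.ofBijective evPts hbij
  have hidem : ∀ ψ, (χ (E.symm (Pi.single ψ 1))).snd = 0 := by
    intro ψ
    set e := E.symm (Pi.single ψ 1)
    have he : e * e = e := hbij.1 (funext fun φ => by
      have h1 : evPts e = Pi.single ψ (1 : k) := E.apply_symm_apply _
      have h2 : φ e = Pi.single (M := fun _ => k) ψ 1 φ := congrFun h1 φ
      show φ (e * e) = φ e
      rw [map_mul, h2]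
      by_cases hφ : φ = ψ
      · subst hφ; simp
      · simp [Pi.single_eq_of_ne hφ])
    have h3 : χ e * χ e = χ e := by rw [← map_mul, he]
    have hf : (χ e).fst * (χ e).fst = (χ e).fst := by
      conv_rhs => rw [← h3]
      simp
    have hs : (χ e).snd = (χ e).fst * (χ e).snd + (χ e).snd * (χ e).fst := by
      conv_lhs => rw [← h3]
      simp [mul_comm]
    rcases mul_eq_zero.1 (show (χ e).fst * ((χ e).fst - 1) = 0 by rw [mul_sub, hf, mul_one, sub_self]) with h0 | h1
    · simpa [h0] using hs
    · rw [sub_eq_zero.1 h1] at hs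
      simpa using hs
  have hb : b = ∑ ψ, evPts b ψ • E.symm (Pi.single ψ 1) := E.injective (by
    simp_rw [map_sum, map_smul, LinearEquiv.apply_symm_apply]
    exact pi_eq_sum_univ' (evPts b))
  rw [hb, map_sum, TrivSqZeroExt.snd_sum]
  exact Finset.sum_eq_zero fun ψ _ => by rw [map_smul, TrivSqZeroExt.snd_smul, hidem, smul_zero]

end Alg

section Sch

variable {k : Type u} [Field k] {F : Scheme.{u}} (π : F ⟶ Spec (CommRingCat.of k)) [IsFinite π]

/-- A finite scheme over a field is the spectrum of a finite algebra. -/
theorem exists_algebra :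
    ∃ (B : Type u) (_ : CommRing B) (_ : Algebra k B) (_ : Module.Finite k B) (e : Spec (CommRingCat.of B) ≅ F),
      e.hom ≫ π = Spec.map (CommRingCat.ofHom (algebraMap k B)) := by
  have : IsAffine F := isAffine_of_isAffineHom π
  let φ : CommRingCat.of k ⟶ Γ(F, ⊤) := Spec.preimage (F.isoSpec.inv ≫ π)
  have hφ : F.isoSpec.inv ≫ π = Spec.map φ := (Spec.map_preimage _).symm
  algebraize [φ.hom]
  have : IsFinite (Spec.map φ) := by rw [← hφ]; infer_instance
  have : Module.Finite k Γ(F, ⊤) := (IsFinite.SpecMap_iff φ).1 this
  exact ⟨Γ(F, ⊤), inferInstance, inferInstance, inferInstance, F.isoSpec.symm, hφ⟩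

variable {π}

theorem finrank_eq_of_algebra {B : Type u} [CommRing B] [Algebra k B] [Module.Finite k B] [Flat π]
    (e : Spec (CommRingCat.of B) ≅ F) (he : e.hom ≫ π = Spec.map (CommRingCat.ofHom (algebraMap k B)))
    (x : Spec (CommRingCat.of k)) : Scheme.Hom.finrank π x = Module.finrank k B := by
  rw [← Scheme.Hom.finrank_comp_left_of_isIso e.hom π, he]
  refine (Scheme.Hom.finrank_SpecMap_algebraMap k B x).trans ?_
  rw [Module.rankAtStalk_eq_finrank_of_free]
  rfl

/-- The points of a finite scheme in an algebra. -/
noncomputable def algHomEquivPts {B C : Type u} [CommRing B] [Algebra k B] [CommRing C] [Algebra k C]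
    (e : Spec (CommRingCat.of B) ≅ F) (he : e.hom ≫ π = Spec.map (CommRingCat.ofHom (algebraMap k B))) :
    (B →ₐ[k] C) ≃ {s : Spec (CommRingCat.of C) ⟶ F // s ≫ π = Spec.map (CommRingCat.ofHom (algebraMap k C))} where
  toFun χ := ⟨Spec.map (CommRingCat.ofHom χ.toRingHom) ≫ e.hom, by
    rw [Category.assoc, he, ← Spec.map_comp, ← CommRingCat.ofHom_comp]
    congr 2
    exact χ.comp_algebraMap⟩
  invFun s :=
    { (Spec.preimage (s.1 ≫ e.inv)).hom with
      commutes' := fun r => by
        have h : Spec.map (CommRingCat.ofHom (algebraMap k B) ≫ Spec.preimage (s.1 ≫ e.inv)) =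
            Spec.map (CommRingCat.ofHom (algebraMap k C)) := by
          rw [Spec.map_comp, Spec.map_preimage, ← he, Category.assoc, Iso.inv_hom_id_assoc]
          exact s.2
        exact congrArg (fun f : CommRingCat.of k ⟶ CommRingCat.of C => f.hom r) (Spec.map_injective h) }
  left_inv χ := AlgHom.ext fun b => by
    show (Spec.preimage ((Spec.map (CommRingCat.ofHom χ.toRingHom) ≫ e.hom) ≫ e.inv)).hom b = χ b
    rw [Category.assoc, Iso.hom_inv_id, Category.comp_id, Spec.preimage_map]
    rfl
  right_inv s := Subtype.ext (by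
    show Spec.map (CommRingCat.ofHom (Spec.preimage (s.1 ≫ e.inv)).hom) ≫ e.hom = s.1
    rw [CommRingCat.ofHom_hom, Spec.map_preimage, Category.assoc, Iso.inv_hom_id, Category.comp_id])

variable (π)

theorem specMap_algebraMap_self : Spec.map (CommRingCat.ofHom (algebraMap k k)) = 𝟙 (Spec (CommRingCat.of k)) := by
  rw [Algebra.algebraMap_self, CommRingCat.ofHom_id]
  exact Spec.map_id _

/-- There are at most as many rational points as the rank. -/
theorem natCard_sections_le [Flat π] (x : Spec (CommRingCat.of k)) :
    Nat.card {s : Spec (CommRingCat.of k) ⟶ F // s ≫ π = 𝟙 _} ≤ Scheme.Hom.finrank π x := by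
  obtain ⟨B, _, _, _, e, he⟩ := exists_algebra π
  rw [finrank_eq_of_algebra e he, ← specMap_algebraMap_self, ← Nat.card_congr (algHomEquivPts (C := k) e he)]
  exact natCard_algHom_le

/-- The rational points of a finite sections set. -/
theorem finite_sections : Finite {s : Spec (CommRingCat.of k) ⟶ F // s ≫ π = 𝟙 _} := by
  obtain ⟨B, _, _, _, e, he⟩ := exists_algebra π
  have : Finite (B →ₐ[k] k) := by
    have := minpoly.AlgHom.fintype k B k
    infer_instance
  rw [← specMap_algebraMap_self]
  exact Finite.of_equiv _ (algHomEquivPts (C := k) e he)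

/-- For a reduced scheme over an algebraically closed field they are exactly as many. -/
theorem natCard_sections_eq [IsAlgClosed k] [Flat π] [IsReduced F] (x : Spec (CommRingCat.of k)) :
    Nat.card {s : Spec (CommRingCat.of k) ⟶ F // s ≫ π = 𝟙 _} = Scheme.Hom.finrank π x := by
  obtain ⟨B, _, _, _, e, he⟩ := exists_algebra π
  have : AlgebraicGeometry.IsReduced (Spec (CommRingCat.of B)) := isReduced_of_isOpenImmersion e.hom
  have : _root_.IsReduced B := (affine_isReduced_iff (CommRingCat.of B)).1 this
  rw [finrank_eq_of_algebra e he, ← specMap_algebraMap_self, ← Nat.card_congr (algHomEquivPts (C := k) e he)]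
  exact natCard_algHom_eq_of_isReduced

/-- If they are exactly as many, then every tangent vector is zero. -/
theorem tangent_const [Flat π] (x : Spec (CommRingCat.of k))
    (h : Nat.card {s : Spec (CommRingCat.of k) ⟶ F // s ≫ π = 𝟙 _} = Scheme.Hom.finrank π x)
    (D : Spec (CommRingCat.of (TrivSqZeroExt k k)) ⟶ F)
    (hD : D ≫ π = Spec.map (CommRingCat.ofHom (algebraMap k (TrivSqZeroExt k k)))) :
    D = Spec.map (CommRingCat.ofHom (algebraMap k (TrivSqZeroExt k k))) ≫
      Spec.map (CommRingCat.ofHom (TrivSqZeroExt.fstHom k k k).toRingHom) ≫ D := by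
  obtain ⟨B, _, _, _, e, he⟩ := exists_algebra π
  rw [finrank_eq_of_algebra e he, ← specMap_algebraMap_self,
    ← Nat.card_congr (algHomEquivPts (C := k) e he)] at h
  obtain ⟨χ, hχ⟩ := (algHomEquivPts e he).surjective ⟨D, hD⟩
  have hD' : D = Spec.map (CommRingCat.ofHom χ.toRingHom) ≫ e.hom := (congrArg Subtype.val hχ).symm
  rw [hD', ← Category.assoc, ← Category.assoc, ← Spec.map_comp, ← Spec.map_comp, ← CommRingCat.ofHom_comp,
    ← CommRingCat.ofHom_comp]
  congr 3
  refine RingHom.ext fun b => ?_
  refine TrivSqZeroExt.ext ?_ ?_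
  · simp [TrivSqZeroExt.algebraMap_eq_inl']
  · simpa [TrivSqZeroExt.algebraMap_eq_inl'] using dualNumber_const h χ b

end Sch

end Groth.Agent.AbCubeLib
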