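import Groth.Prelude.Def_AbDual
import Groth.Agent.AbCubeLib.PointCount
import Groth.Agent.AbCubeLib.MulDegree
import Groth.Agent.AbCubeLib.KernelPhi
import Groth.Agent.AbVarLib.MulIsogeny
import Groth.Agent.AbVarLib.PowEtale

/-!
# The torsion points of an abelian variety over an algebraically closed field
-/

set_option autoImplicit false
set_option backward.isDefEq.respectTransparency.types false

universe u

open CategoryTheory CategoryTheory.Limits MonoidalCategory CartesianMonoidalCategory AlgebraicGeometry MonObj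
  TopologicalSpace

namespace Groth.Agent.AbCubeLib

open Groth.Agent.LieSLib Groth.Agent.AbVarLib

variable {k : Type u} [Field k] {A B : Over (Spec (CommRingCat.of k))}

theorem toUnit_left' (U : Over (Spec (CommRingCat.of k))) : (toUnit U).left = U.hom :=
  (Category.comp_id _).symm.trans (Over.w (toUnit U))

theorem one_left_eq [GrpObj B] (U : Over (Spec (CommRingCat.of k))) :
    (1 : U ⟶ B).left = U.hom ≫ (1 : 𝟙_ (Over (Spec (CommRingCat.of k))) ⟶ B).left := by
  rw [← toUnit_left', ← Over.comp_left, MonObj.comp_one]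

/-- The kernel of a homomorphism, as the fibre over the neutral element. -/
noncomputable def kerPtsEquiv [GrpObj B] (f : A ⟶ B) (U : Over (Spec (CommRingCat.of k))) :
    {a : U ⟶ A // a ≫ f = 1} ≃
      {s : U.left ⟶ pullback f.left (1 : 𝟙_ (Over (Spec (CommRingCat.of k))) ⟶ B).left //
        s ≫ pullback.snd f.left (1 : 𝟙_ (Over (Spec (CommRingCat.of k))) ⟶ B).left = U.hom} where
  toFun a := ⟨pullback.lift a.1.left U.hom (by rw [← Over.comp_left, a.2, one_left_eq U]), pullback.lift_snd _ _ _⟩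
  invFun s := ⟨Over.homMk (s.1 ≫ pullback.fst f.left (1 : 𝟙_ (Over (Spec (CommRingCat.of k))) ⟶ B).left) (by
      rw [Category.assoc, ← Over.w f, pullback.condition_assoc, reassoc_of% s.2, Over.w]
      exact Category.comp_id _), Over.OverMorphism.ext (by
      show (s.1 ≫ pullback.fst _ _) ≫ f.left = _
      rw [Category.assoc, pullback.condition, reassoc_of% s.2, one_left_eq U])⟩
  left_inv a := Subtype.ext (Over.OverMorphism.ext (pullback.lift_fst _ _ _))
  right_inv s := Subtype.ext (pullback.hom_ext (pullback.lift_fst _ _ _) ((pullback.lift_snd _ _ _).trans s.2.symm))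

/-- The rational points of the kernel are at most as many as the degree. -/
theorem natCard_ker_le [GrpObj B] (f : A ⟶ B) [IsFinite f.left] [Flat f.left] :
    Nat.card {a : 𝟙_ (Over (Spec (CommRingCat.of k))) ⟶ A // a ≫ f = 1} ≤
      Scheme.Hom.finrank f.left ((1 : 𝟙_ (Over (Spec (CommRingCat.of k))) ⟶ B).left (IsLocalRing.closedPoint k)) := by
  rw [Nat.card_congr (kerPtsEquiv f _), ← Scheme.Hom.finrank_pullback_snd]
  exact natCard_sections_le _ _

theorem finite_ker [GrpObj B] (f : A ⟶ B) [IsFinite f.left] :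
    Finite {a : 𝟙_ (Over (Spec (CommRingCat.of k))) ⟶ A // a ≫ f = 1} :=
  @Finite.of_equiv _ _ (finite_sections (pullback.snd f.left (1 : 𝟙_ (Over (Spec (CommRingCat.of k))) ⟶ B).left))
    (kerPtsEquiv f (𝟙_ _)).symm

/-- For an étale homomorphism they are exactly as many. -/
theorem natCard_ker_eq [IsAlgClosed k] [GrpObj B] (f : A ⟶ B) [IsFinite f.left] [Etale f.left] :
    Nat.card {a : 𝟙_ (Over (Spec (CommRingCat.of k))) ⟶ A // a ≫ f = 1} =
      Scheme.Hom.finrank f.left ((1 : 𝟙_ (Over (Spec (CommRingCat.of k))) ⟶ B).left (IsLocalRing.closedPoint k)) := by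
  have : Etale (pullback.snd f.left (1 : 𝟙_ (Over (Spec (CommRingCat.of k))) ⟶ B).left) :=
    MorphismProperty.pullback_snd _ _ inferInstance
  have : AlgebraicGeometry.IsReduced (pullback f.left (1 : 𝟙_ (Over (Spec (CommRingCat.of k))) ⟶ B).left) :=
    haveI : AlgebraicGeometry.IsReduced (𝟙_ (Over (Spec (CommRingCat.of k)))).left :=
      inferInstanceAs (AlgebraicGeometry.IsReduced (Spec (CommRingCat.of k)))
    AbSchLib.isReduced_of_smooth (pullback.snd f.left (1 : 𝟙_ (Over (Spec (CommRingCat.of k))) ⟶ B).left)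
  rw [Nat.card_congr (kerPtsEquiv f _), ← Scheme.Hom.finrank_pullback_snd]
  exact natCard_sections_eq _ _

/-- If they are exactly as many, the kernel has no tangent vector at the origin. -/
theorem tangent_eq_one_of_natCard_ker_eq [GrpObj A] [GrpObj B] (f : A ⟶ B) [IsFinite f.left] [Flat f.left]
    (h : Nat.card {a : 𝟙_ (Over (Spec (CommRingCat.of k))) ⟶ A // a ≫ f = 1} =
      Scheme.Hom.finrank f.left ((1 : 𝟙_ (Over (Spec (CommRingCat.of k))) ⟶ B).left (IsLocalRing.closedPoint k)))
    (w : tpt (𝟙 (Spec (CommRingCat.of k))) k ⟶ A)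
    (hw0 : zsec (𝟙 (Spec (CommRingCat.of k))) ≫ w = 1) (hw : w ≫ f = 1) : w = 1 := by
  rw [Nat.card_congr (kerPtsEquiv f _), ← Scheme.Hom.finrank_pullback_snd] at h
  set D := (kerPtsEquiv f (tpt (𝟙 (Spec (CommRingCat.of k))) k) ⟨w, hw⟩)
  have hD : D.1 ≫ _ = Spec.map (CommRingCat.ofHom (algebraMap k (TrivSqZeroExt k k))) :=
    D.2.trans (Category.comp_id _)
  have h2 := tangent_const _ _ h D.1 hD
  have h1 : D.1 ≫ pullback.fst f.left (1 : 𝟙_ (Over (Spec (CommRingCat.of k))) ⟶ B).left = w.left :=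
    pullback.lift_fst _ _ _
  have hw1 : w = tproj (𝟙 (Spec (CommRingCat.of k))) ≫ zsec (𝟙 (Spec (CommRingCat.of k))) ≫ w := by
    refine Over.OverMorphism.ext ?_
    rw [Over.comp_left, Over.comp_left]
    calc w.left = D.1 ≫ pullback.fst _ _ := h1.symm
      _ = _ := by
        conv_lhs => rw [h2]
        exact (Category.assoc _ _ _).trans
          (congrArg (_ ≫ ·) ((Category.assoc _ _ _).trans (congrArg (_ ≫ ·) h1)))
  rw [hw1, hw0, MonObj.comp_one]

/-- A nonzero derivation at a rational point of a local ring which is not a field. -/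
theorem exists_derivation {O : Type u} [CommRing O] [IsLocalRing O] [IsNoetherianRing O] [Algebra k O]
    (χa : O →ₐ[k] k) (hnf : ¬ IsField O) :
    ∃ ψ : O →ₐ[k] TrivSqZeroExt k k, (∀ x, (ψ x).fst = χa x) ∧ ∃ a, (ψ a).snd ≠ 0 := by
  have hker : RingHom.ker χa = IsLocalRing.maximalIdeal O := by
    have : (RingHom.ker χa).IsMaximal := RingHom.ker_isMaximal_of_surjective χa
      (fun r => ⟨algebraMap k O r, χa.commutes r⟩)
    exact IsLocalRing.eq_maximalIdeal this
  obtain ⟨a, ha, ha2⟩ : ∃ a ∈ IsLocalRing.maximalIdeal O, a ∉ IsLocalRing.maximalIdeal O ^ 2 := by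
    refine Set.not_subset.1 fun hle => ?_
    have h0 : IsLocalRing.maximalIdeal O = ⊥ :=
      Submodule.eq_bot_of_le_smul_of_le_jacobson_bot (IsLocalRing.maximalIdeal O) _ (IsNoetherian.noetherian _)
        (by rw [smul_eq_mul, ← pow_two]; exact hle) (IsLocalRing.maximalIdeal_le_jacobson _)
    exact hnf (IsLocalRing.isField_iff_maximalIdeal_eq.2 h0)
  let p : Submodule k O := (IsLocalRing.maximalIdeal O ^ 2).restrictScalars k ⊔ k ∙ (1 : O)
  have hap : a ∉ p := by
    intro h
    obtain ⟨m', hm', t, ht, rfl⟩ := Submodule.mem_sup.1 h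
    obtain ⟨r, rfl⟩ := Submodule.mem_span_singleton.1 ht
    have h1 : m' ∈ IsLocalRing.maximalIdeal O := Ideal.pow_le_self two_ne_zero hm'
    rw [← hker, RingHom.mem_ker] at ha h1
    rw [map_add, h1, zero_add, map_smul, map_one, smul_eq_mul, _root_.mul_one] at ha
    exact ha2 (by simpa [ha] using hm')
  obtain ⟨l, hla, hlp⟩ := Submodule.exists_dual_map_eq_bot_of_notMem hap inferInstance
  have hl : ∀ x ∈ p, l x = 0 := fun x hx => (Submodule.eq_bot_iff _).1 hlp _ (Submodule.mem_map_of_mem hx)
  have hl1 : ∀ r : k, l (algebraMap k O r) = 0 := fun r => by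
    rw [Algebra.algebraMap_eq_smul_one, map_smul, hl 1 (Submodule.mem_sup_right (Submodule.mem_span_singleton_self _)),
      smul_zero]
  refine ⟨AlgHom.mk' (
    { toFun := fun x => TrivSqZeroExt.inl (χa x) + TrivSqZeroExt.inr (l x)
      map_one' := by
        have := hl1 1
        rw [map_one] at this
        simp [this]
      map_mul' := fun x y => by
        refine TrivSqZeroExt.ext (by simp) ?_
        have hx : x - algebraMap k O (χa x) ∈ IsLocalRing.maximalIdeal O := by
          rw [← hker, RingHom.mem_ker, map_sub, AlgHom.commutes]; exact sub_self _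
        have hy : y - algebraMap k O (χa y) ∈ IsLocalRing.maximalIdeal O := by
          rw [← hker, RingHom.mem_ker, map_sub, AlgHom.commutes]; exact sub_self _
        have h2 : l ((x - algebraMap k O (χa x)) * (y - algebraMap k O (χa y))) = 0 :=
          hl _ (Submodule.mem_sup_left (by rw [Submodule.restrictScalars_mem, pow_two]; exact Ideal.mul_mem_mul hx hy))
        have h3 : x * y = (x - algebraMap k O (χa x)) * (y - algebraMap k O (χa y)) + χa x • y + χa y • x
            - algebraMap k O (χa x * χa y) := by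
          rw [Algebra.smul_def, Algebra.smul_def, map_mul]; ring
        have h4 : l (x * y) = χa x * l y + χa y * l x := by
          rw [h3, map_sub, map_add, map_add, h2, hl1, map_smul, map_smul, smul_eq_mul, smul_eq_mul]; ring
        simp [h4, mul_comm]
      map_zero' := by simp
      map_add' := fun x y => by
        refine TrivSqZeroExt.ext (by simp) ?_
        simp } : O →+* TrivSqZeroExt k k) ?_, fun x => ?_, a, ?_⟩
  · intro r x
    refine TrivSqZeroExt.ext ?_ ?_ <;> simp
  · simp
  · simpa using hla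

variable [GrpObj A] [IsProper A.hom] [GeometricallyIntegral A.hom]

/-- A nonzero tangent vector at the origin. -/
theorem exists_tangent_ne_one {g : ℕ} (hg : topologicalKrullDim A.left = g) (hg0 : 0 < g) :
    ∃ w : tpt (𝟙 (Spec (CommRingCat.of k))) k ⟶ A,
      zsec (𝟙 (Spec (CommRingCat.of k))) ≫ w = 1 ∧ w ≠ 1 := by
  have hint : IsIntegral A.left := GeometricallyIntegral.isIntegral_of_subsingleton A.hom
  let e : Spec (CommRingCat.of k) ⟶ A.left := (1 : 𝟙_ (Over (Spec (CommRingCat.of k))) ⟶ A).left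
  have he : e ≫ A.hom = 𝟙 _ := Over.w (1 : 𝟙_ (Over (Spec (CommRingCat.of k))) ⟶ A)
  let x₀ := e (IsLocalRing.closedPoint k)
  have hx₀ : IsClosed ({x₀} : Set A.left) := by
    have : IsClosedImmersion e := by
      have : IsClosedImmersion (e ≫ A.hom) := by rw [he]; infer_instance
      exact IsClosedImmersion.of_comp e A.hom
    convert e.isClosedEmbedding.isClosed_range using 1
    exact (Set.range_eq_singleton_iff.2 fun p => by rw [Subsingleton.elim p (IsLocalRing.closedPoint k)]).symm
  set O := A.left.presheaf.stalk x₀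
  let c : CommRingCat.of k ⟶ O := Spec.preimage (A.left.fromSpecStalk x₀ ≫ A.hom)
  let χ : O ⟶ CommRingCat.of k := Scheme.stalkClosedPointTo e
  have hχe : Spec.map χ ≫ A.left.fromSpecStalk x₀ = e := Scheme.Spec_stalkClosedPointTo_fromSpecStalk e
  have hχc : c ≫ χ = 𝟙 _ := Spec.map_injective (by
    rw [Spec.map_comp, Spec.map_preimage, ← Category.assoc, hχe, he, Spec.map_id])
  algebraize [c.hom]
  let χa : O →ₐ[k] k := { χ.hom with commutes' := fun r => congrArg (fun f : CommRingCat.of k ⟶ CommRingCat.of k => f.hom r) hχc }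
  -- the stalk is not a field
  have hnf : ¬ IsField O := by
    intro hF
    have hsub : ∀ y : A.left, y ⤳ x₀ → y = x₀ := by
      intro y hy
      have hp : y ∈ Set.range (A.left.fromSpecStalk x₀) := by rw [Scheme.range_fromSpecStalk]; exact hy
      have hq : x₀ ∈ Set.range (A.left.fromSpecStalk x₀) := by rw [Scheme.range_fromSpecStalk]; exact specializes_rfl
      obtain ⟨p, rfl⟩ := hp
      obtain ⟨q, hq⟩ := hq
      have : Subsingleton (PrimeSpectrum O) := by
        letI := hF.toField
        infer_instance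
      exact (congrArg _ (Subsingleton.elim (α := PrimeSpectrum O) p q)).trans hq
    have hgen : genericPoint A.left = x₀ := hsub _ (genericPoint_specializes x₀)
    have hall : ∀ y : A.left, y = x₀ := fun y => by
      have := genericPoint_specializes y
      rw [hgen] at this
      exact Set.mem_singleton_iff.1 (this.mem_closed hx₀ rfl)
    have : Subsingleton A.left := ⟨fun a b => (hall a).trans (hall b).symm⟩
    have h0 : topologicalKrullDim A.left ≤ 0 := by
      have : Subsingleton (IrreducibleCloseds A.left) := ⟨fun a b => IrreducibleCloseds.ext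
        ((Set.Nonempty.eq_univ (a.isIrreducible.nonempty)).trans (Set.Nonempty.eq_univ b.isIrreducible.nonempty).symm)⟩
      exact Order.krullDim_nonpos_of_subsingleton
    rw [hg] at h0
    exact (Nat.pos_iff_ne_zero.1 hg0) (by simpa using h0)
  have : IsLocallyNoetherian A.left := LocallyOfFiniteType.isLocallyNoetherian A.hom
  obtain ⟨ψa, hψf', a, hla⟩ := exists_derivation χa hnf
  let ψ := ψa.toRingHom
  have hψf : (TrivSqZeroExt.fstHom k k k).toRingHom.comp ψ = χ.hom := RingHom.ext fun x => hψf' x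
  have hψc : ψ.comp c.hom = algebraMap k (TrivSqZeroExt k k) := ψa.comp_algebraMap
  let w : tpt (𝟙 (Spec (CommRingCat.of k))) k ⟶ A :=
    Over.homMk (Spec.map (CommRingCat.ofHom ψ) ≫ A.left.fromSpecStalk x₀) (by
      show (_ ≫ _) ≫ A.hom = Spec.map _ ≫ 𝟙 _
      rw [Category.comp_id, Category.assoc, ← Spec.map_preimage (A.left.fromSpecStalk x₀ ≫ A.hom), ← Spec.map_comp,
        ← hψc]
      rfl)
  refine ⟨w, ?_, fun hw => hla ?_⟩
  · refine Over.OverMorphism.ext ?_
    rw [one_left_eq]
    show Spec.map _ ≫ Spec.map _ ≫ A.left.fromSpecStalk x₀ = 𝟙 _ ≫ e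
    rw [Category.id_comp, ← Category.assoc, LieS.specMap_comp, hψf, CommRingCat.ofHom_hom, hχe]
  · have h1 := (congrArg CommaMorphism.left hw).trans (one_left_eq (B := A) (tpt (𝟙 (Spec (CommRingCat.of k))) k))
    have h2 : Spec.map (CommRingCat.ofHom ψ) ≫ A.left.fromSpecStalk x₀ =
        Spec.map (CommRingCat.ofHom ((algebraMap k (TrivSqZeroExt k k)).comp χ.hom)) ≫ A.left.fromSpecStalk x₀ := by
      rw [CommRingCat.ofHom_comp, Spec.map_comp, CommRingCat.ofHom_hom, Category.assoc, hχe]
      exact h1.trans (congrArg (fun q => q ≫ e) (Category.comp_id _))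
    have h3 := congrArg CommRingCat.Hom.hom (Spec.map_injective ((cancel_mono _).1 h2))
    have := congrArg TrivSqZeroExt.snd (RingHom.congr_fun h3 a)
    simpa [ψ, TrivSqZeroExt.algebraMap_eq_inl'] using this

omit [IsProper A.hom] [GeometricallyIntegral A.hom] in
theorem mem_torsPts_iff [IsCommMonObj A] {T : Over (Spec (CommRingCat.of k))} (a : T ⟶ A) (n : ℕ) :
    a ∈ AbDual.torsPts A n T ↔ a ≫ (𝟙 A ^ n) = 1 := by
  rw [AbDual.mem_torsPts, MonObj.comp_pow, Category.comp_id]

theorem natCard_torsPts [IsCommMonObj A] (n : ℕ) :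
    Nat.card (AbDual.torsPts A n (𝟙_ (Over (Spec (CommRingCat.of k))))) =
      Nat.card {a : 𝟙_ (Over (Spec (CommRingCat.of k))) ⟶ A // a ≫ (𝟙 A ^ n) = 1} :=
  Nat.card_congr (Equiv.subtypeEquivRight fun a => mem_torsPts_iff a n)

theorem finite_torsPts [IsCommMonObj A] {n : ℕ} (hn : 0 < n) :
    Finite (AbDual.torsPts A n (𝟙_ (Over (Spec (CommRingCat.of k))))) := by
  have := isFinite_pow (A := A) hn
  have := finite_ker (𝟙 A ^ n)
  exact Finite.of_equiv _ (Equiv.subtypeEquivRight fun a => mem_torsPts_iff a n).symm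

theorem natCard_torsPts_le [IsCommMonObj A] {g : ℕ} (hg : topologicalKrullDim A.left = g) {n : ℕ} (hn : 0 < n) :
    Nat.card (AbDual.torsPts A n (𝟙_ (Over (Spec (CommRingCat.of k))))) ≤ n ^ (2 * g) := by
  have := isFinite_pow (A := A) hn
  have := flat_pow (A := A) hn
  rw [natCard_torsPts, ← finrank_pow hn hg ((1 : 𝟙_ (Over (Spec (CommRingCat.of k))) ⟶ A).left (IsLocalRing.closedPoint k))]
  exact natCard_ker_le _

theorem natCard_torsPts_eq [IsAlgClosed k] [IsCommMonObj A] {g : ℕ} (hg : topologicalKrullDim A.left = g) {n : ℕ}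
    (hn : (n : k) ≠ 0) :
    Nat.card (AbDual.torsPts A n (𝟙_ (Over (Spec (CommRingCat.of k))))) = n ^ (2 * g) := by
  have hn0 : 0 < n := Nat.pos_of_ne_zero fun h => hn (by rw [h, Nat.cast_zero])
  have := AbVarLib.smooth_of_geometricallyReduced A
  have : Etale (𝟙 A ^ n).left := by
    rw [← zpow_natCast]
    refine AbVarLib.etale_zpow A (n : ℤ) ?_
    have := (isUnit_iff_ne_zero.2 hn).map (Scheme.ΓSpecIso (CommRingCat.of k)).inv.hom
    rwa [map_natCast, ← Int.cast_natCast] at this
  have := isFinite_pow (A := A) hn0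
  rw [natCard_torsPts, natCard_ker_eq (𝟙 A ^ n), finrank_pow hn0 hg]

theorem natCard_torsPts_lt [IsCommMonObj A] {g : ℕ} (hg : topologicalKrullDim A.left = g) (hg0 : 0 < g) {n : ℕ}
    (hn : 0 < n) (hnk : (n : k) = 0) :
    Nat.card (AbDual.torsPts A n (𝟙_ (Over (Spec (CommRingCat.of k))))) < n ^ (2 * g) := by
  refine lt_of_le_of_ne (natCard_torsPts_le hg hn) fun h => ?_
  have := isFinite_pow (A := A) hn
  have := flat_pow (A := A) hn
  obtain ⟨w, hw0, hw1⟩ := exists_tangent_ne_one (A := A) hg hg0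
  refine hw1 (tangent_eq_one_of_natCard_ker_eq (𝟙 A ^ n) ?_ w hw0 ?_)
  · rw [← natCard_torsPts, h, finrank_pow hn hg]
  · rw [MonObj.comp_pow, Category.comp_id, ← zpow_natCast, AbVarLib.zpow_eq_tmap_comp _ hw0,
      show ((n : ℤ) • LinearMap.id : k →ₗ[k] k) = 0 from by
        rw [← Int.cast_smul_eq_zsmul k, Int.cast_natCast, hnk, zero_smul],
      AbVarLib.tmap_zero, Category.assoc, hw0, MonObj.comp_one]

/-- Every rational point is divisible. -/
theorem exists_pow_eq [IsAlgClosed k] {n : ℕ} (hn : 0 < n) (a : 𝟙_ (Over (Spec (CommRingCat.of k))) ⟶ A) :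
    ∃ b : 𝟙_ (Over (Spec (CommRingCat.of k))) ⟶ A, b ^ n = a := by
  have := isFinite_pow (A := A) hn
  have := surjective_pow (A := A) hn
  obtain ⟨x, hx⟩ := (𝟙 A ^ n).left.surjective (a.left (IsLocalRing.closedPoint k))
  have : JacobsonSpace A.left := LocallyOfFiniteType.jacobsonSpace A.hom
  have hc : IsClosed ((𝟙 A ^ n).left ⁻¹' {a.left (IsLocalRing.closedPoint k)}) :=
    (isClosed_point a).preimage (𝟙 A ^ n).left.continuous
  obtain ⟨y, hy1, hy⟩ := nonempty_inter_closedPoints (Set.nonempty_of_mem (show x ∈ _ from hx)) hc.isLocallyClosed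
  refine ⟨Over.homMk (pointOfClosedPoint A.hom y (mem_closedPoints_iff.1 hy))
    (pointOfClosedPoint_comp A.hom y (mem_closedPoints_iff.1 hy)), ?_⟩
  rw [← Category.comp_id (Over.homMk _ _), ← MonObj.comp_pow]
  refine point_ext ?_
  rw [Over.comp_left, Scheme.Hom.comp_apply]
  exact (congrArg _ (pointOfClosedPoint_apply A.hom y _ _)).trans hy1

end Groth.Agent.AbCubeLib
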