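import Groth.Agent.AbCubeLib.Subvariety
import Groth.Agent.AbCubeLib.Torsion
import Groth.Agent.AbCubeLib.EpiPow
import Groth.Agent.EulerLib.CohSub

/-!
# The `l`-power torsion points of an abelian variety are dense
-/

set_option autoImplicit false
set_option backward.isDefEq.respectTransparency.types false

universe u

open CategoryTheory CategoryTheory.Limits MonoidalCategory CartesianMonoidalCategory AlgebraicGeometry MonObj
  TopologicalSpace
open Groth.Agent.PicLib Groth.Agent.CubeLib Groth.Agent.AmpleLib Groth.Agent.Coherent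

namespace Groth.Agent.AbCubeLib

variable {k : Type u} [Field k] {A : Over (Spec (CommRingCat.of k))} [GrpObj A] [IsProper A.hom]
  [GeometricallyIntegral A.hom]

theorem exists_dim_eq (A : Over (Spec (CommRingCat.of k))) [IsProper A.hom] [GeometricallyIntegral A.hom] :
    ∃ g : ℕ, topologicalKrullDim A.left = g := by
  letI : A.left.Over (Spec (CommRingCat.of k)) := ⟨A.hom⟩
  haveI : IsProper (A.left ↘ Spec (CommRingCat.of k)) := ‹IsProper A.hom›
  have : IsIntegral A.left := GeometricallyIntegral.isIntegral_of_subsingleton A.hom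
  obtain ⟨r, hr⟩ := EulerLib.exists_dim_le k (Set.univ : Set A.left)
  have hr' : topologicalKrullDim A.left ≤ r :=
    ((IsHomeomorph.topologicalKrullDim_eq _ (Homeomorph.Set.univ A.left).isHomeomorph).ge).trans hr
  have h0 : 0 ≤ topologicalKrullDim A.left := by
    obtain ⟨x⟩ : Nonempty A.left := inferInstance
    exact Order.krullDim_nonneg_iff.2 ⟨⟨closure {x}, isIrreducible_singleton.closure, isClosed_closure⟩⟩
  generalize topologicalKrullDim A.left = d at hr' h0
  induction d using WithBot.recBotCoe with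
  | bot => simp at h0
  | coe d =>
    induction d using ENat.recTopCoe with
    | top => exact absurd (WithBot.coe_le_coe.1 hr') (not_le.2 (ENat.natCast_lt_top r))
    | coe d => exact ⟨d, rfl⟩

variable [IsAlgClosed k] [IsCommMonObj A]

/-- The points killed by a power of `l`. -/
noncomputable def powTors (A : Over (Spec (CommRingCat.of k))) [GrpObj A] [IsCommMonObj A] (l : ℕ) :
    Subgroup (𝟙_ (Over (Spec (CommRingCat.of k))) ⟶ A) where
  carrier := {a | ∃ n, a ∈ AbDual.torsPts A (l ^ n) _}
  one_mem' := ⟨0, one_mem _⟩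
  mul_mem' := by
    rintro a b ⟨m, hm⟩ ⟨n, hn⟩
    refine ⟨m + n, mul_mem ?_ ?_⟩
    · rw [AbDual.mem_torsPts, pow_add, pow_mul, (AbDual.mem_torsPts A _).1 hm, one_pow]
    · rw [AbDual.mem_torsPts, pow_add, _root_.mul_comm, pow_mul, (AbDual.mem_torsPts A _).1 hn, one_pow]
  inv_mem' := by
    rintro a ⟨n, hn⟩
    exact ⟨n, inv_mem hn⟩

/-- A subgroup with enough `l`-power torsion points is dense. -/
theorem closure_eq_univ_of_powTors_le {l : ℕ} (hl : l.Prime) (hlk : (l : k) ≠ 0)
    (H : Subgroup (𝟙_ (Over (Spec (CommRingCat.of k))) ⟶ A)) (hle : powTors A l ≤ H) :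
    closure (ptOf '' (SetLike.coe H)) = Set.univ := by
  obtain ⟨B, _, i, H₁, hiG, hci, hgi, hp, hH₁, hind, hrg⟩ := exists_subvariety_of_subgroup (powTors A l)
  have : IsCommMonObj B := isCommMonObj_of_isProper_of_geometricallyIntegral B
  obtain ⟨g, hg⟩ := exists_dim_eq A
  obtain ⟨h, hh⟩ := exists_dim_eq B
  have hlk' : ∀ m, ((l ^ m : ℕ) : k) ≠ 0 := fun m => by rw [Nat.cast_pow]; exact pow_ne_zero _ hlk
  set c := (H₁.subgroupOf (powTors A l)).index with hc
  have key : ∀ m, l ^ (2 * g * m) ≤ c * l ^ (2 * h * m) := by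
    intro m
    let T := AbDual.torsPts A (l ^ m) (𝟙_ (Over (Spec (CommRingCat.of k))))
    have hT : Nat.card T = l ^ (2 * g * m) :=
      (natCard_torsPts_eq hg (hlk' m)).trans (by rw [← pow_mul, _root_.mul_comm])
    have h1 : H₁.relIndex T ≤ c :=
      Subgroup.relIndex_le_of_le_right (fun a ha => ⟨m, ha⟩) hind
    have h2 : Nat.card (H₁.subgroupOf T) ≤ l ^ (2 * h * m) := by
      rw [show l ^ (2 * h * m) = Nat.card (AbDual.torsPts B (l ^ m) (𝟙_ (Over (Spec (CommRingCat.of k))))) from
        ((natCard_torsPts_eq hh (hlk' m)).trans (by rw [← pow_mul, _root_.mul_comm])).symm]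
      have := finite_torsPts (A := B) (pow_pos hl.pos m)
      have hmem : ∀ x : H₁.subgroupOf T, ∃ b : 𝟙_ (Over (Spec (CommRingCat.of k))) ⟶ B, b ≫ i = x.1.1 := by
        intro x
        have hxr : ptOf x.1.1 ∈ Set.range i.left := hrg.ge (subset_closure ⟨_, x.2, rfl⟩)
        obtain ⟨y, hy⟩ := hxr
        have hyc : IsClosed ({y} : Set B.left) := by
          rw [← Set.preimage_image_eq {y} i.left.isClosedEmbedding.injective, Set.image_singleton, hy]
          exact (isClosed_point x.1.1).preimage i.left.continuous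
        obtain ⟨b, rfl⟩ := exists_ptOf hyc
        exact ⟨b, point_ext hy⟩
      choose b hb using hmem
      have : Mono i.left := inferInstance
      have : Mono i := (Over.forget _).mono_of_mono_map (inferInstanceAs (Mono i.left))
      have hbt : ∀ x, b x ∈ AbDual.torsPts B (l ^ m) _ := fun x => by
        rw [AbDual.mem_torsPts, ← cancel_mono i, MonObj.one_comp, pow_comp_hom, hb]
        exact x.1.2
      refine Nat.card_le_card_of_injective (fun x => (⟨b x, hbt x⟩ : AbDual.torsPts B (l ^ m) _)) fun x y e => ?_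
      exact Subtype.ext (Subtype.ext (by rw [← hb x, ← hb y]; exact congrArg (· ≫ i) (congrArg Subtype.val e)))
    have h3 := (H₁.subgroupOf T).card_mul_index
    rw [hT] at h3
    rw [← h3, _root_.mul_comm c]
    exact Nat.mul_le_mul h2 h1
  have hgh : g ≤ h := by
    by_contra hlt
    have hk := key c
    obtain ⟨e, rfl⟩ : ∃ e, g = h + 1 + e := ⟨g - (h + 1), by omega⟩
    rw [show 2 * (h + 1 + e) * c = 2 * c + 2 * e * c + 2 * h * c by ring, pow_add] at hk
    have := Nat.le_of_mul_le_mul_right hk (pow_pos hl.pos _)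
    have h4 : c < l ^ (2 * c + 2 * e * c) :=
      (Nat.lt_pow_self hl.one_lt).trans_le (Nat.pow_le_pow_right hl.pos (by omega))
    omega
  have hdim : topologicalKrullDim B.left = topologicalKrullDim A.left := by
    refine le_antisymm i.left.isClosedEmbedding.isInducing.topologicalKrullDim_le ?_
    rw [hg, hh]
    exact_mod_cast hgh
  obtain ⟨hs, -⟩ := AbVarLib.surjective_and_flat_of_isFinite i hdim
  refine Set.eq_univ_of_forall fun x => ?_
  obtain ⟨y, rfl⟩ := i.left.surjective x
  have h5 : H₁ ≤ H := le_trans hH₁ hle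
  exact closure_mono (Set.image_mono h5) (hrg.subset ⟨y, rfl⟩)

end Groth.Agent.AbCubeLib
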