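import Groth.Agent.AbCubeLib.CharpolyInt
import Groth.Agent.AbVarLib.ChowFormal

/-!
# Degrees and Tate modules of endomorphisms after extension of the base field
-/

set_option autoImplicit false
set_option backward.isDefEq.respectTransparency.types false

universe u

open CategoryTheory CategoryTheory.Limits MonoidalCategory CartesianMonoidalCategory AlgebraicGeometry MonObj

namespace Groth.Agent.AbCubeLib

theorem toHom_sub_intCast {S : Scheme.{u}} {A : Over S} [GrpObj A] [IsCommMonObj A] (φ : EndAV.End A) (n : ℤ) :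
    (φ - (n : EndAV.End A)).toHom = φ.toHom * 𝟙 A ^ (-n) := by
  rw [sub_eq_add_neg, ← Int.cast_neg, EndAV.End.toHom_add, EndAV.End.toHom_intCast]

section Tate

variable {S S' : Scheme.{u}} (g : S' ⟶ S) (A : Over S) [GrpObj A] [IsCommMonObj A]

noncomputable local instance : GrpObj ((Over.pullback g).obj A) := Functor.grpObjObj

variable [IsCommMonObj ((Over.pullback g).obj A)] (l : ℕ) [Fact l.Prime]

/-- Points over `S'` and rational points of the base change, written additively. -/
noncomputable def addPts : Additive (Over.mk g ⟶ A) ≃+ Additive (𝟙_ (Over S') ⟶ (Over.pullback g).obj A) :=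
  MulEquiv.toAdditive (MulEquiv.ofBijective (bcPts g A) (bcPts_bijective g A))

/-- The Tate module of the base change. -/
noncomputable def tateBC : AbDual.TateMod A l (Over.mk g) ≃ₗ[ℤ_[l]]
    AbDual.TateMod ((Over.pullback g).obj A) l (𝟙_ (Over S')) where
  toFun x := ⟨fun n => addPts g A ((x : ℕ → Additive (Over.mk g ⟶ A)) n),
    fun n => by rw [← map_nsmul, x.2.1 n, map_zero], fun n => by rw [← map_nsmul, x.2.2 n]⟩
  invFun y := ⟨fun n => (addPts g A).symm ((y : ℕ → Additive (_ ⟶ _)) n),
    fun n => by rw [← map_nsmul, y.2.1 n, map_zero], fun n => by rw [← map_nsmul, y.2.2 n]⟩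
  left_inv x := Subtype.ext (funext fun n => (addPts g A).symm_apply_apply _)
  right_inv y := Subtype.ext (funext fun n => (addPts g A).apply_symm_apply _)
  map_add' x y := Subtype.ext (funext fun n => map_add (addPts g A) _ _)
  map_smul' a x := Subtype.ext (funext fun n => map_nsmul (addPts g A) _ _)

theorem tateBC_comm (f : A ⟶ A) [IsMonHom f] [IsMonHom ((Over.pullback g).map f)]
    (x : AbDual.TateMod A l (Over.mk g)) :
    tateBC g A l (AbDual.tateMapₗ (l := l) f x) =
      AbDual.tateMapₗ (l := l) ((Over.pullback g).map f) (tateBC g A l x) :=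
  Subtype.ext (funext fun _ => congrArg Additive.ofMul (bcPts_comp g A _ f))

end Tate

variable {k : Type u} [Field k] {K : Type u} [Field K] [IsAlgClosed K]
  (j : Spec (CommRingCat.of K) ⟶ Spec (CommRingCat.of k)) {A : Over (Spec (CommRingCat.of k))}
  [GrpObj A] [IsCommMonObj A] [IsProper A.hom] [GeometricallyIntegral A.hom]

noncomputable local instance : GrpObj ((Over.pullback j).obj A) := Functor.grpObjObj

local instance : IsProper ((Over.pullback j).obj A).hom := inferInstanceAs (IsProper (pullback.snd A.hom j))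

local instance : GeometricallyIntegral ((Over.pullback j).obj A).hom :=
  inferInstanceAs (GeometricallyIntegral (pullback.snd A.hom j))

local instance : IsCommMonObj ((Over.pullback j).obj A) := isCommMonObj_of_isProper_of_geometricallyIntegral _

theorem dim_bc_eq {r : ℕ} (hr : topologicalKrullDim A.left = r) :
    topologicalKrullDim ((Over.pullback j).obj A).left = r := by
  obtain ⟨φ, rfl⟩ := Spec.map_surjective j
  letI := φ.hom.toAlgebra
  exact (DimLib.topologicalKrullDim_bc A.hom K).trans hr

theorem surjective_pr : Surjective (pullback.fst A.hom j) := by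
  haveI : Surjective j := ⟨fun x => ⟨IsLocalRing.closedPoint K, Subsingleton.elim _ _⟩⟩
  exact MorphismProperty.pullback_fst (P := @Surjective) _ _ inferInstance

/-- The degree does not change with the base field. -/
theorem degQ_map {r : ℕ} (hr : topologicalKrullDim A.left = r) (f : A ⟶ A) [IsMonHom f]
    [IsMonHom ((Over.pullback j).map f)] : degQ ((Over.pullback j).map f) = degQ f := by
  have hsq := AbVarLib.isPullback_map j f
  have hr' := dim_bc_eq j (A := A) hr
  by_cases hf : IsFinite f.left
  · obtain ⟨-, hflat⟩ := AbVarLib.surjective_and_flat_of_isFinite f rfl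
    haveI : IsFinite ((Over.pullback j).map f).left := AbVarLib.prop_map @IsFinite j f hf
    let y : ((Over.pullback j).obj A).left :=
      (1 : 𝟙_ (Over (Spec (CommRingCat.of K))) ⟶ (Over.pullback j).obj A).left (IsLocalRing.closedPoint K)
    rw [degQ_eq hr' _ y, degQ_eq hr f ((pullback.fst A.hom j) y)]
    exact congrArg Nat.cast (Scheme.Hom.finrank_of_isPullback _ _ _ _ hsq y)
  · have hnf : ¬ IsFinite ((Over.pullback j).map f).left := by
      intro h
      haveI := (AbVarLib.surjective_and_flat_of_isFinite ((Over.pullback j).map f) rfl).1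
      haveI := surjective_pr j (A := A)
      haveI : Surjective (((Over.pullback j).map f).left ≫ pullback.fst A.hom j) := inferInstance
      haveI : Surjective (pullback.fst A.hom j ≫ f.left) := by rw [hsq.w]; infer_instance
      haveI := Surjective.of_comp (pullback.fst A.hom j) f.left
      exact hf (AbVarLib.isFinite_and_flat_of_surjective f rfl).1
    rw [degQ, degQ, if_neg hnf, if_neg hf]

/-- The integral characteristic polynomial, over any field. -/
theorem exists_int_charpoly_bc {r : ℕ} (hr : topologicalKrullDim A.left = r) (φ : EndAV.End A) :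
    ∃ P : Polynomial ℤ, P.Monic ∧ P.natDegree = 2 * r ∧
      (∀ n : ℤ, degQ (φ - (n : EndAV.End A)).toHom = ((P.eval n : ℤ) : ℚ)) ∧
      ∀ (l : ℕ) [Fact l.Prime], (l : k) ≠ 0 →
        ∀ [Module.Free ℤ_[l] (AbDual.TateMod A l (Over.mk j))] [Module.Finite ℤ_[l] (AbDual.TateMod A l (Over.mk j))],
          (EndAV.End.tateRep l (Over.mk j) φ).charpoly = P.map (Int.castRingHom ℤ_[l]) := by
  haveI : IsMonHom ((Over.pullback j).map φ.toHom) := Functor.map.instIsMonHom _ _ _
  obtain ⟨P, hP, hPd, hval, hchar⟩ :=
    exists_int_charpoly (dim_bc_eq j (A := A) hr) (EndAV.End.of ((Over.pullback j).map φ.toHom))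
  refine ⟨P, hP, hPd, fun n => ?_, ?_⟩
  · haveI : IsMonHom ((Over.pullback j).map (φ - (n : EndAV.End A)).toHom) := Functor.map.instIsMonHom _ _ _
    rw [← hval n, ← degQ_map j hr]
    refine congrArg degQ ?_
    rw [toHom_sub_intCast, toHom_sub_intCast]
    show (Over.pullback j).homMonoidHom (φ.toHom * 𝟙 A ^ (-n)) = _
    rw [map_mul, map_zpow]
    exact congrArg (fun x => (Over.pullback j).map φ.toHom * x ^ (-n)) ((Over.pullback j).map_id A)
  · intro l _ hl _ _
    have hlK : (l : K) ≠ 0 := by
      rw [← map_natCast (Spec.preimage j).hom]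
      exact (_root_.map_ne_zero _).2 hl
    haveI := Module.Free.of_equiv (tateBC j A l)
    haveI := Module.Finite.equiv (tateBC j A l)
    rw [← hchar l hlK]
    refine (LinearEquiv.charpoly_conj (tateBC j A l) _).symm.trans (congrArg LinearMap.charpoly ?_)
    refine LinearMap.ext fun y => ?_
    rw [LinearEquiv.conj_apply_apply]
    exact (tateBC_comm j A l φ.toHom _).trans
      (congrArg _ ((tateBC j A l).apply_symm_apply y))

end Groth.Agent.AbCubeLib

namespace Groth.Agent.AbCubeLib

variable {k : Type u} [Field k] {A : Over (Spec (CommRingCat.of k))}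
  [GrpObj A] [IsCommMonObj A] [IsProper A.hom] [GeometricallyIntegral A.hom]

/-- The statements about degrees in terms of `degQ`. -/
theorem degQ_eq_iff {r : ℕ} (hr : topologicalKrullDim A.left = r) (f : A ⟶ A) [IsMonHom f] (q : ℚ) :
    degQ f = q ↔ (IsFinite f.left → ∀ a : A.left, (Scheme.Hom.finrank f.left a : ℚ) = q) ∧
      (¬ IsFinite f.left → q = 0) := by
  refine ⟨fun h => ⟨fun hf a => ?_, fun hf => ?_⟩, fun h => ?_⟩
  · rw [← h, degQ_eq hr f a]
  · rw [← h, degQ, if_neg hf]
  · by_cases hf : IsFinite f.left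
    · rw [degQ_eq hr f ((1 : 𝟙_ (Over (Spec (CommRingCat.of k))) ⟶ A).left (IsLocalRing.closedPoint k))]
      exact h.1 hf _
    · rw [degQ, if_neg hf, h.2 hf]

/-- Two rational polynomials giving the degrees are equal. -/
theorem eq_of_degQ_eq {φ : EndAV.End A} {P Q : Polynomial ℚ}
    (hP : ∀ n : ℤ, degQ (φ - (n : EndAV.End A)).toHom = P.eval (n : ℚ))
    (hQ : ∀ n : ℤ, degQ (φ - (n : EndAV.End A)).toHom = Q.eval (n : ℚ)) : P = Q := by
  refine Polynomial.eq_of_infinite_eval_eq P Q ?_
  refine (Set.infinite_range_of_injective (Int.cast_injective (α := ℚ))).mono ?_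
  rintro x ⟨n, rfl⟩
  exact (hP n).symm.trans (hQ n)

/-- The determinant on the Tate module is the degree. -/
theorem det_eq_degQ {K : Type u} [Field K] [IsAlgClosed K] (j : Spec (CommRingCat.of K) ⟶ Spec (CommRingCat.of k))
    {r : ℕ} (hr : topologicalKrullDim A.left = r) (l : ℕ) [Fact l.Prime] (hl : (l : k) ≠ 0)
    [Module.Free ℤ_[l] (AbDual.TateMod A l (Over.mk j))] [Module.Finite ℤ_[l] (AbDual.TateMod A l (Over.mk j))]
    (φ : EndAV.End A) :
    ∃ d : ℤ, degQ φ.toHom = (d : ℚ) ∧ LinearMap.det (EndAV.End.tateRep l (Over.mk j) φ) = (d : ℤ_[l]) := by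
  obtain ⟨P, hP, hPd, hval, hchar⟩ := exists_int_charpoly_bc j hr φ
  refine ⟨P.eval 0, ?_, ?_⟩
  · have := hval 0
    rwa [Int.cast_zero, sub_zero] at this
  · rw [LinearMap.det_eq_sign_charpoly_coeff, hchar l hl, Polynomial.coeff_map, ← Polynomial.coeff_zero_eq_eval_zero,
      ← LinearMap.charpoly_natDegree (EndAV.End.tateRep l (Over.mk j) φ), hchar l hl, hP.natDegree_map, hPd,
      pow_mul, neg_one_sq, one_pow, _root_.one_mul]
    rfl

end Groth.Agent.AbCubeLib
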