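import Groth.Agent.AbCubeLib.SubvarietyDescend
import Groth.Agent.AbCubeLib.DenseTorsion
import Groth.Agent.AbCubeLib.EndBC
import Groth.Agent.AbCubeLib.PrimaryGalois
import Groth.Agent.AbCubeLib.DenseBaseChange
import Groth.Agent.DimLib.Points

/-!
# Abelian subvarieties over a primary extension are defined over the ground field
-/

set_option autoImplicit false
set_option backward.isDefEq.respectTransparency.types false
set_option maxHeartbeats 1600000

universe u

open CategoryTheory CategoryTheory.Limits MonoidalCategory CartesianMonoidalCategory AlgebraicGeometry MonObj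
  TopologicalSpace
open Groth.Agent.CubeLib

namespace Groth.Agent.AbCubeLib

variable {k K : Type u} [Field k] [Field K] [Algebra k K]

local notation "sK" => Spec.map (CommRingCat.ofHom (algebraMap k K))

variable {A : Over (Spec (CommRingCat.of k))} [GrpObj A]

noncomputable local instance : GrpObj ((Over.pullback sK).obj A) := Functor.grpObjObj

variable (K) (L : Type u) [Field L] [Algebra K L] [Algebra k L] [IsScalarTower k K L]

/-- A point with values in an extension of `K`, as a point of the base change to `K`. -/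
noncomputable def liftPt : (extPt (K := k) L ⟶ A) →* (extPt (K := K) L ⟶ (Over.pullback sK).obj A) :=
  MonoidHom.mk' (fun x => (Over.homMk (pullback.lift (𝟙 (Spec (CommRingCat.of L)))
      (Spec.map (CommRingCat.ofHom (algebraMap K L))) (by
        show 𝟙 (Spec (CommRingCat.of L)) ≫ Spec.map (CommRingCat.ofHom (algebraMap k L)) = _ ≫ sK
        rw [Category.id_comp, ← Spec.map_comp, ← CommRingCat.ofHom_comp, ← IsScalarTower.algebraMap_eq])) (pullback.lift_snd _ _ _) : extPt (K := K) L ⟶ (Over.pullback sK).obj (extPt (K := k) L)) ≫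
      (Over.pullback sK).map x) fun a b => by
    rw [show (Over.pullback sK).map (a * b) = _ from map_mul ((Over.pullback sK).homMonoidHom) a b, MonObj.comp_mul]
    rfl

theorem liftPt_left_fst (x : extPt (K := k) L ⟶ A) :
    (liftPt K L x).left ≫ pullback.fst A.hom sK = x.left := by
  show (_ ≫ ((Over.pullback sK).map x).left) ≫ _ = _
  rw [Category.assoc]
  erw [pullback.lift_fst, pullback.lift_fst_assoc]
  exact Category.id_comp _

theorem liftPt_bijective : Function.Bijective (liftPt K L (A := A)) := by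
  constructor
  · intro a b h
    refine Over.OverMorphism.ext ?_
    rw [← liftPt_left_fst K L a, ← liftPt_left_fst K L b, h]
  · intro z
    refine ⟨Over.homMk (z.left ≫ pullback.fst A.hom sK) ?_, Over.OverMorphism.ext (pullback.hom_ext ?_
      ((Over.w _).trans (Over.w z).symm))⟩
    · show (z.left ≫ pullback.fst A.hom sK) ≫ A.hom = Spec.map _
      rw [Category.assoc, pullback.condition, ← Category.assoc]
      refine (congrArg (· ≫ sK) (Over.w z)).trans ?_
      show Spec.map _ ≫ sK = _
      rw [← Spec.map_comp, ← CommRingCat.ofHom_comp, ← IsScalarTower.algebraMap_eq]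
    · exact liftPt_left_fst K L _

variable {K}

/-- **An abelian subvariety over a primary extension is defined over the ground field**, as a subset. -/
theorem exists_subvariety_range_eq (hprim : ∀ x : K, IsSeparable k x → x ∈ (algebraMap k K).range)
    [IsProper A.hom] [GeometricallyIntegral A.hom]
    {B' : Over (Spec (CommRingCat.of K))} [GrpObj B'] [IsProper B'.hom] [GeometricallyIntegral B'.hom]
    (i' : B' ⟶ (Over.pullback sK).obj A) [IsMonHom i'] [IsClosedImmersion i'.left] :
    ∃ (B : Over (Spec (CommRingCat.of k))) (_ : GrpObj B) (i : B ⟶ A), IsProper B.hom ∧ GeometricallyIntegral B.hom ∧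
      IsMonHom i ∧ IsClosedImmersion i.left ∧
      Set.range i'.left = pullback.fst A.hom sK ⁻¹' Set.range i.left := by
  classical
  let L₀ := AlgebraicClosure k
  let L := AlgebraicClosure K
  let emb : L₀ →ₐ[k] L := IsAlgClosed.lift
  letI : Algebra L₀ L := emb.toRingHom.toAlgebra
  haveI : IsScalarTower k L₀ L := IsScalarTower.of_algebraMap_eq fun x => (emb.commutes x).symm
  let g₀ := Spec.map (CommRingCat.ofHom (algebraMap k L₀))
  let gK := Spec.map (CommRingCat.ofHom (algebraMap K L))
  let gι := Spec.map (CommRingCat.ofHom (algebraMap L₀ L))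
  have hgι : gι ≫ g₀ = Spec.map (CommRingCat.ofHom (algebraMap k L)) := by
    rw [← Spec.map_comp, ← CommRingCat.ofHom_comp, ← IsScalarTower.algebraMap_eq]
  have hgK : gK ≫ sK = Spec.map (CommRingCat.ofHom (algebraMap k L)) := by
    rw [← Spec.map_comp, ← CommRingCat.ofHom_comp, ← IsScalarTower.algebraMap_eq]
  haveI : IsCommMonObj A := isCommMonObj_of_isProper_of_geometricallyIntegral A
  let X := (Over.pullback sK).obj A
  haveI : IsProper X.hom := inferInstanceAs (IsProper (pullback.snd A.hom sK))
  haveI : GeometricallyIntegral X.hom := inferInstanceAs (GeometricallyIntegral (pullback.snd A.hom sK))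
  haveI : IsCommMonObj X := isCommMonObj_of_isProper_of_geometricallyIntegral X
  haveI : IsCommMonObj B' := isCommMonObj_of_isProper_of_geometricallyIntegral B'
  haveI : Mono i' := Over.mono_of_mono_left i'
  letI : GrpObj ((Over.pullback g₀).obj A) := Functor.grpObjObj
  let A₀ := (Over.pullback g₀).obj A
  haveI : IsProper A₀.hom := inferInstanceAs (IsProper (pullback.snd A.hom g₀))
  haveI : GeometricallyIntegral A₀.hom := inferInstanceAs (GeometricallyIntegral (pullback.snd A.hom g₀))
  haveI : IsCommMonObj A₀ := isCommMonObj_of_isProper_of_geometricallyIntegral A₀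
  let pι : extPt (K := k) L ⟶ extPt (K := k) L₀ := Over.homMk gι hgι
  haveI : Epi pι := by
    haveI : Surjective gι := ⟨fun x => ⟨IsLocalRing.closedPoint L, Subsingleton.elim (α := PrimeSpectrum L₀) _ _⟩⟩
    haveI : Flat gι := flat_of_field _
    haveI : QuasiCompact gι := inferInstanceAs (QuasiCompact (Spec.map _))
    haveI : Epi pι.left := inferInstanceAs (Epi gι)
    exact Over.epi_of_epi_left _
  -- the points which lie in the subvariety
  let post : (extPt (K := K) L ⟶ B') →* (extPt (K := K) L ⟶ X) :=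
    MonoidHom.mk' (fun b => b ≫ i') fun a b => MonObj.mul_comp a b i'
  let pre : (extPt (K := k) L₀ ⟶ A) →* (extPt (K := k) L ⟶ A) :=
    MonoidHom.mk' (fun y => pι ≫ y) fun a b => MonObj.comp_mul pι a b
  let H₀ : Subgroup (extPt (K := k) L₀ ⟶ A) := post.range.comap ((liftPt K L).comp pre)
  have hmem : ∀ y, y ∈ H₀ ↔ (liftPt K L (pι ≫ y)).left (IsLocalRing.closedPoint L) ∈ Set.range i'.left := by
    intro y
    constructor
    · rintro ⟨b, hb⟩
      exact ⟨b.left (IsLocalRing.closedPoint L), by
        rw [← Scheme.Hom.comp_apply, ← Over.comp_left]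
        exact congrArg (fun f : extPt (K := K) L ⟶ X => f.left (IsLocalRing.closedPoint L)) hb⟩
    · intro h
      haveI : IsReduced (extPt (K := K) L).left := inferInstanceAs (IsReduced (Spec (CommRingCat.of L)))
      obtain ⟨z, hz⟩ := RedSepLib.exists_lift_of_range_subset (liftPt K L (pι ≫ y)).left i'.left (by
        rintro _ ⟨p, rfl⟩
        rw [Subsingleton.elim (α := PrimeSpectrum L) p (IsLocalRing.closedPoint L)]
        exact h)
      exact ⟨Over.homMk z (by rw [← Over.w i', reassoc_of% hz]; exact Over.w (liftPt K L (pι ≫ y))),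
        Over.OverMorphism.ext hz⟩
  obtain ⟨B₁, _, i₁, H₁, hi₁, hi₁c, hB₁g, hB₁p, hH₁, hind, hrg₁⟩ :=
    exists_subvariety_of_subgroup (A := A₀) (H₀.map (bcPts g₀ A))
  set c := (H₁.subgroupOf (H₀.map (bcPts g₀ A))).index with hc
  have hpow : ∀ y ∈ H₀, bcPts g₀ A y ^ c ∈ H₁ := fun y hy =>
    Subgroup.pow_index_mem (H₁.subgroupOf (H₀.map (bcPts g₀ A))) ⟨_, y, hy, rfl⟩
  -- the base change to the big algebraic closure
  let P := (Over.pullback gK).obj X
  let π : P.left ⟶ A₀.left :=
    pullback.lift (pullback.fst X.hom gK ≫ pullback.fst A.hom sK) (pullback.snd X.hom gK ≫ gι) (by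
      rw [Category.assoc, Category.assoc, hgι, ← hgK, pullback.condition, ← Category.assoc]
      exact (Category.assoc _ _ _).trans (pullback.condition_assoc (f := X.hom) (g := gK) sK))
  have hsqP : IsPullback π (pullback.snd X.hom gK) A₀.hom gι := by
    refine IsPullback.of_right (h₁₂ := pullback.fst A.hom g₀) (v₁₃ := A.hom) (h₂₂ := g₀) ?_
      (pullback.lift_snd _ _ _) (IsPullback.of_hasPullback A.hom g₀)
    rw [pullback.lift_fst, hgι, ← hgK]
    exact (IsPullback.of_hasPullback X.hom gK).paste_horiz (IsPullback.of_hasPullback A.hom sK)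
  have hD : π ⁻¹' Set.range i₁.left ⊆ pullback.fst X.hom gK ⁻¹' Set.range i'.left := by
    rw [hrg₁]
    let W : Set (Spec (CommRingCat.of L₀) ⟶ A₀.left) :=
      (fun a : 𝟙_ (Over (Spec (CommRingCat.of L₀))) ⟶ A₀ => a.left) '' (SetLike.coe H₁)
    have e : ptOf '' (SetLike.coe H₁) = (fun w => w (IsLocalRing.closedPoint L₀)) '' W := by
      rw [Set.image_image]
    rw [e]
    refine preimage_closure_subset hsqP W (by rintro _ ⟨a, -, rfl⟩; exact Over.w a)
      (i'.left.isClosedEmbedding.isClosed_range.preimage (pullback.fst X.hom gK).continuous) ?_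
    rintro _ ⟨a, ha, rfl⟩
    obtain ⟨y, hy, rfl⟩ := hH₁ ha
    show pullback.fst X.hom gK _ ∈ Set.range i'.left
    rw [← Scheme.Hom.comp_apply]
    refine (congrArg (fun m : Spec (CommRingCat.of L) ⟶ X.left => m (IsLocalRing.closedPoint L)) ?_).symm ▸ (hmem y).1 hy
    refine pullback.hom_ext ?_ ?_
    · rw [Category.assoc, liftPt_left_fst, show (pι ≫ y).left = gι ≫ y.left from rfl, ← tautPt_map_left g₀ y,
        show pullback.fst X.hom gK ≫ pullback.fst A.hom sK = π ≫ pullback.fst A.hom g₀ from (pullback.lift_fst _ _ _).symm,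
        hsqP.lift_fst_assoc]
      rfl
    · rw [Category.assoc]
      erw [pullback.condition]
      rw [hsqP.lift_snd_assoc]
      exact (Over.w (liftPt K L (pι ≫ y))).symm
  haveI : Surjective gK := ⟨fun x => ⟨IsLocalRing.closedPoint L, Subsingleton.elim (α := PrimeSpectrum K) _ _⟩⟩
  haveI : Surjective (pullback.fst X.hom gK) := MorphismProperty.pullback_fst (P := @Surjective) _ _ inferInstance
  have hpt : ∀ a : 𝟙_ (Over (Spec (CommRingCat.of L₀))) ⟶ A₀, ptOf a ∈ Set.range i₁.left → a ∈ H₀.map (bcPts g₀ A) := by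
    intro a ha
    obtain ⟨y, rfl⟩ := (bcPts_bijective g₀ A).2 a
    refine ⟨y, (hmem y).2 ?_, rfl⟩
    let w := liftPt K L (pι ≫ y)
    obtain ⟨p, hp1, -⟩ : ∃ p : P.left, pullback.fst X.hom gK p = w.left (IsLocalRing.closedPoint L) ∧ True :=
      ⟨(pullback.lift w.left (𝟙 _) (by rw [Category.id_comp]; exact Over.w w) :
        Spec (CommRingCat.of L) ⟶ P.left) (IsLocalRing.closedPoint L), by
          rw [← Scheme.Hom.comp_apply, pullback.lift_fst], trivial⟩
    let q : Spec (CommRingCat.of L) ⟶ P.left := pullback.lift w.left (𝟙 _) (by rw [Category.id_comp]; exact Over.w w)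
    have hq : q ≫ π = gι ≫ (bcPts g₀ A y).left := by
      refine pullback.hom_ext ?_ ?_
      · rw [Category.assoc, Category.assoc, pullback.lift_fst, pullback.lift_fst_assoc, liftPt_left_fst]
        exact (congrArg (gι ≫ ·) (tautPt_map_left g₀ y)).symm
      · rw [Category.assoc, Category.assoc, pullback.lift_snd, pullback.lift_snd_assoc, Category.id_comp]
        exact (congrArg (gι ≫ ·) (Over.w (bcPts g₀ A y))).trans (Category.comp_id _) |>.symm
    have h1 : π (q (IsLocalRing.closedPoint L)) ∈ Set.range i₁.left := by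
      rw [← Scheme.Hom.comp_apply, hq, Scheme.Hom.comp_apply,
        Subsingleton.elim (α := PrimeSpectrum L₀) (gι (IsLocalRing.closedPoint L)) (IsLocalRing.closedPoint L₀)]
      exact ha
    have h2 := hD h1
    rwa [Set.mem_preimage, ← Scheme.Hom.comp_apply, pullback.lift_fst] at h2
  -- descend to the ground field
  have hfac : ∀ a : 𝟙_ (Over (Spec (CommRingCat.of L₀))) ⟶ A₀, ptOf a ∈ Set.range i₁.left →
      ∃ z, z ≫ i₁ = a := by
    intro a ⟨v, hv⟩
    have hvc : IsClosed ({v} : Set B₁.left) := by
      rw [← Set.preimage_image_eq {v} i₁.left.isClosedEmbedding.injective, Set.image_singleton, hv]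
      exact (isClosed_point a).preimage i₁.left.continuous
    obtain ⟨z, rfl⟩ := exists_ptOf hvc
    exact ⟨z, point_ext hv⟩
  obtain ⟨B, hBG, i, hBp, hBg, hi, hic, hrgB, -⟩ := exists_descend_subvariety (K := k) (L := L₀) (A := A) i₁ (by
    intro σ
    refine ⟨c, Nat.pos_of_ne_zero hind, fun z => ?_⟩
    obtain ⟨y, hy, hyz⟩ := hpt (z ≫ i₁) ⟨ptOf z, rfl⟩
    rw [← hyz, actPt_bcPts]
    refine hfac _ (hrg₁.ge (subset_closure ⟨_, hpow _ ?_, rfl⟩))
    -- the conjugate point still lies in the subvariety
    obtain ⟨R, φ, j, P₀, hj, hφ, hjf, hP₀⟩ := DimLib.exists_chart A.hom (y.left (IsLocalRing.closedPoint L₀))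
    obtain ⟨w, hw⟩ : ∃ w : Spec (CommRingCat.of L₀) ⟶ Spec R, w ≫ j = y.left :=
      ⟨IsOpenImmersion.lift j y.left (by
        rintro _ ⟨p, rfl⟩
        rw [Subsingleton.elim (α := PrimeSpectrum L₀) p (IsLocalRing.closedPoint L₀)]
        exact ⟨P₀, hP₀⟩), IsOpenImmersion.lift_fac _ _ _⟩
    obtain ⟨χ', rfl⟩ := Spec.map_surjective w
    algebraize [φ]
    have hχ : CommRingCat.ofHom φ ≫ χ' = CommRingCat.ofHom (algebraMap k L₀) := Spec.map_injective (by
      rw [Spec.map_comp, ← hjf, reassoc_of% hw]
      exact Over.w y)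
    let χ : R →ₐ[k] L₀ := { χ'.hom with commutes' := fun r => congr($(hχ).hom r) }
    obtain ⟨s, hs⟩ := (Algebra.FiniteType.out : (⊤ : Subalgebra k R).FG)
    let F : IntermediateField k L₀ := IntermediateField.adjoin k ↑(s.image χ)
    haveI : FiniteDimensional k F :=
      IntermediateField.finiteDimensional_adjoin fun x _ => Algebra.IsIntegral.isIntegral x
    have hF : ∀ r, χ r ∈ F := by
      intro r
      have : r ∈ (⊤ : Subalgebra k R) := trivial
      rw [← hs] at this
      have h2 : (⟨_, this⟩ : Algebra.adjoin k (s : Set R)).1 ∈ (Algebra.adjoin k (s : Set R)) := this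
      have h3 : χ r ∈ (Algebra.adjoin k (s : Set R)).map χ := ⟨r, this, rfl⟩
      rw [AlgHom.map_adjoin, ← Finset.coe_image] at h3
      exact IntermediateField.algebra_adjoin_le_adjoin k _ h3
    obtain ⟨τ, hτ⟩ := exists_algHom_agree hprim emb F σ
    obtain ⟨b, hb⟩ := hy
    refine ⟨extPtMap L τ ≫ b, ?_⟩
    show (extPtMap L τ ≫ b) ≫ i' = liftPt K L (pι ≫ extPtMap L₀ σ ≫ y)
    rw [Category.assoc, show b ≫ i' = liftPt K L (pι ≫ y) from hb]
    refine Over.OverMorphism.ext (pullback.hom_ext ?_ ((Over.w _).trans (Over.w _).symm))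
    rw [Over.comp_left, Category.assoc, liftPt_left_fst, liftPt_left_fst]
    show Spec.map _ ≫ gι ≫ y.left = gι ≫ Spec.map _ ≫ y.left
    rw [← hw]
    simp only [gι, ← Category.assoc, ← Spec.map_comp]
    congr 2
    ext r
    exact hτ (χ r) (hF r))
  refine ⟨B, hBG, i, hBp, hBg, hi, hic, Set.Subset.antisymm ?_ ?_⟩
  · -- torsion points
    obtain ⟨l, hl, hlk⟩ : ∃ l : ℕ, l.Prime ∧ (l : k) ≠ 0 := by
      obtain ⟨l, hlp, hl⟩ := Nat.exists_infinite_primes (ringExpChar k + 1)
      refine ⟨l, hl, fun h => ?_⟩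
      have h1 : ringChar k ∣ l := ringChar.dvd h
      rcases (Nat.dvd_prime hl).1 h1 with h2 | h2
      · exact CharP.ringChar_ne_one h2
      · have : ringExpChar k = max (ringChar k) 1 := rfl
        omega
    let gL := Spec.map (CommRingCat.ofHom (algebraMap k L))
    letI : GrpObj ((Over.pullback gL).obj A) := Functor.grpObjObj
    haveI : IsProper ((Over.pullback gL).obj A).hom := inferInstanceAs (IsProper (pullback.snd A.hom gL))
    haveI : GeometricallyIntegral ((Over.pullback gL).obj A).hom :=
      inferInstanceAs (GeometricallyIntegral (pullback.snd A.hom gL))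
    haveI : IsCommMonObj ((Over.pullback gL).obj A) := isCommMonObj_of_isProper_of_geometricallyIntegral _
    letI : GrpObj ((Over.pullback gK).obj B') := Functor.grpObjObj
    let BL := (Over.pullback gK).obj B'
    haveI : IsProper BL.hom := inferInstanceAs (IsProper (pullback.snd B'.hom gK))
    haveI : GeometricallyIntegral BL.hom := inferInstanceAs (GeometricallyIntegral (pullback.snd B'.hom gK))
    haveI : IsCommMonObj BL := isCommMonObj_of_isProper_of_geometricallyIntegral BL
    obtain ⟨g, hg⟩ := exists_dim_eq A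
    -- torsion points are defined over the small closure
    have hdesc : ∀ (n : ℕ) (u : extPt (K := k) L ⟶ A), u ^ l ^ n = 1 →
        ∃ y : extPt (K := k) L₀ ⟶ A, y ^ l ^ n = 1 ∧ pι ≫ y = u := by
      intro n u hu
      have hN : 0 < l ^ n := pow_pos hl.pos n
      have hN0 : ((l ^ n : ℕ) : L₀) ≠ 0 := by
        rw [Nat.cast_pow, ← map_natCast (algebraMap k L₀)]
        exact pow_ne_zero _ ((map_ne_zero _).2 hlk)
      have hNL : ((l ^ n : ℕ) : L) ≠ 0 := by
        rw [Nat.cast_pow, ← map_natCast (algebraMap k L)]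
        exact pow_ne_zero _ ((map_ne_zero _).2 hlk)
      let e₀ := MulEquiv.ofBijective (bcPts g₀ A) (bcPts_bijective g₀ A)
      let eL := MulEquiv.ofBijective (bcPts gL A) (bcPts_bijective gL A)
      let T₀ := AbDual.torsPts A₀ (l ^ n) (𝟙_ (Over (Spec (CommRingCat.of L₀))))
      let TL := AbDual.torsPts ((Over.pullback gL).obj A) (l ^ n) (𝟙_ (Over (Spec (CommRingCat.of L))))
      haveI : Finite TL := finite_torsPts hN
      let f : T₀ → TL := fun t => ⟨eL (pι ≫ e₀.symm t.1), by
        rw [AbDual.mem_torsPts, ← map_pow, ← MonObj.comp_pow, ← map_pow, (AbDual.mem_torsPts _ _).1 t.2, map_one,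
          MonObj.comp_one, map_one]⟩
      have hf : Function.Injective f := fun a b h => by
        have h1 := eL.injective (congrArg Subtype.val h)
        exact Subtype.ext (e₀.symm.injective ((cancel_epi pι).1 h1))
      have hcard : Nat.card T₀ = Nat.card TL :=
        (natCard_torsPts_eq (dim_bc_eq g₀ hg) hN0).trans (natCard_torsPts_eq (dim_bc_eq gL hg) hNL).symm
      obtain ⟨t, ht⟩ := ((Nat.bijective_iff_injective_and_card f).2 ⟨hf, hcard⟩).2 ⟨eL u, by
        rw [AbDual.mem_torsPts, ← map_pow, hu, map_one]⟩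
      refine ⟨e₀.symm t.1, ?_, eL.injective (congrArg Subtype.val ht)⟩
      rw [← map_pow, (AbDual.mem_torsPts _ _).1 t.2, map_one]
    let q : BL.left ⟶ X.left := pullback.fst B'.hom gK ≫ i'.left
    let mc : BL.left ⟶ BL.left := ((𝟙 BL) ^ c).left
    let S : Set BL.left := (mc ≫ q) ⁻¹' (pullback.fst A.hom sK ⁻¹' Set.range i.left)
    have hSc : IsClosed S :=
      (i.left.isClosedEmbedding.isClosed_range.preimage (pullback.fst A.hom sK).continuous).preimage
        (mc ≫ q).continuous
    have hS : ptOf '' (SetLike.coe (powTors BL l)) ⊆ S := by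
      rintro _ ⟨t, ⟨n, hn⟩, rfl⟩
      obtain ⟨x, rfl⟩ := (bcPts_bijective gK B').2 t
      obtain ⟨u, hu⟩ := (liftPt_bijective K L (A := A)).2 (x ≫ i')
      have hx : x ^ l ^ n = 1 := (bcPts_bijective gK B').1 (by
        rw [map_pow, map_one]; exact (AbDual.mem_torsPts _ _).1 hn)
      obtain ⟨y, -, rfl⟩ := hdesc n u ((liftPt_bijective K L (A := A)).1 (by
        rw [map_pow, hu, ← MonObj.pow_comp, hx, MonObj.one_comp, map_one]))
      have hy : bcPts g₀ A y ^ c ∈ H₁ := hpow y ⟨x, hu.symm⟩
      have h1 : ptOf (bcPts g₀ A (y ^ c)) ∈ Set.range i₁.left := by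
        rw [map_pow]; exact hrg₁.ge (subset_closure ⟨_, hy, rfl⟩)
      rw [hrgB] at h1
      show pullback.fst A.hom sK (((mc ≫ q)) (ptOf (bcPts gK B' x))) ∈ Set.range i.left
      have e1 : (bcPts gK B' x).left ≫ mc ≫ q ≫ pullback.fst A.hom sK =
          gι ≫ (bcPts g₀ A (y ^ c)).left ≫ pullback.fst A.hom g₀ := by
        rw [← Category.assoc, ← Over.comp_left, MonObj.comp_pow, Category.comp_id, ← map_pow]
        simp only [q, Category.assoc]
        rw [← Category.assoc (bcPts gK B' (x ^ c)).left, show (bcPts gK B' (x ^ c)).left ≫ pullback.fst B'.hom gK =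
          (x ^ c).left from tautPt_map_left gK _, show (bcPts g₀ A (y ^ c)).left ≫ pullback.fst A.hom g₀ = (y ^ c).left
          from tautPt_map_left g₀ _, ← Category.assoc, ← Over.comp_left, MonObj.pow_comp, ← hu, ← map_pow,
          liftPt_left_fst, ← MonObj.comp_pow]
        rfl
      have e2 := congrArg (fun m : Spec (CommRingCat.of L) ⟶ A.left => m (IsLocalRing.closedPoint L)) e1
      simp only [Scheme.Hom.comp_apply] at e2
      rw [Scheme.Hom.comp_apply]
      refine e2.symm ▸ ?_
      rw [Subsingleton.elim (α := PrimeSpectrum L₀) (gι (IsLocalRing.closedPoint L)) (IsLocalRing.closedPoint L₀)]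
      exact h1
    have huniv : closure (ptOf '' (SetLike.coe (powTors BL l))) = Set.univ :=
      closure_eq_univ_of_powTors_le hl (by rw [← map_natCast (algebraMap k L)]; exact (map_ne_zero _).2 hlk) _ le_rfl
    haveI : Surjective mc := surjective_pow (Nat.pos_of_ne_zero hind)
    haveI : Surjective (pullback.fst B'.hom gK) := MorphismProperty.pullback_fst (P := @Surjective) _ _ inferInstance
    rintro _ ⟨b, rfl⟩
    obtain ⟨v, rfl⟩ := (mc ≫ pullback.fst B'.hom gK).surjective b
    have := closure_minimal hS hSc (huniv ▸ Set.mem_univ v)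
    simp only [S, q, Set.mem_preimage, Scheme.Hom.comp_apply] at this ⊢
    exact this
  · intro x hx
    obtain ⟨p, rfl⟩ := (pullback.fst X.hom gK).surjective x
    refine hD ?_
    show π p ∈ Set.range i₁.left
    rw [hrgB, Set.mem_preimage, ← Scheme.Hom.comp_apply, pullback.lift_fst, Scheme.Hom.comp_apply]
    exact hx

end Groth.Agent.AbCubeLib
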