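import Groth.Agent.AbCubeLib.FiniteQuotient
import Groth.Agent.AbVarLib.ChowFormal
import Groth.Agent.AlgGrpLib.SubgroupCalc
import Groth.Agent.DimLib.Zero
import Mathlib.AlgebraicGeometry.Morphisms.SchemeTheoreticallyDominant

/-!
# The largest closed subscheme killed after a field extension
-/

set_option autoImplicit false
set_option backward.isDefEq.respectTransparency.types false
set_option maxHeartbeats 1600000

universe u

open CategoryTheory CategoryTheory.Limits MonoidalCategory CartesianMonoidalCategory AlgebraicGeometry MonObj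

namespace Groth.Agent.AbCubeLib

/-- The map onto the scheme theoretic image is scheme theoretically dominant. -/
theorem isSchemeTheoreticallyDominant_toImage {X Y : Scheme.{u}} (f : X ⟶ Y) [QuasiCompact f] :
    IsSchemeTheoreticallyDominant f.toImage := by
  refine ⟨?_⟩
  let j := f.toImage.ker.subschemeι
  have hle : (j ≫ f.imageι).ker ≤ f.imageι.ker := by
    have h : f = f.toImage.toImage ≫ j ≫ f.imageι := by
      rw [← Category.assoc]
      show f = (f.toImage.toImage ≫ f.toImage.imageι) ≫ f.imageι
      rw [Scheme.Hom.toImage_imageι, Scheme.Hom.toImage_imageι]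
    rw [Scheme.IdealSheafData.ker_subschemeι]
    conv_rhs => rw [h]
    exact Scheme.Hom.le_ker_comp _ _
  let s := IsClosedImmersion.lift (j ≫ f.imageι) f.imageι hle
  have hs : s ≫ j = 𝟙 _ := by
    rw [← cancel_mono f.imageι, Category.assoc, Category.id_comp]
    exact IsClosedImmersion.lift_fac _ _ _
  haveI : IsSplitEpi j := ⟨⟨⟨s, hs⟩⟩⟩
  haveI : Mono j := inferInstance
  haveI : IsIso j := isIso_of_mono_of_isSplitEpi j
  exact (Scheme.isIso_subschemeι_iff_eq_bot _).1 this

variable {k K : Type u} [Field k] [Field K] [Algebra k K]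

local notation "sK" => Spec.map (CommRingCat.ofHom (algebraMap k K))

noncomputable local instance instGrpObjBCMaximalKilled (A : Over (Spec (CommRingCat.of k))) [GrpObj A] :
    GrpObj ((Over.pullback sK).obj A) := Functor.grpObjObj

/-- Morphisms out of a base change are equal if they are equal after a scheme theoretically dominant map. -/
theorem eq_of_dominant {T Z : Over (Spec (CommRingCat.of k))} (d : T ⟶ Z) [IsSchemeTheoreticallyDominant d.left]
    [QuasiCompact d.left] {A : Over (Spec (CommRingCat.of K))} [GrpObj A] [IsSeparated A.hom]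
    (f : (Over.pullback sK).obj Z ⟶ A) (h : (Over.pullback sK).map d ≫ f = 1) : f = 1 := by
  haveI : Flat sK := CubeLib.flat_of_field _
  haveI : IsSchemeTheoreticallyDominant ((Over.pullback sK).map d).left :=
    IsSchemeTheoreticallyDominant.of_isPullback (AbVarLib.isPullback_map sK d)
  haveI : IsClosedImmersion η[A].left :=
    haveI : IsClosedImmersion (η[A].left ≫ A.hom) := by
      rw [Over.w]; exact (inferInstance : IsClosedImmersion (𝟙 (Spec (CommRingCat.of K))))
    IsClosedImmersion.of_comp η[A].left A.hom
  have hle : η[A].left.ker ≤ f.left.ker := by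
    have h1 : ((Over.pullback sK).map d ≫ f).left.ker = f.left.ker := by
      rw [Over.comp_left, Scheme.Hom.ker_comp, Scheme.Hom.ker_eq_bot, Scheme.IdealSheafData.map_bot]
    rw [← h1, h, Hom.one_def, Over.comp_left]
    exact Scheme.Hom.le_ker_comp _ _
  let u : (Over.pullback sK).obj Z ⟶ 𝟙_ _ := Over.homMk (IsClosedImmersion.lift η[A].left f.left hle) (by
    rw [← Over.w η[A], IsClosedImmersion.lift_fac_assoc, Over.w f])
  rw [show f = u ≫ η[A] from Over.OverMorphism.ext (IsClosedImmersion.lift_fac _ _ _).symm, Hom.one_def,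
    toUnit_unique u (toUnit _)]

/-- **The largest subgroup killed after extension:** inside a finite group scheme, there is a subgroup through which
exactly those quasi-compact test morphisms factor whose base change is killed by a given homomorphism. -/
theorem exists_maximal_killed {N : Over (Spec (CommRingCat.of k))} [GrpObj N] [IsCommMonObj N] [IsFinite N.hom]
    {A : Over (Spec (CommRingCat.of K))} [GrpObj A] [IsCommMonObj A] [IsSeparated A.hom]
    (φ : (Over.pullback sK).obj N ⟶ A) [IsMonHom φ] :
    ∃ (H : Over (Spec (CommRingCat.of k))) (_ : GrpObj H) (i : H ⟶ N), IsFinite H.hom ∧ IsMonHom i ∧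
      IsClosedImmersion i.left ∧ (Over.pullback sK).map i ≫ φ = 1 ∧
      ∀ (T : Over (Spec (CommRingCat.of k))) (x : T ⟶ N), CompactSpace T.left → (Over.pullback sK).map x ≫ φ = 1 →
        ∃ h : T ⟶ H, h ≫ i = x := by
  classical
  let F := Over.pullback sK
  haveI : IsAffine N.left := isAffine_of_isAffineHom N.hom
  haveI : IsArtinianRing Γ(N.left, ⊤) := by
    haveI : Finite ↥N.left := by
      haveI : Subsingleton (Spec (CommRingCat.of k)) := inferInstanceAs (Subsingleton (PrimeSpectrum k))
      exact Set.finite_univ_iff.1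
        ((N.hom.finite_preimage_singleton (IsLocalRing.closedPoint k)).subset fun q _ => Subsingleton.elim _ _)
    haveI : DiscreteTopology ↥N.left := DimLib.discreteTopology_of_finite (k := k) N.hom
    haveI : IsLocallyNoetherian N.left := LocallyOfFiniteType.isLocallyNoetherian N.hom
    haveI : IsLocallyArtinian N.left := IsLocallyArtinian.of_isLocallyNoetherian_of_discreteTopology
    exact IsLocallyArtinian.isArtinianRing_presheaf_obj ⟨⊤, isAffineOpen_top N.left⟩
  let sub : N.left.IdealSheafData → Over (Spec (CommRingCat.of k)) := fun I => Over.mk (I.subschemeι ≫ N.hom)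
  let inc : ∀ I, sub I ⟶ N := fun I => Over.homMk I.subschemeι rfl
  let S : Set N.left.IdealSheafData := {I | F.map (inc I) ≫ φ = 1}
  -- images of killed morphisms are killed
  have himg : ∀ (T : Over (Spec (CommRingCat.of k))) (x : T ⟶ N), CompactSpace T.left → F.map x ≫ φ = 1 →
      x.left.ker ∈ S := by
    intro T x hT hx
    haveI := hT
    haveI : N.left.IsSeparated := inferInstance
    haveI : QuasiCompact x.left := quasiCompact_of_compactSpace x.left
    haveI := isSchemeTheoreticallyDominant_toImage x.left
    let d : T ⟶ sub x.left.ker := Over.homMk x.left.toImage (by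
      show x.left.toImage ≫ x.left.imageι ≫ N.hom = T.hom
      rw [Scheme.Hom.toImage_imageι_assoc, Over.w])
    haveI : IsSchemeTheoreticallyDominant d.left := ‹IsSchemeTheoreticallyDominant x.left.toImage›
    haveI : QuasiCompact d.left := inferInstanceAs (QuasiCompact x.left.toImage)
    refine eq_of_dominant (A := A) d _ ?_
    rw [← Category.assoc, ← Functor.map_comp,
      show d ≫ inc x.left.ker = x from Over.OverMorphism.ext (Scheme.Hom.toImage_imageι _), hx]
  have hne : S.Nonempty := ⟨_, himg (𝟙_ _) η[N] (inferInstanceAs (CompactSpace (Spec (CommRingCat.of k)))) (by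
    rw [← Category.id_comp (F.map η[N] ≫ φ), ← IsIso.inv_hom_id (Functor.LaxMonoidal.ε F)]
    simp only [Category.assoc]
    rw [← Functor.obj.η_def_assoc, IsMonHom.one_hom]
    rw [show η[A] = toUnit (𝟙_ _) ≫ η[A] by rw [toUnit_unique (toUnit _) (𝟙 _), Category.id_comp],
      ← Category.assoc, toUnit_unique (_ ≫ toUnit (𝟙_ _)) (toUnit _)]
    rfl)⟩
  have hwf : WellFounded (α := N.left.IdealSheafData) (· < ·) :=
    (InvImage.wf (Scheme.IdealSheafData.equivOfIsAffine (X := N.left)) (wellFounded_lt (α := Ideal Γ(N.left, ⊤)))).mono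
      fun a b hab => (OrderIso.lt_iff_lt (Scheme.IdealSheafData.equivOfIsAffine (X := N.left)).toOrderIso).2 hab
  obtain ⟨I, hI, hmin⟩ := hwf.has_min S hne
  -- the minimal ideal is contained in every killed one
  have hle : ∀ J ∈ S, I ≤ J := by
    intro J hJ
    let C : Over (Spec (CommRingCat.of k)) := Over.mk (coprod.desc (sub I).hom (sub J).hom)
    let a : sub I ⟶ C := Over.homMk coprod.inl (coprod.inl_desc _ _)
    let b : sub J ⟶ C := Over.homMk coprod.inr (coprod.inr_desc _ _)
    let x : C ⟶ N := Over.homMk (coprod.desc I.subschemeι J.subschemeι) (by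
      show coprod.desc _ _ ≫ N.hom = coprod.desc (I.subschemeι ≫ N.hom) (J.subschemeι ≫ N.hom)
      exact coprod.desc_comp _ _ _)
    have hax : a ≫ x = inc I := Over.OverMorphism.ext (coprod.inl_desc _ _)
    have hbx : b ≫ x = inc J := Over.OverMorphism.ext (coprod.inr_desc _ _)
    haveI : CompactSpace ↥(sub I).left := I.subschemeι.isClosedEmbedding.compactSpace
    haveI : CompactSpace ↥(sub J).left := J.subschemeι.isClosedEmbedding.compactSpace
    have hC : CompactSpace C.left := (coprodMk _ _).compactSpace
    have hx : F.map x ≫ φ = 1 := by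
      refine Over.OverMorphism.ext (Scheme.Cover.hom_ext
        ((coprodOpenCover.{u, u} (sub I).left (sub J).left).pullback₁ (pullback.fst C.hom sK)) _ _ fun t => ?_)
      have key : ∀ {Z : Over (Spec (CommRingCat.of k))} (c : Z ⟶ C), F.map (c ≫ x) ≫ φ = 1 →
          pullback.fst (pullback.fst C.hom sK) c.left ≫ (F.map x ≫ φ).left =
            pullback.fst (pullback.fst C.hom sK) c.left ≫ (1 : F.obj C ⟶ A).left := by
        intro Z c hc
        have hsq := AbVarLib.isPullback_map sK c
        have e : pullback.fst (pullback.fst C.hom sK) c.left =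
            hsq.flip.isoPullback.inv ≫ (F.map c).left := by
          rw [Iso.eq_inv_comp, IsPullback.isoPullback_hom_fst]
        rw [e, Category.assoc, Category.assoc, ← Over.comp_left, ← Over.comp_left, ← Category.assoc, ← F.map_comp, hc,
          MonObj.comp_one]
      obtain (_ | _) := t
      · exact key a (by rw [hax]; exact hI)
      · exact key b (by rw [hbx]; exact hJ)
    have hxS := himg C x hC hx
    have h1 : x.left.ker ≤ I := by
      conv_rhs => rw [← I.ker_subschemeι]
      rw [show I.subschemeι = coprod.inl ≫ x.left from (coprod.inl_desc _ _).symm]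
      exact Scheme.Hom.le_ker_comp _ _
    have h2 : x.left.ker ≤ J := by
      conv_rhs => rw [← J.ker_subschemeι]
      rw [show J.subschemeι = coprod.inr ≫ x.left from (coprod.inr_desc _ _).symm]
      exact Scheme.Hom.le_ker_comp _ _
    have h3 : x.left.ker = I := by
      by_contra hne'
      exact hmin _ hxS (lt_of_le_of_ne h1 hne')
    rwa [h3] at h2
  let H := sub I
  let i : H ⟶ N := inc I
  haveI : IsClosedImmersion i.left := inferInstanceAs (IsClosedImmersion I.subschemeι)
  haveI : Mono i := Over.mono_of_mono_left i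
  haveI : IsFinite H.hom := MorphismProperty.comp_mem @IsFinite I.subschemeι N.hom inferInstance inferInstance
  have hfac : ∀ (T : Over (Spec (CommRingCat.of k))) (x : T ⟶ N), CompactSpace T.left → F.map x ≫ φ = 1 →
      ∃ h : T ⟶ H, h ≫ i = x := by
    intro T x hT hx
    have hker : i.left.ker ≤ x.left.ker := by
      show I.subschemeι.ker ≤ _
      rw [I.ker_subschemeι]
      exact hle _ (himg T x hT hx)
    exact ⟨Over.homMk (IsClosedImmersion.lift i.left x.left hker) (by
      rw [← Over.w i, IsClosedImmersion.lift_fac_assoc, Over.w]), Over.OverMorphism.ext (IsClosedImmersion.lift_fac _ _ _)⟩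
  let ψ : ∀ T : Over (Spec (CommRingCat.of k)), (T ⟶ N) →* (F.obj T ⟶ A) := fun T =>
    (MonoidHom.mk' (fun y : F.obj T ⟶ F.obj N => y ≫ φ) fun a b => MonObj.mul_comp a b φ).comp F.homMonoidHom
  have hψ : ∀ {T : Over (Spec (CommRingCat.of k))} (x : T ⟶ N), F.map x ≫ φ = ψ T x := fun x => rfl
  have hcomp : ∀ {T : Over (Spec (CommRingCat.of k))} (g : T ⟶ H), ψ T (g ≫ i) = 1 := fun g => by
    show F.map (g ≫ i) ≫ φ = 1
    rw [Functor.map_comp, Category.assoc, show F.map i ≫ φ = 1 from hI, MonObj.comp_one]
  haveI hcH : CompactSpace H.left := QuasiCompact.compactSpace_of_compactSpace H.hom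
  haveI hcHH : CompactSpace (H ⊗ H).left := by
    haveI : IsFinite (H ⊗ H).hom := inferInstanceAs (IsFinite (pullback.fst H.hom H.hom ≫ H.hom))
    exact QuasiCompact.compactSpace_of_compactSpace (H ⊗ H).hom
  obtain ⟨o, ho⟩ := hfac (𝟙_ _) 1 (inferInstanceAs (CompactSpace (Spec (CommRingCat.of k)))) (by rw [hψ, map_one])
  obtain ⟨m, hm⟩ := hfac (H ⊗ H) ((fst H H ≫ i) * (snd H H ≫ i)) hcHH
    (by rw [hψ, map_mul, hcomp, hcomp, _root_.mul_one])
  obtain ⟨iv, hiv⟩ := hfac H (i⁻¹) hcH (by
    rw [hψ, map_inv, ← Category.id_comp i, hcomp, inv_one])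
  obtain ⟨str, hstr⟩ := ShfCat16.exists_grpObj_of_mono i ⟨o, ho⟩
    (fun W a b => ⟨lift a b ≫ m, by rw [Category.assoc, hm, MonObj.comp_mul, lift_fst_assoc, lift_snd_assoc]⟩)
    (fun W a => ⟨a ≫ iv, by rw [Category.assoc, hiv, GrpObj.comp_inv]⟩)
  exact ⟨H, str, i, inferInstance, hstr, inferInstance, hI, hfac⟩

end Groth.Agent.AbCubeLib
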