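import Groth.Agent.AbCubeLib.ImageSubvariety

/-!
# Descent of abelian subvarieties from the algebraic closure
-/

set_option autoImplicit false
set_option backward.isDefEq.respectTransparency.types false

universe u

open CategoryTheory CategoryTheory.Limits MonoidalCategory CartesianMonoidalCategory AlgebraicGeometry MonObj
  TopologicalSpace
open Groth.Agent.PicLib Groth.Agent.Coherent Groth.Agent.CubeLib Groth.Agent.AmpleLib

namespace Groth.Agent.AbCubeLib

variable {K : Type u} [Field K] {L : Type u} [Field L] [Algebra K L]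

local notation "gL" => Spec.map (CommRingCat.ofHom (algebraMap K L))

variable {A A' : Over (Spec (CommRingCat.of K))} [GrpObj A] [IsProper A.hom] [GeometricallyIntegral A.hom]
  [GrpObj A'] [IsProper A'.hom] [GeometricallyIntegral A'.hom]

noncomputable local instance (X : Over (Spec (CommRingCat.of K))) [GrpObj X] : GrpObj ((Over.pullback gL).obj X) :=
  Functor.grpObjObj

local instance (X : Over (Spec (CommRingCat.of K))) [IsProper X.hom] : IsProper ((Over.pullback gL).obj X).hom :=
  inferInstanceAs (IsProper (pullback.snd X.hom gL))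

local instance (X : Over (Spec (CommRingCat.of K))) [GeometricallyIntegral X.hom] :
    GeometricallyIntegral ((Over.pullback gL).obj X).hom :=
  inferInstanceAs (GeometricallyIntegral (pullback.snd X.hom gL))

/-- The effect of an endomorphism of the extension field on rational points. -/
noncomputable def actPt (σ : L →ₐ[K] L) (X : Over (Spec (CommRingCat.of K))) [GrpObj X] :
    (𝟙_ (Over (Spec (CommRingCat.of L))) ⟶ (Over.pullback gL).obj X) →*
      (𝟙_ (Over (Spec (CommRingCat.of L))) ⟶ (Over.pullback gL).obj X) :=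
  (bcPts gL X).comp ((MonoidHom.mk' (fun a => extPtMap L σ ≫ a) fun a b => MonObj.comp_mul _ a b).comp
    (MulEquiv.ofBijective (bcPts gL X) (bcPts_bijective gL X)).symm.toMonoidHom)

theorem actPt_bcPts (σ : L →ₐ[K] L) {X : Over (Spec (CommRingCat.of K))} [GrpObj X] (x : extPt L ⟶ X) :
    actPt σ X (bcPts gL X x) = bcPts gL X (extPtMap L σ ≫ x) :=
  congrArg (fun z => bcPts gL X (extPtMap L σ ≫ z))
    ((MulEquiv.ofBijective (bcPts gL X) (bcPts_bijective gL X)).symm_apply_apply x)

theorem actPt_map (σ : L →ₐ[K] L) {X Y : Over (Spec (CommRingCat.of K))} [GrpObj X] [GrpObj Y] (f : X ⟶ Y) (a) :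
    actPt σ X a ≫ (Over.pullback gL).map f = actPt σ Y (a ≫ (Over.pullback gL).map f) := by
  obtain ⟨x, rfl⟩ := (bcPts_bijective gL X).2 a
  rw [actPt_bcPts, ← bcPts_comp, ← bcPts_comp, actPt_bcPts, Category.assoc]

theorem actPt_symm [IsAlgClosed L] [Algebra.IsAlgebraic K L] (σ : L →ₐ[K] L) : ∃ τ : L →ₐ[K] L,
    extPtMap (K := K) L σ ≫ extPtMap L τ = 𝟙 _ ∧ extPtMap (K := K) L τ ≫ extPtMap L σ = 𝟙 _ := by
  let e := AlgEquiv.ofBijective σ (Algebra.IsAlgebraic.algHom_bijective σ)
  refine ⟨e.symm.toAlgHom, Over.OverMorphism.ext ?_, Over.OverMorphism.ext ?_⟩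
  · show Spec.map _ ≫ Spec.map _ = 𝟙 _
    rw [← Spec.map_comp, ← Spec.map_id]
    congr 1
    ext x
    exact e.apply_symm_apply x
  · show Spec.map _ ≫ Spec.map _ = 𝟙 _
    rw [← Spec.map_comp, ← Spec.map_id]
    congr 1
    ext x
    exact e.symm_apply_apply x

omit [GeometricallyIntegral A'.hom] in
/-- Morphisms over an algebraically closed extension agreeing on rational points. -/
theorem hom_ext_pts [IsAlgClosed L] {f₁ f₂ : (Over.pullback gL).obj A ⟶ (Over.pullback gL).obj A'}
    (h : ∀ a : 𝟙_ (Over (Spec (CommRingCat.of L))) ⟶ (Over.pullback gL).obj A, a ≫ f₁ = a ≫ f₂) : f₁ = f₂ := by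
  haveI : IsIntegral ((Over.pullback gL).obj A).left := GeometricallyIntegral.isIntegral_of_subsingleton
    ((Over.pullback gL).obj A).hom
  haveI : LocallyOfFiniteType (f₁.left ≫ ((Over.pullback gL).obj A').hom) := by rw [Over.w]; infer_instance
  refine Over.OverMorphism.ext (ext_of_apply_eq ((Over.pullback gL).obj A').hom Set.univ isClosed_univ.isLocallyClosed
    dense_univ (fun c _ hc => ?_) ((Over.w f₁).trans (Over.w f₂).symm))
  obtain ⟨t, rfl⟩ := exists_ptOf hc
  exact congrArg (fun z : 𝟙_ (Over (Spec (CommRingCat.of L))) ⟶ (Over.pullback gL).obj A' =>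
    z.left (IsLocalRing.closedPoint L)) (h t)

omit [GeometricallyIntegral A'.hom] in
/-- Morphisms over the ground field agreeing over an algebraically closed extension are equal. -/
theorem eq_of_map_eq {f₁ f₂ : A ⟶ A'} (h : (Over.pullback gL).map f₁ = (Over.pullback gL).map f₂) : f₁ = f₂ := by
  haveI : Surjective gL := ⟨fun x => ⟨IsLocalRing.closedPoint L, Subsingleton.elim (α := PrimeSpectrum K) _ _⟩⟩
  haveI : Flat gL := flat_of_field _
  haveI : Surjective (pullback.fst A.hom gL) := MorphismProperty.pullback_fst (P := @Surjective) _ _ inferInstance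
  haveI : Flat (pullback.fst A.hom gL) := inferInstance
  haveI : QuasiCompact (pullback.fst A.hom gL) := inferInstance
  refine Over.OverMorphism.ext ((cancel_epi (pullback.fst A.hom gL)).1 ?_)
  have h' := congrArg (fun m => Over.Hom.left m ≫ pullback.fst A'.hom gL) h
  have e : ∀ f : A ⟶ A', ((Over.pullback gL).map f).left ≫ pullback.fst A'.hom gL = pullback.fst A.hom gL ≫ f.left :=
    fun f => pullback.lift_fst _ _ _
  rw [← e, ← e]
  exact h'

omit [GeometricallyIntegral A'.hom] in
/-- A homomorphism over the algebraic closure commuting with the Galois action on points is defined over the ground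
field. -/
theorem exists_descend_of_pts [IsAlgClosed L] [Algebra.IsAlgebraic K L]
    (f : (Over.pullback gL).obj A ⟶ (Over.pullback gL).obj A') [IsMonHom f]
    (hcomm : ∀ (σ : L →ₐ[K] L) a, actPt σ A a ≫ f = actPt σ A' (a ≫ f)) :
    ∃ ψ : A ⟶ A', IsMonHom ψ ∧ (Over.pullback gL).map ψ = f := by
  let U := extPt (K := K) L
  let Φ : A ⊗ U ⟶ A' := Over.homMk (f.left ≫ pullback.fst A'.hom gL) (by
    show (f.left ≫ pullback.fst A'.hom gL) ≫ A'.hom = (A ⊗ U).hom
    rw [Category.assoc, pullback.condition, ← Category.assoc]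
    exact (congrArg (· ≫ gL) (Over.w f)).trans pullback.condition.symm)
  let eA' := MulEquiv.ofBijective (bcPts gL A') (bcPts_bijective gL A')
  have hP : ∀ x : U ⟶ A, lift x (𝟙 U) ≫ Φ = eA'.symm (bcPts gL A x ≫ f) := fun x => by
    refine Over.OverMorphism.ext ?_
    rw [Over.comp_left, lift_id_left]
    refine Eq.trans ?_ (tautPt_map_left gL _)
    show (bcPts gL A x).left ≫ f.left ≫ pullback.fst A'.hom gL =
      (bcPts gL A' (eA'.symm (bcPts gL A x ≫ f))).left ≫ pullback.fst A'.hom gL
    rw [show bcPts gL A' (eA'.symm (bcPts gL A x ≫ f)) = _ from eA'.apply_symm_apply _, Over.comp_left,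
      Category.assoc]
  have hinv : ∀ σ : L →ₐ[K] L, (A ◁ extPtMap L σ) ≫ Φ = Φ := by
    intro σ
    obtain ⟨τ, hss', hs's⟩ := actPt_symm (L := L) σ
    let f₁ : (Over.pullback gL).obj A ⟶ (Over.pullback gL).obj A' :=
      Over.homMk (pullback.lift ((A ◁ extPtMap L σ) ≫ Φ).left (pullback.snd A.hom gL)
        (((Over.w ((A ◁ extPtMap L σ) ≫ Φ))).trans pullback.condition)) (pullback.lift_snd _ _ _)
    have hf : f₁ = f := by
      refine hom_ext_pts fun a => ?_
      obtain ⟨x, rfl⟩ := (bcPts_bijective gL A).2 a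
      refine Over.OverMorphism.ext (pullback.hom_ext ?_ ((Over.w _).trans (Over.w _).symm))
      rw [Over.comp_left, Category.assoc]
      show (bcPts gL A x).left ≫ pullback.lift _ _ _ ≫ pullback.fst _ _ = _
      rw [pullback.lift_fst, ← lift_id_left, ← Over.comp_left]
      have e : lift x (𝟙 U) ≫ (A ◁ extPtMap L σ) = extPtMap L σ ≫ lift (extPtMap L τ ≫ x) (𝟙 U) := by
        apply CartesianMonoidalCategory.hom_ext
        · simp only [U, Category.assoc, whiskerLeft_fst, lift_fst]
          rw [← Category.assoc, hss', Category.id_comp]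
        · simp only [U, Category.assoc, whiskerLeft_snd, lift_snd]
          simp [U]
      rw [← Category.assoc, e, Category.assoc, hP]
      have h := hcomm τ (bcPts gL A x)
      rw [actPt_bcPts] at h
      rw [h]
      obtain ⟨v, hv⟩ := (bcPts_bijective gL A').2 (bcPts gL A x ≫ f)
      rw [← hv, actPt_bcPts, show eA'.symm (bcPts gL A' (extPtMap L τ ≫ v)) = extPtMap L τ ≫ v from
        eA'.symm_apply_apply _, ← Category.assoc, hss', Category.id_comp]
      exact (tautPt_map_left gL v).symm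
    refine Over.OverMorphism.ext ?_
    have := congrArg (fun m => Over.Hom.left m ≫ pullback.fst A'.hom gL) hf
    simp only [f₁, Over.homMk_left, pullback.lift_fst] at this
    exact this
  obtain ⟨ψ, hψ, hΦ⟩ := exists_descend_hom L Φ (by
    rw [hP, show toUnit U ≫ η[A] = (1 : U ⟶ A) from (Hom.one_def).symm, map_one, MonObj.one_comp, map_one]) hinv
  refine ⟨ψ, hψ, Over.OverMorphism.ext (pullback.hom_ext ?_ ?_)⟩
  · exact (pullback.lift_fst _ _ _).trans (congrArg Over.Hom.left hΦ)
  · exact (Over.w _).trans (Over.w f).symm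

/-- **Descent of an abelian subvariety stable under the Galois action on points.** -/
theorem exists_descend_subvariety [IsAlgClosed L] [Algebra.IsAlgebraic K L] {B' : Over (Spec (CommRingCat.of L))}
    [GrpObj B'] [IsProper B'.hom] [GeometricallyIntegral B'.hom] (i' : B' ⟶ (Over.pullback gL).obj A) [IsMonHom i']
    [IsClosedImmersion i'.left]
    (hstab : ∀ σ : L →ₐ[K] L, ∃ d : ℕ, 0 < d ∧ ∀ y : 𝟙_ (Over (Spec (CommRingCat.of L))) ⟶ B',
      ∃ z, z ≫ i' = actPt σ A (y ≫ i') ^ d) :
    ∃ (B : Over (Spec (CommRingCat.of K))) (_ : GrpObj B) (i : B ⟶ A), IsProper B.hom ∧ GeometricallyIntegral B.hom ∧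
      IsMonHom i ∧ IsClosedImmersion i.left ∧
      Set.range i'.left = pullback.fst A.hom gL ⁻¹' Set.range i.left ∧
      Set.range i.left = pullback.fst A.hom gL '' Set.range i'.left := by
  classical
  haveI : IsCommMonObj A := isCommMonObj_of_isProper_of_geometricallyIntegral A
  haveI : IsCommMonObj ((Over.pullback gL).obj A) := isCommMonObj_of_isProper_of_geometricallyIntegral _
  haveI : IsCommMonObj B' := isCommMonObj_of_isProper_of_geometricallyIntegral B'
  haveI := Over.mono_of_mono_left i'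
  haveI : Smooth B'.hom := AbVarLib.smooth_of_geometricallyReduced B'
  haveI : IsReduced B'.left := AbSchLib.isReduced_of_smooth B'.hom
  have hstab1 : ∀ (σ : L →ₐ[K] L) (y : 𝟙_ (Over (Spec (CommRingCat.of L))) ⟶ B'),
      ∃ z, z ≫ i' = actPt σ A (y ≫ i') := by
    intro σ y
    obtain ⟨d, hd, h⟩ := hstab σ
    obtain ⟨w, rfl⟩ := exists_pow_eq hd y
    obtain ⟨z, hz⟩ := h w
    exact ⟨z, by rw [hz, MonObj.pow_comp, map_pow]⟩
  obtain ⟨L₀, hL₀, hamp⟩ := exists_ample A
  let ℓ := PicM.of hL₀
  let qA : ((Over.pullback gL).obj A).left ⟶ A.left := pullback.fst A.hom gL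
  haveI : IsAffineHom qA := MorphismProperty.pullback_fst (P := @IsAffineHom) _ _ (inferInstanceAs (IsAffineHom gL))
  have hampL := AmpleLib.isAmple_pullback_of_isAffineHom qA hamp
  obtain ⟨C, _, j, hjp, hjgi, hjG, hjc, ⟨hsurj, hfin, hflat⟩, hCcond, d, hd, hHC⟩ :=
    exists_complement_of_class i' hampL
  haveI : IsCommMonObj C := isCommMonObj_of_isProper_of_geometricallyIntegral C
  obtain ⟨n, p, hn, hp, hip, hjpr⟩ := exists_projection i' j hfin hsurj
  let U := extPt (K := K) L
  let T : (U ⟶ A) → (A ⊗ U ⟶ A) := fun x => fst A U * (snd A U ≫ x)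
  let cond : (U ⟶ A) → Prop := fun x =>
    PicM.pull (i'.left ≫ (T x).left) ℓ = PicM.pull (i'.left ≫ (fst A U).left) ℓ
  have hcond : ∀ x, cond x ↔
      pb (i' * (toUnit _ ≫ bcPts gL A x)) (PicM.of hampL.1) = pb i' (PicM.of hampL.1) := fun x => by
    have e0 : PicM.of hampL.1 = PicM.pull qA ℓ := (PicM.pull_of _ _).symm
    have e1 : i' * (toUnit _ ≫ bcPts gL A x) = i' ≫ selfPt A ≫ (Over.pullback gL).map (T x) := by
      have e2 : (Over.pullback gL).map (T x) =
          (Over.pullback gL).map (fst A U ≫ 𝟙 A) * (Over.pullback gL).map (snd A U ≫ x) := by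
        rw [Category.comp_id]; exact map_mul ((Over.pullback gL).homMonoidHom) _ _
      rw [e2, MonObj.comp_mul, selfPt_map_fst, selfPt_map_snd, CategoryTheory.Functor.map_id, MonObj.comp_mul,
        Category.comp_id, ← Category.assoc i' (toUnit _), toUnit_unique (i' ≫ toUnit _) (toUnit B')]
    rw [e1, e0]
    show _ ↔ PicM.pull _ (PicM.pull qA ℓ) = PicM.pull _ (PicM.pull qA ℓ)
    rw [PicM.pull_pull, PicM.pull_pull, Over.comp_left, Category.assoc, selfPt_map_left]
    rfl
  -- the action on the subvariety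
  have hφ : ∀ τ : L →ₐ[K] L, ∃ φ : B'.left ⟶ B'.left, φ ≫ i'.left = i'.left ≫ (A ◁ extPtMap L τ).left := by
    intro τ
    obtain ⟨τ', h1, h2⟩ := actPt_symm (L := L) τ
    refine RedSepLib.exists_lift_of_range_subset _ i'.left ?_
    haveI : JacobsonSpace B'.left := LocallyOfFiniteType.jacobsonSpace B'.hom
    have hcl : IsClosed ((i'.left ≫ (A ◁ extPtMap L τ).left) ⁻¹' Set.range i'.left) :=
      i'.left.isClosedEmbedding.isClosed_range.preimage (i'.left ≫ (A ◁ extPtMap L τ).left).continuous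
    have hsub : closedPoints B'.left ⊆ (i'.left ≫ (A ◁ extPtMap L τ).left) ⁻¹' Set.range i'.left := by
      intro c hc
      obtain ⟨y, rfl⟩ := exists_ptOf (mem_closedPoints_iff.1 hc)
      obtain ⟨x0, hx0⟩ := (bcPts_bijective gL A).2 (y ≫ i')
      obtain ⟨z, hz⟩ := hstab1 τ' y
      rw [← hx0, actPt_bcPts] at hz
      refine ⟨ptOf z, ?_⟩
      have e : lift x0 (𝟙 U) ≫ (A ◁ extPtMap L τ) = extPtMap L τ ≫ lift (extPtMap L τ' ≫ x0) (𝟙 U) := by
        apply CartesianMonoidalCategory.hom_ext
        · simp only [U, Category.assoc, whiskerLeft_fst, lift_fst]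
          rw [← Category.assoc, h1, Category.id_comp]
        · simp only [U, Category.assoc, whiskerLeft_snd, lift_snd]
          simp [U]
      have h3 := congrArg (fun m : U ⟶ A ⊗ U => m.left (IsLocalRing.closedPoint L)) e
      simp only [Over.comp_left, Scheme.Hom.comp_apply] at h3
      rw [lift_id_left, hx0, lift_id_left, ← hz, Over.comp_left, Over.comp_left, Scheme.Hom.comp_apply,
        Scheme.Hom.comp_apply] at h3
      show i'.left (ptOf z) = (i'.left ≫ (A ◁ extPtMap L τ).left) (ptOf y)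
      rw [Scheme.Hom.comp_apply]
      refine Eq.trans ?_ h3.symm
      exact congrArg (fun w => i'.left (z.left w)) (Subsingleton.elim (α := PrimeSpectrum L) _ _)
    have huniv := closure_closedPoints (X := B'.left) ▸ (closure_minimal hsub hcl)
    rintro _ ⟨c, rfl⟩
    exact huniv (Set.mem_univ c)
  have hcs : ∀ (τ : L →ₐ[K] L) x, cond x → cond (extPtMap L τ ≫ x) := fun τ x hx => by
    obtain ⟨φ, hφ⟩ := hφ τ
    have e1 : T (extPtMap L τ ≫ x) = (A ◁ extPtMap L τ) ≫ T x := by
      simp only [U, T, MonObj.comp_mul, whiskerLeft_fst, whiskerLeft_snd_assoc]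
    show PicM.pull _ ℓ = PicM.pull _ ℓ
    rw [e1, Over.comp_left, ← Category.assoc, ← hφ, Category.assoc, ← PicM.pull_pull,
      show PicM.pull (i'.left ≫ (T x).left) ℓ = _ from hx, PicM.pull_pull, ← Category.assoc, hφ, Category.assoc,
      ← Over.comp_left, whiskerLeft_fst]
  -- the idempotent up to a multiple
  let e' := p ≫ i'
  have hCd : ∀ a : 𝟙_ (Over (Spec (CommRingCat.of L))) ⟶ (Over.pullback gL).obj A,
      pb (i' * (toUnit _ ≫ a)) (PicM.of hampL.1) = pb i' (PicM.of hampL.1) → (a ≫ e') ^ d = 1 := fun a ha => by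
    obtain ⟨z, hz⟩ := hHC a ha
    rw [← MonObj.pow_comp, ← hz, Category.assoc, ← Category.assoc j, hjpr, MonObj.one_comp, MonObj.comp_one]
  have hBn : ∀ y : 𝟙_ (Over (Spec (CommRingCat.of L))) ⟶ B', (y ≫ i') ≫ e' = (y ≫ i') ^ n := fun y => by
    rw [Category.assoc, ← Category.assoc i', hip, MonObj.pow_comp, Category.id_comp, MonObj.comp_pow]
  have hcomm : ∀ (σ : L →ₐ[K] L) a, actPt σ A a ≫ e' = actPt σ A (a ≫ e') := by
    intro σ
    have hagree : ∀ a, (actPt σ A a ≫ e') ^ d = actPt σ A (a ≫ e') ^ d := by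
      intro a
      obtain ⟨w, hw⟩ : ∃ w : 𝟙_ _ ⟶ B' ⊗ C, w ≫ ((fst _ C ≫ i') * (snd _ C ≫ j)) = a := by
        let τ := (fst B' C ≫ i') * (snd B' C ≫ j)
        haveI : IsProper (B' ⊗ C).hom := inferInstanceAs (IsProper (pullback.fst B'.hom C.hom ≫ B'.hom))
        haveI : JacobsonSpace (B' ⊗ C).left := LocallyOfFiniteType.jacobsonSpace (B' ⊗ C).hom
        obtain ⟨c, hc⟩ := hsurj.surj (ptOf a)
        obtain ⟨v, hv, hvc⟩ := nonempty_inter_closedPoints (Z := τ.left ⁻¹' {ptOf a}) ⟨c, hc⟩
          (((isClosed_point a).preimage τ.left.continuous).isLocallyClosed)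
        obtain ⟨w, rfl⟩ := exists_ptOf (mem_closedPoints_iff.1 hvc)
        exact ⟨w, point_ext ((ptOf_comp w τ).trans hv)⟩
      rw [← hw, MonObj.comp_mul, map_mul, MonObj.mul_comp _ _ e', MonObj.mul_comp _ _ e',
        map_mul, mul_pow, mul_pow, ← Category.assoc w (fst B' C) i', ← Category.assoc w (snd B' C) j]
      obtain ⟨z, hz⟩ := hstab1 σ (w ≫ fst B' C)
      have h2 : (actPt σ A ((w ≫ snd B' C) ≫ j) ≫ e') ^ d = 1 := by
        obtain ⟨v, hv⟩ := (bcPts_bijective gL A).2 ((w ≫ snd B' C) ≫ j)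
        rw [← hv, actPt_bcPts]
        refine hCd _ ((hcond _).1 (hcs σ v ((hcond v).2 ?_)))
        rw [hv]
        exact hCcond _
      have h3 : actPt σ A (((w ≫ snd B' C) ≫ j) ≫ e') = 1 := by
        rw [Category.assoc, ← Category.assoc j, hjpr, MonObj.one_comp, MonObj.comp_one, map_one]
      rw [h2, h3, one_pow, hBn, map_pow, ← hz, hBn]
    haveI : Smooth ((Over.pullback gL).obj A).hom := AbVarLib.smooth_of_geometricallyReduced _
    intro a
    obtain ⟨y, rfl⟩ := exists_pow_eq (A := (Over.pullback gL).obj A) hd a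
    rw [map_pow, MonObj.pow_comp, hagree, MonObj.pow_comp, map_pow]
  haveI : IsMonHom e' := inferInstanceAs (IsMonHom (p ≫ i'))
  obtain ⟨e, he, hee⟩ := exists_descend_of_pts e' hcomm
  obtain ⟨B, hB, i, -, h1, h2, h3, h4, -, -, -, hrg⟩ := exists_image_subvariety e
  have hrg' : Set.range e'.left = Set.range i'.left := by
    refine Set.Subset.antisymm ?_ ?_
    · rintro _ ⟨x, rfl⟩
      exact ⟨p.left x, rfl⟩
    · rintro _ ⟨y, rfl⟩
      haveI : Surjective ((𝟙 B') ^ n).left := surjective_pow hn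
      obtain ⟨y', rfl⟩ := ((𝟙 B') ^ n).left.surjective y
      exact ⟨i'.left y', by rw [← hip]; rfl⟩
  haveI : Surjective gL := ⟨fun x => ⟨IsLocalRing.closedPoint L, Subsingleton.elim (α := PrimeSpectrum K) _ _⟩⟩
  haveI : Surjective qA := MorphismProperty.pullback_fst (P := @Surjective) _ _ inferInstance
  have hsq := AbVarLib.isPullback_map gL e
  have h5 : Set.range i'.left = qA ⁻¹' Set.range i.left := by
    rw [← hrg', ← hee, hrg]
    ext x
    constructor
    · rintro ⟨w, rfl⟩
      exact ⟨qA w, by rw [← Scheme.Hom.comp_apply, hsq.w]; rfl⟩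
    · rintro ⟨w, hw⟩
      obtain ⟨v, hv, -⟩ := Scheme.exists_preimage_of_isPullback hsq.flip x w hw.symm
      exact ⟨_, hv⟩
  refine ⟨B, hB, i, h1, h2, h3, h4, h5, ?_⟩
  show _ = qA '' _
  rw [h5, Set.image_preimage_eq _ qA.surjective]

end Groth.Agent.AbCubeLib
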