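import Groth.Agent.AbCubeLib.GaloisSubgroup
import Groth.Agent.AbCubeLib.MaximalKilled
import Groth.Agent.AbCubeLib.SubvarietyDescend
import Groth.Agent.AbCubeLib.Torsion
import Mathlib.AlgebraicGeometry.Morphisms.UniversallyInjective

/-!
# The trace of a regular extension is universally injective
-/

set_option autoImplicit false
set_option backward.isDefEq.respectTransparency.types false
set_option maxHeartbeats 1600000

universe u

open CategoryTheory CategoryTheory.Limits MonoidalCategory CartesianMonoidalCategory AlgebraicGeometry MonObj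

namespace Groth.Agent.AbCubeLib

variable {K : Type u} [Field K]

/-- A homomorphism without geometric kernel points is universally injective. -/
theorem universallyInjective_of_geom_ker {X Y : Over (Spec (CommRingCat.of K))} [GrpObj X] [IsProper X.hom]
    [GrpObj Y] [IsProper Y.hom] (f : X ⟶ Y) [IsMonHom f]
    (h : ∀ x : SGA7.pt (K := K) (AlgebraicClosure K) ⟶ X, x ≫ f = 1 → x = 1) : UniversallyInjective f.left := by
  haveI : IsProper f.left := AbVarLib.isProper_left f
  rw [UniversallyInjective.iff_diagonal]
  refine ⟨fun p => ?_⟩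
  by_contra hp
  let P : Over (Spec (CommRingCat.of K)) := Over.mk (pullback.fst f.left f.left ≫ X.hom)
  haveI : LocallyOfFiniteType P.hom := inferInstanceAs (LocallyOfFiniteType (pullback.fst f.left f.left ≫ X.hom))
  haveI : JacobsonSpace ↥(pullback f.left f.left) := LocallyOfFiniteType.jacobsonSpace P.hom
  have hopen : IsOpen (Set.range (pullback.diagonal f.left))ᶜ :=
    (pullback.diagonal f.left).isClosedEmbedding.isClosed_range.isOpen_compl
  obtain ⟨c, hc, hcc⟩ := nonempty_inter_closedPoints (X := ↥(pullback f.left f.left))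
    (Z := (Set.range (pullback.diagonal f.left))ᶜ) ⟨p, fun ⟨a, ha⟩ => hp ⟨a, ha⟩⟩ hopen.isLocallyClosed
  obtain ⟨x, hx⟩ := exists_pts_through (Ω := AlgebraicClosure K) (X := P) hcc
  let a₁ : SGA7.pt (K := K) (AlgebraicClosure K) ⟶ X := x ≫ Over.homMk (pullback.fst f.left f.left) rfl
  let a₂ : SGA7.pt (K := K) (AlgebraicClosure K) ⟶ X := x ≫ Over.homMk (pullback.snd f.left f.left) (by
    show pullback.snd f.left f.left ≫ X.hom = pullback.fst f.left f.left ≫ X.hom
    rw [← Over.w f, pullback.condition_assoc])
  have heq : a₁ ≫ f = a₂ ≫ f := Over.OverMorphism.ext (by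
    show (x.left ≫ pullback.fst f.left f.left) ≫ f.left = (x.left ≫ pullback.snd f.left f.left) ≫ f.left
    rw [Category.assoc, Category.assoc, pullback.condition])
  have h12 : a₁ = a₂ := by
    rw [← div_eq_one]
    exact h _ (by rw [GrpObj.div_comp, heq, div_self'])
  refine hc ⟨a₁.left (IsLocalRing.closedPoint _), ?_⟩
  rw [← hx]
  have e : x.left = a₁.left ≫ pullback.diagonal f.left := by
    refine pullback.hom_ext ?_ ?_
    · rw [Category.assoc, pullback.diagonal_fst, Category.comp_id]; rfl
    · rw [Category.assoc, pullback.diagonal_snd, Category.comp_id, h12]; rfl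
  rw [e]; rfl

variable {k : Type u} [Field k] [Algebra k K]

local notation "sK" => Spec.map (CommRingCat.ofHom (algebraMap k K))
local notation "gL" => Spec.map (CommRingCat.ofHom (algebraMap K (AlgebraicClosure K)))

/-- The neutral point of a base change lies over the neutral point. -/
theorem one_left_fst {B : Over (Spec (CommRingCat.of k))} [GrpObj B] {W : Over (Spec (CommRingCat.of K))} :
    letI : GrpObj ((Over.pullback sK).obj B) := Functor.grpObjObj
    (1 : W ⟶ (Over.pullback sK).obj B).left ≫ pullback.fst B.hom sK = (W.hom ≫ sK) ≫ η[B].left := by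
  letI : GrpObj ((Over.pullback sK).obj B) := Functor.grpObjObj
  show (1 : W ⟶ (Over.pullback sK).obj B).left ≫ pullback.fst B.hom sK = (W.hom ≫ sK) ≫ η[B].left
  rw [Hom.one_def, Functor.obj.η_def, Over.comp_left, Over.comp_left, Category.assoc, Category.assoc]
  erw [← (AbVarLib.isPullback_map sK η[B]).w]
  rw [← Category.assoc, ← Category.assoc]
  congr 1
  have h1 : (toUnit W).left = W.hom := toUnit_left' (k := K) W
  rw [h1, Category.assoc]
  congr 1
  haveI : IsIso (pullback.snd (𝟙_ (Over (Spec (CommRingCat.of k)))).hom sK) :=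
    inferInstanceAs (IsIso (pullback.snd (𝟙 (Spec (CommRingCat.of k))) sK))
  have h2 : (Functor.LaxMonoidal.ε (Over.pullback sK)).left ≫
      pullback.snd (𝟙_ (Over (Spec (CommRingCat.of k)))).hom sK = 𝟙 _ := Over.w (Functor.LaxMonoidal.ε (Over.pullback sK))
  have h3 : pullback.fst (𝟙_ (Over (Spec (CommRingCat.of k)))).hom sK =
      pullback.snd (𝟙_ (Over (Spec (CommRingCat.of k)))).hom sK ≫ sK :=
    (Category.comp_id _).symm.trans pullback.condition
  rw [h3, ← Category.assoc, h2, Category.id_comp]

/-- **Universal injectivity of the trace.** -/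
theorem universallyInjective_trace [GeometricallyIntegral sK]
    (A : Over (Spec (CommRingCat.of K))) [GrpObj A] [IsProper A.hom] [GeometricallyIntegral A.hom]
    (A' : Over (Spec (CommRingCat.of k))) [GrpObj A'] [IsProper A'.hom] [GeometricallyIntegral A'.hom]
    [GrpObj ((Over.pullback sK).obj A')] [IsMonHom (𝟙 ((Over.pullback sK).obj A'))]
    (hgrp : ‹GrpObj ((Over.pullback sK).obj A')› = Functor.grpObjObj)
    (tau : (Over.pullback sK).obj A' ⟶ A) [IsMonHom tau] (hfin : IsFinite tau.left)
    (hfac : ∀ (B : Over (Spec (CommRingCat.of k))) [GrpObj B] [IsProper B.hom] [GeometricallyIntegral B.hom]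
      (β : (Over.pullback sK).obj B ⟶ A),
      letI : GrpObj ((Over.pullback sK).obj B) := Functor.grpObjObj
      IsMonHom β → ∃ β₀ : B ⟶ A', IsMonHom β₀ ∧ (Over.pullback sK).map β₀ ≫ tau = β) :
    UniversallyInjective tau.left := by
  classical
  subst hgrp
  let F := Over.pullback sK
  letI instF : ∀ (Z : Over (Spec (CommRingCat.of k))) [GrpObj Z], GrpObj (F.obj Z) := fun Z => Functor.grpObjObj
  haveI : IsProper (F.obj A').hom := inferInstanceAs (IsProper (pullback.snd A'.hom sK))
  haveI : GeometricallyIntegral (F.obj A').hom := inferInstanceAs (GeometricallyIntegral (pullback.snd A'.hom sK))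
  haveI : IsCommMonObj A' := isCommMonObj_of_isProper_of_geometricallyIntegral A'
  haveI : IsCommMonObj A := isCommMonObj_of_isProper_of_geometricallyIntegral A
  haveI : IsCommMonObj (F.obj A') := isCommMonObj_of_isProper_of_geometricallyIntegral _
  haveI : IsFinite tau.left := hfin
  refine universallyInjective_of_geom_ker tau fun x hx => ?_
  -- the point is torsion
  obtain ⟨n, hn, hxn⟩ : ∃ n, 0 < n ∧ x ^ n = 1 := by
    letI : GrpObj ((Over.pullback gL).obj (F.obj A')) := Functor.grpObjObj
    letI : GrpObj ((Over.pullback gL).obj A) := Functor.grpObjObj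
    let t := (Over.pullback gL).map tau
    haveI : IsFinite t.left := AbVarLib.prop_map @IsFinite gL tau inferInstance
    have := finite_ker t
    have hinj : ∀ m : ℕ, (x ^ m) ≫ tau = 1 := fun m => by rw [MonObj.pow_comp, hx, one_pow]
    have hfin' : (Set.range fun m : ℕ => bcPts gL (F.obj A') (x ^ m)).Finite :=
      (Set.finite_coe_iff.1 (finite_ker t)).subset (by
        rintro _ ⟨m, rfl⟩
        show bcPts gL (F.obj A') (x ^ m) ≫ t = 1
        rw [← bcPts_comp, hinj, map_one])
    obtain ⟨a, b, hab, he⟩ : ∃ a b : ℕ, a < b ∧ bcPts gL (F.obj A') (x ^ a) = bcPts gL (F.obj A') (x ^ b) := by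
      obtain ⟨a, b, hne, he⟩ : ∃ a b : ℕ, a ≠ b ∧ bcPts gL (F.obj A') (x ^ a) = bcPts gL (F.obj A') (x ^ b) := by
        by_contra hcon
        push Not at hcon
        exact Set.infinite_range_of_injective (fun a b h => not_not.1 fun hne => hcon a b hne h) hfin'
      rcases lt_or_gt_of_ne hne with h | h
      · exact ⟨a, b, h, he⟩
      · exact ⟨b, a, h, he.symm⟩
    refine ⟨b - a, by omega, ?_⟩
    have he' := (bcPts_bijective gL (F.obj A')).1 he
    rw [← Nat.sub_add_cancel hab.le, pow_add] at he'
    exact mul_eq_right.1 he'.symm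
  -- the largest subgroup of the torsion killed by the trace
  let f : A' ⟶ A' := 𝟙 A' ^ n
  haveI : IsMonHom f := by
    show IsMonHom (𝟙 A' ^ n)
    rw [← zpow_natCast]; exact isMonHom_zpow _
  haveI : IsFinite f.left := isFinite_pow (A := A') hn
  haveI : IsClosedImmersion η[A'].left :=
    haveI : IsClosedImmersion (η[A'].left ≫ A'.hom) := by
      rw [Over.w]; exact (inferInstance : IsClosedImmersion (𝟙 (Spec (CommRingCat.of k))))
    IsClosedImmersion.of_comp η[A'].left A'.hom
  let N := UnipStruct.kerObj f
  let κ : N ⟶ A' := UnipStruct.kerι f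
  have hk : AlgGrp.IsKernel κ f := UnipStruct.isKernel_kerι f
  haveI := AlgGrpLib.kernel_mono hk
  haveI : IsClosedImmersion κ.left := MorphismProperty.of_isPullback (P := @IsClosedImmersion)
    (hk.map (Over.forget _)).flip ‹IsClosedImmersion η[A'].left›
  haveI : IsFinite N.hom := by
    have := MorphismProperty.of_isPullback (P := @IsFinite) (hk.map (Over.forget _)) ‹IsFinite f.left›
    rw [← Over.w (toUnit N)]
    exact MorphismProperty.comp_mem @IsFinite _ _ this (inferInstanceAs (IsFinite (𝟙 (Spec (CommRingCat.of k)))))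
  haveI : IsCommMonObj N := by
    refine ⟨(cancel_mono κ).1 ?_⟩
    rw [MonObj.mul_eq_mul, MonObj.comp_mul, braiding_hom_fst, braiding_hom_snd]
    show (snd N N * fst N N) ≫ κ = (fst N N * snd N N) ≫ κ
    rw [MonObj.mul_comp, MonObj.mul_comp, _root_.mul_comm]
  haveI : IsMonHom (F.map κ) := Functor.map.instIsMonHom _ _ _
  let φ : F.obj N ⟶ A := F.map κ ≫ tau
  haveI : IsMonHom φ := inferInstanceAs (IsMonHom (F.map κ ≫ tau))
  obtain ⟨H, _, i, _, _, _, hiφ, hmax⟩ := exists_maximal_killed φ
  haveI : Mono i := Over.mono_of_mono_left i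
  let j : H ⟶ A' := i ≫ κ
  haveI : IsMonHom j := inferInstanceAs (IsMonHom (i ≫ κ))
  haveI : Mono j := inferInstanceAs (Mono (i ≫ κ))
  obtain ⟨B, _, q, _, _, _, _, _, _, hjq, hker⟩ := exists_quotient_finite_subgroup A' H j
  haveI : IsCommMonObj B := isCommMonObj_of_isProper_of_geometricallyIntegral B
  -- the quotient is trivial by universality
  haveI : IsMonHom (F.map q) := Functor.map.instIsMonHom _ _ _
  haveI : Flat (F.map q).left := AbVarLib.prop_map @Flat sK q inferInstance
  haveI : Surjective (F.map q).left := AbVarLib.prop_map @Surjective sK q inferInstance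
  haveI : IsFinite (F.map q).left := AbVarLib.prop_map @IsFinite sK q inferInstance
  have hinv : ∀ {W : Over (Spec (CommRingCat.of K))} (a b : W ⟶ F.obj A'), a ≫ F.map q = b ≫ F.map q →
      a ≫ tau = b ≫ tau := by
    intro W a b hab
    have h0 : (a / b) ≫ F.map q = 1 := by rw [GrpObj.div_comp, hab, div_self']
    let W' : Over (Spec (CommRingCat.of k)) := Over.mk (W.hom ≫ sK)
    let t : W' ⟶ A' := Over.homMk ((a / b).left ≫ pullback.fst A'.hom sK) (by
      show ((a / b).left ≫ pullback.fst A'.hom sK) ≫ A'.hom = W.hom ≫ sK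
      rw [Category.assoc, pullback.condition, ← Category.assoc]
      exact congrArg (· ≫ sK) (Over.w (a / b)))
    have ht : t ≫ q = 1 := by
      refine Over.OverMorphism.ext ?_
      have h1 := congrArg (fun m => m.left ≫ pullback.fst B.hom sK) h0
      simp only [Over.comp_left, Category.assoc, one_left_fst] at h1
      rw [← (AbVarLib.isPullback_map sK q).w] at h1
      refine (Category.assoc _ _ _).trans (h1.trans ?_)
      rw [Hom.one_def, Over.comp_left, toUnit_left']
      simp [W', Category.assoc]
    obtain ⟨h, hh⟩ := hker _ t ht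
    let h' : W ⟶ F.obj H := Over.homMk (pullback.lift h.left W.hom (Over.w h)) (pullback.lift_snd _ _ _)
    have hfac' : h' ≫ F.map j = a / b := by
      refine Over.OverMorphism.ext (pullback.hom_ext ?_ ?_)
      · have e := congrArg Over.Hom.left hh
        show (h'.left ≫ (F.map j).left) ≫ pullback.fst A'.hom sK = _
        erw [Category.assoc, ← (AbVarLib.isPullback_map sK j).w, ← Category.assoc, pullback.lift_fst]
        exact e
      · exact (Over.w (h' ≫ F.map j)).trans (Over.w (a / b)).symm
    rw [← div_eq_one, ← GrpObj.div_comp, ← hfac', Category.assoc]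
    show h' ≫ F.map (i ≫ κ) ≫ tau = 1
    rw [Functor.map_comp, Category.assoc, hiφ, MonObj.comp_one]
  obtain ⟨τ', hτ'⟩ := exists_desc_fpqc (F.map q) tau hinv
  haveI : Epi (F.map q) := (Over.forget _).epi_of_epi_map (f := F.map q) (inferInstanceAs (Epi (F.map q).left))
  haveI : IsMonHom τ' := by
    let P' : MorphismProperty Scheme.{u} := @Flat ⊓ @Surjective ⊓ @QuasiCompact
    have h := prop_tensorHom P' (F.map q) (F.map q) ⟨⟨‹Flat (F.map q).left›, ‹Surjective (F.map q).left›⟩, inferInstance⟩
      ⟨⟨‹Flat (F.map q).left›, ‹Surjective (F.map q).left›⟩, inferInstance⟩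
    haveI := h.1.1; haveI := h.1.2; haveI := h.2
    haveI : Epi (F.map q ⊗ₘ F.map q) :=
      (Over.forget _).epi_of_epi_map (f := F.map q ⊗ₘ F.map q) (inferInstanceAs (Epi (F.map q ⊗ₘ F.map q).left))
    refine ⟨?_, (cancel_epi (F.map q ⊗ₘ F.map q)).1 ?_⟩
    · rw [← IsMonHom.one_hom (F.map q), Category.assoc, hτ', IsMonHom.one_hom]
    · rw [← Category.assoc, ← IsMonHom.mul_hom, Category.assoc, hτ', IsMonHom.mul_hom, tensorHom_comp_tensorHom_assoc,
        hτ']
  obtain ⟨β₀, _, hβ₀⟩ := hfac B τ' inferInstance
  let δ : A' ⟶ A' := (q ≫ β₀) / 𝟙 A'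
  have hqβ : q ≫ β₀ = 𝟙 A' := by
    rw [← div_eq_one]
    show δ = 1
    haveI : IsMonHom δ := by
      show IsMonHom ((q ≫ β₀) / 𝟙 A')
      rw [div_eq_mul_inv, Hom.mul_def]
      infer_instance
    haveI : IsMonHom (F.map δ) := Functor.map.instIsMonHom _ _ _
    have hδ : F.map δ ≫ tau = 1 := by
      rw [show F.map δ = _ from map_div F.homMonoidHom (q ≫ β₀) (𝟙 A'), GrpObj.div_comp]
      show (F.map (q ≫ β₀) ≫ tau) / (F.map (𝟙 A') ≫ tau) = 1
      rw [Functor.map_comp, Category.assoc, hβ₀, hτ', CategoryTheory.Functor.map_id, Category.id_comp, div_self']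
    haveI : IsClosedImmersion η[F.obj A'].left :=
      haveI : IsClosedImmersion (η[F.obj A'].left ≫ (F.obj A').hom) := by
        rw [Over.w]; exact (inferInstance : IsClosedImmersion (𝟙 (Spec (CommRingCat.of K))))
      IsClosedImmersion.of_comp η[F.obj A'].left (F.obj A').hom
    haveI : IsIntegral (F.obj A').left := GeometricallyIntegral.isIntegral_of_subsingleton (F.obj A').hom
    haveI : Subsingleton (Spec (CommRingCat.of K)) := inferInstanceAs (Subsingleton (PrimeSpectrum K))
    haveI : Subsingleton ↥(𝟙_ (Over (Spec (CommRingCat.of K)))).left := inferInstanceAs (Subsingleton (PrimeSpectrum K))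
    have hsub : Set.range (F.map δ).left ⊆ tau.left ⁻¹' {η[A].left (IsLocalRing.closedPoint K)} := by
      rintro _ ⟨z, rfl⟩
      rw [Set.mem_preimage, Set.mem_singleton_iff, ← Scheme.Hom.comp_apply, ← Over.comp_left, hδ, Hom.one_def,
        Over.comp_left, Scheme.Hom.comp_apply]
      exact congrArg _ (Subsingleton.elim _ _)
    have hfinr : (Set.range (F.map δ).left).Finite := (tau.left.finite_preimage_singleton _).subset hsub
    have hunit : η[F.obj A'].left (IsLocalRing.closedPoint K) ∈ Set.range (F.map δ).left :=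
      ⟨η[F.obj A'].left (IsLocalRing.closedPoint K), by
        rw [← Scheme.Hom.comp_apply, ← Over.comp_left, IsMonHom.one_hom]⟩
    haveI : IsProper (F.map δ).left := AbVarLib.isProper_left (F.map δ)
    have hcl : IsClosed (Set.range (F.map δ).left) := (F.map δ).left.isClosedMap.isClosed_range
    have hirr : IsIrreducible (Set.range (F.map δ).left) := by
      rw [← Set.image_univ]
      exact (IrreducibleSpace.isIrreducible_univ (X := (F.obj A').left)).image _
        (F.map δ).left.continuous.continuousOn
    have hrange : Set.range (F.map δ).left ⊆ Set.range η[F.obj A'].left := by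
      obtain ⟨g, hg, hgd⟩ : ∃ g ∈ Set.range (F.map δ).left, closure {g} = Set.range (F.map δ).left :=
        ⟨hirr.genericPoint, by
          have h := hirr.isGenericPoint_genericPoint hcl
          exact h.mem, hirr.isGenericPoint_genericPoint hcl⟩
      -- in a finite set of closed points the generic point is everything
      haveI : JacobsonSpace (F.obj A').left := LocallyOfFiniteType.jacobsonSpace (F.obj A').hom
      have hgc : IsClosed ({g} : Set (F.obj A').left) := by
        have hfc : IsClosed (Set.range (F.map δ).left ∩ closedPoints (F.obj A').left) := by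
          rw [← Set.biUnion_of_singleton (Set.range (F.map δ).left ∩ closedPoints (F.obj A').left)]
          exact (hfinr.subset Set.inter_subset_left).isClosed_biUnion fun z hz => hz.2
        have hgmem := hg
        rw [← closure_inter_closedPoints (Z := Set.range (F.map δ).left) hcl, hfc.closure_eq] at hgmem
        · exact hgmem.2
      rw [hgc.closure_eq] at hgd
      rw [← hgd] at hunit ⊢
      rintro _ rfl
      exact ⟨IsLocalRing.closedPoint K, hunit⟩
    obtain ⟨u, hu⟩ := RedSepLib.exists_lift_of_range_subset (F.map δ).left η[F.obj A'].left hrange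
    have hFδ : F.map δ = 1 := by
      let u' : F.obj A' ⟶ 𝟙_ _ := Over.homMk u (by rw [← Over.w η[F.obj A'], reassoc_of% hu]; exact Over.w _)
      rw [show F.map δ = u' ≫ η[F.obj A'] from Over.OverMorphism.ext hu.symm, Hom.one_def, toUnit_unique u' (toUnit _)]
    exact eq_of_map_eq (hFδ.trans (map_one F.homMonoidHom).symm)
  -- the point gives a point of the subgroup
  have hsep : Surjective sK := ⟨fun z => ⟨IsLocalRing.closedPoint K, Subsingleton.elim (α := PrimeSpectrum k) _ _⟩⟩
  let y : SGA7.pt (K := k) (AlgebraicClosure K) ⟶ A' := Over.homMk (x.left ≫ pullback.fst A'.hom sK) (by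
    show (x.left ≫ pullback.fst A'.hom sK) ≫ A'.hom = Spec.map (CommRingCat.ofHom (algebraMap k (AlgebraicClosure K)))
    rw [Category.assoc, pullback.condition, ← Category.assoc]
    erw [Over.w x]
    show Spec.map (CommRingCat.ofHom (algebraMap K (AlgebraicClosure K))) ≫ Spec.map (CommRingCat.ofHom (algebraMap k K)) = _
    rw [← Spec.map_comp, ← CommRingCat.ofHom_comp, ← IsScalarTower.algebraMap_eq])
  obtain ⟨yN, hyN⟩ := AlgGrpLib.exists_lift_kernel hk (g := y) (by
    show y ≫ (𝟙 A' ^ n) = 1
    rw [MonObj.comp_pow, Category.comp_id]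
    refine Over.OverMorphism.ext ?_
    have h1 := congrArg (fun m => m.left ≫ pullback.fst A'.hom sK)
      ((show x ≫ F.map (𝟙 A' ^ n) = x ^ n by
        rw [show F.map (𝟙 A' ^ n) = _ from map_pow F.homMonoidHom _ _]
        show x ≫ (F.map (𝟙 A')) ^ n = _
        rw [CategoryTheory.Functor.map_id, MonObj.comp_pow, Category.comp_id]).trans hxn)
    simp only [Over.comp_left, Category.assoc, one_left_fst] at h1
    rw [← (AbVarLib.isPullback_map sK (𝟙 A' ^ n)).w] at h1
    have h2 : (y ≫ (𝟙 A' ^ n)).left = y.left ≫ (𝟙 A' ^ n).left := rfl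
    rw [MonObj.comp_pow, Category.comp_id] at h2
    refine h2.trans ((Category.assoc _ _ _).trans (h1.trans ?_))
    rw [Hom.one_def, Over.comp_left, toUnit_left', ← Category.assoc]
    congr 1
    show Spec.map (CommRingCat.ofHom (algebraMap K (AlgebraicClosure K))) ≫ Spec.map (CommRingCat.ofHom (algebraMap k K)) =
      Spec.map (CommRingCat.ofHom (algebraMap k (AlgebraicClosure K)))
    erw [← Spec.map_comp]
    rw [ ← CommRingCat.ofHom_comp, ← IsScalarTower.algebraMap_eq])
  let z := yN.left (IsLocalRing.closedPoint (AlgebraicClosure K))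
  let R0 : Over (Spec (CommRingCat.of k)) := Over.mk (N.left.fromSpecResidueField z ≫ N.hom)
  let r : R0 ⟶ N := Over.homMk (N.left.fromSpecResidueField z) rfl
  haveI : Finite ↥N.left := by
    haveI : Subsingleton (Spec (CommRingCat.of k)) := inferInstanceAs (Subsingleton (PrimeSpectrum k))
    exact Set.finite_univ_iff.1
      ((N.hom.finite_preimage_singleton (IsLocalRing.closedPoint k)).subset fun q _ => Subsingleton.elim _ _)
  haveI : DiscreteTopology ↥N.left := DimLib.discreteTopology_of_finite (k := k) N.hom
  haveI : IsClosedImmersion r.left := by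
    show IsClosedImmersion (N.left.fromSpecResidueField z)
    refine IsClosedImmersion.of_isPreimmersion _ ?_
    rw [Scheme.range_fromSpecResidueField]; exact isClosed_discrete _
  haveI : IsFinite R0.hom := MorphismProperty.comp_mem @IsFinite r.left N.hom inferInstance inferInstance
  have hR : (F.map r) ≫ φ = 1 := by
    haveI : Subsingleton ↥R0.left := inferInstanceAs (Subsingleton (PrimeSpectrum (N.left.residueField z)))
    haveI : IsIntegral (F.obj R0).left := by
      haveI : IsIntegral R0.left := inferInstanceAs (IsIntegral (Spec (N.left.residueField z)))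
      exact GeometricallyIntegral.isIntegral_of_subsingleton (pullback.fst R0.hom sK)
    haveI : IsFinite (F.obj R0).hom := inferInstanceAs (IsFinite (pullback.snd R0.hom sK))
    haveI : Finite ↥(F.obj R0).left := by
      haveI : Subsingleton (Spec (CommRingCat.of K)) := inferInstanceAs (Subsingleton (PrimeSpectrum K))
      exact Set.finite_univ_iff.1
        (((F.obj R0).hom.finite_preimage_singleton (IsLocalRing.closedPoint K)).subset fun q _ => Subsingleton.elim _ _)
    haveI : DiscreteTopology ↥(F.obj R0).left := DimLib.discreteTopology_of_finite (k := K) (F.obj R0).hom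
    haveI : Subsingleton ↥(F.obj R0).left := Set.subsingleton_univ_iff.1 (IsPreconnected.subsingleton isPreconnected_univ)
    -- the given point lies over it
    obtain ⟨m, hm⟩ : ∃ m : SGA7.pt (K := K) (AlgebraicClosure K) ⟶ F.obj R0, m ≫ F.map (r ≫ κ) = x := by
      haveI : Subsingleton ↥(SGA7.pt (K := k) (AlgebraicClosure K)).left :=
        inferInstanceAs (Subsingleton (PrimeSpectrum (AlgebraicClosure K)))
      haveI : IsReduced (SGA7.pt (K := k) (AlgebraicClosure K)).left :=
        inferInstanceAs (IsReduced (Spec (CommRingCat.of (AlgebraicClosure K))))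
      obtain ⟨ψ, hψ⟩ := RedSepLib.exists_lift_of_range_subset yN.left r.left (by
        rintro _ ⟨w, rfl⟩
        show _ ∈ Set.range (N.left.fromSpecResidueField z)
        rw [Scheme.range_fromSpecResidueField, Subsingleton.elim w (IsLocalRing.closedPoint _)]
        rfl)
      refine ⟨Over.homMk (pullback.lift ψ gL (by
          show ψ ≫ N.left.fromSpecResidueField z ≫ N.hom = gL ≫ sK
          rw [← Category.assoc]
          erw [hψ, Over.w yN]
          show Spec.map _ = Spec.map _ ≫ Spec.map _
          rw [← Spec.map_comp, ← CommRingCat.ofHom_comp, ← IsScalarTower.algebraMap_eq])) (pullback.lift_snd _ _ _),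
        Over.OverMorphism.ext (pullback.hom_ext ?_ ((Over.w _).trans (Over.w x).symm))⟩
      rw [Over.comp_left, Category.assoc]
      erw [← (AbVarLib.isPullback_map sK (r ≫ κ)).w, ← Category.assoc, pullback.lift_fst]
      rw [Over.comp_left, ← Category.assoc]
      erw [hψ]
      exact congrArg Over.Hom.left hyN
    haveI : IsClosedImmersion η[A].left :=
      haveI : IsClosedImmersion (η[A].left ≫ A.hom) := by
        rw [Over.w]; exact (inferInstance : IsClosedImmersion (𝟙 (Spec (CommRingCat.of K))))
      IsClosedImmersion.of_comp η[A].left A.hom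
    obtain ⟨u, hu⟩ := RedSepLib.exists_lift_of_range_subset (F.map r ≫ φ).left η[A].left (by
      rintro _ ⟨w, rfl⟩
      rw [Subsingleton.elim w (m.left (IsLocalRing.closedPoint _)), ← Scheme.Hom.comp_apply, ← Over.comp_left,
        show m ≫ F.map r ≫ φ = 1 by
          show m ≫ F.map r ≫ F.map κ ≫ tau = 1
          rw [← Category.assoc (F.map r), ← Functor.map_comp, reassoc_of% hm, hx],
        Hom.one_def, Over.comp_left, Scheme.Hom.comp_apply]
      exact ⟨_, rfl⟩)
    let u' : F.obj R0 ⟶ 𝟙_ _ := Over.homMk u (by rw [← Over.w η[A], reassoc_of% hu]; exact Over.w _)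
    rw [show F.map r ≫ φ = u' ≫ η[A] from Over.OverMorphism.ext hu.symm, Hom.one_def, toUnit_unique u' (toUnit _)]
  obtain ⟨h, hh⟩ := hmax R0 r (inferInstanceAs (CompactSpace (PrimeSpectrum (N.left.residueField z)))) hR
  have hrk : r ≫ κ = 1 := by
    calc r ≫ κ = h ≫ j ≫ q ≫ β₀ := by rw [hqβ, Category.comp_id, ← hh, Category.assoc]
      _ = 1 := by rw [← Category.assoc j, hjq, MonObj.one_comp, MonObj.comp_one]
  have hy : y = 1 := by
    rw [← hyN]
    haveI : Subsingleton ↥(SGA7.pt (K := k) (AlgebraicClosure K)).left :=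
      inferInstanceAs (Subsingleton (PrimeSpectrum (AlgebraicClosure K)))
    haveI : IsReduced (SGA7.pt (K := k) (AlgebraicClosure K)).left :=
      inferInstanceAs (IsReduced (Spec (CommRingCat.of (AlgebraicClosure K))))
    obtain ⟨ψ, hψ⟩ := RedSepLib.exists_lift_of_range_subset yN.left r.left (by
      rintro _ ⟨w, rfl⟩
      show _ ∈ Set.range (N.left.fromSpecResidueField z)
      rw [Scheme.range_fromSpecResidueField, Subsingleton.elim w (IsLocalRing.closedPoint _)]
      rfl)
    let ψ' : SGA7.pt (K := k) (AlgebraicClosure K) ⟶ R0 := Over.homMk ψ (by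
      rw [show R0.hom = r.left ≫ N.hom from rfl, reassoc_of% hψ]; exact Over.w yN)
    rw [show yN = ψ' ≫ r from Over.OverMorphism.ext hψ.symm, Category.assoc, hrk, MonObj.comp_one]
  refine Over.OverMorphism.ext (pullback.hom_ext ?_ ((Over.w x).trans (Over.w _).symm))
  refine (congrArg Over.Hom.left hy).trans ?_
  rw [one_left_fst, Hom.one_def, Over.comp_left, toUnit_left']
  congr 1
  show Spec.map (CommRingCat.ofHom (algebraMap k (AlgebraicClosure K))) = gL ≫ sK
  rw [← Spec.map_comp, ← CommRingCat.ofHom_comp, ← IsScalarTower.algebraMap_eq]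

end Groth.Agent.AbCubeLib
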