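import Groth.Agent.AbCubeLib.SubvarietyQuotient
import Groth.Agent.AbCubeLib.PointsDescend
import Groth.Agent.AbCubeLib.PrimaryDescent
import Groth.Agent.AbCubeLib.GaloisSubgroup
import Groth.Agent.AbCubeLib.TraceInjective
import Groth.Prelude.Def_W4bk6langav68Chow

/-!
# The kernel of the map to the image over the ground field
-/

set_option autoImplicit false
set_option backward.isDefEq.respectTransparency.types false
set_option maxHeartbeats 3200000

universe u

open CategoryTheory CategoryTheory.Limits MonoidalCategory CartesianMonoidalCategory AlgebraicGeometry MonObj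

namespace Groth.Agent.AbCubeLib

/-- A surjective morphism of finite type is surjective on points with values in an algebraically closed field. -/
theorem exists_pts_lift_of_surjective {k : Type u} [Field k] {Ω : Type u} [Field Ω] [Algebra k Ω] [IsAlgClosed Ω]
    {Y Z : Over (Spec (CommRingCat.of k))} (q : Y ⟶ Z) [Surjective q.left] [LocallyOfFiniteType q.left]
    (z : SGA7.pt (K := k) Ω ⟶ Z) : ∃ y : SGA7.pt (K := k) Ω ⟶ Y, y ≫ q = z := by
  haveI : Surjective (pullback.snd q.left z.left) := MorphismProperty.pullback_snd (P := @Surjective) _ _ inferInstance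
  haveI : LocallyOfFiniteType (pullback.snd q.left z.left) :=
    MorphismProperty.pullback_snd (P := @LocallyOfFiniteType) _ _ inferInstance
  haveI : JacobsonSpace ↥(pullback q.left z.left) :=
    haveI : JacobsonSpace ↥(SGA7.pt (K := k) Ω).left := inferInstanceAs (JacobsonSpace (PrimeSpectrum Ω))
    LocallyOfFiniteType.jacobsonSpace (pullback.snd q.left z.left)
  obtain ⟨v₀, hv₀⟩ := (pullback.snd q.left z.left).surjective (IsLocalRing.closedPoint Ω)
  obtain ⟨v, -, hv⟩ := nonempty_inter_closedPoints (Z := (Set.univ : Set ↥(pullback q.left z.left)))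
    ⟨v₀, trivial⟩ isOpen_univ.isLocallyClosed
  refine ⟨Over.homMk (pointOfClosedPoint (pullback.snd q.left z.left) v hv ≫
    pullback.fst q.left z.left) ?_, Over.OverMorphism.ext ?_⟩
  · rw [← Over.w q, Category.assoc, pullback.condition_assoc, pointOfClosedPoint_comp_assoc]
    exact Over.w z
  · show (_ ≫ pullback.fst q.left z.left) ≫ q.left = z.left
    rw [Category.assoc, pullback.condition, pointOfClosedPoint_comp_assoc]

/-- A finite homomorphism has finitely many geometric kernel points. -/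
theorem finite_extPt_ker {K : Type u} [Field K] {L : Type u} [Field L] [Algebra K L]
    {X Y : Over (Spec (CommRingCat.of K))} [GrpObj X] [GrpObj Y] (f : X ⟶ Y) [IsFinite f.left] :
    Set.Finite {b : extPt (K := K) L ⟶ X | b ≫ f = 1} := by
  let gL := Spec.map (CommRingCat.ofHom (algebraMap K L))
  letI : GrpObj ((Over.pullback gL).obj X) := Functor.grpObjObj
  letI : GrpObj ((Over.pullback gL).obj Y) := Functor.grpObjObj
  haveI : IsFinite ((Over.pullback gL).map f).left :=
    MorphismProperty.of_isPullback (P := @IsFinite) (AbVarLib.isPullback_map gL f) ‹IsFinite f.left›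
  have := finite_ker ((Over.pullback gL).map f)
  refine Set.Finite.of_finite_image (f := bcPts gL X)
    ((Set.finite_coe_iff.1 this).subset ?_) ((bcPts_bijective gL _).1.injOn)
  rintro _ ⟨w, hw, rfl⟩
  show bcPts gL X w ≫ (Over.pullback gL).map f = 1
  rw [← bcPts_comp, show w ≫ f = 1 from hw, map_one]

variable {k K : Type u} [Field k] [Field K] [Algebra k K]

local notation "sK" => Spec.map (CommRingCat.ofHom (algebraMap k K))

noncomputable local instance instGrpObjBCChowKernel (A : Over (Spec (CommRingCat.of k))) [GrpObj A] :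
    GrpObj ((Over.pullback sK).obj A) := Functor.grpObjObj

local instance instIsProperBCChowKernel (A : Over (Spec (CommRingCat.of k))) [IsProper A.hom] :
    IsProper ((Over.pullback sK).obj A).hom :=
  inferInstanceAs (IsProper (pullback.snd A.hom sK))

local instance instGeomIntBCChowKernel (A : Over (Spec (CommRingCat.of k))) [GeometricallyIntegral A.hom] :
    GeometricallyIntegral ((Over.pullback sK).obj A).hom :=
  inferInstanceAs (GeometricallyIntegral (pullback.snd A.hom sK))

/-- A torsion morphism to a base change is a torsion morphism over the ground field. -/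
theorem pow_eq_one_of_bc {A : Over (Spec (CommRingCat.of k))} [GrpObj A] {T : Over (Spec (CommRingCat.of K))}
    (y : T ⟶ (Over.pullback sK).obj A) {n : ℕ} (h : y ^ n = 1) :
    ((Over.homMk (y.left ≫ pullback.fst A.hom sK) (by
      show (y.left ≫ pullback.fst A.hom sK) ≫ A.hom = T.hom ≫ sK
      rw [Category.assoc, pullback.condition, ← Category.assoc]
      exact congrArg (· ≫ sK) (Over.w y))) : Over.mk (T.hom ≫ sK) ⟶ A) ^ n = 1 := by
  set x : Over.mk (T.hom ≫ sK) ⟶ A := Over.homMk (y.left ≫ pullback.fst A.hom sK) _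
  have e1 : x ^ n = x ≫ (𝟙 A) ^ n := by rw [MonObj.comp_pow, Category.comp_id]
  have e2 : y ^ n = y ≫ (Over.pullback sK).map ((𝟙 A) ^ n) := by
    rw [show (Over.pullback sK).map ((𝟙 A) ^ n) = ((Over.pullback sK).homMonoidHom (𝟙 A)) ^ n from
      map_pow ((Over.pullback sK).homMonoidHom) _ _, MonObj.comp_pow]
    congr 1
    show y = y ≫ (Over.pullback sK).map (𝟙 A)
    rw [CategoryTheory.Functor.map_id, Category.comp_id]
  have h' := congrArg (fun f => f.left ≫ pullback.fst A.hom sK) (e2.symm.trans h)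
  simp only [Over.comp_left, Category.assoc] at h'
  rw [← (AbVarLib.isPullback_map sK ((𝟙 A) ^ n)).w] at h'
  rw [e1]
  refine Over.OverMorphism.ext ?_
  show (y.left ≫ pullback.fst A.hom sK) ≫ ((𝟙 A) ^ n).left = _
  rw [Category.assoc, h', one_left_fst, Hom.one_def, Over.comp_left, toUnit_left']
  exact (Category.assoc T.hom sK η[A].left).symm

/-- **The kernel of the map to the image** has the geometric points of an abelian subvariety. -/
theorem exists_chowImage_kernel (hK : AbVar.IsPrimaryExt k K)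
    {A : Over (Spec (CommRingCat.of K))} [GrpObj A] [IsProper A.hom] [GeometricallyIntegral A.hom]
    {A₀ : Over (Spec (CommRingCat.of k))} [GrpObj A₀] [IsProper A₀.hom] [GeometricallyIntegral A₀.hom]
    (lam : A ⟶ (Over.pullback sK).obj A₀) [IsMonHom lam] [Surjective lam.left]
    (hfac : ∀ (B : Over (Spec (CommRingCat.of k))) [GrpObj B] [IsProper B.hom] [GeometricallyIntegral B.hom]
      (α : A ⟶ (Over.pullback sK).obj B) [IsMonHom α],
      ∃ α₀ : A₀ ⟶ B, IsMonHom α₀ ∧ lam ≫ (Over.pullback sK).map α₀ = α) :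
    ∃ (Z : Over (Spec (CommRingCat.of K))) (_ : GrpObj Z) (j : Z ⟶ A), IsProper Z.hom ∧ GeometricallyIntegral Z.hom ∧
      IsMonHom j ∧ IsClosedImmersion j.left ∧ j ≫ lam = 1 ∧
      ∀ x : SGA7.pt (K := K) (AlgebraicClosure K) ⟶ A, x ≫ lam = 1 → ∃ z, z ≫ j = x := by
  classical
  let L₀ := AlgebraicClosure k
  let L := AlgebraicClosure K
  let emb : L₀ →ₐ[k] L := IsAlgClosed.lift
  letI : Algebra L₀ L := emb.toRingHom.toAlgebra
  haveI : IsScalarTower k L₀ L := IsScalarTower.of_algebraMap_eq fun x => (emb.commutes x).symm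
  let F := Over.pullback sK
  haveI : IsCommMonObj A := isCommMonObj_of_isProper_of_geometricallyIntegral A
  haveI : IsCommMonObj A₀ := isCommMonObj_of_isProper_of_geometricallyIntegral A₀
  haveI : IsCommMonObj (F.obj A₀) := isCommMonObj_of_isProper_of_geometricallyIntegral _
  obtain ⟨Z, _, j, hZp, hZg, hj, hjc, hjl, d, hd, hdZ⟩ := exists_kernel_subvariety lam
  refine ⟨Z, inferInstance, j, hZp, hZg, hj, hjc, hjl, ?_⟩
  obtain ⟨B, _, π, hBp, hBg, hπ, hπfl, hπs, hπqc, hjπ, hπfac, hπker⟩ := exists_quotient_subvariety j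
  haveI : IsCommMonObj B := isCommMonObj_of_isProper_of_geometricallyIntegral B
  obtain ⟨f, hf, hπf⟩ := hπfac _ lam hjl
  haveI : IsProper π.left := AbVarLib.isProper_left π
  haveI : Surjective f.left := ⟨fun b => by
    obtain ⟨a, rfl⟩ := lam.left.surjective b
    exact ⟨π.left a, by rw [← Scheme.Hom.comp_apply, ← Over.comp_left, hπf]⟩⟩
  -- the map from the quotient is finite
  haveI : IsFinite f.left := by
    refine isFinite_of_finite_geom_ker f ?_
    haveI : IsFinite ((𝟙 B) ^ d).left := isFinite_pow (A := B) hd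
    refine (finite_extPt_ker (L := L) ((𝟙 B) ^ d)).subset ?_
    intro b (hb : b ≫ f = 1)
    obtain ⟨a, rfl⟩ : ∃ a, a ≫ π = b := exists_pts_lift_of_surjective π b
    obtain ⟨z, hz⟩ := hdZ a (by rw [← hπf, ← Category.assoc, hb])
    show (a ≫ π) ≫ (𝟙 B) ^ d = 1
    rw [MonObj.comp_pow, Category.comp_id, ← MonObj.pow_comp, ← hz, Category.assoc, hjπ, MonObj.comp_one]
  obtain ⟨m, g, hm, hg, hfg, hgf⟩ := exists_isogeny_inverse f
  haveI : Surjective g.left := by
    haveI : Surjective ((𝟙 B) ^ m).left := surjective_pow hm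
    exact ⟨fun b => by
      obtain ⟨c, rfl⟩ := ((𝟙 B) ^ m).left.surjective b
      exact ⟨f.left c, by rw [← Scheme.Hom.comp_apply, ← Over.comp_left, hfg]⟩⟩
  haveI : IsFinite g.left := by
    refine isFinite_of_finite_geom_ker g ?_
    haveI : IsFinite ((𝟙 (F.obj A₀)) ^ m).left := isFinite_pow (A := F.obj A₀) hm
    refine (finite_extPt_ker (L := L) ((𝟙 (F.obj A₀)) ^ m)).subset ?_
    intro b (hb : b ≫ g = 1)
    show b ≫ (𝟙 _) ^ m = 1
    rw [← hgf, ← Category.assoc, hb, MonObj.one_comp]
  haveI : Flat g.left := AbVarLib.flat_of_surjective g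
  haveI : IsProper g.left := AbVarLib.isProper_left g
  have hgm : ∀ x : extPt (K := K) L ⟶ F.obj A₀, x ≫ g = 1 → x ^ m = 1 := fun x hx => by
    rw [← Category.comp_id x, ← MonObj.comp_pow, ← hgf, ← Category.assoc, hx, MonObj.one_comp]
  -- the points of the kernel of `g` over the small closure
  let pre : (extPt (K := k) L₀ ⟶ A₀) →* (extPt (K := k) L ⟶ A₀) :=
    MonoidHom.mk' (fun y => extPtIncl ≫ y) fun a b => MonObj.comp_mul _ a b
  let lp : (extPt (K := k) L₀ ⟶ A₀) →* (extPt (K := K) L ⟶ F.obj A₀) := (liftPt K L).comp pre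
  let post : (extPt (K := K) L ⟶ F.obj A₀) →* (extPt (K := K) L ⟶ B) :=
    MonoidHom.mk' (fun b => b ≫ g) fun a b => MonObj.mul_comp a b g
  have hlp : Function.Injective lp := (liftPt_bijective K L).1.comp fun a b h => by
    haveI := epi_extPtIncl (k := k) (L₀ := L₀) (L := L)
    exact (cancel_epi extPtIncl).1 h
  let P : Subgroup (SGA7.pt (K := k) L₀ ⟶ A₀) := (post.comp lp).ker
  have hPm : ∀ y ∈ P, y ^ m = 1 := fun y hy => hlp (by
    rw [map_pow, map_one]
    exact hgm _ hy)
  -- points of torsion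
  let N := UnipStruct.kerObj ((𝟙 A₀) ^ m)
  haveI : IsMonHom ((𝟙 A₀) ^ m) := isMonHom_npow (𝟙 A₀) m
  have hkN : AlgGrp.IsKernel (UnipStruct.kerι ((𝟙 A₀) ^ m)) ((𝟙 A₀) ^ m) := UnipStruct.isKernel_kerι _
  haveI : IsFinite ((𝟙 A₀) ^ m).left := isFinite_pow (A := A₀) hm
  haveI : IsFinite N.hom := by
    have := MorphismProperty.of_isPullback (P := @IsFinite) (IsPullback.map (Over.forget _) hkN)
      ‹IsFinite ((𝟙 A₀) ^ m).left›
    simpa [Over.toUnit_left] using this
  have htors : ∀ u : extPt (K := k) L ⟶ A₀, u ^ m = 1 →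
      ∃ y : extPt (K := k) L₀ ⟶ A₀, y ^ m = 1 ∧ extPtIncl ≫ y = u := by
    intro u hu
    obtain ⟨u', hu'⟩ := AlgGrpLib.exists_lift_kernel hkN (g := u) (by rw [MonObj.comp_pow, Category.comp_id, hu])
    obtain ⟨y, hy⟩ := exists_descend_pt (L₀ := L₀) N u'
    refine ⟨y ≫ UnipStruct.kerι _, ?_, by rw [← Category.assoc, hy, hu']⟩
    rw [← Category.comp_id (y ≫ _), ← MonObj.comp_pow, Category.assoc, AlgGrpLib.kernel_comp hkN, MonObj.comp_one]
  have hstab : ∀ (σ : L₀ ≃ₐ[k] L₀), ∀ y ∈ P, SGA7.galAct σ y ∈ P := by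
    intro σ y hy
    obtain ⟨y', hy'⟩ := AlgGrpLib.exists_lift_kernel hkN (g := y) (by
      rw [MonObj.comp_pow, Category.comp_id, hPm y hy])
    obtain ⟨τ, hτ⟩ := exists_agree_pt (K := K) (L := L) N hK y' σ.toAlgHom
    have e : lp (SGA7.galAct σ y) = extPtMap L τ ≫ lp y := by
      refine Over.OverMorphism.ext (pullback.hom_ext ?_ ((Over.w _).trans (Over.w _).symm))
      show (liftPt K L _).left ≫ _ = (_ ≫ (liftPt K L _).left) ≫ _
      rw [Category.assoc, liftPt_left_fst, liftPt_left_fst]
      subst hy'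
      show (extPtIncl ≫ extPtMap L₀ σ.toAlgHom ≫ y' ≫ _).left = _ ≫ (extPtIncl ≫ y' ≫ _).left
      simp only [← Category.assoc, Over.comp_left]
      simp only [Category.assoc]
      have := congrArg (· ≫ (UnipStruct.kerι ((𝟙 A₀) ^ m)).left) hτ
      simp only [Over.comp_left, Category.assoc] at this
      exact this.symm
    show lp (SGA7.galAct σ y) ≫ g = 1
    rw [e, Category.assoc, show lp y ≫ g = 1 from hy, MonObj.comp_one]
  obtain ⟨H, _, i, hHfin, hi, hic, him, hmem, hHfac⟩ := exists_subgroupScheme_fac A₀ hm P hPm hstab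
  haveI : Mono i := Over.mono_of_mono_left i
  obtain ⟨Q, _, q, hQp, hQg, hq, hqf, hqfl, hqs, hiq, hkerq⟩ := exists_quotient_finite_subgroup A₀ H i
  haveI : IsMonHom (F.map q) := Functor.map.instIsMonHom _ _ q
  -- the base change of the quotient kills the kernel of `g`
  let Ng := UnipStruct.kerObj g
  let κg : Ng ⟶ F.obj A₀ := UnipStruct.kerι g
  have hkg : AlgGrp.IsKernel κg g := UnipStruct.isKernel_kerι g
  haveI : IsFinite Ng.hom := by
    have := MorphismProperty.of_isPullback (P := @IsFinite) (IsPullback.map (Over.forget _) hkg) ‹IsFinite g.left›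
    simpa [Over.toUnit_left] using this
  have hκgm : κg ^ m = 1 := by
    rw [← Category.comp_id κg, ← MonObj.comp_pow, ← hgf, ← Category.assoc, AlgGrpLib.kernel_comp hkg,
      MonObj.one_comp]
  have hkill : κg ≫ F.map q = 1 := by
    let T : Over (Spec (CommRingCat.of k)) := Over.mk (Ng.hom ≫ sK)
    let x : T ⟶ A₀ := Over.homMk (κg.left ≫ pullback.fst A₀.hom sK) (by
      show (κg.left ≫ pullback.fst A₀.hom sK) ≫ A₀.hom = Ng.hom ≫ sK
      rw [Category.assoc, pullback.condition, ← Category.assoc]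
      exact congrArg (· ≫ sK) (Over.w κg))
    obtain ⟨h, hh⟩ := hHfac T x (pow_eq_one_of_bc κg hκgm) (fun t => by
      have : Subsingleton ↥(Spec (CommRingCat.of K)) := inferInstanceAs (Subsingleton (PrimeSpectrum K))
      haveI : Finite ↥Ng.left := Set.finite_univ_iff.1
        ((Ng.hom.finite_preimage_singleton (IsLocalRing.closedPoint K)).subset fun q _ => Subsingleton.elim _ _)
      haveI : DiscreteTopology ↥Ng.left := DimLib.discreteTopology_of_finite (k := K) Ng.hom
      obtain ⟨v, hv⟩ := exists_pts_through (Ω := L) (X := Ng) (c := t) (isClosed_discrete _)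
      obtain ⟨w, hw⟩ := (liftPt_bijective K L (A := A₀)).2 (v ≫ κg)
      have hwm : w ^ m = 1 := (liftPt_bijective K L).1 (by
        rw [map_pow, hw, map_one, ← MonObj.comp_pow, hκgm, MonObj.comp_one])
      obtain ⟨y, hym, hy⟩ := htors w hwm
      have hyg : lp y ≫ g = 1 := by
        show liftPt K L (extPtIncl ≫ y) ≫ g = 1
        rw [hy, hw, Category.assoc, AlgGrpLib.kernel_comp hkg, MonObj.comp_one]
      refine ⟨y, hyg, ?_⟩
      have e := congrArg (fun f : extPt (K := K) L ⟶ F.obj A₀ => (f.left ≫ pullback.fst A₀.hom sK) (IsLocalRing.closedPoint L)) hw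
      simp only [liftPt_left_fst, ← hy, Over.comp_left, Scheme.Hom.comp_apply] at e
      rw [show x.left t = pullback.fst A₀.hom sK (κg.left t) from Scheme.Hom.comp_apply _ _ _, ← hv]
      refine Eq.trans ?_ e
      exact congrArg y.left (Subsingleton.elim (α := PrimeSpectrum L₀) _ _))
    refine Over.OverMorphism.ext (pullback.hom_ext ?_ ((Over.w _).trans (Over.w _).symm))
    rw [Over.comp_left, Category.assoc, ← (AbVarLib.isPullback_map sK q).w, ← Category.assoc,
      show κg.left ≫ pullback.fst A₀.hom sK = x.left from rfl, ← hh, ← Over.comp_left, Category.assoc, hiq,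
      MonObj.comp_one, one_left_fst, Hom.one_def, Over.comp_left, toUnit_left']
    exact Category.assoc _ _ _
  obtain ⟨φ, ⟨hφ, hgφ⟩, -⟩ := AbVarLib.existsUnique_lift_of_kernel g κg hkg (F.map q) hkill
  obtain ⟨α₀, hα₀, hα⟩ := hfac Q (π ≫ φ)
  haveI : Epi π := Over.epi_of_epi_left _
  have hφ' : φ = f ≫ F.map α₀ := by rw [← cancel_epi π, ← Category.assoc, hπf, hα]
  intro x hx
  refine hπker x ?_
  obtain ⟨a, ha⟩ := exists_pts_lift (Ω := L) g (x ≫ π)
  have hxf : (x ≫ π) ≫ f = 1 := by rw [Category.assoc, hπf, hx]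
  have ham : a ^ m = 1 := by
    rw [← Category.comp_id a, ← MonObj.comp_pow, ← hgf, ← Category.assoc, ha, hxf]
  obtain ⟨u, hu⟩ := (liftPt_bijective K L (A := A₀)).2 a
  obtain ⟨y, hym, hy⟩ := htors u ((liftPt_bijective K L).1 (by rw [map_pow, hu, ham, map_one]))
  have hly : lp y = a := by rw [← hu, ← hy]; rfl
  have haq : a ≫ F.map q = 1 := by
    rw [← hgφ, hφ', ← Category.assoc, ha, ← Category.assoc, hxf, MonObj.one_comp]
  have hyq : y ≫ q = 1 := by
    haveI := epi_extPtIncl (k := k) (L₀ := L₀) (L := L)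
    rw [← cancel_epi (extPtIncl (k := k) (L₀ := L₀) (L := L)), MonObj.comp_one]
    refine (liftPt_bijective K L (A := Q)).1 ?_
    rw [map_one, ← haq, ← hly]
    refine Over.OverMorphism.ext (pullback.hom_ext ?_ ((Over.w _).trans (Over.w _).symm))
    show (liftPt K L _).left ≫ _ = ((liftPt K L _).left ≫ (F.map q).left) ≫ _
    rw [liftPt_left_fst, Category.assoc, ← (AbVarLib.isPullback_map sK q).w,
      ← Category.assoc (liftPt K L _).left, liftPt_left_fst]
    rfl
  obtain ⟨h, hh⟩ := hkerq _ y hyq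
  have hyP : y ∈ P := (hmem y).1 ⟨h, hh⟩
  rw [← ha, ← hly]
  exact hyP

/-- The set-theoretic kernel, from the geometric points of the kernel. -/
theorem preimage_one_eq_range {A Y Z : Over (Spec (CommRingCat.of K))} [GrpObj A] [IsProper A.hom] [GrpObj Y]
    [IsProper Y.hom] (lam : A ⟶ Y) (j : Z ⟶ A) [IsClosedImmersion j.left] (hj : j ≫ lam = 1)
    (hpt : ∀ x : SGA7.pt (K := K) (AlgebraicClosure K) ⟶ A, x ≫ lam = 1 → ∃ z, z ≫ j = x) :
    lam.left ⁻¹' Set.range η[Y].left = Set.range j.left := by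
  let L := AlgebraicClosure K
  haveI : IsClosedImmersion η[Y].left :=
    haveI : IsClosedImmersion (η[Y].left ≫ Y.hom) := by
      rw [Over.w]; exact (inferInstance : IsClosedImmersion (𝟙 (Spec (CommRingCat.of K))))
    IsClosedImmersion.of_comp η[Y].left Y.hom
  refine Set.Subset.antisymm (fun p hp => ?_) ?_
  · by_contra hq
    haveI : JacobsonSpace A.left := LocallyOfFiniteType.jacobsonSpace A.hom
    obtain ⟨c, ⟨hc1, hc2⟩, hcc⟩ := nonempty_inter_closedPoints
      (Z := (lam.left ⁻¹' Set.range η[Y].left) ∩ (Set.range j.left)ᶜ) ⟨p, hp, hq⟩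
      ((η[Y].left.isClosedEmbedding.isClosed_range.preimage lam.left.continuous).isLocallyClosed.inter
        j.left.isClosedEmbedding.isClosed_range.isOpen_compl.isLocallyClosed)
    obtain ⟨x, hx⟩ := exists_pts_through (Ω := L) (X := A) hcc
    haveI : IsReduced (SGA7.pt (K := K) L).left := inferInstanceAs (IsReduced (Spec (CommRingCat.of L)))
    have hker : x ≫ lam = 1 := by
      obtain ⟨u, hu⟩ := RedSepLib.exists_lift_of_range_subset (x ≫ lam).left η[Y].left (by
        rintro _ ⟨t, rfl⟩
        rw [Subsingleton.elim (α := PrimeSpectrum L) t (IsLocalRing.closedPoint L), Over.comp_left,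
          Scheme.Hom.comp_apply, hx]
        exact hc1)
      let u' : SGA7.pt (K := K) L ⟶ 𝟙_ _ := Over.homMk u (by
        rw [← Over.w η[Y], reassoc_of% hu]; exact Over.w _)
      rw [show x ≫ lam = u' ≫ η[Y] from Over.OverMorphism.ext hu.symm, Hom.one_def,
        toUnit_unique u' (toUnit _)]
    obtain ⟨z, rfl⟩ := hpt x hker
    refine hc2 ⟨z.left (IsLocalRing.closedPoint L), ?_⟩
    rw [← hx]; rfl
  · rintro _ ⟨z, rfl⟩
    refine ⟨(toUnit Z).left z, ?_⟩
    rw [← Scheme.Hom.comp_apply, ← Scheme.Hom.comp_apply, ← Over.comp_left, ← Over.comp_left, hj, Hom.one_def]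

/-- A surjective homomorphism has a section up to a positive integer. -/
theorem exists_section_up_to_pow {B A : Over (Spec (CommRingCat.of K))} [GrpObj B] [IsProper B.hom]
    [GeometricallyIntegral B.hom] [GrpObj A] [IsProper A.hom] [GeometricallyIntegral A.hom] (β : B ⟶ A) [IsMonHom β]
    [Surjective β.left] :
    ∃ (m : ℕ) (s : A ⟶ B), 0 < m ∧ IsMonHom s ∧ s ≫ β = (𝟙 A) ^ m := by
  haveI : IsCommMonObj A := isCommMonObj_of_isProper_of_geometricallyIntegral A
  haveI : IsCommMonObj B := isCommMonObj_of_isProper_of_geometricallyIntegral B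
  haveI : IsProper (B ⊗ A).hom := inferInstanceAs (IsProper (pullback.fst B.hom A.hom ≫ B.hom))
  haveI : GeometricallyIntegral (B ⊗ A).hom := geometricallyIntegral_tensor' B A
  haveI : IsMonHom (1 : B ⊗ A ⟶ B) := by rw [Hom.one_def]; infer_instance
  haveI : IsMonHom (1 : A ⟶ B) := by rw [Hom.one_def]; infer_instance
  let φ : B ⊗ A ⟶ B ⊗ A := lift 1 (fst B A ≫ β)
  haveI : IsMonHom φ := inferInstanceAs (IsMonHom (lift _ (fst B A ≫ β)))
  obtain ⟨m, ψ, hm, hψ, hreg⟩ := exists_regular φ
  let e : A ⟶ B ⊗ A := lift 1 (𝟙 A)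
  let e₁ : B ⟶ B ⊗ A := lift (𝟙 B) 1
  haveI : IsMonHom e := inferInstanceAs (IsMonHom (lift _ (𝟙 A)))
  refine ⟨m, e ≫ ψ ≫ fst B A, hm, inferInstance, ?_⟩
  haveI : IsProper β.left := AbVarLib.isProper_left β
  haveI : Flat β.left := AbVarLib.flat_of_surjective β
  haveI : Epi β := Over.epi_of_epi_left _
  have h1 : e₁ ≫ φ = β ≫ e := by
    apply CartesianMonoidalCategory.hom_ext <;>
      simp only [φ, e, e₁, Category.assoc, lift_fst, lift_snd, lift_fst_assoc, Category.id_comp, Category.comp_id,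
        MonObj.comp_one]
  have h2 := congrArg (fun f => e₁ ≫ f ≫ snd B A) hreg
  simp only [Category.assoc] at h2
  rw [reassoc_of% h1, MonObj.pow_comp, MonObj.comp_pow, ← Category.assoc e₁ φ, h1] at h2
  simp only [φ, e, lift_snd, Category.assoc, Category.comp_id] at h2 ⊢
  rw [← cancel_epi β, MonObj.comp_pow, Category.comp_id]
  exact h2

end Groth.Agent.AbCubeLib
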