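import Groth.Agent.S0114
import Groth.Agent.Stk19b.FreeQuot
import Groth.Agent.Stk19b.FlfQuot
import Groth.Agent.ShfCat16.Quot
import Groth.Agent.FlatMor12.GeomDescent
import Groth.Agent.AbCubeLib.ExistsAmple
import Groth.Agent.AmpleLib.Ample
import Groth.Agent.SGA3xLib.SepFibre
import Groth.Agent.AbVarLib.KernelQuot
import Groth.Agent.FBaseLib.Geom
import Groth.Agent.CubeLib.FieldChange
import Mathlib.AlgebraicGeometry.EffectiveEpi

/-!
# The quotient of an abelian variety by a finite subgroup scheme
-/

set_option autoImplicit false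
set_option backward.isDefEq.respectTransparency.types false
set_option maxHeartbeats 1600000

universe u

open CategoryTheory CategoryTheory.Limits MonoidalCategory CartesianMonoidalCategory AlgebraicGeometry MonObj

namespace Groth.Agent.AbCubeLib

section Descent

variable {S : Scheme.{u}}

/-- A morphism invariant on the kernel pair of a faithfully flat quasi-compact morphism descends. -/
theorem exists_desc_fpqc {X Y Z : Over S} (p : X ⟶ Y) [Flat p.left] [Surjective p.left] [QuasiCompact p.left]
    (f : X ⟶ Z) (h : ∀ {W : Over S} (a b : W ⟶ X), a ≫ p = b ≫ p → a ≫ f = b ≫ f) :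
    ∃ g : Y ⟶ Z, p ≫ g = f := by
  haveI : EffectiveEpi p.left := inferInstance
  let g₀ : Y.left ⟶ Z.left := EffectiveEpi.desc p.left f.left (fun {W} a b hab => by
    let W' : Over S := Over.mk (a ≫ X.hom)
    let a' : W' ⟶ X := Over.homMk a rfl
    let b' : W' ⟶ X := Over.homMk b (by
      show b ≫ X.hom = a ≫ X.hom
      rw [← Over.w p, ← Category.assoc, ← hab, Category.assoc])
    exact congrArg CommaMorphism.left (h a' b' (Over.OverMorphism.ext hab)))
  have hg : p.left ≫ g₀ = f.left := EffectiveEpi.fac _ _ _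
  exact ⟨Over.homMk g₀ (by rw [← cancel_epi p.left, ← Category.assoc, hg, Over.w f, Over.w p]),
    Over.OverMorphism.ext hg⟩

theorem isPullback_whiskerRight {G M : Over S} (i : G ⟶ M) (Z : Over S) :
    IsPullback (fst G Z).left (i ▷ Z).left i.left (fst M Z).left := by
  have e1 : (i ▷ Z).left ≫ pullback.fst M.hom Z.hom = pullback.fst G.hom Z.hom ≫ i.left := Over.whiskerRight_left_fst i
  have e2 : (i ▷ Z).left ≫ pullback.snd M.hom Z.hom = pullback.snd G.hom Z.hom := Over.whiskerRight_left_snd i
  have hbig : IsPullback (pullback.fst G.hom Z.hom) ((i ▷ Z).left ≫ pullback.snd M.hom Z.hom)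
      (i.left ≫ M.hom) Z.hom := by
    rw [e2, Over.w i]
    exact IsPullback.of_hasPullback G.hom Z.hom
  exact IsPullback.of_bot hbig e1.symm (IsPullback.of_hasPullback M.hom Z.hom)

theorem isPullback_whiskerLeft {G M : Over S} (i : G ⟶ M) (Z : Over S) :
    IsPullback (snd Z G).left (Z ◁ i).left i.left (snd Z M).left := by
  have e1 : (Z ◁ i).left ≫ pullback.snd Z.hom M.hom = pullback.snd Z.hom G.hom ≫ i.left := Over.whiskerLeft_left_snd i
  have e2 : (Z ◁ i).left ≫ pullback.fst Z.hom M.hom = pullback.fst Z.hom G.hom := Over.whiskerLeft_left_fst i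
  have hbig : IsPullback (pullback.snd Z.hom G.hom) ((Z ◁ i).left ≫ pullback.fst Z.hom M.hom)
      (i.left ≫ M.hom) Z.hom := by
    rw [e2, Over.w i]
    exact (IsPullback.of_hasPullback Z.hom G.hom).flip
  exact IsPullback.of_bot hbig e1.symm (IsPullback.of_hasPullback Z.hom M.hom).flip

theorem prop_tensorHom (P : MorphismProperty Scheme.{u}) [P.IsStableUnderBaseChange] [P.IsStableUnderComposition]
    {G M G' M' : Over S} (i : G ⟶ M) (i' : G' ⟶ M') (hi : P i.left) (hi' : P i'.left) : P (i ⊗ₘ i').left := by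
  rw [MonoidalCategory.tensorHom_def, Over.comp_left]
  exact P.comp_mem _ _ (MorphismProperty.of_isPullback (isPullback_whiskerRight i G') hi)
    (MorphismProperty.of_isPullback (isPullback_whiskerLeft i' M) hi')

end Descent

/-- Over a locally noetherian base, locally of finite type morphisms are locally of finite presentation. -/
theorem locallyOfFinitePresentation_of_noetherian_base {X Y : Scheme.{u}} (f : X ⟶ Y)
    [LocallyOfFiniteType f] [IsLocallyNoetherian Y] : LocallyOfFinitePresentation f :=
  ⟨fun {U} hU {V} hV e => by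
    have : IsNoetherianRing Γ(Y, U) := IsLocallyNoetherian.component_noetherian ⟨U, hU⟩
    algebraize [(f.appLE U V e).hom]
    have := f.finiteType_appLE hU hV e
    exact Algebra.FinitePresentation.of_finiteType.1 this⟩

variable {K : Type u} [Field K]

/-- **The quotient of an abelian variety by a finite subgroup scheme.** -/
theorem exists_quotient_finite_subgroup (A : Over (Spec (CommRingCat.of K))) [GrpObj A] [IsProper A.hom]
    [GeometricallyIntegral A.hom] (H : Over (Spec (CommRingCat.of K))) [GrpObj H] [IsFinite H.hom] (i : H ⟶ A)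
    [IsMonHom i] [Mono i] :
    ∃ (B : Over (Spec (CommRingCat.of K))) (_ : GrpObj B) (q : A ⟶ B), IsProper B.hom ∧ GeometricallyIntegral B.hom ∧
      IsMonHom q ∧ IsFinite q.left ∧ Flat q.left ∧ Surjective q.left ∧ i ≫ q = 1 ∧
      ∀ (T : Over (Spec (CommRingCat.of K))) (x : T ⟶ A), x ≫ q = 1 → ∃ h : T ⟶ H, h ≫ i = x := by
  classical
  haveI : IsCommMonObj A := isCommMonObj_of_isProper_of_geometricallyIntegral A
  let act : AlgGrp.Action H A :=
    { act := (fst H A ≫ i) * snd H A
      one_act := by
        rw [MonObj.comp_mul, whiskerRight_fst_assoc, whiskerRight_snd, IsMonHom.one_hom,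
          toUnit_unique (fst (𝟙_ _) _) (toUnit _), ← Hom.one_def, _root_.one_mul, leftUnitor_hom]
      mul_act := by
        rw [MonObj.comp_mul, whiskerRight_fst_assoc, whiskerRight_snd, IsMonHom.mul_hom]
        simp only [MonObj.comp_mul, whiskerLeft_fst_assoc, whiskerLeft_snd, associator_hom_fst_assoc,
          associator_hom_snd_fst_assoc, associator_hom_snd_snd]
        rw [← _root_.mul_assoc]
        congr 1
        simp only [MonoidalCategory.tensorHom_def, Hom.mul_def, ← Category.assoc]
        congr 1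
        apply CartesianMonoidalCategory.hom_ext <;> simp }
  have hact : ∀ {T : Over (Spec (CommRingCat.of K))} (h : T ⟶ H) (x : T ⟶ A), lift h x ≫ act.act = h ≫ i * x :=
    fun h x => by
      show lift h x ≫ ((fst H A ≫ i) * snd H A) = _
      rw [MonObj.comp_mul, lift_fst_assoc, lift_snd]
  have hfree : ∀ (T : Over (Spec (CommRingCat.of K))) (g : T ⟶ H) (x : T ⟶ A), lift g x ≫ act.act = x →
      g = toUnit T ≫ η[H] := by
    intro T g x h
    rw [hact] at h
    rw [← cancel_mono i, Category.assoc, IsMonHom.one_hom, ← Hom.one_def]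
    exact mul_eq_right.1 h
  have he := Stk19b.FreeQuot.isEqvRel_free act hfree
  let Γ := Stk19b.Fppf.grpd he
  haveI : Mono Γ.j := Stk19b.Fppf.mono_grpd_j he
  haveI : Flat H.hom := CubeLib.flat_of_field _
  haveI : LocallyOfFinitePresentation H.hom :=
    locallyOfFinitePresentation_of_noetherian_base H.hom
  haveI : IsFinite Γ.s :=
    MorphismProperty.of_isPullback (P := @IsFinite) (Stk19b.FreeQuot.isPullback_tensor H A) inferInstance
  haveI : Flat Γ.s :=
    MorphismProperty.of_isPullback (P := @Flat) (Stk19b.FreeQuot.isPullback_tensor H A) inferInstance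
  haveI : LocallyOfFinitePresentation Γ.s :=
    MorphismProperty.of_isPullback (P := @LocallyOfFinitePresentation) (Stk19b.FreeQuot.isPullback_tensor H A)
      inferInstance
  obtain ⟨L, -, hL⟩ := exists_ample (A := A)
  have hb : GrpdLib.OrbitsInAffines Γ := by
    intro x
    obtain ⟨m, -, b, hb, -, haff⟩ := AmpleLib.exists_affine_glocus_finite (U := ⊤) hL (Γ.t '' (Γ.s ⁻¹' {x}))
      ((Γ.s.finite_preimage_singleton x).image _) fun _ _ => trivial
    exact ⟨_, haff, hb⟩
  obtain ⟨M, q, ⟨hqf, hqfl, hqfp⟩, hqs, hsq, -⟩ := Stk19b.FlfQuot.exists_quotient Γ hb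
  replace hsq : IsPullback act.act.left (snd H A).left q.left q.left := hsq
  let q' : A ⟶ M := q
  haveI : IsFinite q'.left := hqf
  haveI : Flat q'.left := hqfl
  haveI : LocallyOfFinitePresentation q'.left := hqfp
  haveI : Surjective q'.left := hqs
  have hsq' : IsPullback act.act (snd H A) q' q' :=
    IsPullback.of_map (Over.forget _) (Over.OverMorphism.ext hsq.w) hsq
  have hrel : ∀ {T : Over (Spec (CommRingCat.of K))} (x y : T ⟶ A), x ≫ q' = y ≫ q' → ∃ h : T ⟶ H, x = h ≫ i * y := by
    intro T x y h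
    obtain ⟨r, hr1, hr2⟩ := hsq'.exists_lift x y h
    refine ⟨r ≫ fst H A, ?_⟩
    rw [← hact, ← hr1]
    congr 1
    exact CartesianMonoidalCategory.hom_ext _ _ (by simp) (by simpa using hr2)
  have hinvq : ∀ {T : Over (Spec (CommRingCat.of K))} (h : T ⟶ H) (y : T ⟶ A), (h ≫ i * y) ≫ q' = y ≫ q' := by
    intro T h y
    rw [← hact, Category.assoc, hsq'.w, lift_snd_assoc]
  let P : MorphismProperty Scheme.{u} := @Flat ⊓ @Surjective ⊓ @QuasiCompact
  have hPq : P q'.left := ⟨⟨inferInstance, inferInstance⟩, inferInstance⟩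
  have hPqq : P (q' ⊗ₘ q').left := prop_tensorHom P q' q' hPq hPq
  haveI : Flat (q' ⊗ₘ q').left := hPqq.1.1
  haveI : Surjective (q' ⊗ₘ q').left := hPqq.1.2
  haveI : QuasiCompact (q' ⊗ₘ q').left := hPqq.2
  obtain ⟨mulM, hmul⟩ := exists_desc_fpqc (q' ⊗ₘ q') (μ[A] ≫ q') (by
    intro W a b hab
    have h1 : (a ≫ fst A A) ≫ q' = (b ≫ fst A A) ≫ q' := by
      have := congrArg (· ≫ fst M M) hab
      simpa using this
    have h2 : (a ≫ snd A A) ≫ q' = (b ≫ snd A A) ≫ q' := by
      have := congrArg (· ≫ snd M M) hab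
      simpa using this
    obtain ⟨g, hg⟩ := hrel _ _ h1
    obtain ⟨g', hg'⟩ := hrel _ _ h2
    have e : ∀ c : W ⟶ A ⊗ A, c ≫ μ[A] = (c ≫ fst A A) * (c ≫ snd A A) := fun c => by
      rw [Hom.mul_def, ← comp_lift, lift_fst_snd, Category.comp_id]
    rw [← Category.assoc, ← Category.assoc, e, e, hg, hg', _root_.mul_mul_mul_comm, ← MonObj.mul_comp, hinvq])
  obtain ⟨invM, hinv⟩ := exists_desc_fpqc q' ((𝟙 A)⁻¹ ≫ q') (by
    intro W a b hab
    obtain ⟨g, hg⟩ := hrel _ _ hab
    rw [← Category.assoc, ← Category.assoc, GrpObj.comp_inv, GrpObj.comp_inv, Category.comp_id, Category.comp_id, hg,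
      mul_inv, ← GrpObj.inv_comp, hinvq])
  have hmulpt : ∀ {T : Over (Spec (CommRingCat.of K))} (x y : T ⟶ A),
      lift (x ≫ q') (y ≫ q') ≫ mulM = (x * y) ≫ q' := fun x y => by
    rw [← lift_map, Category.assoc, hmul, ← Category.assoc, Hom.mul_def]
  haveI : Epi q'.left := inferInstance
  have hepi : ∀ {X Y : Over (Spec (CommRingCat.of K))} (f : X ⟶ Y), Surjective f.left → Flat f.left →
      QuasiCompact f.left → Epi f := fun f _ _ _ => (Over.forget _).epi_of_epi_map (f := f) (inferInstanceAs (Epi f.left))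
  have hlift : ∀ {T : Over (Spec (CommRingCat.of K))} (x : T ⟶ M), ∃ (T' : Over (Spec (CommRingCat.of K)))
      (c : T' ⟶ T) (x' : T' ⟶ A), Epi c ∧ c ≫ x = x' ≫ q' := by
    intro T x
    let T' : Over (Spec (CommRingCat.of K)) := Over.mk (pullback.fst x.left q'.left ≫ T.hom)
    let c : T' ⟶ T := Over.homMk (pullback.fst x.left q'.left) rfl
    have hc : P c.left := MorphismProperty.pullback_fst (P := P) _ _ hPq
    refine ⟨T', c, Over.homMk (pullback.snd x.left q'.left) (by
      show pullback.snd x.left q'.left ≫ A.hom = pullback.fst x.left q'.left ≫ T.hom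
      rw [← Over.w q', ← pullback.condition_assoc, Over.w x]), hepi c hc.1.2 hc.1.1 hc.2,
      Over.OverMorphism.ext pullback.condition⟩
  obtain ⟨str, hone, hmul'⟩ := ShfCat16.exists_grpObj (η[A] ≫ q') mulM invM
    (fun W x y z => by
      obtain ⟨W₁, c₁, x', _, hx⟩ := hlift x
      obtain ⟨W₂, c₂, y', _, hy⟩ := hlift (c₁ ≫ y)
      obtain ⟨W₃, c₃, z', _, hz⟩ := hlift (c₂ ≫ c₁ ≫ z)
      refine (cancel_epi c₁).1 ((cancel_epi c₂).1 ((cancel_epi c₃).1 ?_))
      simp only [← Category.assoc, comp_lift]
      simp only [Category.assoc]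
      rw [hx, hy, hz]
      simp only [← Category.assoc]
      rw [hmulpt, hmulpt, hmulpt, hmulpt, _root_.mul_assoc])
    (fun W x => by
      obtain ⟨W₁, c₁, x', _, hx⟩ := hlift x
      refine (cancel_epi c₁).1 ?_
      rw [← Category.assoc, comp_lift, hx, ← Category.assoc c₁, ← Category.assoc,
        toUnit_unique (c₁ ≫ toUnit W) (toUnit W₁), hmulpt, ← Hom.one_def, _root_.one_mul])
    (fun W x => by
      obtain ⟨W₁, c₁, x', _, hx⟩ := hlift x
      refine (cancel_epi c₁).1 ?_
      rw [← Category.assoc, comp_lift, hx, ← Category.assoc c₁, ← Category.assoc,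
        toUnit_unique (c₁ ≫ toUnit W) (toUnit W₁), hmulpt, ← Hom.one_def, _root_.mul_one])
    (fun W x => by
      obtain ⟨W₁, c₁, x', _, hx⟩ := hlift x
      refine (cancel_epi c₁).1 ?_
      rw [← Category.assoc, comp_lift, ← Category.assoc c₁, hx, Category.assoc, hinv, ← Category.assoc,
        GrpObj.comp_inv, Category.comp_id, hmulpt, inv_mul_cancel, ← Category.assoc,
        toUnit_unique (c₁ ≫ toUnit W) (toUnit W₁), ← Category.assoc, ← Hom.one_def])
    (fun W x => by
      obtain ⟨W₁, c₁, x', _, hx⟩ := hlift x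
      refine (cancel_epi c₁).1 ?_
      rw [← Category.assoc, comp_lift, ← Category.assoc c₁, hx, Category.assoc, hinv, ← Category.assoc,
        GrpObj.comp_inv, Category.comp_id, hmulpt, mul_inv_cancel, ← Category.assoc,
        toUnit_unique (c₁ ≫ toUnit W) (toUnit W₁), ← Category.assoc, ← Hom.one_def])
  letI := str
  haveI hqhom : IsMonHom q' := by
    refine ⟨?_, ?_⟩
    · show η[A] ≫ q' = str.one
      rw [hone]
    · show μ[A] ≫ q' = (q' ⊗ₘ q') ≫ str.mul
      rw [hmul', hmul]
  haveI : LocallyOfFinitePresentation A.hom :=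
    locallyOfFinitePresentation_of_noetherian_base A.hom
  haveI : LocallyOfFinitePresentation (q'.left ≫ M.hom) := by rw [Over.w q']; infer_instance
  haveI : LocallyOfFinitePresentation M.hom := Groth.Agent.S0114.result q'.left M.hom
  haveI : IsSeparated M.hom := SGA3xLib.isSeparated_of_grpObj M
  haveI : UniversallyClosed M.hom := by
    haveI : UniversallyClosed (q'.left ≫ M.hom) := by rw [Over.w q']; infer_instance
    exact UniversallyClosed.of_comp_surjective q'.left M.hom
  haveI : IsProper M.hom := ⟨⟩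
  haveI : GeometricallyIntegral M.hom := by
    refine ⟨fun F _ y Z f g hK => ?_⟩
    have hsq2 := IsPullback.of_hasPullback q'.left f
    haveI : IsIntegral (pullback q'.left f) :=
      GeometricallyIntegral.geometrically_isIntegral (f := A.hom) y (pullback.fst q'.left f)
        (pullback.snd q'.left f ≫ g) (by
          have := hsq2.paste_vert hK
          rwa [Over.w q'] at this)
    haveI : IsReduced Z := FlatMor12.isReduced_of_flat_surjective (pullback.snd q'.left f)
    haveI : IrreducibleSpace Z := FlatMor12.irreducibleSpace_of_surjective (pullback.snd q'.left f)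
    exact isIntegral_of_irreducibleSpace_of_isReduced _
  refine ⟨M, str, q', inferInstance, inferInstance, hqhom, inferInstance, inferInstance, inferInstance, ?_,
    fun T x hx => ?_⟩
  · have := hinvq (𝟙 H) (1 : H ⟶ A)
    rwa [Category.id_comp, _root_.mul_one, MonObj.one_comp] at this
  · obtain ⟨h, hh⟩ := hrel x 1 (by rw [hx, MonObj.one_comp])
    exact ⟨h, by rw [hh, _root_.mul_one]⟩

end Groth.Agent.AbCubeLib
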