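import Groth.Agent.AbCubeLib.ReducedSubgroup
import Groth.Agent.AbCubeLib.FiniteProduct
import Groth.Prelude.Def_W4bk6langav68Chow
import Mathlib.AlgebraicGeometry.ZariskisMainTheorem

/-!
# The `K/k`-maximal abelian subvariety
-/

set_option autoImplicit false
set_option backward.isDefEq.respectTransparency.types false
set_option maxHeartbeats 1600000

universe u

open CategoryTheory CategoryTheory.Limits MonoidalCategory CartesianMonoidalCategory AlgebraicGeometry MonObj
  TopologicalSpace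
open Groth.Agent.PicLib Groth.Agent.Coherent Groth.Agent.CubeLib Groth.Agent.AmpleLib

namespace Groth.Agent.AbCubeLib

variable {K : Type u} [Field K]

local notation "gL" => Spec.map (CommRingCat.ofHom (algebraMap K (AlgebraicClosure K)))

/-- A monomorphism between proper schemes over a field is a closed immersion. -/
theorem isClosedImmersion_of_mono {A B : Over (Spec (CommRingCat.of K))} [IsProper A.hom] [IsProper B.hom]
    (i : A ⟶ B) [Mono i] : IsClosedImmersion i.left :=
  (IsClosedImmersion.iff_isProper_and_mono i.left).2 ⟨AbVarLib.isProper_left i, inferInstanceAs (Mono i.left)⟩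

noncomputable local instance (X : Over (Spec (CommRingCat.of K))) [GrpObj X] : GrpObj ((Over.pullback gL).obj X) :=
  Functor.grpObjObj

local instance (X : Over (Spec (CommRingCat.of K))) [IsProper X.hom] : IsProper ((Over.pullback gL).obj X).hom :=
  inferInstanceAs (IsProper (pullback.snd X.hom gL))

local instance (X : Over (Spec (CommRingCat.of K))) [GeometricallyIntegral X.hom] :
    GeometricallyIntegral ((Over.pullback gL).obj X).hom :=
  inferInstanceAs (GeometricallyIntegral (pullback.snd X.hom gL))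

/-- The kernel of a homomorphism is sent into an abelian subvariety killed by it by a power map. -/
theorem exists_kernel_subvariety_set {P A : Over (Spec (CommRingCat.of K))} [GrpObj P] [IsProper P.hom]
    [GeometricallyIntegral P.hom] [GrpObj A] [IsProper A.hom] [GeometricallyIntegral A.hom] (φ : P ⟶ A) [IsMonHom φ] :
    ∃ (Z : Over (Spec (CommRingCat.of K))) (_ : GrpObj Z) (j : Z ⟶ P), IsProper Z.hom ∧ GeometricallyIntegral Z.hom ∧
      IsMonHom j ∧ IsClosedImmersion j.left ∧ j ≫ φ = 1 ∧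
      ∃ d : ℕ, 0 < d ∧ φ.left ⁻¹' Set.range η[A].left ⊆ ((𝟙 P) ^ d).left ⁻¹' Set.range j.left := by
  classical
  let L := AlgebraicClosure K
  obtain ⟨Z, _, j, hZp, hZg, hj, hjc, hjφ, d, hd, hdZ⟩ := exists_kernel_subvariety φ
  refine ⟨Z, inferInstance, j, hZp, hZg, hj, hjc, hjφ, d, hd, ?_⟩
  haveI : IsClosedImmersion η[A].left :=
    haveI : IsClosedImmersion (η[A].left ≫ A.hom) := by
      rw [Over.w]; exact (inferInstance : IsClosedImmersion (𝟙 (Spec (CommRingCat.of K))))
    IsClosedImmersion.of_comp η[A].left A.hom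
  intro p hp
  by_contra hq
  haveI : JacobsonSpace P.left := LocallyOfFiniteType.jacobsonSpace P.hom
  have hlc : IsLocallyClosed ((φ.left ⁻¹' Set.range η[A].left) ∩ (((𝟙 P) ^ d).left ⁻¹' Set.range j.left)ᶜ) :=
    (η[A].left.isClosedEmbedding.isClosed_range.preimage φ.left.continuous).isLocallyClosed.inter
      (j.left.isClosedEmbedding.isClosed_range.preimage ((𝟙 P) ^ d).left.continuous).isOpen_compl.isLocallyClosed
  have hnS : ((φ.left ⁻¹' Set.range η[A].left) ∩ (((𝟙 P) ^ d).left ⁻¹' Set.range j.left)ᶜ).Nonempty := ⟨p, hp, hq⟩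
  obtain ⟨c, ⟨hc1, hc2⟩, hcc⟩ := nonempty_inter_closedPoints hnS hlc
  refine hc2 ?_
  haveI : Surjective gL := ⟨fun x => ⟨IsLocalRing.closedPoint L, Subsingleton.elim (α := PrimeSpectrum K) _ _⟩⟩
  haveI : Surjective (pullback.fst P.hom gL) := MorphismProperty.pullback_fst (P := @Surjective) _ _ inferInstance
  haveI : JacobsonSpace ((Over.pullback gL).obj P).left :=
    LocallyOfFiniteType.jacobsonSpace ((Over.pullback gL).obj P).hom
  obtain ⟨v, hv⟩ := (pullback.fst P.hom gL).surjective c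
  have hcl : IsClosed ((pullback.fst P.hom gL) ⁻¹' {c}) := hcc.preimage (pullback.fst P.hom gL).continuous
  obtain ⟨w, hw1, hw2⟩ := nonempty_inter_closedPoints
    (Z := (pullback.fst P.hom gL) ⁻¹' {c}) (X := ((Over.pullback gL).obj P).left) ⟨v, hv⟩ hcl.isLocallyClosed
  obtain ⟨a, ha⟩ := exists_ptOf (A := (Over.pullback gL).obj P) hw2
  obtain ⟨x, hx⟩ := (bcPts_bijective gL P).2 a
  have hxc : x.left (IsLocalRing.closedPoint L) = c := by
    rw [← show pullback.fst P.hom gL w = c from hw1, ← ha, ← hx]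
    exact (congrArg (fun f => f (IsLocalRing.closedPoint L)) (tautPt_map_left gL x)).symm
  haveI : IsReduced (extPt (K := K) L).left := inferInstanceAs (IsReduced (Spec (CommRingCat.of L)))
  have hker : x ≫ φ = 1 := by
    obtain ⟨u, hu⟩ := RedSepLib.exists_lift_of_range_subset (x ≫ φ).left η[A].left (by
      rintro _ ⟨t, rfl⟩
      rw [Subsingleton.elim (α := PrimeSpectrum L) t (IsLocalRing.closedPoint L), Over.comp_left,
        Scheme.Hom.comp_apply, hxc]
      exact hc1)
    let u' : extPt (K := K) L ⟶ 𝟙_ _ := Over.homMk u (by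
      rw [← Over.w η[A], reassoc_of% hu]; exact Over.w _)
    rw [show x ≫ φ = u' ≫ η[A] from Over.OverMorphism.ext hu.symm, Hom.one_def,
      toUnit_unique u' (toUnit _)]
  obtain ⟨z, hz⟩ := hdZ x hker
  refine ⟨z.left (IsLocalRing.closedPoint L), ?_⟩
  rw [← Scheme.Hom.comp_apply, ← Over.comp_left, hz,
    show x ^ d = x ≫ (𝟙 P) ^ d by rw [MonObj.comp_pow, Category.comp_id], Over.comp_left, Scheme.Hom.comp_apply, hxc]

section Factor

variable {L : Type u} [Field L] [Algebra K L]

local notation "sL" => Spec.map (CommRingCat.ofHom (algebraMap K L))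

/-- A homomorphism killed by the base change of a homomorphism factors through a kernel subvariety. -/
theorem exists_factor_kernel_subvariety {P A Z : Over (Spec (CommRingCat.of K))} [GrpObj P] [IsProper P.hom]
    [GrpObj A] [GrpObj Z] [IsProper Z.hom] {φ : P ⟶ A} {j : Z ⟶ P} [IsClosedImmersion j.left] {d : ℕ} (hd : 0 < d)
    (hset : φ.left ⁻¹' Set.range η[A].left ⊆ ((𝟙 P) ^ d).left ⁻¹' Set.range j.left)
    {B : Over (Spec (CommRingCat.of L))} [GrpObj B] [IsProper B.hom] [GeometricallyIntegral B.hom]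
    (w : B ⟶ Red.bc sL P) [IsMonHom w] (hw : w ≫ (Over.pullback sL).map φ = 1) :
    ∃ t : B ⟶ Red.bc sL Z, t ≫ (Over.pullback sL).map j = w := by
  classical
  haveI : IsClosedImmersion ((Over.pullback sL).map j).left := AbVarLib.prop_map @IsClosedImmersion sL j inferInstance
  haveI : Surjective ((𝟙 B) ^ d).left := surjective_pow hd
  haveI : IsReduced B.left := by
    haveI : IsIntegral B.left := GeometricallyIntegral.isIntegral_of_subsingleton B.hom
    infer_instance
  have hrange : Set.range w.left ⊆ Set.range ((Over.pullback sL).map j).left := by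
    rintro _ ⟨b0, rfl⟩
    obtain ⟨b, rfl⟩ := ((𝟙 B) ^ d).left.surjective b0
    have e : ((𝟙 B) ^ d) ≫ w = w ≫ (Over.pullback sL).map ((𝟙 P) ^ d) := by
      rw [show (Over.pullback sL).map ((𝟙 P) ^ d) = _ from map_pow ((Over.pullback sL).homMonoidHom) _ _,
        MonObj.pow_comp, Category.id_comp, MonObj.comp_pow]
      show _ = (w ≫ (Over.pullback sL).map (𝟙 P)) ^ d
      rw [CategoryTheory.Functor.map_id, Category.comp_id]
    have hker : pullback.fst P.hom sL (w.left b) ∈ φ.left ⁻¹' Set.range η[A].left := by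
      rw [Set.mem_preimage, ← Scheme.Hom.comp_apply]
      have h := congrArg (fun f => (f.left ≫ pullback.fst A.hom sL) b) hw
      simp only [Hom.one_def, Functor.obj.η_def, Over.comp_left] at h
      have e1 := (AbVarLib.isPullback_map sL φ).w
      have e2 := (AbVarLib.isPullback_map sL η[A]).w
      simp only [Category.assoc] at h ⊢
      rw [← e1, ← e2] at h
      simp only [Scheme.Hom.comp_apply] at h ⊢
      exact ⟨_, h.symm⟩
    obtain ⟨z, hz⟩ := hset hker
    have h1 : pullback.fst P.hom sL ((((𝟙 B) ^ d) ≫ w).left b) = j.left z := by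
      rw [hz, e, Over.comp_left, Scheme.Hom.comp_apply, ← Scheme.Hom.comp_apply ((Over.pullback sL).map _).left]
      erw [← (AbVarLib.isPullback_map sL ((𝟙 P) ^ d)).w]
      rfl
    obtain ⟨v, -, hv⟩ := Scheme.exists_preimage_of_isPullback (AbVarLib.isPullback_map sL j) z _ h1.symm
    exact ⟨v, hv⟩
  obtain ⟨t, ht⟩ := RedSepLib.exists_lift_of_range_subset w.left ((Over.pullback sL).map j).left hrange
  exact ⟨Over.homMk t (by rw [← Over.w ((Over.pullback sL).map j), reassoc_of% ht, Over.w]),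
    Over.OverMorphism.ext ht⟩

end Factor

variable {k : Type u} [Field k] [Algebra k K]

/-- Two abelian subvarieties containing all the images contain a common one. -/
theorem exists_containsImages_inter {A A₁ A₂ : Over (Spec (CommRingCat.of K))} [GrpObj A] [IsProper A.hom]
    [GeometricallyIntegral A.hom] [GrpObj A₁] [IsProper A₁.hom] [GeometricallyIntegral A₁.hom] [GrpObj A₂]
    [IsProper A₂.hom] [GeometricallyIntegral A₂.hom] (i₁ : A₁ ⟶ A) [IsMonHom i₁] [Mono i₁] (i₂ : A₂ ⟶ A)
    [IsMonHom i₂] [Mono i₂] (h₁ : AbVar.ContainsImages k K A A₁ i₁) (h₂ : AbVar.ContainsImages k K A A₂ i₂) :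
    ∃ (Z : Over (Spec (CommRingCat.of K))) (_ : GrpObj Z) (a₁ : Z ⟶ A₁) (a₂ : Z ⟶ A₂), IsProper Z.hom ∧
      GeometricallyIntegral Z.hom ∧ a₁ ≫ i₁ = a₂ ≫ i₂ ∧ IsMonHom (a₁ ≫ i₁) ∧ Mono (a₁ ≫ i₁) ∧
      AbVar.ContainsImages k K A Z (a₁ ≫ i₁) := by
  haveI : IsCommMonObj A := isCommMonObj_of_isProper_of_geometricallyIntegral A
  haveI : IsCommMonObj A₁ := isCommMonObj_of_isProper_of_geometricallyIntegral A₁
  haveI : IsCommMonObj A₂ := isCommMonObj_of_isProper_of_geometricallyIntegral A₂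
  let P := A₁ ⊗ A₂
  haveI : IsProper P.hom := inferInstanceAs (IsProper (pullback.fst A₁.hom A₂.hom ≫ A₁.hom))
  haveI : GeometricallyIntegral P.hom := geometricallyIntegral_tensor' A₁ A₂
  let f₁ : P ⟶ A := fst A₁ A₂ ≫ i₁
  let f₂ : P ⟶ A := snd A₁ A₂ ≫ i₂
  haveI : IsMonHom f₁ := inferInstanceAs (IsMonHom (fst A₁ A₂ ≫ i₁))
  haveI : IsMonHom f₂ := inferInstanceAs (IsMonHom (snd A₁ A₂ ≫ i₂))
  let φ : P ⟶ A := f₁ / f₂
  haveI : IsMonHom φ := by
    show IsMonHom (f₁ / f₂)
    rw [div_eq_mul_inv, Hom.mul_def]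
    infer_instance
  obtain ⟨Z, _, j, hZp, hZg, hj, hjc, hjφ, d, hd, hset⟩ := exists_kernel_subvariety_set φ
  have heq : (j ≫ fst A₁ A₂) ≫ i₁ = (j ≫ snd A₁ A₂) ≫ i₂ := by
    rw [Category.assoc, Category.assoc, ← div_eq_one, ← GrpObj.comp_div]
    exact hjφ
  haveI : Mono j := Over.mono_of_mono_left j
  refine ⟨Z, inferInstance, j ≫ fst A₁ A₂, j ≫ snd A₁ A₂, hZp, hZg, heq, inferInstance, ⟨fun a b hab => ?_⟩, ?_⟩
  · refine (cancel_mono j).1 (CartesianMonoidalCategory.hom_ext _ _ ?_ ?_)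
    · rw [Category.assoc, Category.assoc, ← cancel_mono i₁]
      simpa using hab
    · rw [heq] at hab
      rw [Category.assoc, Category.assoc, ← cancel_mono i₂]
      simpa using hab
  · intro E L _ _ _ _ _ _ _ _ hdisj hgen B _ _ _ β _
    obtain ⟨g₁, hg₁⟩ := h₁ E L hdisj hgen B β
    obtain ⟨g₂, hg₂⟩ := h₂ E L hdisj hgen B β
    let F := Over.pullback (AbVar.ext K L)
    haveI : IsClosedImmersion i₁.left := isClosedImmersion_of_mono i₁
    haveI : IsClosedImmersion i₂.left := isClosedImmersion_of_mono i₂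
    haveI : IsClosedImmersion (F.map i₁).left := AbVarLib.prop_map @IsClosedImmersion _ i₁ inferInstance
    haveI : IsClosedImmersion (F.map i₂).left := AbVarLib.prop_map @IsClosedImmersion _ i₂ inferInstance
    haveI : Mono (F.map i₁) := Over.mono_of_mono_left _
    haveI : Mono (F.map i₂) := Over.mono_of_mono_left _
    haveI : IsMonHom (F.map i₁) := Functor.map.instIsMonHom _ _ _
    haveI : IsMonHom (F.map i₂) := Functor.map.instIsMonHom _ _ _
    haveI : IsMonHom (F.map (fst A₁ A₂)) := Functor.map.instIsMonHom _ _ _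
    haveI : IsMonHom (F.map (snd A₁ A₂)) := Functor.map.instIsMonHom _ _ _
    haveI : IsMonHom (F.map φ) := Functor.map.instIsMonHom _ _ _
    let w : Red.bc (AbVar.ext E L) B ⟶ F.obj P := lift g₁ g₂ ≫ Functor.LaxMonoidal.μ F A₁ A₂
    have hw1 : w ≫ F.map (fst A₁ A₂) = g₁ := by rw [Category.assoc, Functor.Monoidal.μ_fst, lift_fst]
    have hw2 : w ≫ F.map (snd A₁ A₂) = g₂ := by rw [Category.assoc, Functor.Monoidal.μ_snd, lift_snd]
    have hext : ∀ {T : Over (Spec (CommRingCat.of L))} (f g : T ⟶ F.obj P),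
        f ≫ F.map (fst A₁ A₂) ≫ F.map i₁ = g ≫ F.map (fst A₁ A₂) ≫ F.map i₁ →
        f ≫ F.map (snd A₁ A₂) ≫ F.map i₂ = g ≫ F.map (snd A₁ A₂) ≫ F.map i₂ → f = g := by
      intro T f g h1 h2
      simp only [← Category.assoc, cancel_mono] at h1 h2
      refine (cancel_mono (Functor.OplaxMonoidal.δ F A₁ A₂)).1 (CartesianMonoidalCategory.hom_ext _ _ ?_ ?_)
      · simpa using h1
      · simpa using h2
    have hb1 : w ≫ F.map (fst A₁ A₂) ≫ F.map i₁ = β := by rw [← Category.assoc, hw1, hg₁]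
    have hb2 : w ≫ F.map (snd A₁ A₂) ≫ F.map i₂ = β := by rw [← Category.assoc, hw2, hg₂]
    haveI : IsMonHom w := by
      refine ⟨hext _ _ ?_ ?_, hext _ _ ?_ ?_⟩
      · rw [Category.assoc, hb1, IsMonHom.one_hom, IsMonHom.one_hom]
      · rw [Category.assoc, hb2, IsMonHom.one_hom, IsMonHom.one_hom]
      · rw [Category.assoc, hb1, IsMonHom.mul_hom, Category.assoc, IsMonHom.mul_hom, tensorHom_comp_tensorHom_assoc,
          hb1]
      · rw [Category.assoc, hb2, IsMonHom.mul_hom, Category.assoc, IsMonHom.mul_hom, tensorHom_comp_tensorHom_assoc,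
          hb2]
    have hw : w ≫ F.map φ = 1 := by
      rw [show F.map φ = _ from map_div (F.homMonoidHom) f₁ f₂, GrpObj.comp_div, div_eq_one]
      show w ≫ F.map f₁ = w ≫ F.map f₂
      rw [Functor.map_comp, Functor.map_comp, hb1, hb2]
    haveI : IsProper (Red.bc (AbVar.ext E L) B).hom := inferInstanceAs (IsProper (pullback.snd B.hom (AbVar.ext E L)))
    haveI : GeometricallyIntegral (Red.bc (AbVar.ext E L) B).hom :=
      inferInstanceAs (GeometricallyIntegral (pullback.snd B.hom (AbVar.ext E L)))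
    obtain ⟨t, ht⟩ := exists_factor_kernel_subvariety (L := L) hd hset w hw
    refine ⟨t, ?_⟩
    rw [Functor.map_comp, Functor.map_comp, Category.assoc, reassoc_of% ht]
    exact hb1

/-- **Existence of the `K/k`-maximal abelian subvariety.** -/
theorem exists_isKkMaximal (A : Over (Spec (CommRingCat.of K))) [GrpObj A] [IsProper A.hom]
    [GeometricallyIntegral A.hom] :
    ∃ (A₁ : Over (Spec (CommRingCat.of K))) (_ : GrpObj A₁),
      IsProper A₁.hom ∧ GeometricallyIntegral A₁.hom ∧ ∃ i : A₁ ⟶ A, AbVar.IsKkMaximal k K A A₁ i := by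
  classical
  haveI : IsLocallyNoetherian A.left := LocallyOfFiniteType.isLocallyNoetherian A.hom
  haveI : CompactSpace A.left := QuasiCompact.compactSpace_of_compactSpace A.hom
  haveI : IsNoetherian A.left := ⟨⟩
  let S : Set (Closeds A.left) := {Z | ∃ (A₁ : Over (Spec (CommRingCat.of K))) (_ : GrpObj A₁) (i : A₁ ⟶ A),
    IsProper A₁.hom ∧ GeometricallyIntegral A₁.hom ∧ IsMonHom i ∧ Mono i ∧
      AbVar.ContainsImages k K A A₁ i ∧ (Z : Set A.left) = Set.range i.left}
  have hne : S.Nonempty := ⟨⊤, A, inferInstance, 𝟙 A, inferInstance, inferInstance, inferInstance, inferInstance,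
    fun E L _ _ _ _ _ _ _ _ _ _ B _ _ _ β _ => ⟨β, by rw [CategoryTheory.Functor.map_id]; exact Category.comp_id β⟩,
    by rw [Over.id_left]; exact (Set.range_eq_univ.2 fun x => ⟨x, rfl⟩).symm⟩
  obtain ⟨Z₁, ⟨A₁, _, i₁, hA₁p, hA₁g, hi₁, hi₁m, hc₁, hZ₁⟩, hmin⟩ :=
    (wellFounded_lt (α := Closeds A.left)).has_min S hne
  refine ⟨A₁, inferInstance, hA₁p, hA₁g, i₁, hi₁, hi₁m, hc₁, fun A₂ _ _ _ i₂ _ _ hc₂ => ?_⟩
  obtain ⟨Z, _, a₁, a₂, hZp, hZg, ha, hm, hmono, hc⟩ := exists_containsImages_inter i₁ i₂ hc₁ hc₂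
  haveI := AbVarLib.isProper_left (a₁ ≫ i₁)
  let Zc : Closeds A.left := ⟨Set.range (a₁ ≫ i₁).left, (a₁ ≫ i₁).left.isClosedMap.isClosed_range⟩
  have hsub1 : Zc ≤ Z₁ := by
    intro x hx
    show x ∈ (Z₁ : Set A.left)
    rw [hZ₁]
    obtain ⟨z, rfl⟩ := hx
    exact ⟨a₁.left z, rfl⟩
  have heq : Zc = Z₁ := by
    by_contra hne'
    exact hmin Zc ⟨Z, inferInstance, a₁ ≫ i₁, hZp, hZg, hm, hmono, hc, rfl⟩ (lt_of_le_of_ne hsub1 hne')
  haveI : IsClosedImmersion i₂.left := isClosedImmersion_of_mono i₂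
  haveI : IsReduced A₁.left := by
    haveI : IsIntegral A₁.left := GeometricallyIntegral.isIntegral_of_subsingleton A₁.hom
    infer_instance
  obtain ⟨j, hj⟩ := RedSepLib.exists_lift_of_range_subset i₁.left i₂.left (by
    rw [← hZ₁, ← heq]
    show Set.range (a₁ ≫ i₁).left ⊆ _
    rw [ha]
    rintro _ ⟨z, rfl⟩
    exact ⟨a₂.left z, rfl⟩)
  exact ⟨Over.homMk j (by rw [← Over.w i₂, reassoc_of% hj, Over.w]), Over.OverMorphism.ext hj⟩

end Groth.Agent.AbCubeLib
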