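import Groth.Agent.AbCubeLib.FrobNatural
import Groth.Agent.AbCubeLib.ChowKernel
import Groth.Agent.AbCubeLib.KkMaximal
import Groth.Agent.AbCubeLib.ImageSubvariety
import Groth.Agent.AbCubeLib.FiniteQuotient
import Groth.Agent.H8Top.SchemeBasic
import Groth.Agent.UnipStruct.Group

/-!
# The common kernel of a family of homomorphisms
-/

set_option autoImplicit false
set_option backward.isDefEq.respectTransparency.types false
set_option maxHeartbeats 1600000

universe u

open CategoryTheory CategoryTheory.Limits MonoidalCategory CartesianMonoidalCategory AlgebraicGeometry MonObj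

namespace Groth.Agent.AbCubeLib

variable {K : Type u} [Field K] {X A : Over (Spec (CommRingCat.of K))} [GrpObj X] [IsCommMonObj X] [IsProper X.hom]
  [GeometricallyIntegral X.hom] [GrpObj A] [IsCommMonObj A] [IsProper A.hom] [GeometricallyIntegral A.hom]

/-- The kernel of finitely many homomorphisms. -/
theorem exists_list_kernel (l : List (EndAV.Hom X A)) :
    ∃ (N : Over (Spec (CommRingCat.of K))) (_ : GrpObj N) (κ : N ⟶ X), IsMonHom κ ∧ IsClosedImmersion κ.left ∧
      ∀ (T : Over (Spec (CommRingCat.of K))) (x : T ⟶ X),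
        (∃ y, y ≫ κ = x) ↔ ∀ f ∈ l, x ≫ EndAV.Hom.toHom f = 1 := by
  induction l with
  | nil =>
    refine ⟨X, inferInstance, 𝟙 X, inferInstance, by rw [Over.id_left]; infer_instance, fun T x => ?_⟩
    exact ⟨fun _ f hf => absurd hf (List.not_mem_nil), fun _ => ⟨x, Category.comp_id x⟩⟩
  | cons f l ih =>
    obtain ⟨N, _, κ, hκ, hκc, hl⟩ := ih
    haveI : IsMonHom (κ ≫ f.toHom) := inferInstance
    let g := κ ≫ f.toHom
    have hk := UnipStruct.isKernel_kerι g
    haveI := UnipStruct.isClosedImmersion_kerι g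
    refine ⟨UnipStruct.kerObj g, inferInstance, UnipStruct.kerι g ≫ κ, inferInstance,
      by rw [Over.comp_left]; infer_instance, fun T x => ?_⟩
    constructor
    · rintro ⟨y, rfl⟩ f' hf'
      rcases List.mem_cons.1 hf' with rfl | hf'
      · rw [Category.assoc, Category.assoc, AlgGrpLib.kernel_comp hk, MonObj.comp_one]
      · exact (hl T _).1 ⟨y ≫ UnipStruct.kerι g, Category.assoc _ _ _⟩ f' hf'
    · intro h
      obtain ⟨y, rfl⟩ := (hl T x).2 fun f' hf' => h f' (List.mem_cons_of_mem _ hf')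
      obtain ⟨z, rfl⟩ := AlgGrpLib.exists_lift_kernel hk (g := y) (by
        show y ≫ κ ≫ f.toHom = 1
        rw [← Category.assoc]; exact h f List.mem_cons_self)
      exact ⟨z, (Category.assoc _ _ _).symm⟩

/-- **The common kernel of a family of homomorphisms** is the kernel of finitely many of them. -/
theorem exists_common_kernel (S : Set (EndAV.Hom X A)) :
    ∃ (l : List (EndAV.Hom X A)) (N : Over (Spec (CommRingCat.of K))) (_ : GrpObj N) (κ : N ⟶ X),
      IsMonHom κ ∧ IsClosedImmersion κ.left ∧ (∀ f ∈ l, f ∈ S) ∧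
      (∀ (T : Over (Spec (CommRingCat.of K))) (x : T ⟶ X),
        (∃ y, y ≫ κ = x) ↔ ∀ f ∈ l, x ≫ EndAV.Hom.toHom f = 1) ∧
      ∀ (T : Over (Spec (CommRingCat.of K))) (x : T ⟶ X),
        (∀ f ∈ l, x ≫ EndAV.Hom.toHom f = 1) → ∀ f ∈ S, x ≫ EndAV.Hom.toHom f = 1 := by
  classical
  haveI : IsLocallyNoetherian X.left := LocallyOfFiniteType.isLocallyNoetherian X.hom
  haveI : CompactSpace X.left := QuasiCompact.compactSpace_of_compactSpace X.hom
  haveI : IsNoetherian X.left := ⟨⟩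
  let Φ : List (EndAV.Hom X A) → X.left.IdealSheafData := fun l => (exists_list_kernel l).choose_spec.choose_spec.choose.left.ker
  obtain ⟨_, ⟨l, hlS, rfl⟩, hmax⟩ := (H8Top.wellFoundedGT_idealSheafData X.left).wf.has_min
    {I | ∃ l, (∀ f ∈ l, f ∈ S) ∧ I = Φ l} ⟨Φ [], [], fun f hf => absurd hf List.not_mem_nil, rfl⟩
  obtain ⟨N, _, κ, hκ, hκc, hl, hΦ⟩ :
      ∃ (N : Over (Spec (CommRingCat.of K))) (_ : GrpObj N) (κ : N ⟶ X), IsMonHom κ ∧ IsClosedImmersion κ.left ∧
      (∀ (T : Over (Spec (CommRingCat.of K))) (x : T ⟶ X),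
        (∃ y, y ≫ κ = x) ↔ ∀ f ∈ l, x ≫ EndAV.Hom.toHom f = 1) ∧ Φ l = κ.left.ker := by
    obtain ⟨h1, h2, h3⟩ := (exists_list_kernel l).choose_spec.choose_spec.choose_spec
    exact ⟨_, _, _, h1, h2, h3, rfl⟩
  refine ⟨l, N, inferInstance, κ, hκ, hκc, hlS, hl, fun T x hx f hf => ?_⟩
  obtain ⟨N', _, κ', hκ', hκ'c, hl', hΦ'⟩ :
      ∃ (N' : Over (Spec (CommRingCat.of K))) (_ : GrpObj N') (κ' : N' ⟶ X), IsMonHom κ' ∧ IsClosedImmersion κ'.left ∧
      (∀ (T : Over (Spec (CommRingCat.of K))) (x : T ⟶ X),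
        (∃ y, y ≫ κ' = x) ↔ ∀ f' ∈ f :: l, x ≫ EndAV.Hom.toHom f' = 1) ∧ Φ (f :: l) = κ'.left.ker := by
    obtain ⟨h1, h2, h3⟩ := (exists_list_kernel (f :: l)).choose_spec.choose_spec.choose_spec
    exact ⟨_, _, _, h1, h2, h3, rfl⟩
  haveI := hκc
  haveI := hκ'c
  obtain ⟨m, hm⟩ := (hl N' κ').2 fun f' hf' =>
    (hl' N' κ').1 ⟨𝟙 _, Category.id_comp _⟩ f' (List.mem_cons_of_mem _ hf')
  have hle : κ.left.ker ≤ κ'.left.ker := by
    rw [← hm, Over.comp_left]; exact Scheme.Hom.le_ker_comp _ _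
  have heq : κ'.left.ker = κ.left.ker := by
    by_contra hne
    refine hmax (Φ (f :: l)) ⟨f :: l, fun f' hf' => ?_, rfl⟩ ?_
    · rcases List.mem_cons.1 hf' with rfl | hf'
      · exact hf
      · exact hlS f' hf'
    · rw [hΦ, hΦ']; exact lt_of_le_of_ne hle (Ne.symm hne)
  let r := IsClosedImmersion.lift κ'.left κ.left heq.le
  have hr : r ≫ κ'.left = κ.left := IsClosedImmersion.lift_fac _ _ _
  let r' : N ⟶ N' := Over.homMk r (by rw [← Over.w κ', reassoc_of% hr]; exact Over.w κ)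
  have hr' : r' ≫ κ' = κ := Over.OverMorphism.ext hr
  obtain ⟨y, rfl⟩ := (hl T x).2 hx
  exact (hl' T _).1 ⟨y ≫ r', by rw [Category.assoc, hr']⟩ f List.mem_cons_self

/-- The connected component of the common kernel of finitely many homomorphisms. -/
theorem exists_list_kernel_subvariety (l : List (EndAV.Hom X A)) :
    ∃ (Z : Over (Spec (CommRingCat.of K))) (_ : GrpObj Z) (j : Z ⟶ X), IsProper Z.hom ∧ GeometricallyIntegral Z.hom ∧
      IsMonHom j ∧ IsClosedImmersion j.left ∧ (∀ f ∈ l, j ≫ EndAV.Hom.toHom f = 1) ∧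
      ∃ d : ℕ, 0 < d ∧ ∀ x : extPt (K := K) (AlgebraicClosure K) ⟶ X, (∀ f ∈ l, x ≫ EndAV.Hom.toHom f = 1) →
        ∃ z : extPt (K := K) (AlgebraicClosure K) ⟶ Z, z ≫ j = x ^ d := by
  induction l with
  | nil =>
    exact ⟨X, inferInstance, 𝟙 X, inferInstance, inferInstance, inferInstance, by rw [Over.id_left]; infer_instance,
      fun f hf => absurd hf List.not_mem_nil, 1, one_pos, fun x _ => ⟨x, by rw [pow_one, Category.comp_id]⟩⟩
  | cons f l ih =>
    obtain ⟨Z, _, j, hZp, hZg, hj, hjc, hjl, d, hd, hdZ⟩ := ih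
    haveI : IsCommMonObj Z := isCommMonObj_of_isProper_of_geometricallyIntegral Z
    haveI : IsMonHom (j ≫ f.toHom) := inferInstance
    obtain ⟨Z', _, j', hZ'p, hZ'g, hj', hj'c, hj'l, d', hd', hdZ'⟩ := exists_kernel_subvariety (j ≫ f.toHom)
    refine ⟨Z', inferInstance, j' ≫ j, hZ'p, hZ'g, inferInstance, by rw [Over.comp_left]; infer_instance,
      fun f' hf' => ?_, d * d', Nat.mul_pos hd hd', fun x hx => ?_⟩
    · rcases List.mem_cons.1 hf' with rfl | hf'
      · rw [Category.assoc, hj'l]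
      · rw [Category.assoc, hjl f' hf', MonObj.comp_one]
    · obtain ⟨z, hz⟩ := hdZ x fun f' hf' => hx f' (List.mem_cons_of_mem _ hf')
      obtain ⟨z', hz'⟩ := hdZ' z (by
        rw [← Category.assoc, hz, MonObj.pow_comp, hx f List.mem_cons_self, one_pow])
      exact ⟨z', by rw [← Category.assoc, hz', MonObj.pow_comp, hz, ← pow_mul]⟩

/-- A closed subgroup scheme whose geometric points are killed by a positive integer is finite. -/
theorem isFinite_of_geom_pow_eq_one {N : Over (Spec (CommRingCat.of K))} (κ : N ⟶ X) [IsClosedImmersion κ.left]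
    {d : ℕ} (hd : 0 < d) (h : ∀ v : extPt (K := K) (AlgebraicClosure K) ⟶ N, (v ≫ κ) ^ d = 1) : IsFinite N.hom := by
  let L := AlgebraicClosure K
  let f : X ⟶ X := (𝟙 X) ^ d
  haveI : IsFinite f.left := isFinite_pow (A := X) hd
  haveI : IsProper N.hom := by rw [← Over.w κ]; infer_instance
  let e0 : X.left := η[X].left (IsLocalRing.closedPoint K)
  haveI : IsClosedImmersion η[X].left :=
    haveI : IsClosedImmersion (η[X].left ≫ X.hom) := by
      rw [Over.w]; exact (inferInstance : IsClosedImmersion (𝟙 (Spec (CommRingCat.of K))))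
    IsClosedImmersion.of_comp η[X].left X.hom
  have hrg : Set.range η[X].left = {e0} := by
    ext p
    refine ⟨fun ⟨q, hq⟩ => ?_, fun hp => ⟨_, hp.symm⟩⟩
    rw [Set.mem_singleton_iff, ← hq]
    exact congrArg _ (Subsingleton.elim (α := PrimeSpectrum K) _ _)
  have hclosed : IsClosed (κ.left ⁻¹' (f.left ⁻¹' {e0})) := by
    rw [← hrg]
    exact ((η[X].left.isClosedEmbedding.isClosed_range).preimage f.left.continuous).preimage κ.left.continuous
  have hall : κ.left ⁻¹' (f.left ⁻¹' {e0}) = Set.univ := by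
    refine Set.eq_univ_of_forall fun p => ?_
    by_contra hp
    haveI : JacobsonSpace N.left := LocallyOfFiniteType.jacobsonSpace N.hom
    obtain ⟨c, hc, hcc⟩ := nonempty_inter_closedPoints (Z := (κ.left ⁻¹' (f.left ⁻¹' {e0}))ᶜ) ⟨p, hp⟩
      hclosed.isOpen_compl.isLocallyClosed
    obtain ⟨v, rfl⟩ := exists_pts_through (Ω := L) (X := N) hcc
    refine hc ?_
    have e := congrArg (fun g => g.left (IsLocalRing.closedPoint L))
      (show (v ≫ κ) ≫ f = 1 by rw [MonObj.comp_pow, Category.comp_id]; exact h v)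
    simp only [Over.comp_left, Scheme.Hom.comp_apply] at e
    show f.left (κ.left _) = e0
    rw [e, Hom.one_def, Over.comp_left, Scheme.Hom.comp_apply]
    exact congrArg _ (Subsingleton.elim (α := PrimeSpectrum K) _ _)
  haveI : Finite N.left := Set.finite_univ_iff.1
    (hall ▸ (f.left.finite_preimage_singleton e0).preimage κ.left.isClosedEmbedding.injective.injOn)
  haveI : LocallyQuasiFinite N.hom := .of_finite_preimage_singleton _ fun _ => Set.toFinite _
  exact IsFinite.of_isProper_of_locallyQuasiFinite _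

/-- If no nontrivial abelian subvariety is killed by the whole family, the common kernel is finite. -/
theorem isFinite_common_kernel (l : List (EndAV.Hom X A)) {N : Over (Spec (CommRingCat.of K))} (κ : N ⟶ X)
    [IsClosedImmersion κ.left] (hκ : ∀ f ∈ l, κ ≫ EndAV.Hom.toHom f = 1)
    (hZ : ∀ (Z : Over (Spec (CommRingCat.of K))) [GrpObj Z] [IsProper Z.hom] [GeometricallyIntegral Z.hom]
      (j : Z ⟶ X) [IsMonHom j] [IsClosedImmersion j.left], (∀ f ∈ l, j ≫ EndAV.Hom.toHom f = 1) → j = 1) :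
    IsFinite N.hom := by
  obtain ⟨Z, _, j, hZp, hZg, hj, hjc, hjl, d, hd, hdZ⟩ := exists_list_kernel_subvariety l
  refine isFinite_of_geom_pow_eq_one κ hd fun v => ?_
  obtain ⟨z, hz⟩ := hdZ (v ≫ κ) fun f hf => by rw [Category.assoc, hκ f hf, MonObj.comp_one]
  rw [← hz, hZ Z j hjl, MonObj.comp_one]

section Cogen

variable [Finite K] (P : Polynomial ℤ)

/-- The predicate: the Frobenius of `X` is killed by `P`. -/
def Killed (X : Over (Spec (CommRingCat.of K))) [GrpObj X] [IsCommMonObj X] : Prop :=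
  ∃ (π : X ⟶ X) (_ : IsMonHom π), IsFrob π ∧ Polynomial.eval₂ (Int.castRingHom (EndAV.End X)) (EndAV.End.of π) P = 0

omit [IsProper X.hom] [GeometricallyIntegral X.hom] in
theorem Killed.of_mono {Y : Over (Spec (CommRingCat.of K))} [GrpObj Y] [IsCommMonObj Y] (f : X ⟶ Y) [IsMonHom f] [Mono f]
    (h : Killed P Y) : Killed P X := by
  obtain ⟨πY, _, hY, hP⟩ := h
  obtain ⟨πX, _, hX⟩ := exists_isFrob X
  exact ⟨πX, inferInstance, hX, killed_of_mono P f πX hX πY hY hP⟩

omit [IsProper X.hom] [GeometricallyIntegral X.hom] in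
theorem Killed.of_epi {Y : Over (Spec (CommRingCat.of K))} [GrpObj Y] [IsCommMonObj Y] (f : X ⟶ Y) [IsMonHom f] [Epi f]
    (h : Killed P X) : Killed P Y := by
  obtain ⟨πX, _, hX, hP⟩ := h
  obtain ⟨πY, _, hY⟩ := exists_isFrob Y
  exact ⟨πY, inferInstance, hY, killed_of_epi P f πX hX πY hY hP⟩

variable (A)

/-- Homomorphisms into `A` determine and represent homomorphisms among varieties killed by `P`. -/
def FullyFaithful : Prop :=
  ∀ (X Y : Over (Spec (CommRingCat.of K))) [GrpObj X] [IsCommMonObj X] [IsProper X.hom] [GeometricallyIntegral X.hom]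
    [GrpObj Y] [IsCommMonObj Y] [IsProper Y.hom] [GeometricallyIntegral Y.hom], Killed P X → Killed P Y →
      (∀ f g : EndAV.Hom X Y, (∀ φ : EndAV.Hom Y A, f ≫ φ = g ≫ φ) → f = g) ∧
        (∀ g : EndAV.Hom Y A →+ EndAV.Hom X A,
          (∀ (φ : EndAV.Hom Y A) (s : EndAV.Hom A A), g (φ ≫ s) = g φ ≫ s) →
            ∃ f : EndAV.Hom X Y, ∀ φ : EndAV.Hom Y A, g φ = f ≫ φ)

variable {A}

/-- Under full faithfulness, the homomorphisms to `A` are jointly monomorphic. -/
theorem eq_one_of_forall_hom (hff : FullyFaithful A P) (hX : Killed P X) {T : Over (Spec (CommRingCat.of K))}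
    (x : T ⟶ X) (hx : ∀ f : EndAV.Hom X A, x ≫ f.toHom = 1) : x = 1 := by
  obtain ⟨l, N, _, κ, hκ, hκc, -, hl, hall⟩ := exists_common_kernel (Set.univ : Set (EndAV.Hom X A))
  haveI : Mono κ := Over.mono_of_mono_left κ
  have hκl : ∀ f ∈ l, κ ≫ EndAV.Hom.toHom f = 1 := (hl N κ).1 ⟨𝟙 _, Category.id_comp _⟩
  have hκall : ∀ f : EndAV.Hom X A, κ ≫ f.toHom = 1 := fun f => hall N κ hκl f trivial
  haveI : IsFinite N.hom := by
    refine isFinite_common_kernel l κ hκl fun Z _ _ _ j _ _ hj => ?_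
    haveI : IsCommMonObj Z := isCommMonObj_of_isProper_of_geometricallyIntegral Z
    haveI : Mono j := Over.mono_of_mono_left j
    have e := (hff Z X (hX.of_mono P j) hX).1 (EndAV.Hom.of j) 0 fun φ => by
      rw [Limits.zero_comp]
      apply EndAV.Hom.ext
      rw [EndAV.Hom.toHom_comp, EndAV.Hom.toHom_of, EndAV.Hom.toHom_zero]
      exact hall Z j hj φ trivial
    exact congrArg EndAV.Hom.toHom e
  obtain ⟨Y, _, r, hYp, hYg, hr, hrf, hrfl, hrs, hκr, hrker⟩ := exists_quotient_finite_subgroup X N κ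
  haveI : IsCommMonObj Y := isCommMonObj_of_isProper_of_geometricallyIntegral Y
  haveI : Epi r := Over.epi_of_epi_left _
  have hdesc : ∀ f : EndAV.Hom X A, ∃ φ : EndAV.Hom Y A, EndAV.Hom.of r ≫ φ = f := by
    intro f
    obtain ⟨φ, hφ⟩ := exists_desc_fpqc r f.toHom (fun {W} a b hab => by
      obtain ⟨w, hw⟩ := hrker W (a / b) (by rw [GrpObj.div_comp, hab, div_self'])
      rw [← div_eq_one, ← GrpObj.div_comp, ← hw, Category.assoc, hκall, MonObj.comp_one])
    haveI : IsMonHom φ := isMonHom_of_comp_fpqc r φ (by rw [hφ]; infer_instance)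
    exact ⟨EndAV.Hom.of φ, EndAV.Hom.ext hφ⟩
  let e : EndAV.Hom Y A ≃+ EndAV.Hom X A :=
    AddEquiv.ofBijective (AddMonoidHom.mk' (fun φ => EndAV.Hom.of r ≫ φ) fun a b => Preadditive.comp_add _ _ _ _ a b)
      ⟨fun a b hab => EndAV.Hom.ext ((cancel_epi r).1 (congrArg EndAV.Hom.toHom hab)), hdesc⟩
  obtain ⟨s, hs⟩ := (hff Y X (hX.of_epi P r) hX).2 e.symm.toAddMonoidHom (fun φ t => e.injective (by
    refine (e.apply_symm_apply _).trans ?_
    show φ ≫ t = EndAV.Hom.of r ≫ (e.symm φ ≫ t)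
    rw [← Category.assoc]
    exact congrArg (· ≫ t) (e.apply_symm_apply φ).symm))
  have hid : EndAV.Hom.of r ≫ s = 𝟙 _ := (hff X X hX hX).1 _ _ fun φ => by
    rw [Category.assoc, ← hs φ, Category.id_comp]
    exact e.apply_symm_apply φ
  obtain ⟨y, rfl⟩ := (hl T x).2 fun f _ => hx f
  have h1 := congrArg EndAV.Hom.toHom hid
  rw [EndAV.Hom.toHom_comp, EndAV.Hom.toHom_of, EndAV.Hom.toHom_id] at h1
  rw [← Category.comp_id (y ≫ κ), ← h1, Category.assoc, reassoc_of% hκr, MonObj.one_comp, MonObj.comp_one]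

/-- A homomorphism not killed by any nonzero homomorphism to `A` is surjective. -/
theorem surjective_of_forall_comp (hff : FullyFaithful A P) {Y : Over (Spec (CommRingCat.of K))} [GrpObj Y]
    [IsCommMonObj Y] [IsProper Y.hom] [GeometricallyIntegral Y.hom] (hY : Killed P Y) (r : X ⟶ Y) [IsMonHom r]
    (hr : ∀ φ : EndAV.Hom Y A, r ≫ φ.toHom = 1 → φ = 0) : Surjective r.left := by
  obtain ⟨C, _, j, qC, hCp, hCg, hj, hjc, hqC, hqCs, hfac, hrg⟩ := exists_image_subvariety r
  obtain ⟨Q, _, π, hQp, hQg, hπ, hπfl, hπs, hπqc, hjπ, -, hker⟩ := exists_quotient_subvariety j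
  haveI : IsCommMonObj Q := isCommMonObj_of_isProper_of_geometricallyIntegral Q
  haveI : Epi π := Over.epi_of_epi_left _
  have hπ1 : π = 1 := by
    have e : ∀ ψ : EndAV.Hom Q A, ψ.toHom = 1 := fun ψ => by
      have := congrArg EndAV.Hom.toHom (hr (EndAV.Hom.of (π ≫ ψ.toHom)) (by
        rw [EndAV.Hom.toHom_of, ← hfac, Category.assoc, reassoc_of% hjπ, MonObj.one_comp, MonObj.comp_one]))
      rw [EndAV.Hom.toHom_of, EndAV.Hom.toHom_zero] at this
      rw [← cancel_epi π, this, MonObj.comp_one]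
    have := congrArg EndAV.Hom.toHom ((hff Q Q (hY.of_epi P π) (hY.of_epi P π)).1 (𝟙 _) 0 fun ψ =>
      EndAV.Hom.ext (by simp only [EndAV.Hom.toHom_comp, e, MonObj.comp_one]))
    rw [EndAV.Hom.toHom_id, EndAV.Hom.toHom_zero] at this
    rw [← Category.comp_id π, this, MonObj.comp_one]
  have hset := preimage_one_eq_range π j hjπ hker
  refine ⟨fun y => ?_⟩
  have : y ∈ Set.range j.left := by
    rw [← hset, hπ1, Hom.one_def, Over.comp_left]
    exact ⟨_, rfl⟩
  exact hrg.le this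

end Cogen

end Groth.Agent.AbCubeLib
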