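import Groth.Agent.AbCubeLib.SubvarietyQuotient
import Groth.Agent.AbCubeLib.CommonKernel
import Groth.Agent.GrpQLib.FlatKernel
import Groth.Agent.AlgGrpLib.SubgroupCalc

/-!
# The quotient of an abelian variety by a closed subgroup scheme
-/

set_option autoImplicit false
set_option backward.isDefEq.respectTransparency.types false
set_option maxHeartbeats 1600000
set_option linter.style.haveILetI false

universe u

open CategoryTheory CategoryTheory.Limits MonoidalCategory CartesianMonoidalCategory AlgebraicGeometry MonObj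
  TopologicalSpace

namespace Groth.Agent.AbCubeLib

variable {K : Type u} [Field K] {A : Over (Spec (CommRingCat.of K))} [GrpObj A] [IsProper A.hom]
  [GeometricallyIntegral A.hom]

local notation "gL" => Spec.map (CommRingCat.ofHom (algebraMap K (AlgebraicClosure K)))

noncomputable local instance (X : Over (Spec (CommRingCat.of K))) [GrpObj X] : GrpObj ((Over.pullback gL).obj X) :=
  Functor.grpObjObj

local instance (X : Over (Spec (CommRingCat.of K))) [IsProper X.hom] : IsProper ((Over.pullback gL).obj X).hom :=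
  inferInstanceAs (IsProper (pullback.snd X.hom gL))

local instance (X : Over (Spec (CommRingCat.of K))) [GeometricallyIntegral X.hom] :
    GeometricallyIntegral ((Over.pullback gL).obj X).hom :=
  inferInstanceAs (GeometricallyIntegral (pullback.snd X.hom gL))

/-- A closed subgroup contains an abelian subvariety containing a power of each of its geometric points. -/
theorem exists_subgroup_subvariety {H : Over (Spec (CommRingCat.of K))} [GrpObj H] (iH : H ⟶ A) [IsMonHom iH]
    [IsClosedImmersion iH.left] :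
    ∃ (Z : Over (Spec (CommRingCat.of K))) (_ : GrpObj Z) (j : Z ⟶ A), IsProper Z.hom ∧ GeometricallyIntegral Z.hom ∧
      IsMonHom j ∧ IsClosedImmersion j.left ∧ (∃ r : Z ⟶ H, r ≫ iH = j) ∧
      ∃ d : ℕ, 0 < d ∧ ∀ x : extPt (AlgebraicClosure K) ⟶ H,
        ∃ z : extPt (AlgebraicClosure K) ⟶ Z, z ≫ j = (x ≫ iH) ^ d := by
  classical
  let L := AlgebraicClosure K
  haveI : IsCommMonObj A := isCommMonObj_of_isProper_of_geometricallyIntegral A
  haveI : IsCommMonObj ((Over.pullback gL).obj A) := isCommMonObj_of_isProper_of_geometricallyIntegral _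
  haveI : IsProper H.hom := by rw [← Over.w iH]; infer_instance
  let iL := (Over.pullback gL).map iH
  haveI : IsMonHom iL := inferInstanceAs (IsMonHom ((Over.pullback gL).map iH))
  haveI : IsClosedImmersion iL.left := AbVarLib.prop_map @IsClosedImmersion gL iH inferInstance
  let S : Subgroup (𝟙_ (Over (Spec (CommRingCat.of L))) ⟶ (Over.pullback gL).obj A) := (postHom iL _).range
  obtain ⟨C, _, i', H₁, hiG, hci, hgi, hp, hH₁, hind, hrg⟩ := exists_subvariety_of_subgroup S
  haveI := Over.mono_of_mono_left i'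
  set d := (H₁.subgroupOf S).index with hd
  have hrange : Set.range i'.left ⊆ Set.range iL.left := by
    rw [hrg]
    refine closure_minimal ?_ iL.left.isClosedEmbedding.isClosed_range
    rintro _ ⟨a, ha, rfl⟩
    obtain ⟨w, rfl⟩ := hH₁ ha
    exact ⟨ptOf w, (ptOf_comp w iL).symm⟩
  have hCS : ∀ y : 𝟙_ (Over (Spec (CommRingCat.of L))) ⟶ C, y ≫ i' ∈ S := by
    intro y
    obtain ⟨c, hc⟩ := hrange ⟨ptOf y, (ptOf_comp y i').symm⟩
    have hcc : IsClosed ({c} : Set ((Over.pullback gL).obj H).left) := by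
      rw [← Set.preimage_image_eq {c} iL.left.isClosedEmbedding.injective, Set.image_singleton, hc]
      exact (isClosed_point _).preimage iL.left.continuous
    obtain ⟨w, rfl⟩ := exists_ptOf hcc
    exact ⟨w, point_ext (show ptOf (w ≫ iL) = ptOf (y ≫ i') by rw [ptOf_comp]; exact hc)⟩
  have hlift : ∀ a ∈ S, ∃ z, z ≫ i' = a ^ d := by
    intro a ha
    obtain ⟨c, hc⟩ := hrg.ge (subset_closure ⟨_, (H₁.subgroupOf S).pow_index_mem ⟨a, ha⟩, rfl⟩)
    have hcc : IsClosed ({c} : Set C.left) := by
      rw [← Set.preimage_image_eq {c} i'.left.isClosedEmbedding.injective, Set.image_singleton, hc]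
      exact (isClosed_point (a ^ d)).preimage i'.left.continuous
    obtain ⟨z, rfl⟩ := exists_ptOf hcc
    exact ⟨z, point_ext (show ptOf (z ≫ i') = ptOf (a ^ d) by rw [ptOf_comp]; exact hc)⟩
  obtain ⟨Z, hZ, j, hZp, hZg, hjG, hjc, hr1, hr2⟩ := exists_descend_subvariety i' (fun σ => ⟨d,
    Nat.pos_of_ne_zero hind, fun y => by
      refine hlift _ ?_
      obtain ⟨w, hw⟩ := hCS y
      refine ⟨actPt σ H w, ?_⟩
      show actPt σ H w ≫ iL = _
      rw [actPt_map]
      exact congrArg (actPt σ A) hw⟩)
  haveI : IsIntegral Z.left := GeometricallyIntegral.isIntegral_of_subsingleton Z.hom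
  refine ⟨Z, hZ, j, hZp, hZg, hjG, hjc, ?_, d, Nat.pos_of_ne_zero hind, fun x => ?_⟩
  · obtain ⟨r, hr⟩ := RedSepLib.exists_lift_of_range_subset j.left iH.left (by
      rw [hr2]
      rintro _ ⟨t, ht, rfl⟩
      obtain ⟨w, rfl⟩ := hrange ht
      exact ⟨pullback.fst H.hom gL w, by
        rw [← Scheme.Hom.comp_apply, (AbVarLib.isPullback_map gL iH).w, Scheme.Hom.comp_apply]⟩)
    exact ⟨Over.homMk r (by rw [← Over.w iH, reassoc_of% hr]; exact Over.w _), Over.OverMorphism.ext hr⟩
  · obtain ⟨y, hy⟩ := hlift (bcPts gL A (x ≫ iH)) ⟨bcPts gL H x, (bcPts_comp gL H x iH).symm⟩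
    have hm : (pullback.fst A.hom gL) (ptOf (y ≫ i')) ∈ Set.range j.left := by
      rw [hr2, ptOf_comp]; exact ⟨_, ⟨_, rfl⟩, rfl⟩
    have e : (pullback.fst A.hom gL) (ptOf (y ≫ i')) = ((x ≫ iH) ^ d).left (IsLocalRing.closedPoint L) := by
      rw [hy, ← map_pow]
      show (pullback.fst A.hom gL) ((bcPts gL A ((x ≫ iH) ^ d)).left _) = _
      rw [← Scheme.Hom.comp_apply]
      exact congrArg (fun f => f (IsLocalRing.closedPoint L)) (tautPt_map_left gL ((x ≫ iH) ^ d))
    haveI : IsReduced (extPt (K := K) L).left := inferInstanceAs (IsReduced (Spec (CommRingCat.of L)))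
    obtain ⟨w, hw⟩ := RedSepLib.exists_lift_of_range_subset ((x ≫ iH) ^ d).left j.left (by
      rintro _ ⟨t, rfl⟩
      rw [Subsingleton.elim (α := PrimeSpectrum L) t (IsLocalRing.closedPoint L), ← e]
      exact hm)
    exact ⟨Over.homMk w (by rw [← Over.w j, reassoc_of% hw]; exact Over.w _), Over.OverMorphism.ext hw⟩

/-- **The quotient of an abelian variety by a closed subgroup scheme.** -/
theorem exists_quotient_subgroup {H : Over (Spec (CommRingCat.of K))} [GrpObj H] (iH : H ⟶ A) [IsMonHom iH]
    [IsClosedImmersion iH.left] :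
    ∃ (B : Over (Spec (CommRingCat.of K))) (_ : GrpObj B) (π : A ⟶ B), IsProper B.hom ∧ GeometricallyIntegral B.hom ∧
      IsMonHom π ∧ Surjective π.left ∧ AlgGrp.IsKernel iH π := by
  haveI : IsCommMonObj A := isCommMonObj_of_isProper_of_geometricallyIntegral A
  haveI : Mono iH := Over.mono_of_mono_left iH
  obtain ⟨Z, _, i, hZp, hZg, hi, hic, ⟨r, hr⟩, d, hd, hdH⟩ := exists_subgroup_subvariety iH
  obtain ⟨C, _, j, hCp, hCg, hj, hjc, hσs, hσf⟩ := exists_complement_of_field i
  haveI : IsCommMonObj C := isCommMonObj_of_isProper_of_geometricallyIntegral C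
  haveI : IsCommMonObj Z := isCommMonObj_of_isProper_of_geometricallyIntegral Z
  haveI : Mono i := Over.mono_of_mono_left i
  haveI : Mono j := Over.mono_of_mono_left j
  let σ : Z ⊗ C ⟶ A := (fst Z C ≫ i) * (snd Z C ≫ j)
  haveI : IsProper (Z ⊗ C).hom := inferInstanceAs (IsProper (pullback.fst Z.hom C.hom ≫ Z.hom))
  haveI : GeometricallyIntegral (Z ⊗ C).hom := geometricallyIntegral_tensor' Z C
  haveI : IsMonHom σ := inferInstanceAs (IsMonHom (lift _ _ ≫ μ[A]))
  haveI : IsFinite σ.left := hσf
  haveI : Surjective σ.left := hσs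
  haveI : Flat σ.left := AbVarLib.flat_of_surjective σ
  haveI : LocallyOfFinitePresentation σ.left := by
    haveI : IsLocallyNoetherian A.left := LocallyOfFiniteType.isLocallyNoetherian A.hom
    exact locallyOfFinitePresentation_of_noetherian_base σ.left
  have hσ : ∀ {T : Over (Spec (CommRingCat.of K))} (w : T ⟶ Z ⊗ C),
      w ≫ σ = (w ≫ fst Z C ≫ r) ≫ iH * (w ≫ snd Z C) ≫ j := fun w => by
    rw [MonObj.comp_mul, Category.assoc, Category.assoc, hr, Category.assoc]
  -- the finite subgroup `D = C ∩ H`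
  let D := Limits.pullback j iH
  let dC : D ⟶ C := pullback.fst j iH
  let dH : D ⟶ H := pullback.snd j iH
  have hd' : dC ≫ j = dH ≫ iH := pullback.condition
  haveI : IsClosedImmersion dC.left :=
    MorphismProperty.of_isPullback (P := @IsClosedImmersion)
      ((IsPullback.of_hasPullback j iH).flip.map (Over.forget _)) ‹IsClosedImmersion iH.left›
  haveI : Mono dC := Over.mono_of_mono_left dC
  obtain ⟨_, hdC⟩ := AlgGrpLib.exists_grpObj_of_mono dC
    ⟨pullback.lift 1 1 (by rw [MonObj.one_comp, MonObj.one_comp]), pullback.lift_fst _ _ _⟩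
    ⟨pullback.lift ((fst D D ≫ dC) * (snd D D ≫ dC)) ((fst D D ≫ dH) * (snd D D ≫ dH)) (by
      simp only [MonObj.mul_comp, Category.assoc, hd']), pullback.lift_fst _ _ _⟩
    ⟨pullback.lift dC⁻¹ dH⁻¹ (by rw [GrpObj.inv_comp, GrpObj.inv_comp, hd']), pullback.lift_fst _ _ _⟩
  haveI : IsFinite D.hom := by
    haveI : IsFinite (UnipStruct.kerObj σ).hom := by
      have := MorphismProperty.of_isPullback (P := @IsFinite)
        (IsPullback.map (Over.forget _) (UnipStruct.isKernel_kerι σ)) hσf
      simpa [Over.toUnit_left] using this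
    obtain ⟨n, hn, hkill⟩ := exists_pow_eq_one_of_isFinite (UnipStruct.kerObj σ)
    haveI : IsMonHom (UnipStruct.kerι σ) := inferInstance
    refine isFinite_of_geom_pow_eq_one dC (d := d * n) (Nat.mul_pos hd hn) fun v => ?_
    obtain ⟨z, hz⟩ := hdH (v ≫ dH)
    obtain ⟨a, ha⟩ := AlgGrpLib.exists_lift_kernel (UnipStruct.isKernel_kerι σ) (g := lift z⁻¹ ((v ≫ dC) ^ d)) (by
      rw [MonObj.comp_mul, lift_fst_assoc, lift_snd_assoc, GrpObj.inv_comp, hz, MonObj.pow_comp, Category.assoc,
        Category.assoc, hd', inv_mul_cancel])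
    have h1 := congrArg (· ≫ snd Z C) ha
    simp only [lift_snd] at h1
    rw [pow_mul, ← h1, Category.assoc, ← MonObj.pow_comp, hkill, MonObj.one_comp]
  obtain ⟨B, _, q, hBp, hBg, hq, hqf, hqfl, hqs, hdq, hkerq⟩ := exists_quotient_finite_subgroup C D dC
  have hmem : ∀ {T : Over (Spec (CommRingCat.of K))} (c : T ⟶ C) (h : T ⟶ H), c ≫ j = h ≫ iH → c ≫ q = 1 :=
    fun c h e => by
      have e' : pullback.lift c h e ≫ dC = c := pullback.lift_fst _ _ _
      rw [← e', Category.assoc, hdq, MonObj.comp_one]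
  obtain ⟨π, hπ⟩ := exists_desc_fpqc σ (snd Z C ≫ q) (by
    intro W a b hab
    rw [← div_eq_one, ← GrpObj.div_comp, ← Category.assoc]
    refine hmem _ ((a / b) ≫ fst Z C ≫ r)⁻¹ ?_
    rw [GrpObj.inv_comp]
    exact eq_inv_of_mul_eq_one_right ((hσ _).symm.trans (by rw [GrpObj.div_comp, hab, div_self'])))
  have hπhom : IsMonHom π := isMonHom_of_comp_fpqc σ π (by rw [hπ]; infer_instance)
  have hπs : Surjective π.left := by
    haveI : Surjective (σ.left ≫ π.left) := by
      rw [← Over.comp_left, hπ, Over.comp_left]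
      haveI : Surjective (snd Z C).left := by
        haveI : Surjective Z.hom := ⟨fun x => ⟨η[Z].left x, by
          rw [← Scheme.Hom.comp_apply, Over.w η[Z]]; rfl⟩⟩
        exact MorphismProperty.pullback_snd (P := @Surjective) Z.hom C.hom ‹_›
      infer_instance
    exact Surjective.of_comp σ.left π.left
  -- points of `A` lifted along `σ`
  have hbase : ∀ {T : Over (Spec (CommRingCat.of K))} (x : T ⟶ A),
      Surjective (pullback.fst x σ).left ∧ Flat (pullback.fst x σ).left ∧
        LocallyOfFinitePresentation (pullback.fst x σ).left := fun x => by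
    have sq := (IsPullback.of_hasPullback x σ).flip.map (Over.forget _)
    exact ⟨MorphismProperty.of_isPullback (P := @Surjective) sq hσs,
      MorphismProperty.of_isPullback (P := @Flat) sq ‹Flat σ.left›,
      MorphismProperty.of_isPullback (P := @LocallyOfFinitePresentation) sq ‹LocallyOfFinitePresentation σ.left›⟩
  refine ⟨B, inferInstance, π, hBp, hBg, hπhom, hπs, AlgGrpLib.isKernel_of_points iH π ?_ fun T x hx => ?_⟩
  · obtain ⟨hs, hf, hp⟩ := hbase iH
    haveI := hs
    haveI := hf
    haveI := hp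
    haveI : QuasiCompact (pullback.fst iH σ).left :=
      MorphismProperty.of_isPullback (P := @QuasiCompact)
        ((IsPullback.of_hasPullback iH σ).flip.map (Over.forget _)) (show QuasiCompact σ.left from inferInstance)
    haveI : Epi (pullback.fst iH σ).left := inferInstance
    haveI : Epi (pullback.fst iH σ) := Over.epi_of_epi_left _
    let p := pullback.fst iH σ
    let w := pullback.snd iH σ
    rw [← cancel_epi p, MonObj.comp_one, ← Category.assoc, pullback.condition, Category.assoc, hπ, ← Category.assoc]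
    refine hmem _ ((w ≫ fst Z C ≫ r)⁻¹ * p) ?_
    rw [MonObj.mul_comp, GrpObj.inv_comp, pullback.condition (f := iH) (g := σ), hσ, inv_mul_cancel_left]
  · obtain ⟨hs, hf, hp⟩ := hbase x
    haveI := hs
    haveI := hf
    haveI := hp
    let p := pullback.fst x σ
    let w := pullback.snd x σ
    obtain ⟨h, hh⟩ := hkerq _ (w ≫ snd Z C) (by
      rw [Category.assoc, ← hπ, ← Category.assoc, ← pullback.condition, Category.assoc, hx, MonObj.comp_one])
    refine GrpQLib.exists_factor_fppf p iH x ((w ≫ fst Z C ≫ r) * (h ≫ dH)) ?_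
    rw [MonObj.mul_comp, Category.assoc h, ← hd', ← Category.assoc h, hh, ← hσ]
    exact pullback.condition.symm

end Groth.Agent.AbCubeLib
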