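import Groth.Agent.AbCubeLib.CubeCor
import Groth.Agent.CubeLib.SeeSawProper
import Groth.Agent.NeronLib.MonHomOfUnit

/-!
# Translation invariant classes are additive
-/

set_option autoImplicit false
set_option backward.isDefEq.respectTransparency.types false

universe u

open CategoryTheory CategoryTheory.Limits MonoidalCategory CartesianMonoidalCategory AlgebraicGeometry MonObj
open Groth.Agent.PicLib Groth.Agent.CubeLib

namespace Groth.Agent.AbCubeLib

variable {k : Type u} [Field k] [IsAlgClosed k] {T W A : Over (Spec (CommRingCat.of k))}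

/-- See-saw: two classes with the same fibres and the same restriction to a section are equal. -/
theorem eq_of_closed_fibres [Smooth T.hom] [IsIntegral T.left] [IsProper W.hom]
    [GeometricallyIntegral W.hom] (w₀ : 𝟙_ (Over (Spec (CommRingCat.of k))) ⟶ W) {a b : PicM (T ⊗ W).left}
    (hsec : pb (lift (𝟙 T) (toUnit T ≫ w₀)) a = pb (lift (𝟙 T) (toUnit T ≫ w₀)) b)
    (h : ∀ t : 𝟙_ (Over (Spec (CommRingCat.of k))) ⟶ T,
      pb (lift (toUnit W ≫ t) (𝟙 W)) a = pb (lift (toUnit W ≫ t) (𝟙 W)) b) : a = b := by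
  obtain ⟨b', hb'⟩ := PicM.exists_mul_eq_one b
  refine PicM.eq_of_mul_inv hb' (eq_one_of_closed_fibres w₀ _ ?_ fun t => ?_)
  · simp only [pb] at hsec
    rw [map_mul, hsec, ← map_mul, hb', map_one]
  · have ht := h t
    simp only [pb] at ht
    rw [map_mul, ht, ← map_mul, hb', map_one]

variable [GrpObj A] [IsProper A.hom] [GeometricallyIntegral A.hom]

/-- Translation invariant classes are additive. -/
theorem pb_fst_mul_snd_of_invariant (a : PicM A.left)
    (h : ∀ x : 𝟙_ (Over (Spec (CommRingCat.of k))) ⟶ A, pb (𝟙 A * (toUnit A ≫ x)) a = a) :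
    pb (fst A A * snd A A) a = pb (fst A A) a * pb (snd A A) a := by
  haveI : IsCommMonObj A := isCommMonObj_of_isProper_of_geometricallyIntegral A
  have : Smooth A.hom := NeronLib.smooth_of_geometricallyIntegral A
  have : IsIntegral A.left := GeometricallyIntegral.isIntegral_of_subsingleton A.hom
  have hm : ∀ {V : Over (Spec (CommRingCat.of k))} (φ : V ⟶ A ⊗ A),
      pb φ (pb (fst A A) a * pb (snd A A) a) = pb (φ ≫ fst A A) a * pb (φ ≫ snd A A) a := fun φ => by
    rw [← pb_pb, ← pb_pb]
    exact map_mul _ _ _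
  refine eq_of_closed_fibres 1 ?_ fun t => ?_
  · rw [pb_pb, hm, comp_mul, lift_fst, lift_snd, comp_one, _root_.mul_one, pb_id, pb_one, _root_.mul_one]
  · rw [pb_pb, hm, comp_mul, lift_fst, lift_snd, _root_.mul_comm, h t, pb_const, pb_id, _root_.one_mul]

/-- Additive classes are translation invariant. -/
theorem invariant_of_pb_fst_mul_snd (a : PicM A.left)
    (h : pb (fst A A * snd A A) a = pb (fst A A) a * pb (snd A A) a)
    (x : 𝟙_ (Over (Spec (CommRingCat.of k))) ⟶ A) : pb (𝟙 A * (toUnit A ≫ x)) a = a := by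
  have h2 := congrArg (pb (lift (𝟙 A) (toUnit A ≫ x))) h
  simp only [pb, map_mul] at h2
  change pb (lift (𝟙 A) (toUnit A ≫ x)) (pb (fst A A * snd A A) a) =
    pb (lift (𝟙 A) (toUnit A ≫ x)) (pb (fst A A) a) * pb (lift (𝟙 A) (toUnit A ≫ x)) (pb (snd A A) a) at h2
  rw [pb_pb, pb_pb, pb_pb, comp_mul, lift_fst, lift_snd, pb_id, pb_const, _root_.mul_one] at h2
  exact h2

/-- Pulling a translation invariant class back is additive in the morphism. -/
theorem pb_mul_of_invariant (a : PicM A.left)
    (h : ∀ x : 𝟙_ (Over (Spec (CommRingCat.of k))) ⟶ A, pb (𝟙 A * (toUnit A ≫ x)) a = a)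
    {V : Over (Spec (CommRingCat.of k))} (f g : V ⟶ A) : pb (f * g) a = pb f a * pb g a := by
  have h2 := congrArg (pb (lift f g)) (pb_fst_mul_snd_of_invariant a h)
  simp only [pb, map_mul] at h2
  change pb (lift f g) (pb (fst A A * snd A A) a) =
    pb (lift f g) (pb (fst A A) a) * pb (lift f g) (pb (snd A A) a) at h2
  rwa [pb_pb, pb_pb, pb_pb, comp_mul, lift_fst, lift_snd] at h2

end Groth.Agent.AbCubeLib
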