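import Mathlib.LinearAlgebra.FreeModule.Finite.Quotient
import Mathlib.NumberTheory.Padics.RingHoms
import Mathlib.LinearAlgebra.Determinant
import Mathlib.GroupTheory.Sylow

/-!
# Valuations of determinants and cardinals of cokernels over the `l`-adic integers
-/

set_option autoImplicit false

open Module Submodule

namespace Groth.Agent.AbCubeLib

variable {l : ℕ} [Fact l.Prime]

/-- The cardinality of `ℤ_l` modulo a nonzero element. -/
theorem natCard_quot_span {a : ℤ_[l]} (ha : a ≠ 0) :
    Nat.card (ℤ_[l] ⧸ Ideal.span ({a} : Set ℤ_[l])) = l ^ a.valuation := by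
  have hspan : Ideal.span ({a} : Set ℤ_[l]) = RingHom.ker (PadicInt.toZModPow a.valuation (p := l)) := by
    rw [PadicInt.ker_toZModPow, Ideal.span_singleton_eq_span_singleton]
    conv_lhs => rw [PadicInt.unitCoeff_spec ha]
    exact associated_unit_mul_left _ _ (PadicInt.unitCoeff ha).isUnit
  rw [hspan, Nat.card_congr (RingHom.quotientKerEquivOfSurjective (ZMod.ringHom_surjective _)).toEquiv,
    Nat.card_zmod]

theorem valuation_prod {κ : Type*} (s : Finset κ) (a : κ → ℤ_[l]) (ha : ∀ i ∈ s, a i ≠ 0) :
    (∏ i ∈ s, a i).valuation = ∑ i ∈ s, (a i).valuation := by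
  classical
  induction s using Finset.induction with
  | empty => simp
  | insert i s hi ih =>
    rw [Finset.prod_insert hi, Finset.sum_insert hi, PadicInt.valuation_mul (ha i (Finset.mem_insert_self i s))
      (Finset.prod_ne_zero_iff.2 fun j hj => ha j (Finset.mem_insert_of_mem hj)),
      ih fun j hj => ha j (Finset.mem_insert_of_mem hj)]

theorem valuation_eq_of_associated {a b : ℤ_[l]} (h : Associated a b) (ha : a ≠ 0) : a.valuation = b.valuation := by
  have hl : 1 < l := (Fact.out : l.Prime).one_lt
  have hb : b ≠ 0 := fun e => ha ((h.eq_zero_iff).2 e)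
  refine Nat.pow_right_injective hl ?_
  show l ^ a.valuation = l ^ b.valuation
  rw [← natCard_quot_span ha, ← natCard_quot_span hb, Ideal.span_singleton_eq_span_singleton.2 h]

/-- The cokernel of an endomorphism with nonzero determinant has order the `l`-part of the determinant. -/
theorem natCard_quot_range {M N : Type*} [AddCommGroup M] [Module ℤ_[l] M] [AddCommGroup N] [Module ℤ_[l] N]
    {κ : Type*} [Fintype κ] [DecidableEq κ] (bM : Basis κ ℤ_[l] M) (bN : Basis κ ℤ_[l] N) (f : M →ₗ[ℤ_[l]] N)
    (hdet : (LinearMap.toMatrix bM bN f).det ≠ 0) :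
    Nat.card (N ⧸ LinearMap.range f) = l ^ (LinearMap.toMatrix bM bN f).det.valuation := by
  let e0 : N ≃ₗ[ℤ_[l]] M := bN.equiv bM (Equiv.refl _)
  have hinj : Function.Injective f := by
    rw [injective_iff_map_eq_zero]
    intro x hx
    have h1 := LinearMap.toMatrix_mulVec_repr bM bN f x
    rw [hx, map_zero, Finsupp.coe_zero] at h1
    exact bM.repr.injective (Finsupp.ext fun i => by
      rw [map_zero]; exact congrFun (Matrix.eq_zero_of_mulVec_eq_zero hdet h1) i)
  let R := LinearMap.range f
  let e : N ≃ₗ[ℤ_[l]] R := e0.trans (LinearEquiv.ofInjective f hinj)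
  have h : finrank ℤ_[l] R = finrank ℤ_[l] N := e.finrank_eq.symm
  let a := smithNormalFormCoeffs bN h
  let b' := smithNormalFormTopBasis bN h
  let ab := smithNormalFormBotBasis bN h
  let e' : N ≃ₗ[ℤ_[l]] R := b'.equiv ab (Equiv.refl _)
  have ha : ∀ i, (R.subtype ∘ₗ e'.toLinearMap) (b' i) = a i • b' i := fun i => by
    show ((b'.equiv ab (Equiv.refl _)) (b' i) : N) = _
    rw [b'.equiv_apply, Equiv.refl_apply]
    exact smithNormalFormBotBasis_def bN h i
  have hd : LinearMap.det (R.subtype ∘ₗ e'.toLinearMap) = ∏ i, a i := by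
    rw [← LinearMap.det_toMatrix b', ← Matrix.det_diagonal]
    congr 1
    ext i j
    rw [LinearMap.toMatrix_apply, ha, map_smul, Basis.repr_self, Finsupp.smul_single, smul_eq_mul, mul_one]
    by_cases hij : i = j
    · rw [hij, Matrix.diagonal_apply_eq, Finsupp.single_eq_same]
    · rw [Matrix.diagonal_apply_ne _ hij, Finsupp.single_eq_of_ne hij]
  have hdet' : LinearMap.det (R.subtype ∘ₗ e.toLinearMap) = (LinearMap.toMatrix bM bN f).det := by
    rw [← LinearMap.det_toMatrix bN]
    congr 1
    ext i j
    rw [LinearMap.toMatrix_apply, LinearMap.toMatrix_apply]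
    show bN.repr (f (bN.equiv bM (Equiv.refl _) (bN j))) i = _
    rw [bN.equiv_apply, Equiv.refl_apply]
  have hass : Associated (LinearMap.toMatrix bM bN f).det (∏ i, a i) := by
    rw [← hdet', ← hd]
    exact LinearMap.associated_det_comp_equiv _ _ _
  have hne : ∏ i, a i ≠ 0 := fun h0 => hdet (hass.eq_zero_iff.2 h0)
  rw [valuation_eq_of_associated hass hdet,
    valuation_prod _ _ (fun i hi => Finset.prod_ne_zero_iff.1 hne i hi), ← Finset.prod_pow_eq_pow_sum,
    Nat.card_congr (R.quotientEquivPiSpan bN h).toEquiv, Nat.card_pi]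
  exact Finset.prod_congr rfl fun i _ => natCard_quot_span (Finset.prod_ne_zero_iff.1 hne i (Finset.mem_univ i))

/-- The `l`-power torsion of a finite commutative group. -/
theorem natCard_powTorsion {G : Type*} [CommGroup G] [Finite G] {m : ℕ} (hm : (Nat.card G).factorization l ≤ m) :
    Nat.card {x : G // x ^ (l ^ m) = 1} = l ^ (Nat.card G).factorization l := by
  have hl : l.Prime := Fact.out
  let H : Subgroup G := (powMonoidHom (l ^ m)).ker
  show Nat.card H = _
  obtain ⟨P, hP⟩ := Sylow.exists_subgroup_card_pow_prime (G := G) l (Nat.ordProj_dvd (Nat.card G) l)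
  have hPH : P ≤ H := fun x hx => by
    show x ^ (l ^ m) = 1
    have h1 : (⟨x, hx⟩ : P) ^ Nat.card P = 1 := pow_card_eq_one'
    rw [hP] at h1
    have h2 : x ^ (l ^ (Nat.card G).factorization l) = 1 := congrArg Subtype.val h1
    rw [show m = (Nat.card G).factorization l + (m - (Nat.card G).factorization l) by omega, pow_add, pow_mul, h2,
      one_pow]
  have hpg : IsPGroup l H := fun x => ⟨m, Subtype.ext x.2⟩
  obtain ⟨n, hn⟩ := IsPGroup.iff_card.1 hpg
  have hle : n ≤ (Nat.card G).factorization l :=
    (Nat.Prime.pow_dvd_iff_le_factorization hl Nat.card_pos.ne').1 (hn ▸ Subgroup.card_subgroup_dvd_card H)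
  have hge : (Nat.card G).factorization l ≤ n := by
    refine (Nat.pow_dvd_pow_iff_le_right hl.one_lt).1 ?_
    rw [← hP, ← hn]
    exact Subgroup.card_dvd_of_le hPH
  rw [hn, le_antisymm hle hge]

end Groth.Agent.AbCubeLib
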