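import Groth.Agent.AbCubeLib.KernelOrder
import Groth.Agent.AbCubeLib.DetValuation
import Groth.Agent.AbCubeLib.TorsionDetects

/-!
# The `l`-part of the degree of an isogeny is the determinant on the Tate module
-/

set_option autoImplicit false
set_option backward.isDefEq.respectTransparency.types false

universe u

open CategoryTheory CategoryTheory.Limits MonoidalCategory CartesianMonoidalCategory AlgebraicGeometry MonObj

namespace Groth.Agent.AbCubeLib

section Tate

variable {S : Scheme.{u}} {A : Over S} [GrpObj A] [IsCommMonObj A] {T : Over S} {l : ℕ}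

/-- Iterated compatibility of the components. -/
theorem component_pow (x : AbDual.TateMod A l T) (n m : ℕ) :
    (AbDual.TateMod.component A l T (n + m) x).toMul ^ (l ^ m) = (AbDual.TateMod.component A l T n x).toMul := by
  induction m with
  | zero => rw [pow_zero, pow_one]; rfl
  | succ m ih =>
    rw [pow_succ', pow_mul]
    refine Eq.trans ?_ ih
    exact congrArg (· ^ (l ^ m)) (congrArg Additive.toMul (x.2.2 (n + m)))

/-- An element with trivial `m`-th component is a multiple of `l ^ m`. -/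
theorem exists_eq_pow_smul [Fact l.Prime] (x : AbDual.TateMod A l T) (m : ℕ)
    (h : (AbDual.TateMod.component A l T m x).toMul = 1) :
    ∃ y : AbDual.TateMod A l T, x = ((l : ℤ_[l]) ^ m) • y := by
  have h' : ∀ n, (l ^ n) • (x : ℕ → Additive (T ⟶ A)) (n + m) = 0 := fun n => by
    refine Additive.toMul.injective ?_
    have := component_pow x m n
    rw [h, add_comm m n] at this
    exact this
  refine ⟨⟨fun n => (x : ℕ → Additive (T ⟶ A)) (n + m), h', fun n => ?_⟩, AbDual.TateMod.ext fun n => ?_⟩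
  · show l • (x : ℕ → Additive (T ⟶ A)) (n + 1 + m) = (x : ℕ → Additive (T ⟶ A)) (n + m)
    rw [add_right_comm]
    exact x.2.2 (n + m)
  · rw [← Nat.cast_pow, Nat.cast_smul_eq_nsmul]
    refine Additive.toMul.injective ?_
    exact (component_pow x n m).symm

/-- The Tate module has no torsion by powers of `l`. -/
theorem eq_zero_of_pow_smul_eq_zero [Fact l.Prime] (x : AbDual.TateMod A l T) (m : ℕ)
    (h : ((l : ℤ_[l]) ^ m) • x = 0) : x = 0 := by
  refine AbDual.TateMod.ext fun n => Additive.toMul.injective ?_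
  refine (component_pow x n m).symm.trans ?_
  have h1 : (l ^ m) • x = 0 := by rwa [← Nat.cast_smul_eq_nsmul ℤ_[l], Nat.cast_pow]
  exact congrArg (fun y => (AbDual.TateMod.component A l T (n + m) y).toMul) h1

end Tate

variable {k : Type u} [Field k] [IsAlgClosed k] {A B : Over (Spec (CommRingCat.of k))} [GrpObj A] [IsCommMonObj A]
  [IsProper A.hom] [GeometricallyIntegral A.hom] [GrpObj B] [IsCommMonObj B] [IsProper B.hom]
  [GeometricallyIntegral B.hom]

local notation "𝕆" => 𝟙_ (Over (Spec (CommRingCat.of k)))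

/-- The kernel of a finite homomorphism kills no part of the Tate module. -/
theorem injective_tateMap_of_isFinite (α : A ⟶ B) [IsMonHom α] [IsFinite α.left] {l : ℕ} [Fact l.Prime] :
    Function.Injective (AbDual.tateMapₗ (l := l) (T := 𝕆) α) := by
  rw [injective_iff_map_eq_zero]
  intro x hx
  let G := (postHom α 𝕆).ker
  haveI : Finite G := finite_ker α
  have hG : ∀ n, (AbDual.TateMod.component A l 𝕆 n x).toMul ∈ G := fun n =>
    (congrArg (fun y => (AbDual.TateMod.component B l 𝕆 n y).toMul) hx :)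
  obtain ⟨V, hV⟩ : ∃ V, V = (Nat.card G).factorization l := ⟨_, rfl⟩
  refine eq_zero_of_pow_smul_eq_zero x V (AbDual.TateMod.ext fun n => ?_)
  rw [← Nat.cast_pow, Nat.cast_smul_eq_nsmul]
  refine Additive.toMul.injective ?_
  show (AbDual.TateMod.component A l 𝕆 n x).toMul ^ (l ^ V) = 1
  have h1 : (⟨_, hG n⟩ : G) ^ Nat.card G = 1 := pow_card_eq_one'
  have h2 : (AbDual.TateMod.component A l 𝕆 n x).toMul ^ (l ^ n) = 1 := AbDual.TateMod.component_mem x n
  have h3 := pow_gcd_eq_one.2 ⟨congrArg Subtype.val h1, h2⟩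
  obtain ⟨i, -, hi⟩ := (Nat.dvd_prime_pow (Fact.out : l.Prime)).1 (Nat.gcd_dvd_right (Nat.card G) (l ^ n))
  have hiV : i ≤ V := by
    rw [hV]
    exact (Nat.Prime.pow_dvd_iff_le_factorization (Fact.out : l.Prime) Nat.card_pos.ne').1
      (hi ▸ Nat.gcd_dvd_left (Nat.card G) (l ^ n))
  rw [show V = i + (V - i) by omega, pow_add, pow_mul, ← hi, h3, one_pow]

/-- The `l`-part of the degree. -/
theorem padicValNat_degree {l : ℕ} [Fact l.Prime] (hl : (l : k) ≠ 0) {r : ℕ}
    (hrA : topologicalKrullDim A.left = r) (hrB : topologicalKrullDim B.left = r) (α : A ⟶ B) [IsMonHom α]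
    [IsFinite α.left] {κ : Type} [Fintype κ] [DecidableEq κ]
    (bA : Module.Basis κ ℤ_[l] (AbDual.TateMod A l 𝕆)) (bB : Module.Basis κ ℤ_[l] (AbDual.TateMod B l 𝕆))
    (b : B.left) :
    (LinearMap.toMatrix bA bB (AbDual.tateMapₗ (l := l) (T := 𝕆) α)).det ≠ 0 ∧
      padicValNat l (Scheme.Hom.finrank α.left b) =
        (LinearMap.toMatrix bA bB (AbDual.tateMapₗ (l := l) (T := 𝕆) α)).det.valuation := by
  set F := AbDual.tateMapₗ (l := l) (T := 𝕆) α with hF
  have hinj := injective_tateMap_of_isFinite (l := l) α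
  have hdet : (LinearMap.toMatrix bA bB F).det ≠ 0 := by
    intro h
    obtain ⟨v, hv0, hv⟩ := Matrix.exists_mulVec_eq_zero_iff.2 h
    refine hv0 ?_
    have h1 := LinearMap.toMatrix_mulVec_repr bA bB F (bA.equivFun.symm v)
    rw [show ⇑(bA.repr (bA.equivFun.symm v)) = v from bA.equivFun.apply_symm_apply v, hv] at h1
    have h2 : F (bA.equivFun.symm v) = 0 := bB.repr.injective (Finsupp.ext fun i => by
      rw [map_zero]; exact (congrFun h1 i).symm)
    exact bA.equivFun.symm.injective ((hinj (h2.trans (map_zero F).symm)).trans (map_zero bA.equivFun.symm).symm)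
  refine ⟨hdet, ?_⟩
  set v := (LinearMap.toMatrix bA bB F).det.valuation
  let G := (postHom α 𝕆).ker
  haveI : Finite G := finite_ker α
  -- the degree and the kernel points
  obtain ⟨hsurj, hflat⟩ := AbVarLib.surjective_and_flat_of_isFinite α (hrA.trans hrB.symm)
  haveI := hflat
  haveI : IsIntegral B.left := GeometricallyIntegral.isIntegral_of_subsingleton B.hom
  haveI : IsProper (α.left ≫ B.hom) := by rw [Over.w]; infer_instance
  haveI : IsLocallyNoetherian B.left := LocallyOfFiniteType.isLocallyNoetherian B.hom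
  have hconst : Scheme.Hom.finrank α.left b =
      Scheme.Hom.finrank α.left ((1 : 𝕆 ⟶ B).left (IsLocalRing.closedPoint k)) :=
    (finrank_eq_genRank α.left b).trans (finrank_eq_genRank α.left _).symm
  obtain ⟨j, hj⟩ := exists_finrank_eq_natCard_ker_mul α
  have hvalG : padicValNat l (Scheme.Hom.finrank α.left b) = (Nat.card G).factorization l := by
    rw [hconst, hj, show Nat.card {a : 𝕆 ⟶ A // a ≫ α = 1} = Nat.card G from rfl]
    have hndvd : ¬ l ∣ ringExpChar k ^ j := fun h => by
      have h1 : l ∣ ringExpChar k := (Fact.out : l.Prime).dvd_of_dvd_pow h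
      rcases CharP.char_is_prime_or_zero k (ringChar k) with hp | h0
      · haveI : Fact (ringChar k).Prime := ⟨hp⟩
        rw [ringExpChar.eq k (ringChar k)] at h1
        rw [(Nat.prime_dvd_prime_iff_eq Fact.out hp).1 h1] at hl
        exact hl (ringChar.Nat.cast_ringChar)
      · haveI : CharP k 0 := h0 ▸ ringChar.charP k
        haveI := CharP.charP_to_charZero k
        rw [ringExpChar.eq k 1] at h1
        exact (Fact.out : l.Prime).one_lt.ne' (Nat.dvd_one.1 h1)
    rw [Nat.factorization_def _ Fact.out, padicValNat.mul Nat.card_pos.ne'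
      (fun h => hndvd (by rw [h]; exact dvd_zero l)), padicValNat.eq_zero_of_not_dvd hndvd, add_zero]
  rw [hvalG]
  -- compare both with the `l ^ m`-torsion of the kernel
  obtain ⟨m, hm1, hm2⟩ : ∃ m, (Nat.card G).factorization l ≤ m ∧ v ≤ m := ⟨_, le_max_left _ _, le_max_right _ _⟩
  have hquot := natCard_quot_range bA bB F hdet
  haveI : Finite (AbDual.TateMod B l 𝕆 ⧸ LinearMap.range F) :=
    Nat.finite_of_card_ne_zero (by rw [hquot]; exact pow_ne_zero _ (Fact.out : l.Prime).ne_zero)
  have hkill : ∀ y : AbDual.TateMod B l 𝕆, ((l : ℤ_[l]) ^ m) • y ∈ LinearMap.range F := fun y => by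
    rw [← Submodule.Quotient.mk_eq_zero (LinearMap.range F), Submodule.Quotient.mk_smul, ← Nat.cast_pow,
      Nat.cast_smul_eq_nsmul]
    exact addOrderOf_dvd_iff_nsmul_eq_zero.1 ((addOrderOf_dvd_natCard _).trans (hquot ▸ pow_dvd_pow l hm2))
  refine Nat.pow_right_injective (Fact.out : l.Prime).one_lt ?_
  show l ^ _ = l ^ v
  rw [← natCard_powTorsion hm1, ← hquot]
  -- the comparison map
  have hlift : ∀ a : {x : G // x ^ (l ^ m) = 1}, ∃ (x : AbDual.TateMod A l 𝕆) (y : AbDual.TateMod B l 𝕆),
      (AbDual.TateMod.component A l 𝕆 m x).toMul = a.1.1 ∧ F x = ((l : ℤ_[l]) ^ m) • y := fun a => by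
    obtain ⟨x, hx⟩ := exists_tate_component (A := A) (Fact.out : l.Prime) a.1.1 (n := m)
      (show a.1.1 ^ (l ^ m) = 1 from congrArg Subtype.val a.2)
    obtain ⟨y, hy⟩ := exists_eq_pow_smul (F x) m (by
      have h := AbDual.tateMap_component α x m
      rw [hx, show a.1.1 ≫ α = 1 from a.1.2] at h
      exact h)
    exact ⟨x, y, hx, hy⟩
  choose X Y hX hY using hlift
  refine Nat.card_eq_of_bijective (fun a => Submodule.Quotient.mk (p := LinearMap.range F) (Y a))
    ⟨fun a a' e => ?_, fun q => ?_⟩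
  · obtain ⟨z, hz⟩ := (Submodule.Quotient.eq (LinearMap.range F)).1 e
    have h1 : X a = X a' + ((l : ℤ_[l]) ^ m) • z := hinj (by
      rw [map_add, map_smul, hz, hY, hY, smul_sub]
      abel)
    have h2 := congrArg (fun x => (AbDual.TateMod.component A l 𝕆 m x).toMul) h1
    simp only [map_add, toMul_add] at h2
    rw [← Nat.cast_pow, Nat.cast_smul_eq_nsmul, map_nsmul, toMul_nsmul,
      show (AbDual.TateMod.component A l 𝕆 m z).toMul ^ (l ^ m) = 1 from AbDual.TateMod.component_mem z m,
      _root_.mul_one, hX, hX] at h2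
    exact Subtype.ext (Subtype.ext h2)
  · obtain ⟨y, rfl⟩ := Submodule.Quotient.mk_surjective _ q
    obtain ⟨x, hx⟩ := hkill y
    let a₀ : 𝕆 ⟶ A := (AbDual.TateMod.component A l 𝕆 m x).toMul
    have ha : a₀ ≫ α = 1 := by
      refine (AbDual.tateMap_component α x m).symm.trans ?_
      show (AbDual.TateMod.component B l 𝕆 m (F x)).toMul = 1
      rw [hx, ← Nat.cast_pow, Nat.cast_smul_eq_nsmul, map_nsmul, toMul_nsmul]
      exact AbDual.TateMod.component_mem y m
    have ha' : a₀ ^ (l ^ m) = 1 := AbDual.TateMod.component_mem x m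
    let a : {x : G // x ^ (l ^ m) = 1} := ⟨⟨a₀, ha⟩, Subtype.ext ha'⟩
    refine ⟨a, (Submodule.Quotient.eq (LinearMap.range F)).2 ?_⟩
    obtain ⟨z, hz⟩ := exists_eq_pow_smul (X a - x) m (by
      rw [map_sub, toMul_sub, hX]
      exact div_self' a₀)
    refine ⟨z, ?_⟩
    rw [← sub_eq_zero]
    refine eq_zero_of_pow_smul_eq_zero _ m ?_
    rw [smul_sub, smul_sub, ← map_smul, ← hz, map_sub, hY, hx]
    abel

end Groth.Agent.AbCubeLib
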