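import Groth.Agent.AbCubeLib.CharpolyInt
import Groth.Agent.AbCubeLib.KerValuation
import Groth.Agent.AbCubeLib.Subvariety
import Groth.Agent.AbVarLib.HomFlat
import Groth.Agent.DimLib.Zero

/-!
# Homomorphisms which are not finite kill an abelian subvariety
-/

set_option autoImplicit false
set_option backward.isDefEq.respectTransparency.types false

universe u

open CategoryTheory CategoryTheory.Limits MonoidalCategory CartesianMonoidalCategory AlgebraicGeometry MonObj
  TopologicalSpace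

namespace Groth.Agent.AbCubeLib

variable {k : Type u} [Field k] [IsAlgClosed k] {A B : Over (Spec (CommRingCat.of k))}
  [GrpObj A] [IsCommMonObj A] [IsProper A.hom] [GeometricallyIntegral A.hom]
  [GrpObj B] [IsProper B.hom] [GeometricallyIntegral B.hom]

local notation "𝕆" => 𝟙_ (Over (Spec (CommRingCat.of k)))

/-- A homomorphism with finitely many kernel points is finite. -/
theorem isFinite_of_finite_ker (α : A ⟶ B) [IsMonHom α] (h : Set.Finite {a : 𝕆 ⟶ A | a ≫ α = 1}) :
    IsFinite α.left := by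
  haveI := AbVarLib.isProper_left α
  let Z : Set A.left := α.left ⁻¹' {ptOf (1 : 𝕆 ⟶ B)}
  have hZ : IsClosed Z := (isClosed_point (1 : 𝕆 ⟶ B)).preimage α.left.continuous
  let F : Set A.left := ptOf '' {a : 𝕆 ⟶ A | a ≫ α = 1}
  have hFc : IsClosed F := by
    rw [← Set.biUnion_of_singleton F]
    refine (h.image ptOf).isClosed_biUnion ?_
    rintro _ ⟨a, -, rfl⟩
    exact isClosed_point a
  have hsub : Z ⊆ F := by
    intro w hw
    by_contra hwF
    have : JacobsonSpace A.left := LocallyOfFiniteType.jacobsonSpace A.hom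
    obtain ⟨v, ⟨hv, hvF⟩, hvc⟩ := nonempty_inter_closedPoints (Z := Z ∩ Fᶜ) ⟨w, hw, hwF⟩
      (hZ.isLocallyClosed.inter hFc.isOpen_compl.isLocallyClosed)
    obtain ⟨t, rfl⟩ := exists_ptOf (mem_closedPoints_iff.1 hvc)
    exact hvF ⟨t, point_ext hv, rfl⟩
  haveI : LocallyQuasiFinite α.left :=
    AbVarLib.locallyQuasiFinite_of_finite_preimage α (ptOf (1 : 𝕆 ⟶ B))
      ⟨ptOf (1 : 𝕆 ⟶ A), by rw [← ptOf_comp, MonObj.one_comp]⟩ ((h.image ptOf).subset hsub)
  exact IsFinite.of_isProper_of_locallyQuasiFinite _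

/-- A homomorphism which is not finite kills a positive dimensional abelian subvariety. -/
theorem exists_subvariety_of_not_isFinite (α : A ⟶ B) [IsMonHom α] (h : ¬ IsFinite α.left) :
    ∃ (C : Over (Spec (CommRingCat.of k))) (_ : GrpObj C) (i : C ⟶ A) (g : ℕ), IsMonHom i ∧ IsClosedImmersion i.left ∧
      GeometricallyIntegral C.hom ∧ IsProper C.hom ∧ topologicalKrullDim C.left = g ∧ 0 < g ∧ i ≫ α = 1 := by
  let H : Subgroup (𝕆 ⟶ A) := (postHom α 𝕆).ker
  obtain ⟨C, _, i, H₁, hi, hci, hgi, hp, hH₁, hind, hrg⟩ := exists_subvariety_of_subgroup H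
  obtain ⟨g, hg⟩ := exists_dim_eq C
  have hsub : Set.range i.left ⊆ α.left ⁻¹' {ptOf (1 : 𝕆 ⟶ B)} := by
    rw [hrg]
    refine closure_minimal ?_ ((isClosed_point (1 : 𝕆 ⟶ B)).preimage α.left.continuous)
    rintro _ ⟨a, ha, rfl⟩
    exact (ptOf_comp a α).symm.trans (congrArg ptOf (hH₁ ha))
  haveI : IsIntegral C.left := GeometricallyIntegral.isIntegral_of_subsingleton C.hom
  have hiα : i ≫ α = 1 := by
    refine eq_one_of_forall_eq (i ≫ α) (c := ptOf (1 : 𝕆 ⟶ B)) fun z => ?_
    rw [Over.comp_left, Scheme.Hom.comp_apply]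
    exact hsub ⟨z, rfl⟩
  refine ⟨C, ‹_›, i, g, hi, hci, hgi, hp, hg, Nat.pos_of_ne_zero fun hg0 => h (isFinite_of_finite_ker α ?_), hiα⟩
  subst hg0
  -- zero dimension: the range is finite
  haveI := DimLib.finite_of_dim_le_zero C.hom hg.le
  have hfin1 : (Set.range i.left).Finite := Set.finite_range _
  have hH₁f : (SetLike.coe H₁).Finite :=
    ((hfin1.subset (subset_closure.trans hrg.ge)).of_finite_image fun a _ b _ hab => point_ext hab)
  have : Finite H₁ := hH₁f.to_subtype
  haveI : Finite H := by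
    haveI : (H₁.subgroupOf H).FiniteIndex := ⟨hind⟩
    haveI : Finite (H₁.subgroupOf H) := Finite.of_equiv _ (Subgroup.subgroupOfEquivOfLe hH₁).symm.toEquiv
    exact (Subgroup.finite_iff_finite_and_finiteIndex (H₁.subgroupOf H)).2 ⟨inferInstance, inferInstance⟩
  exact (Set.toFinite (SetLike.coe H))

/-- A homomorphism is finite if and only if it is injective on the Tate module. -/
theorem isFinite_iff_injective_tateMapₗ [IsCommMonObj B] {l : ℕ} [Fact l.Prime]
    (hl : (l : k) ≠ 0) (α : A ⟶ B) [IsMonHom α] :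
    IsFinite α.left ↔ Function.Injective (AbDual.tateMapₗ (l := l) (T := 𝕆) α) := by
  refine ⟨fun h => injective_tateMap_of_isFinite α, fun hinj => ?_⟩
  by_contra h
  obtain ⟨C, _, i, g, hi, hci, hgi, hp, hg, hg0, hiα⟩ := exists_subvariety_of_not_isFinite α h
  haveI : IsCommMonObj C := isCommMonObj_of_isProper_of_geometricallyIntegral C
  obtain ⟨b⟩ := exists_tate_basis_unit (A := C) hg hl
  let y := b ⟨0, by omega⟩
  have hy : AbDual.tateMapₗ (l := l) (T := 𝕆) i y = 0 := hinj (by
    rw [map_zero]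
    refine AbDual.TateMod.ext fun n => ?_
    show Additive.ofMul ((((y : ℕ → Additive (𝕆 ⟶ C)) n).toMul ≫ i) ≫ α) = 0
    rw [Category.assoc, hiα, MonObj.comp_one]
    rfl)
  refine b.ne_zero ⟨0, by omega⟩ (AbDual.TateMod.ext fun n => ?_)
  have h2 := congrArg (fun x : AbDual.TateMod A l 𝕆 => ((x : ℕ → Additive (𝕆 ⟶ A)) n).toMul) hy
  change ((y : ℕ → Additive (𝕆 ⟶ C)) n).toMul ≫ i = 1 at h2
  haveI : Mono i.left := inferInstance
  refine Additive.toMul.injective (Over.OverMorphism.ext ?_)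
  rw [← cancel_mono i.left]
  exact congrArg CommaMorphism.left (h2.trans (MonObj.one_comp i).symm)

end Groth.Agent.AbCubeLib
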