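import Groth.Agent.AbCubeLib.HopfOrder
import Groth.Agent.AbCubeLib.Torsion
import Mathlib.AlgebraicGeometry.Group.Affine

/-!
# The degree of an isogeny is the number of its kernel points times a power of the characteristic
-/

set_option autoImplicit false
set_option backward.isDefEq.respectTransparency.types false

universe u

open CategoryTheory CategoryTheory.Limits MonoidalCategory CartesianMonoidalCategory AlgebraicGeometry MonObj Opposite

namespace Groth.Agent.AbCubeLib

variable {k : Type u} [Field k] {A B : Over (Spec (CommRingCat.of k))} [GrpObj A] [GrpObj B] (f : A ⟶ B) [IsMonHom f]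

/-- Composition with `f` on points. -/
noncomputable def postHom (T : Over (Spec (CommRingCat.of k))) : (T ⟶ A) →* (T ⟶ B) :=
  MonoidHom.mk' (fun a => a ≫ f) fun a b => MonObj.mul_comp a b f

/-- The kernel scheme. -/
noncomputable abbrev kerObj : Over (Spec (CommRingCat.of k)) :=
  Over.mk (pullback.snd f.left (1 : 𝟙_ (Over (Spec (CommRingCat.of k))) ⟶ B).left)

/-- The kernel points as a presheaf of groups. -/
noncomputable def kerGrpPresheaf : (Over (Spec (CommRingCat.of k)))ᵒᵖ ⥤ GrpCat.{u} where
  obj T := GrpCat.of (postHom f T.unop).ker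
  map {T U} h := GrpCat.ofHom
    (MonoidHom.mk' (fun a => (⟨h.unop ≫ a.1, by
      show (h.unop ≫ a.1) ≫ f = 1
      rw [Category.assoc, show a.1 ≫ f = 1 from a.2, MonObj.comp_one]⟩ : (postHom f U.unop).ker))
      fun a b => Subtype.ext (MonObj.comp_mul h.unop a.1 b.1))
  map_id T := GrpCat.hom_ext (MonoidHom.ext fun a => Subtype.ext (Category.id_comp _))
  map_comp g h := GrpCat.hom_ext (MonoidHom.ext fun a => Subtype.ext (Category.assoc _ _ _))

/-- The kernel scheme represents the kernel points. -/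
noncomputable def kerRep : (kerGrpPresheaf f ⋙ forget GrpCat).RepresentableBy (kerObj f) where
  homEquiv {T} :=
    { toFun := fun h => (kerPtsEquiv f T).symm ⟨h.left, Over.w h⟩
      invFun := fun a => Over.homMk ((kerPtsEquiv f T) ⟨a.1, a.2⟩).1 ((kerPtsEquiv f T) ⟨a.1, a.2⟩).2
      left_inv := fun h => Over.OverMorphism.ext (by
        show ((kerPtsEquiv f T) ((kerPtsEquiv f T).symm ⟨h.left, Over.w h⟩)).1 = h.left
        rw [Equiv.apply_symm_apply])
      right_inv := fun a => by
        refine Subtype.ext ?_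
        show ((kerPtsEquiv f T).symm ⟨((kerPtsEquiv f T) ⟨a.1, a.2⟩).1, _⟩).1 = a.1
        rw [show (⟨((kerPtsEquiv f T) ⟨a.1, a.2⟩).1, _⟩ : {s // s ≫ _ = T.hom}) = (kerPtsEquiv f T) ⟨a.1, a.2⟩ from
          rfl, Equiv.symm_apply_apply] }
  homEquiv_comp {T U} h g := by
    refine Subtype.ext (Over.OverMorphism.ext ?_)
    show (h ≫ g).left ≫ _ = h.left ≫ g.left ≫ _
    rw [Over.comp_left, Category.assoc]

/-- The order of a finite group scheme over an algebraically closed field. -/
theorem exists_finrank_eq_natCard_sections_mul (R : CommRingCat.{u}) (hR : IsField R)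
    (hroot : ∀ p : Polynomial R, p.Monic → Irreducible p → ∃ x, p.eval x = 0) (G : Over (Spec R)) [GrpObj G] [IsFinite G.hom] (x : Spec R) :
    ∃ j : ℕ, Scheme.Hom.finrank G.hom x =
      Nat.card {s : Spec R ⟶ G.left // s ≫ G.hom = 𝟙 (Spec R)} * ringExpChar R ^ j := by
  letI : Field R := hR.toField
  haveI hac : IsAlgClosed R := IsAlgClosed.of_exists_root _ hroot
  haveI : IsAffine G.left := isAffine_of_isAffineHom G.hom
  letI : G.left.Over (Spec R) := ⟨G.hom⟩
  letI : GrpObj (G.left.asOver (Spec R)) := ‹GrpObj G›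
  have he : G.left.isoSpec.inv ≫ G.hom = Spec.map (CommRingCat.ofHom (algebraMap R Γ(G.left, ⊤))) :=
    (Spec.fullyFaithful.map_preimage (X := Opposite.op Γ(G.left, ⊤)) (Y := Opposite.op R)
      (G.left.isoSpec.inv ≫ G.hom)).symm
  have hsp : IsFinite (Spec.map (CommRingCat.ofHom (algebraMap R Γ(G.left, ⊤)))) := by rw [← he]; infer_instance
  have hfin : Module.Finite R Γ(G.left, ⊤) := by
    rwa [IsFinite.SpecMap_iff, CommRingCat.hom_ofHom, RingHom.finite_algebraMap] at hsp
  obtain ⟨j, hj⟩ := @exists_finrank_eq_card_mul R Γ(G.left, ⊤) _ _ _ hfin hac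
  refine ⟨j, ?_⟩
  have hr : Scheme.Hom.finrank G.hom x = Module.finrank R Γ(G.left, ⊤) := by
    haveI : Flat (Spec.map (CommRingCat.ofHom (algebraMap R Γ(G.left, ⊤)))) := by
      rw [Flat.SpecMap_iff, CommRingCat.hom_ofHom, RingHom.flat_algebraMap_iff]; infer_instance
    have e1 : G.hom = G.left.isoSpec.hom ≫ Spec.map (CommRingCat.ofHom (algebraMap R Γ(G.left, ⊤))) := by
      rw [← Iso.inv_comp_eq]; exact he
    rw [e1, Scheme.Hom.finrank_comp_left_of_isIso]
    refine (Scheme.Hom.finrank_SpecMap_algebraMap R Γ(G.left, ⊤) x).trans ?_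
    rw [Module.rankAtStalk_eq_finrank_of_free]
    rfl
  refine (hr.trans hj).trans ?_
  refine congrArg (· * _) ((Nat.card_congr (algHomEquivPts (k := R) (π := G.hom) (C := R) G.left.isoSpec.symm he)).trans ?_)
  rw [specMap_algebraMap_self (k := R)]
  rfl

variable [IsFinite f.left] [IsAlgClosed k]

/-- The degree is the number of kernel points times a power of the characteristic exponent. -/
theorem exists_finrank_eq_natCard_ker_mul [Flat f.left] :
    ∃ j : ℕ, Scheme.Hom.finrank f.left ((1 : 𝟙_ (Over (Spec (CommRingCat.of k))) ⟶ B).left (IsLocalRing.closedPoint k)) =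
      Nat.card {a : 𝟙_ (Over (Spec (CommRingCat.of k))) ⟶ A // a ≫ f = 1} * ringExpChar k ^ j := by
  let G := kerObj f
  letI : GrpObj G := GrpObj.ofRepresentableBy G (kerGrpPresheaf f) (kerRep f)
  haveI : IsFinite G.hom := MorphismProperty.pullback_snd (P := @IsFinite) _ _ inferInstance
  haveI : Flat G.hom := MorphismProperty.pullback_snd (P := @Flat) _ _ inferInstance
  obtain ⟨j, hj⟩ := exists_finrank_eq_natCard_sections_mul (CommRingCat.of k) (Field.toIsField k)
    (fun (p : Polynomial k) _ hirr => IsAlgClosed.exists_root (k := k) p hirr.degree_pos.ne') G (IsLocalRing.closedPoint k)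
  refine ⟨j, ?_⟩
  rw [Nat.card_congr (kerPtsEquiv f _)]
  exact (Scheme.Hom.finrank_pullback_snd f.left (1 : 𝟙_ (Over (Spec (CommRingCat.of k))) ⟶ B).left
    (IsLocalRing.closedPoint k)).symm.trans hj

end Groth.Agent.AbCubeLib
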