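import Groth.Agent.AbCubeLib.PointEval
import Groth.Agent.AbCubeLib.KernelOrder
import Groth.Agent.AlgGrpLib.TorsorQuot
import Groth.Agent.AbSchLib.SmoothReduced
import Groth.Agent.AbSchLib.GlobalSections
import Groth.Agent.AbSchLib.RigidityOver
import Groth.Agent.PicLib.PullbackGen
import Groth.Agent.AmpleLib.Power
import Mathlib.LinearAlgebra.LinearIndependent.Defs
import Mathlib.GroupTheory.MonoidLocalization.Basic
import Mathlib.FieldTheory.LinearDisjoint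

/-!
# Invertible classes killed by an étale isogeny

They are determined by a character of the group of rational points of the kernel; in particular there are at most as
many as there are kernel points.
-/

set_option autoImplicit false
set_option backward.isDefEq.respectTransparency.types false

universe u

open CategoryTheory CategoryTheory.Limits MonoidalCategory CartesianMonoidalCategory AlgebraicGeometry MonObj
  TopologicalSpace
open Groth.Agent.PicLib Groth.Agent.Coherent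

namespace Groth.Agent.AbCubeLib

variable {k : Type u} [Field k] [IsAlgClosed k] {X Y : Over (Spec (CommRingCat.of k))}

local notation "𝕆" => 𝟙_ (Over (Spec (CommRingCat.of k)))

theorem isField_pt : IsField Γ(Spec (CommRingCat.of k), ⊤) :=
  (Scheme.ΓSpecIso (CommRingCat.of k)).commRingCatIsoToRingEquiv.toMulEquiv.isField (Field.toIsField k)

variable (f : X ⟶ Y)

/-- The coordinate of the pullback of a local generator. -/
noncomputable def pullCoef {L : Y.left.Modules} {σ : Γ((Scheme.Modules.pullback f.left).obj L, ⊤)}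
    (hσ : IsGen _ ⊤ σ) (U : Y.left.Opens) (s : Γ(L, U)) : Γ(X.left, f.left ⁻¹ᵁ U) :=
  hσ.coef le_top (pullSec f.left s)

omit [IsAlgClosed k] in
theorem pullCoef_rel {L : Y.left.Modules} {σ : Γ((Scheme.Modules.pullback f.left).obj L, ⊤)} (hσ : IsGen _ ⊤ σ)
    {U U' W : Y.left.Opens} {s : Γ(L, U)} {s' : Γ(L, U')} (h : W ≤ U) (h' : W ≤ U') (c : Γ(Y.left, W))
    (hc : resM L h s = c • resM L h' s') :
    PicLib.res ((Opens.map f.left.base).map (homOfLE h)).le (pullCoef f hσ U s) =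
      (f.left.app W).hom c * PicLib.res ((Opens.map f.left.base).map (homOfLE h')).le (pullCoef f hσ U' s') := by
  rw [pullCoef, pullCoef, ← hσ.coef_res le_top ((Opens.map f.left.base).map (homOfLE h)).le,
    ← hσ.coef_res le_top ((Opens.map f.left.base).map (homOfLE h')).le, resM_pullSec f.left h, resM_pullSec f.left h', hc,
    pullSec_smul, hσ.coef_smul]

omit [IsAlgClosed k] in
theorem isUnit_pullCoef {L : Y.left.Modules} (hL : PicF.IsInvertible L)
    {σ : Γ((Scheme.Modules.pullback f.left).obj L, ⊤)} (hσ : IsGen _ ⊤ σ) {U : Y.left.Opens} {s : Γ(L, U)}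
    (hs : IsGen L U s) : IsUnit (pullCoef f hσ U s) := by
  have h1 := (hσ.restrict (le_top : f.left ⁻¹ᵁ U ≤ ⊤)).isUnit_coef (isGen_pullSec f.left hs hL)
  have e : (hσ.restrict (le_top : f.left ⁻¹ᵁ U ≤ ⊤)).coef le_rfl (pullSec f.left s) = pullCoef f hσ U s := by
    refine IsGen.coef_eq _ _ ?_
    rw [resM_self]
    exact hσ.coef_spec le_top _
  exact e ▸ h1

omit [IsAlgClosed k] in
theorem evPt_app (x : 𝕆 ⟶ X) (f : X ⟶ Y) (U : Y.left.Opens) (hx : ⊤ ≤ x.left ⁻¹ᵁ (f.left ⁻¹ᵁ U))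
    (c : Γ(Y.left, U)) : evPt x _ hx ((f.left.app U).hom c) = evPt (x ≫ f) U hx c := by
  rw [Scheme.Hom.app_eq_appLE]
  exact evPt_comp x f U hx (f.left ⁻¹ᵁ U) le_rfl hx c

omit [IsAlgClosed k] in
theorem isGen_unitVal_of_isIso {Z : Scheme.{u}} {M : Z.Modules} (φ : Coh.structureModule Z ⟶ M) [IsIso φ] :
    IsGen M ⊤ (unitVal φ ⊤) := fun V hV => by
  rw [resM_unitVal]
  have h := ConcreteCategory.bijective_of_isIso (φ.app V)
  exact ⟨fun a b e => h.1 ((app_unit φ a).trans (e.trans (app_unit φ b).symm)),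
    fun x => (h.2 x).imp fun r hr => (app_unit φ r).symm.trans hr⟩

theorem top_le_mul_ker {g : 𝕆 ⟶ X} [GrpObj X] [GrpObj Y] [IsMonHom f] (hg : g ≫ f = 1) {x : 𝕆 ⟶ X}
    {U : Y.left.Opens} (hx : (⊤ : (Spec (CommRingCat.of k)).Opens) ≤ x.left ⁻¹ᵁ (f.left ⁻¹ᵁ U)) :
    (⊤ : (Spec (CommRingCat.of k)).Opens) ≤ (x * g).left ⁻¹ᵁ (f.left ⁻¹ᵁ U) := by
  refine top_le_preimage _ ?_
  show f.left (ptOf (x * g)) ∈ U
  rw [← ptOf_comp, MonObj.mul_comp, hg, _root_.mul_one, ptOf_comp]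
  exact mem_of_top_le hx

variable [GrpObj X] [GrpObj Y] [IsProper X.hom] [GeometricallyIntegral X.hom] [IsMonHom f]

/-- A trivialised pullback gives a character of the kernel. -/
theorem exists_char {L : Y.left.Modules} (hL : PicF.IsInvertible L)
    {σ : Γ((Scheme.Modules.pullback f.left).obj L, ⊤)} (hσ : IsGen _ ⊤ σ) :
    ∃ χ : (postHom f 𝕆).ker →* Γ(Spec (CommRingCat.of k), ⊤), ∀ (U : Y.left.Opens) (s : Γ(L, U)), IsGen L U s →
      ∀ (x : 𝕆 ⟶ X) (g : (postHom f 𝕆).ker) (hx : ⊤ ≤ x.left ⁻¹ᵁ (f.left ⁻¹ᵁ U)),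
        evPt (x * g.1) _ (top_le_mul_ker f g.2 hx) (pullCoef f hσ U s) =
          χ g * evPt x _ hx (pullCoef f hσ U s) := by
  classical
  haveI : IsCommMonObj X := isCommMonObj_of_isProper_of_geometricallyIntegral X
  haveI : IsIntegral X.left := GeometricallyIntegral.isIntegral_of_subsingleton X.hom
  obtain ⟨W, s, hmem, hs⟩ := exists_cover hL
  let T : (𝕆 ⟶ X) → (X ⟶ X) := fun g => 𝟙 X * (toUnit X ≫ g)
  have hxT : ∀ (x g : 𝕆 ⟶ X), x ≫ T g = x * g := fun x g => by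
    rw [MonObj.comp_mul, Category.comp_id, ← Category.assoc, toUnit_unique (x ≫ toUnit X) (𝟙 _), Category.id_comp]
  have hT : ∀ g : (postHom f 𝕆).ker, T g.1 ≫ f = f := fun g => by
    rw [MonObj.mul_comp, Category.id_comp, Category.assoc, show g.1 ≫ f = 1 from g.2, MonObj.comp_one, _root_.mul_one]
  have hpre : ∀ (g : (postHom f 𝕆).ker) (U : Y.left.Opens), f.left ⁻¹ᵁ U ≤ (T g.1).left ⁻¹ᵁ (f.left ⁻¹ᵁ U) := fun g U => by
    intro z hz
    show f.left ((T g.1).left z) ∈ U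
    rw [← Scheme.Hom.comp_apply, ← Over.comp_left, hT g]
    exact hz
  have hu : ∀ i, IsUnit (pullCoef f hσ (W i) (s i)) := fun i => isUnit_pullCoef f hL hσ (hs i)
  let v : ∀ (g : (postHom f 𝕆).ker) (i : Y.left), Γ(X.left, f.left ⁻¹ᵁ W i) := fun g i =>
    ((T g.1).left.appLE _ _ (hpre g (W i))).hom (pullCoef f hσ (W i) (s i)) * ↑((hu i).unit⁻¹)
  have hvmul : ∀ g i, v g i * pullCoef f hσ (W i) (s i) =
      ((T g.1).left.appLE _ _ (hpre g (W i))).hom (pullCoef f hσ (W i) (s i)) := fun g i => by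
    show _ * _ * _ = _
    rw [_root_.mul_assoc, IsUnit.val_inv_mul, _root_.mul_one]
  have hev : ∀ g i (x : 𝕆 ⟶ X) (hx : ⊤ ≤ x.left ⁻¹ᵁ (f.left ⁻¹ᵁ W i)),
      evPt x _ hx (v g i) * evPt x _ hx (pullCoef f hσ (W i) (s i)) =
        evPt (x * g.1) _ (top_le_mul_ker f g.2 hx) (pullCoef f hσ (W i) (s i)) := fun g i x hx => by
    have h' : ⊤ ≤ (x ≫ T g.1).left ⁻¹ᵁ (f.left ⁻¹ᵁ W i) := hxT x g.1 ▸ top_le_mul_ker f g.2 hx
    rw [← map_mul, hvmul, evPt_comp x (T g.1) _ h']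
    exact evPt_congr (hxT x g.1) h' _ _
  haveI : IsDomain Γ(Spec (CommRingCat.of k), ⊤) := (isField_pt (k := k)).isDomain
  have hne : ∀ (x : 𝕆 ⟶ X) (U : X.left.Opens) (hx : ⊤ ≤ x.left ⁻¹ᵁ U) (a : Γ(X.left, U)), IsUnit a →
      evPt x U hx a ≠ 0 := fun x U hx a ha => (ha.map (evPt x U hx)).ne_zero
  -- the ratios for two generators agree
  have hcompat : ∀ (U U' : Y.left.Opens) (a : Γ(L, U)) (a' : Γ(L, U')), IsGen L U a → IsGen L U' a' →
      ∀ (g : (postHom f 𝕆).ker) (x : 𝕆 ⟶ X) (hx : ⊤ ≤ x.left ⁻¹ᵁ (f.left ⁻¹ᵁ U)) (hx' : ⊤ ≤ x.left ⁻¹ᵁ (f.left ⁻¹ᵁ U')),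
      evPt (x * g.1) _ (top_le_mul_ker f g.2 hx) (pullCoef f hσ U a) * evPt x _ hx' (pullCoef f hσ U' a') =
        evPt (x * g.1) _ (top_le_mul_ker f g.2 hx') (pullCoef f hσ U' a') * evPt x _ hx (pullCoef f hσ U a) := by
    intro U U' a a' ha ha' g x hx hx'
    let c := ha'.coef (inf_le_right : U ⊓ U' ≤ U') (resM L inf_le_left a)
    have hrel := pullCoef_rel f hσ (inf_le_left : U ⊓ U' ≤ U) inf_le_right c (ha'.coef_spec _ _).symm
    have hxW : ⊤ ≤ x.left ⁻¹ᵁ (f.left ⁻¹ᵁ (U ⊓ U')) := fun z hz => ⟨hx hz, hx' hz⟩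
    have e1 := congrArg (evPt x _ hxW) hrel
    have e2 := congrArg (evPt (x * g.1) _ (top_le_mul_ker f g.2 hxW)) hrel
    simp only [PicLib.res, map_mul, evPt_res] at e1 e2
    have hpt : (x * g.1) ≫ f = x ≫ f := by
      rw [MonObj.mul_comp, show g.1 ≫ f = 1 from g.2, _root_.mul_one]
    have e3 : evPt (x * g.1) _ (top_le_mul_ker f g.2 hxW) ((f.left.app (U ⊓ U')).hom c) =
        evPt x _ hxW ((f.left.app (U ⊓ U')).hom c) :=
      ((evPt_app (x * g.1) f _ _ c).trans (evPt_congr hpt _ _ c)).trans (evPt_app x f _ hxW c).symm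
    rw [e1, e2, e3]
    exact (_root_.mul_assoc _ _ _).trans (_root_.mul_left_comm _ _ _)
  have hglue : ∀ g : (postHom f 𝕆).ker, ∃ c : Γ(Spec (CommRingCat.of k), ⊤), ∀ i (x : 𝕆 ⟶ X) (hx : ⊤ ≤ x.left ⁻¹ᵁ (f.left ⁻¹ᵁ W i)),
      evPt (x * g.1) _ (top_le_mul_ker f g.2 hx) (pullCoef f hσ (W i) (s i)) =
        c * evPt x _ hx (pullCoef f hσ (W i) (s i)) := by
    intro g
    have hcov : (⊤ : X.left.Opens) ≤ ⨆ i, f.left ⁻¹ᵁ W i := fun z _ => Opens.mem_iSup.2 ⟨f.left z, hmem _⟩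
    obtain ⟨u, hu'⟩ : ∃ u : Γ(X.left, ⊤), ∀ i, X.left.presheaf.map (homOfLE (le_top : f.left ⁻¹ᵁ W i ≤ ⊤)).op u = v g i :=
      (TopCat.Sheaf.existsUnique_gluing' X.left.sheaf (fun i => f.left ⁻¹ᵁ W i) ⊤ (fun i => homOfLE le_top) hcov (v g)
        (fun i j => by
          refine eq_of_evPt _ _ fun x hx => ?_
          have hi : ⊤ ≤ x.left ⁻¹ᵁ (f.left ⁻¹ᵁ W i) := fun z hz => (hx hz).1
          have hj : ⊤ ≤ x.left ⁻¹ᵁ (f.left ⁻¹ᵁ W j) := fun z hz => (hx hz).2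
          show evPt x _ hx ((X.left.presheaf.map (homOfLE inf_le_left).op).hom (v g i)) =
            evPt x _ hx ((X.left.presheaf.map (homOfLE inf_le_right).op).hom (v g j))
          rw [evPt_res, evPt_res]
          refine mul_right_cancel₀ (mul_ne_zero (hne x _ hi _ (hu i)) (hne x _ hj _ (hu j))) ?_
          rw [← _root_.mul_assoc, hev, _root_.mul_comm (evPt x _ hi (pullCoef f hσ (W i) (s i))), ← _root_.mul_assoc, hev]
          exact hcompat _ _ _ _ (hs i) (hs j) g x hi hj)).exists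
    haveI := AbSchLib.geometricallyConnected_of_irreducible X.hom
    obtain ⟨c, hc⟩ := (AbSchLib.bijective_appTop_of_field k X.hom).2 u
    refine ⟨c, fun i x hx => ?_⟩
    rw [← hev g i x hx, ← hu' i]
    show evPt x _ hx ((X.left.presheaf.map (homOfLE le_top).op).hom u) * _ = _
    rw [evPt_res, ← hc]
    congr 1
    show (X.hom.appTop ≫ x.left.appLE ⊤ ⊤ _).hom c = c
    have e : ∀ h : (⊤ : (Spec (CommRingCat.of k)).Opens) ≤ x.left ⁻¹ᵁ ⊤, x.left.appLE ⊤ ⊤ h = x.left.appTop :=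
      fun h => by simp [Scheme.Hom.appLE, Scheme.Hom.appTop]
    have hw : x.left ≫ X.hom = 𝟙 (Spec (CommRingCat.of k)) := Over.w x
    erw [e, ← Scheme.Hom.comp_appTop, hw]
    rfl
  choose c hc using hglue
  -- a base point
  let i₀ : Y.left := ptOf ((1 : 𝕆 ⟶ X) ≫ f)
  have h1 : ⊤ ≤ (1 : 𝕆 ⟶ X).left ⁻¹ᵁ (f.left ⁻¹ᵁ W i₀) := top_le_preimage _ (hmem i₀)
  have hne1 := hne _ _ h1 _ (hu i₀)
  refine ⟨MonoidHom.mk ⟨c, ?_⟩ ?_, fun U a ha x g hx => ?_⟩
  · refine mul_right_cancel₀ hne1 ?_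
    refine (hc 1 i₀ 1 h1).symm.trans (Eq.trans ?_ (_root_.one_mul _).symm)
    exact evPt_congr (_root_.one_mul _) _ _ _
  · intro g g'
    show c (g * g') = c g * c g'
    refine mul_right_cancel₀ hne1 ?_
    have e1 := hc g i₀ 1 h1
    have e2 := hc g' i₀ (1 * g.1) (top_le_mul_ker f g.2 h1)
    rw [← hc (g * g') i₀ 1 h1, _root_.mul_comm (c g), _root_.mul_assoc, ← e1, ← e2]
    exact evPt_congr (by rw [_root_.mul_assoc]; rfl) _ _ _
  · show _ = c g * _
    let i : Y.left := ptOf (x ≫ f)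
    have hxi : ⊤ ≤ x.left ⁻¹ᵁ (f.left ⁻¹ᵁ W i) := top_le_preimage _ (hmem i)
    refine mul_right_cancel₀ (hne x _ hxi _ (hu i)) ?_
    rw [hcompat U (W i) a (s i) ha (hs i) g x hx hxi, hc g i x hxi]
    exact _root_.mul_right_comm _ _ _

/-- Two trivialised pullbacks with the same character come from isomorphic modules. -/
theorem nonempty_iso_of_char [Flat f.left] [Surjective f.left] [QuasiCompact f.left] [Etale f.left] [Smooth X.hom]
    {L L' : Y.left.Modules} (hL : PicF.IsInvertible L) (hL' : PicF.IsInvertible L')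
    {σ : Γ((Scheme.Modules.pullback f.left).obj L, ⊤)} (hσ : IsGen _ ⊤ σ)
    {σ' : Γ((Scheme.Modules.pullback f.left).obj L', ⊤)} (hσ' : IsGen _ ⊤ σ')
    (χ : (postHom f 𝕆).ker →* Γ(Spec (CommRingCat.of k), ⊤))
    (hχ : ∀ (U : Y.left.Opens) (s : Γ(L, U)), IsGen L U s →
      ∀ (x : 𝕆 ⟶ X) (g : (postHom f 𝕆).ker) (hx : ⊤ ≤ x.left ⁻¹ᵁ (f.left ⁻¹ᵁ U)),
        evPt (x * g.1) _ (top_le_mul_ker f g.2 hx) (pullCoef f hσ U s) = χ g * evPt x _ hx (pullCoef f hσ U s))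
    (hχ' : ∀ (U : Y.left.Opens) (s : Γ(L', U)), IsGen L' U s →
      ∀ (x : 𝕆 ⟶ X) (g : (postHom f 𝕆).ker) (hx : ⊤ ≤ x.left ⁻¹ᵁ (f.left ⁻¹ᵁ U)),
        evPt (x * g.1) _ (top_le_mul_ker f g.2 hx) (pullCoef f hσ' U s) = χ g * evPt x _ hx (pullCoef f hσ' U s)) :
    Nonempty (L ≅ L') := by
  classical
  haveI : IsCommMonObj X := isCommMonObj_of_isProper_of_geometricallyIntegral X
  obtain ⟨W₁, s₁, hm₁, hs₁⟩ := exists_cover hL
  obtain ⟨W₂, s₂, hm₂, hs₂⟩ := exists_cover hL'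
  let W : Y.left → Y.left.Opens := fun y => W₁ y ⊓ W₂ y
  have hW : iSup W = ⊤ := top_le_iff.1 fun y _ => Opens.mem_iSup.2 ⟨y, hm₁ y, hm₂ y⟩
  let a : ∀ y, Γ(L, W y) := fun y => resM L inf_le_left (s₁ y)
  let b : ∀ y, Γ(L', W y) := fun y => resM L' inf_le_right (s₂ y)
  have ha : ∀ y, IsGen L (W y) (a y) := fun y => (hs₁ y).restrict _
  have hb : ∀ y, IsGen L' (W y) (b y) := fun y => (hs₂ y).restrict _
  let R : Over (Spec (CommRingCat.of k)) := Over.mk (pullback.fst f.left f.left ≫ X.hom)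
  haveI : Smooth R.hom := inferInstanceAs (Smooth (pullback.fst f.left f.left ≫ X.hom))
  haveI : IsReduced R.left := AbSchLib.isReduced_of_smooth R.hom
  haveI : LocallyOfFiniteType R.hom := inferInstance
  let p : R ⟶ X := Over.homMk (pullback.fst f.left f.left) rfl
  let q : R ⟶ X := Over.homMk (pullback.snd f.left f.left) (by
    show pullback.snd f.left f.left ≫ X.hom = pullback.fst f.left f.left ≫ X.hom
    rw [← Over.w f, ← Category.assoc, ← Category.assoc, pullback.condition])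
  have hpq : p ≫ f = q ≫ f := Over.OverMorphism.ext pullback.condition
  have hdesc : ∀ (U : Y.left.Opens) (r : Γ(X.left, f.left ⁻¹ᵁ U)),
      (∀ (x : 𝕆 ⟶ X) (g : (postHom f 𝕆).ker) (hx : ⊤ ≤ x.left ⁻¹ᵁ (f.left ⁻¹ᵁ U)),
        evPt (x * g.1) _ (top_le_mul_ker f g.2 hx) r = evPt x _ hx r) →
      ∃ r' : Γ(Y.left, U), (f.left.app U).hom r' = r := by
    intro U r hr
    have h := (AlgGrpLib.TorsorQuot.app_injective_range f.left (pullback.fst f.left f.left)
      (pullback.snd f.left f.left) (IsPullback.of_hasPullback _ _) U).2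
    show r ∈ Set.range (f.left.app U)
    rw [h]
    refine eq_of_evPt (X := R) _ _ fun z hz => ?_
    have hp : ⊤ ≤ (z ≫ p).left ⁻¹ᵁ (f.left ⁻¹ᵁ U) := fun w hw => (hz hw).1
    have hq : ⊤ ≤ (z ≫ q).left ⁻¹ᵁ (f.left ⁻¹ᵁ U) := fun w hw => (hz hw).2
    have hg : ((z ≫ p)⁻¹ * (z ≫ q)) ≫ f = 1 := by
      rw [MonObj.mul_comp, GrpObj.inv_comp, Category.assoc, Category.assoc, hpq, inv_mul_cancel]
    refine (evPt_comp z p _ hp _ _ hz r).trans (Eq.trans ?_ (evPt_comp z q _ hq _ _ hz r).symm)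
    exact (hr (z ≫ p) ⟨_, hg⟩ hp).symm.trans (evPt_congr (mul_inv_cancel_left _ _) _ _ _)
  have hinj : ∀ U : Y.left.Opens, Function.Injective (f.left.app U).hom := fun U =>
    (AlgGrpLib.TorsorQuot.app_injective_range f.left (pullback.fst f.left f.left)
      (pullback.snd f.left f.left) (IsPullback.of_hasPullback _ _) U).1
  have hr : ∀ y, ∃ r : Γ(Y.left, W y), IsUnit r ∧
      (f.left.app (W y)).hom r * pullCoef f hσ' (W y) (b y) = pullCoef f hσ (W y) (a y) := by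
    intro y
    obtain ⟨uA, huA⟩ := isUnit_pullCoef f hL hσ (ha y)
    obtain ⟨uB, huB⟩ := isUnit_pullCoef f hL' hσ' (hb y)
    have hinv : ∀ (u w : (Γ(X.left, f.left ⁻¹ᵁ W y))ˣ),
        (∀ (x : 𝕆 ⟶ X) (g : (postHom f 𝕆).ker) (hx : ⊤ ≤ x.left ⁻¹ᵁ (f.left ⁻¹ᵁ W y)),
          evPt (x * g.1) _ (top_le_mul_ker f g.2 hx) (u : Γ(X.left, f.left ⁻¹ᵁ W y)) = χ g * evPt x _ hx (u : Γ(X.left, f.left ⁻¹ᵁ W y))) →
        (∀ (x : 𝕆 ⟶ X) (g : (postHom f 𝕆).ker) (hx : ⊤ ≤ x.left ⁻¹ᵁ (f.left ⁻¹ᵁ W y)),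
          evPt (x * g.1) _ (top_le_mul_ker f g.2 hx) (w : Γ(X.left, f.left ⁻¹ᵁ W y)) = χ g * evPt x _ hx (w : Γ(X.left, f.left ⁻¹ᵁ W y))) →
        ∀ (x : 𝕆 ⟶ X) (g : (postHom f 𝕆).ker) (hx : ⊤ ≤ x.left ⁻¹ᵁ (f.left ⁻¹ᵁ W y)),
          evPt (x * g.1) _ (top_le_mul_ker f g.2 hx) ((u * w⁻¹ : (Γ(X.left, f.left ⁻¹ᵁ W y))ˣ) : Γ(X.left, f.left ⁻¹ᵁ W y)) =
            evPt x _ hx ((u * w⁻¹ : (Γ(X.left, f.left ⁻¹ᵁ W y))ˣ) : Γ(X.left, f.left ⁻¹ᵁ W y)) := by
      intro u w hu hw x g hx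
      refine ((w.isUnit.map (evPt (x * g.1) _ (top_le_mul_ker f g.2 hx))).mul_left_inj).1 ?_
      rw [← map_mul, Units.val_mul, _root_.mul_assoc, Units.inv_mul, _root_.mul_one, hu, hw,
        ← _root_.mul_assoc, _root_.mul_comm _ (χ g), _root_.mul_assoc, ← map_mul, _root_.mul_assoc, Units.inv_mul,
        _root_.mul_one]
      exact hx
    have hA := fun x g hx => hχ (W y) (a y) (ha y) x g hx
    have hB := fun x g hx => hχ' (W y) (b y) (hb y) x g hx
    rw [← huA] at hA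
    rw [← huB] at hB
    obtain ⟨r, hr⟩ := hdesc (W y) _ (hinv uA uB hA hB)
    obtain ⟨r', hr'⟩ := hdesc (W y) _ (hinv uB uA hB hA)
    refine ⟨r, IsUnit.of_mul_eq_one r' (hinj _ ?_), ?_⟩
    · rw [map_mul, hr, hr', map_one, ← Units.val_mul, ← Units.val_one]
      congr 1
      group
    · rw [hr, Units.val_mul, ← huA, ← huB, _root_.mul_assoc, Units.inv_mul, _root_.mul_one]
  choose r hru hrr using hr
  obtain ⟨e, -⟩ := AmpleLib.exists_iso_of_gens W hW a ha (fun y => r y • b y)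
    (fun y => by obtain ⟨u, hu⟩ := hru y; rw [← hu]; exact (hb y).smul_unit u) fun i j V hi hj c hc => by
      let c' := (hb j).coef hj (resM L' hi (b i))
      have hc' : resM L' hi (b i) = c' • resM L' hj (b j) := ((hb j).coef_spec hj _).symm
      have key : PicLib.res hi (r i) * c' = c * PicLib.res hj (r j) := by
        apply hinj V
        refine (((isUnit_pullCoef f hL' hσ' (hb j)).map
          (PicLib.res ((Opens.map f.left.base).map (homOfLE hj)).le)).mul_left_inj).1 ?_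
        have e1 := pullCoef_rel f hσ hi hj c hc
        have e2 := pullCoef_rel f hσ' hi hj c' hc'
        have n1 : ∀ {U : Y.left.Opens} (h : V ≤ U) (t : Γ(Y.left, U)), (f.left.app V).hom (PicLib.res h t) =
            PicLib.res ((Opens.map f.left.base).map (homOfLE h)).le ((f.left.app U).hom t) := fun h t => by
          exact ConcreteCategory.congr_hom (f.left.naturality (homOfLE h).op) t
        rw [map_mul, map_mul, _root_.mul_assoc, ← e2, n1, ← map_mul, hrr i, e1, n1, _root_.mul_assoc, ← map_mul, hrr j]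
      show resM L' hi (r i • b i) = c • resM L' hj (r j • b j)
      rw [resM_smul, resM_smul, hc', ← mul_smul, ← mul_smul]
      exact congrArg (· • _) key
  exact ⟨e⟩

/-- At most as many classes are killed as there are kernel points. -/
theorem card_le_of_pull_eq_one [Flat f.left] [Surjective f.left] [QuasiCompact f.left] [Etale f.left] [Smooth X.hom]
    [Finite (postHom f 𝕆).ker] (S : Finset (PicM Y.left)) (hS : ∀ a ∈ S, PicM.pull f.left a = 1) :
    S.card ≤ Nat.card (postHom f 𝕆).ker := by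
  classical
  haveI : IsDomain Γ(Spec (CommRingCat.of k), ⊤) := (isField_pt (k := k)).isDomain
  letI := (isField_pt (k := k)).toField
  haveI := Fintype.ofFinite (postHom f 𝕆).ker
  have key : ∀ a : S, ∃ (L : Y.left.Modules) (hL : PicF.IsInvertible L)
      (σ : Γ((Scheme.Modules.pullback f.left).obj L, ⊤)) (hσ : IsGen _ ⊤ σ) (χ : (postHom f 𝕆).ker →* Γ(Spec (CommRingCat.of k), ⊤)),
      (a : PicM Y.left) = PicM.of hL ∧ ∀ (U : Y.left.Opens) (s : Γ(L, U)), IsGen L U s →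
        ∀ (x : 𝕆 ⟶ X) (g : (postHom f 𝕆).ker) (hx : ⊤ ≤ x.left ⁻¹ᵁ (f.left ⁻¹ᵁ U)),
          evPt (x * g.1) _ (top_le_mul_ker f g.2 hx) (pullCoef f hσ U s) = χ g * evPt x _ hx (pullCoef f hσ U s) := by
    rintro ⟨a, ha⟩
    obtain ⟨L, hL, rfl⟩ := PicM.exists_eq_of a
    have h := hS _ ha
    rw [PicM.pull_of, PicM.of_eq_one_iff] at h
    obtain ⟨e⟩ := h
    obtain ⟨σ, hσ⟩ : ∃ σ : Γ((Scheme.Modules.pullback f.left).obj L, ⊤), IsGen _ ⊤ σ := by
      exact ⟨unitVal e.inv ⊤, isGen_unitVal_of_isIso e.inv⟩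
    obtain ⟨χ, hχ⟩ := exists_char f hL hσ
    exact ⟨L, hL, σ, hσ, χ, rfl, hχ⟩
  choose L hL σ hσ χ heq hχ using key
  have hinj : Function.Injective χ := fun a b h => by
    refine Subtype.ext ?_
    rw [heq a, heq b]
    exact (PicM.of_eq_iff _ _).2 (nonempty_iso_of_char f (hL a) (hL b) (hσ a) (hσ b) (χ a) (hχ a) (h ▸ hχ b))
  have hli := (linearIndependent_monoidHom (postHom f 𝕆).ker Γ(Spec (CommRingCat.of k), ⊤)).comp χ hinj
  have h := hli.fintype_card_le_finrank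
  rw [Module.finrank_pi, Fintype.card_coe] at h
  rwa [Nat.card_eq_fintype_card]

end Groth.Agent.AbCubeLib
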