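import Groth.Agent.AbCubeLib.AmpleOfFiniteKL
import Groth.Agent.CubeLib.SeeSawProper

/-!
# Contracted subvarieties stabilise the components of a divisor
-/

set_option autoImplicit false
set_option backward.isDefEq.respectTransparency.types false
set_option maxHeartbeats 1000000

universe u

open CategoryTheory CategoryTheory.Limits MonoidalCategory CartesianMonoidalCategory AlgebraicGeometry MonObj
  TopologicalSpace
open Groth.Agent.PicLib Groth.Agent.CubeLib Groth.Agent.AmpleLib Groth.Agent.Coherent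

namespace Groth.Agent.AbCubeLib

/-- A nonzero section of a trivial module on an integral proper scheme vanishes nowhere. -/
theorem glocus_eq_top_of_eq_one {K : Type u} [Field K] {X : Scheme.{u}} [IsIntegral X]
    (π : X ⟶ Spec (CommRingCat.of K)) [UniversallyClosed π] {L : X.Modules} {hL : PicF.IsInvertible L}
    (h : PicM.of hL = 1) {s : Γ(L, ⊤)} (hs : s ≠ 0) : glocus L s = ⊤ := by
  obtain ⟨t, ht⟩ := exists_isGen_top h
  obtain ⟨c, hc⟩ := (ht ⊤ le_rfl).2 s
  have hc' : c • t = s := by simpa [resM_self] using hc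
  have hc0 : c ≠ 0 := fun h0 => hs (by rw [← hc', h0]; exact zero_smul _ _)
  obtain ⟨g, hg⟩ := (isField_of_universallyClosed K π).mul_inv_cancel hc0
  rw [← hc', glocus_smul (IsUnit.of_mul_eq_one _ hg)]
  refine top_le_iff.1 ((le_glocus_iff t ⊤).2 ?_)
  rwa [resM_self]

variable {k : Type u} [Field k] [IsAlgClosed k] {A : Over (Spec (CommRingCat.of k))}
  [GrpObj A] [IsProper A.hom] [GeometricallyIntegral A.hom]

/-- Differences of points of a contracted subvariety move zeros of the section to zeros. -/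
theorem translate_not_mem {L : A.left.Modules} (hL : PicF.IsInvertible L) (s : Γ(L, ⊤))
    (hne : (glocus L s : Set A.left).Nonempty) {T : Over (Spec (CommRingCat.of k))} [IsProper T.hom]
    [IsIntegral T.left] (i : T ⟶ A) (h : pb i (PicM.of hL) * pb i (PicM.of hL) = 1)
    (f g : 𝟙_ (Over (Spec (CommRingCat.of k))) ⟶ T) (d : 𝟙_ (Over (Spec (CommRingCat.of k))) ⟶ A)
    (hd : d.left (IsLocalRing.closedPoint k) ∉ glocus L s) :
    (d * (f ≫ i) * (g ≫ i)⁻¹).left (IsLocalRing.closedPoint k) ∉ glocus L s := by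
  haveI : IsCommMonObj A := isCommMonObj_of_isProper_of_geometricallyIntegral A
  let x := d * (g ≫ i)⁻¹
  let j : T ⟶ A := i * (toUnit T ≫ x)
  have hev : ∀ e : 𝟙_ (Over (Spec (CommRingCat.of k))) ⟶ T,
      e.left (IsLocalRing.closedPoint k) ∈ glocus ((Scheme.Modules.pullback j.left).obj L) (pullSec j.left s) ↔
        (e ≫ i * x).left (IsLocalRing.closedPoint k) ∈ glocus L s := fun e => by
    rw [glocus_pullSec _ hL]
    show j.left (e.left _) ∈ glocus L s ↔ _
    rw [← Scheme.Hom.comp_apply, ← Over.comp_left, comp_mul, ← Category.assoc, comp_toUnit,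
      toUnit_unique (toUnit (𝟙_ _)) (𝟙 _), Category.id_comp]
  have hg : g ≫ i * x = d := by
    show g ≫ i * (d * (g ≫ i)⁻¹) = d
    rw [_root_.mul_comm d, ← _root_.mul_assoc, mul_inv_cancel, _root_.one_mul]
  intro hf
  have hf' : f.left (IsLocalRing.closedPoint k) ∈
      glocus ((Scheme.Modules.pullback j.left).obj L) (pullSec j.left s) := by
    rw [hev]
    rwa [show f ≫ i * x = d * (f ≫ i) * (g ≫ i)⁻¹ by
      show f ≫ i * (d * (g ≫ i)⁻¹) = _
      rw [← _root_.mul_assoc, _root_.mul_comm (f ≫ i)]]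
  have hnz : pullSec j.left s ≠ 0 := by
    intro h0
    have hW := isGen_glocus (pullSec j.left s)
    rw [h0] at hf' hW
    have : Nonempty ↥(glocus ((Scheme.Modules.pullback j.left).obj L)
        (0 : Γ((Scheme.Modules.pullback j.left).obj L, ⊤))) := ⟨⟨_, hf'⟩⟩
    exact one_ne_zero (α := Γ(T.left, glocus ((Scheme.Modules.pullback j.left).obj L) 0))
      ((hW _ le_rfl).1 (by erw [map_zero, map_zero]; exact (smul_zero _).trans (smul_zero _).symm))
  have hj := pb_translate_eq_one_of_sq hL s hne i h x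
  rw [pb, PicM.pull_of] at hj
  have htop := glocus_eq_top_of_eq_one T.hom hj hnz
  refine hd ?_
  rw [← hg, ← hev g, htop]
  trivial

/-- Differences of points of a contracted subvariety stabilise each component of the zero set. -/
theorem image_translate_component_subset {L : A.left.Modules} (hL : PicF.IsInvertible L) (s : Γ(L, ⊤))
    (hne : (glocus L s : Set A.left).Nonempty) {T : Over (Spec (CommRingCat.of k))} [IsProper T.hom]
    [IsIntegral T.left] (i : T ⟶ A) (h : pb i (PicM.of hL) * pb i (PicM.of hL) = 1)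
    (f g : 𝟙_ (Over (Spec (CommRingCat.of k))) ⟶ T) {Z : Set A.left} (hZ : IsClosed Z) (hZi : IsIrreducible Z)
    (hZsub : Z ⊆ (glocus L s : Set A.left)ᶜ)
    (hZmax : ∀ C : Set A.left, IsIrreducible C → C ⊆ (glocus L s : Set A.left)ᶜ → Z ⊆ C → C ⊆ Z) :
    (𝟙 A * (toUnit A ≫ (f ≫ i * (g ≫ i)⁻¹))).left '' Z ⊆ Z := by
  haveI : IsCommMonObj A := isCommMonObj_of_isProper_of_geometricallyIntegral A
  let Z' : Closeds A.left := ⟨Z, hZ⟩
  let I := Scheme.IdealSheafData.vanishingIdeal Z'
  have : IsReduced I.subscheme := Props12.isReduced_subscheme_vanishingIdeal Z'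
  have hrg : Set.range I.subschemeι = Z := by rw [Scheme.IdealSheafData.range_subschemeι]; rfl
  have : IrreducibleSpace I.subscheme := by
    have he := I.subschemeι.isEmbedding
    have hne' : Nonempty I.subscheme := by
      obtain ⟨c, hc⟩ := hZi.1
      obtain ⟨w, -⟩ : c ∈ Set.range I.subschemeι := hrg ▸ hc
      exact ⟨w⟩
    have hpre : PreirreducibleSpace I.subscheme := ⟨fun u v hu hv hu' hv' => by
      obtain ⟨U', hU', rfl⟩ := he.isInducing.isOpen_iff.1 hu
      obtain ⟨V', hV', rfl⟩ := he.isInducing.isOpen_iff.1 hv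
      obtain ⟨p, -, hp⟩ := hu'
      obtain ⟨q, -, hq⟩ := hv'
      obtain ⟨w, hwC, hwU, hwV⟩ := hZi.2 U' V' hU' hV' ⟨_, hrg ▸ ⟨p, rfl⟩, hp⟩ ⟨_, hrg ▸ ⟨q, rfl⟩, hq⟩
      obtain ⟨w', rfl⟩ : w ∈ Set.range I.subschemeι := hrg ▸ hwC
      exact ⟨w', trivial, hwU, hwV⟩⟩
    exact { toPreirreducibleSpace := hpre, toNonempty := hne' }
  have : IsIntegral I.subscheme := isIntegral_of_irreducibleSpace_of_isReduced _
  let S : Over (Spec (CommRingCat.of k)) := Over.mk (I.subschemeι ≫ A.hom)
  have : IsProper S.hom := inferInstanceAs (IsProper (I.subschemeι ≫ A.hom))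
  have : IsIntegral S.left := inferInstanceAs (IsIntegral I.subscheme)
  let j : S ⟶ A := Over.homMk I.subschemeι rfl
  have hjrg : Set.range j.left = Z := hrg
  have : GeometricallyIntegral S.hom := AbVarLib.geometricallyIntegral_of_isAlgClosed S.hom
  have : GeometricallyIntegral T.hom := AbVarLib.geometricallyIntegral_of_isAlgClosed T.hom
  have : IsProper (S ⊗ T).hom := inferInstanceAs (IsProper (pullback.fst S.hom T.hom ≫ S.hom))
  have : Flat S.hom := flat_of_field _
  have : Flat T.hom := flat_of_field _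
  have : LocallyOfFinitePresentation T.hom := CohBC.locallyOfFinitePresentation_of_isLocallyNoetherian T.hom
  have : UniversallyOpen T.hom := inferInstance
  have : IrreducibleSpace (S ⊗ T).left := inferInstanceAs (IrreducibleSpace ↥(pullback S.hom T.hom))
  have : JacobsonSpace (S ⊗ T).left := LocallyOfFiniteType.jacobsonSpace (S ⊗ T).hom
  have : JacobsonSpace S.left := LocallyOfFiniteType.jacobsonSpace S.hom
  let φ : S ⊗ T ⟶ A := fst S T ≫ j * (snd S T ≫ i * (toUnit (S ⊗ T) ≫ (g ≫ i)⁻¹))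
  have hφ : ∀ q : 𝟙_ (Over (Spec (CommRingCat.of k))) ⟶ S ⊗ T,
      q ≫ φ = (q ≫ fst S T) ≫ j * ((q ≫ snd S T) ≫ i) * (g ≫ i)⁻¹ := fun q => by
    simp only [φ, comp_mul, Category.assoc, ← Category.assoc q (toUnit _), comp_toUnit,
      toUnit_unique (toUnit (𝟙_ _)) (𝟙 _), Category.id_comp, _root_.mul_assoc]
  have hrange : Set.range φ.left ⊆ (glocus L s : Set A.left)ᶜ := by
    rintro _ ⟨w, rfl⟩
    by_contra hw
    rw [Set.mem_compl_iff, not_not] at hw
    obtain ⟨v, hv, hvc⟩ := nonempty_inter_closedPoints (Z := φ.left ⁻¹' (glocus L s : Set A.left)) ⟨w, hw⟩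
      ((glocus L s).isOpen.preimage φ.left.continuous).isLocallyClosed
    let q : 𝟙_ (Over (Spec (CommRingCat.of k))) ⟶ S ⊗ T :=
      Over.homMk (pointOfClosedPoint (S ⊗ T).hom v hvc) (pointOfClosedPoint_comp (S ⊗ T).hom v hvc)
    have hd : ((q ≫ fst S T) ≫ j).left (IsLocalRing.closedPoint k) ∉ glocus L s := by
      refine hZsub ?_
      rw [← hjrg]
      exact ⟨_, (Scheme.Hom.comp_apply _ _ _).symm⟩
    refine translate_not_mem hL s hne i h (q ≫ snd S T) g _ hd ?_
    rw [← hφ, Over.comp_left, Scheme.Hom.comp_apply,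
      show q.left (IsLocalRing.closedPoint k) = v from pointOfClosedPoint_apply _ _ _ _]
    exact hv
  have hC : closure (Set.range φ.left) ⊆ Z := by
    refine hZmax _ ?_ ((glocus L s).isOpen.isClosed_compl.closure_subset_iff.2 hrange) ?_
    · have := IrreducibleSpace.isIrreducible_univ (S ⊗ T).left
      exact (Set.image_univ ▸ this.image φ.left φ.left.continuous.continuousOn).closure
    · rw [← hjrg]
      rintro _ ⟨w, rfl⟩
      refine mem_closure_iff.2 fun O hO hwO => ?_
      obtain ⟨v, hv, hvc⟩ := nonempty_inter_closedPoints (Z := j.left ⁻¹' O) ⟨w, hwO⟩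
        (hO.preimage j.left.continuous).isLocallyClosed
      let p : 𝟙_ (Over (Spec (CommRingCat.of k))) ⟶ S :=
        Over.homMk (pointOfClosedPoint S.hom v hvc) (pointOfClosedPoint_comp S.hom v hvc)
      have e : (lift p g ≫ φ) = p ≫ j := by
        rw [hφ, lift_fst, lift_snd, _root_.mul_assoc, mul_inv_cancel, _root_.mul_one]
      refine ⟨(p ≫ j).left (IsLocalRing.closedPoint k), ?_, ?_⟩
      · rw [Over.comp_left, Scheme.Hom.comp_apply,
          show p.left (IsLocalRing.closedPoint k) = v from pointOfClosedPoint_apply _ _ _ _]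
        exact hv
      · rw [← e, Over.comp_left, Scheme.Hom.comp_apply]
        exact ⟨_, rfl⟩
  rintro _ ⟨z, hz, rfl⟩
  obtain ⟨w, rfl⟩ : z ∈ Set.range j.left := hjrg ▸ hz
  by_contra hw
  obtain ⟨v, hv, hvc⟩ := nonempty_inter_closedPoints
    (Z := (fun w => (𝟙 A * (toUnit A ≫ (f ≫ i * (g ≫ i)⁻¹))).left (j.left w)) ⁻¹' Zᶜ) ⟨w, hw⟩
    (hZ.isOpen_compl.preimage ((𝟙 A * (toUnit A ≫ (f ≫ i * (g ≫ i)⁻¹))).left.continuous.comp j.left.continuous)).isLocallyClosed
  let p : 𝟙_ (Over (Spec (CommRingCat.of k))) ⟶ S :=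
    Over.homMk (pointOfClosedPoint S.hom v hvc) (pointOfClosedPoint_comp S.hom v hvc)
  refine hv (hC (subset_closure ?_))
  show (𝟙 A * (toUnit A ≫ (f ≫ i * (g ≫ i)⁻¹))).left (j.left v) ∈ Set.range φ.left
  rw [show v = p.left (IsLocalRing.closedPoint k) from (pointOfClosedPoint_apply _ _ _ _).symm,
    ← Scheme.Hom.comp_apply, ← Scheme.Hom.comp_apply, ← Over.comp_left, ← Over.comp_left]
  have e : (p ≫ j) ≫ (𝟙 A * (toUnit A ≫ (f ≫ i * (g ≫ i)⁻¹))) = lift p f ≫ φ := by
    rw [hφ, lift_fst, lift_snd, point_translate, _root_.mul_assoc]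
  simp only [Category.assoc] at e ⊢
  rw [e, Over.comp_left, Scheme.Hom.comp_apply]
  exact ⟨_, rfl⟩

end Groth.Agent.AbCubeLib
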