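import Groth.Agent.AbCubeLib.RosatiPositive
import Mathlib.Algebra.Polynomial.AlgebraMap

/-!
# Endomorphisms which are symmetric for a class

The pairing attached to a class is considered on morphisms from an arbitrary source; symmetry of an endomorphism is
moving it across the pairing of the two projections, and is stable under polynomial expressions.
-/

set_option autoImplicit false
set_option linter.style.haveILetI false
set_option backward.isDefEq.respectTransparency.types false

universe u

open CategoryTheory CategoryTheory.Limits MonoidalCategory CartesianMonoidalCategory AlgebraicGeometry MonObj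
  TopologicalSpace
open Groth.Agent.PicLib Groth.Agent.CubeLib Groth.Agent.AmpleLib Groth.Agent.Coherent

namespace Groth.Agent.AbCubeLib

variable {k : Type u} [Field k] {A : Over (Spec (CommRingCat.of k))} [GrpObj A] [IsCommMonObj A] [IsProper A.hom]
  [GeometricallyIntegral A.hom] {T T' : Over (Spec (CommRingCat.of k))}

/-- The inverse image of a class along a morphism into `A`, additively. -/
noncomputable def pbV (a : PicM A.left) (f : T ⟶ A) : Additive (PicM T.left)ˣ :=
  Additive.ofMul (PicM.isUnit (pb f a)).unit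

theorem pbV_val (a : PicM A.left) (f : T ⟶ A) :
    ((Additive.toMul (pbV a f) : (PicM T.left)ˣ) : PicM T.left) = pb f a :=
  IsUnit.unit_spec _

/-- The pairing of two morphisms into `A` attached to a class. -/
noncomputable def pair2 (a : PicM A.left) (f g : T ⟶ A) : Additive (PicM T.left)ˣ :=
  pbV a (f * g) - pbV a f - pbV a g

theorem pair2_eq_pairing (a : PicM A.left) (x y : EndAV.End A) : pair2 a x.toHom y.toHom = pairing a x y := rfl

theorem pbV_cube (a : PicM A.left) (f g h : T ⟶ A) :
    pbV a (f * g * h) + pbV a f + pbV a g + pbV a h = pbV a (f * g) + pbV a (f * h) + pbV a (g * h) := by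
  apply Additive.toMul.injective
  refine Units.ext ?_
  simp only [toMul_add, Units.val_mul, pbV_val]
  exact cube_relation _ _ _ _

theorem pair2_comm (a : PicM A.left) (f g : T ⟶ A) : pair2 a f g = pair2 a g f := by
  rw [pair2, pair2, _root_.mul_comm f g]
  abel

theorem pair2_mul_left (a : PicM A.left) (f g h : T ⟶ A) : pair2 a (f * g) h = pair2 a f h + pair2 a g h := by
  rw [pair2, pair2, pair2, eq_sub_of_add_eq (eq_sub_of_add_eq (eq_sub_of_add_eq (pbV_cube a f g h)))]
  abel

theorem pair2_mul_right (a : PicM A.left) (f g h : T ⟶ A) : pair2 a f (g * h) = pair2 a f g + pair2 a f h := by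
  rw [pair2_comm, pair2_mul_left, pair2_comm a g, pair2_comm a h]

theorem pbV_one (a : PicM A.left) : pbV a (1 : T ⟶ A) = 0 := by
  apply Additive.toMul.injective
  refine Units.ext ?_
  rw [pbV_val, pb_one]
  rfl

theorem pair2_one_left (a : PicM A.left) (g : T ⟶ A) : pair2 a 1 g = 0 := by
  rw [pair2, _root_.one_mul, pbV_one]
  abel

theorem pair2_inv_left (a : PicM A.left) (f g : T ⟶ A) : pair2 a f⁻¹ g = -pair2 a f g := by
  have h := pair2_mul_left a f f⁻¹ g
  rw [mul_inv_cancel, pair2_one_left] at h
  exact eq_neg_of_add_eq_zero_right h.symm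

/-- Inverse image of classes, additively. -/
noncomputable def pullU (h : T' ⟶ T) : Additive (PicM T.left)ˣ →+ Additive (PicM T'.left)ˣ :=
  MonoidHom.toAdditive (Units.map (PicM.pull h.left))

omit [GrpObj A] [IsCommMonObj A] [IsProper A.hom] [GeometricallyIntegral A.hom] in
theorem pullU_val (h : T' ⟶ T) (x : Additive (PicM T.left)ˣ) :
    ((Additive.toMul (pullU h x) : (PicM T'.left)ˣ) : PicM T'.left) = pb h (Additive.toMul x : (PicM T.left)ˣ) := rfl

theorem pullU_pair2 (a : PicM A.left) (h : T' ⟶ T) (f g : T ⟶ A) :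
    pullU h (pair2 a f g) = pair2 a (h ≫ f) (h ≫ g) := by
  have hv : ∀ e : T ⟶ A, pullU h (pbV a e) = pbV a (h ≫ e) := fun e => by
    apply Additive.toMul.injective
    refine Units.ext ?_
    rw [pullU_val, pbV_val, pbV_val, pb_pb]
  rw [pair2, pair2, map_sub, map_sub, hv, hv, hv, comp_mul]

/-- `z` is symmetric for `a`. -/
def IsSymEnd (a : PicM A.left) (z : EndAV.End A) : Prop :=
  pair2 a (fst A A ≫ z.toHom) (snd A A) = pair2 a (fst A A) (snd A A ≫ z.toHom)

theorem IsSymEnd.apply {a : PicM A.left} {z : EndAV.End A} (hz : IsSymEnd a z) (f g : T ⟶ A) :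
    pair2 a (f ≫ z.toHom) g = pair2 a f (g ≫ z.toHom) := by
  have h := congrArg (pullU (lift f g)) hz
  rwa [pullU_pair2, pullU_pair2, lift_fst_assoc, lift_snd_assoc, lift_fst, lift_snd] at h

theorem IsSymEnd.pairing {a : PicM A.left} {z : EndAV.End A} (hz : IsSymEnd a z) (x y : EndAV.End A) :
    pairing a (z * x) y = AbCubeLib.pairing a x (z * y) := by
  rw [← pair2_eq_pairing, ← pair2_eq_pairing, EndAV.End.toHom_mul, EndAV.End.toHom_mul]
  exact hz.apply _ _

theorem isSymEnd_one (a : PicM A.left) : IsSymEnd a (1 : EndAV.End A) := by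
  rw [IsSymEnd, EndAV.End.toHom_one, Category.comp_id, Category.comp_id]

theorem IsSymEnd.add {a : PicM A.left} {z w : EndAV.End A} (hz : IsSymEnd a z) (hw : IsSymEnd a w) :
    IsSymEnd a (z + w) := by
  rw [IsSymEnd, EndAV.End.toHom_add, comp_mul, comp_mul, pair2_mul_left, pair2_mul_right, hz, hw]

theorem IsSymEnd.neg {a : PicM A.left} {z : EndAV.End A} (hz : IsSymEnd a z) : IsSymEnd a (-z) := by
  rw [IsSymEnd, EndAV.End.toHom_neg, GrpObj.comp_inv, GrpObj.comp_inv, pair2_inv_left, pair2_comm a (fst A A),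
    pair2_inv_left, hz, pair2_comm a (fst A A)]

theorem IsSymEnd.mul {a : PicM A.left} {z w : EndAV.End A} (hz : IsSymEnd a z) (hw : IsSymEnd a w)
    (h : z * w = w * z) : IsSymEnd a (z * w) := by
  rw [IsSymEnd, EndAV.End.toHom_mul, ← Category.assoc, hz.apply, hw.apply, Category.assoc]
  rw [← EndAV.End.toHom_mul, ← EndAV.End.toHom_mul, h]

theorem isSymEnd_intCast (a : PicM A.left) (j : ℤ) : IsSymEnd a (j : EndAV.End A) := by
  induction j using Int.induction_on with
  | zero =>
    rw [Int.cast_zero, IsSymEnd, EndAV.End.toHom_zero, MonObj.comp_one, MonObj.comp_one, pair2_one_left, pair2_comm,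
      pair2_one_left]
  | succ j ih =>
    rw [Int.cast_add, Int.cast_one]
    exact ih.add (isSymEnd_one a)
  | pred j ih =>
    rw [Int.cast_sub, Int.cast_one, sub_eq_add_neg]
    exact ih.add (isSymEnd_one a).neg

theorem IsSymEnd.aeval {a : PicM A.left} {z : EndAV.End A} (hz : IsSymEnd a z) (F : Polynomial ℤ) :
    IsSymEnd a (Polynomial.aeval z F) := by
  induction F using Polynomial.induction_on with
  | C j =>
    rw [Polynomial.aeval_C, eq_intCast]
    exact isSymEnd_intCast a j
  | add p q hp hq =>
    rw [map_add]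
    exact hp.add hq
  | monomial m j ih =>
    rw [show (Polynomial.C j * Polynomial.X ^ (m + 1) : Polynomial ℤ) = Polynomial.X * (Polynomial.C j * Polynomial.X ^ m) by ring,
      map_mul, Polynomial.aeval_X]
    refine hz.mul ih ?_
    have e := (Commute.all (Polynomial.X : Polynomial ℤ) (Polynomial.C j * Polynomial.X ^ m)).map (Polynomial.aeval z)
    rw [Polynomial.aeval_X] at e
    exact e.eq

/-- The translation relation in the hypotheses makes the endomorphism symmetric. -/
theorem isSymEnd_of_translate [IsAlgClosed k] {L : A.left.Modules} (hL : CohB1.IsAmple L) (α : EndAV.End A)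
    (hsym : ∀ x : (𝟙_ (Over (Spec (CommRingCat.of k))) ⟶ A), Nonempty (CohB1.tensorMod
        ((Scheme.Modules.pullback ((𝟙 A * (toUnit A ≫ x ≫ EndAV.End.toHom α))).left).obj (L))
        ((Scheme.Modules.pullback (EndAV.End.toHom α).left).obj (L)) ≅
      CohB1.tensorMod (L) ((Scheme.Modules.pullback (EndAV.End.toHom α).left).obj
        ((Scheme.Modules.pullback ((𝟙 A * (toUnit A ≫ x))).left).obj (L))))) :
    IsSymEnd (PicM.of hL.1) α := by
  let a := PicM.of hL.1
  haveI : IsIntegral A.left := GeometricallyIntegral.isIntegral_of_subsingleton A.hom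
  have hx : ∀ x : 𝟙_ (Over (Spec (CommRingCat.of k))) ⟶ A,
      pb (𝟙 A * (toUnit A ≫ x ≫ α.toHom)) a * pb α.toHom a =
        a * pb ((toUnit A ≫ x) * α.toHom) a := fun x => by
    have h : PicM.of (isInvertible_tensorMod
          (PicLoc.isInvertible_pullback ((𝟙 A * (toUnit A ≫ x ≫ α.toHom))).left hL.1)
          (PicLoc.isInvertible_pullback α.toHom.left hL.1)) =
        PicM.of (isInvertible_tensorMod hL.1 (PicLoc.isInvertible_pullback α.toHom.left
          (PicLoc.isInvertible_pullback ((𝟙 A * (toUnit A ≫ x))).left hL.1))) := (PicM.of_eq_iff _ _).2 (hsym x)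
    change pb _ a * pb α.toHom a = a * pb α.toHom (pb _ a) at h
    have e : α.toHom ≫ (𝟙 A * (toUnit A ≫ x)) = (toUnit A ≫ x) * α.toHom := by
      rw [comp_mul, Category.comp_id, comp_toUnit_assoc, _root_.mul_comm α.toHom]
    rw [pb_pb, e] at h
    exact h
  let p : A ⊗ A ⟶ A := fst A A
  let q : A ⊗ A ⟶ A := snd A A
  have huniv : pb ((p ≫ α.toHom) * q) a * (pb p a * pb (q ≫ α.toHom) a) =
      pb (p ≫ α.toHom) a * pb q a * pb (p * (q ≫ α.toHom)) a := by
    refine eq_of_point_slices ?_ fun x => ?_
    · simp only [map_mul, pb_pb, comp_mul, ← Category.assoc]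
      simp only [p, q, lift_fst, lift_snd, Category.id_comp, MonObj.one_comp, _root_.mul_one, pb_one]
    · simp only [map_mul, pb_pb, comp_mul, ← Category.assoc]
      simp only [p, q, lift_fst, lift_snd, Category.id_comp]
      have hc : ∀ y : 𝟙_ (Over (Spec (CommRingCat.of k))) ⟶ A, pb (toUnit A ≫ y) a = 1 := fun y => by
        rw [← pb_pb, show pb y a = 1 from PicM.eq_one_of_field k _, pb, map_one]
      have e : toUnit A ≫ x ≫ α.toHom = (toUnit A ≫ x) ≫ α.toHom := (Category.assoc _ _ _).symm
      rw [hc x, ← e, hc, _root_.one_mul, _root_.one_mul, pb_id, _root_.mul_comm (toUnit A ≫ x ≫ α.toHom), hx x]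
  have hE : pbV a ((p ≫ α.toHom) * q) + (pbV a p + pbV a (q ≫ α.toHom)) =
      pbV a (p ≫ α.toHom) + pbV a q + pbV a (p * (q ≫ α.toHom)) := by
    apply Additive.toMul.injective
    refine Units.ext ?_
    simp only [toMul_add, Units.val_mul, pbV_val]
    exact huniv
  show pair2 a (p ≫ α.toHom) q = pair2 a p (q ≫ α.toHom)
  rw [pair2, pair2, eq_sub_of_add_eq hE]
  abel

/-- Translating a class does not change the pairing. -/
theorem pairing_translate (c : PicM A.left) (y : 𝟙_ (Over (Spec (CommRingCat.of k))) ⟶ A) (f g : EndAV.End A) :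
    pairing (pb (𝟙 A * (toUnit A ≫ y)) c) f g = pairing c f g := by
  let e : A ⟶ A := toUnit A ≫ y
  have hv : ∀ φ : EndAV.End A, pbU (pb (𝟙 A * e) c) φ = pbV c (φ.toHom * e) := fun φ => by
    apply Additive.toMul.injective
    refine Units.ext ?_
    rw [pbU_val, pbV_val, pb_pb, comp_mul, Category.comp_id, comp_toUnit_assoc]
  have he : pbV c e = 0 := by
    apply Additive.toMul.injective
    refine Units.ext ?_
    rw [pbV_val, ← pb_pb, show pb y c = 1 from PicM.eq_one_of_field k _, pb, map_one]
    rfl
  rw [← pair2_eq_pairing c, pairing, hv, hv, hv, EndAV.End.toHom_add, pair2]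
  have hc := eq_sub_of_add_eq (eq_sub_of_add_eq (eq_sub_of_add_eq (pbV_cube c f.toHom g.toHom e)))
  rw [hc, he]
  abel

end Groth.Agent.AbCubeLib
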