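import Groth.Agent.AbCubeLib.HomQuadratic
import Groth.Agent.AbCubeLib.FiniteDegree

/-!
# Intersection degrees of pulled back classes
-/

set_option autoImplicit false
set_option linter.style.haveILetI false
set_option backward.isDefEq.respectTransparency.types false

universe u

open CategoryTheory CategoryTheory.Limits AlgebraicGeometry Opposite TopologicalSpace
open Groth.Agent.Coherent Groth.Agent.PicLib Groth.Agent.AmpleLib Groth.Agent.EulerLib
  Groth.Agent.DimLib Groth.Agent.AssSch12

namespace Groth.Agent.AbCubeLib

variable {X Y : Scheme.{u}}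

/-- Intersection degrees do not depend on the order of the classes. -/
theorem interDeg_comp_perm {r : ℕ} (c : Fin r → InvCl X) (σ : Equiv.Perm (Fin r)) (φ : InvCl X → ℤ) :
    interDeg (c ∘ σ) φ = interDeg c φ := by
  unfold interDeg altSum
  congr 1
  refine Fintype.sum_equiv σ.finsetCongr _ _ fun I => ?_
  rw [Equiv.finsetCongr_apply, Finset.card_map, Finset.prod_map]
  rfl

/-- Alternating sums along a monoid map. -/
theorem interDeg_comp {r : ℕ} (h : InvCl Y →* InvCl X) (a : Fin r → InvCl Y) (φ : InvCl X → ℤ)
    (ψ : InvCl Y → ℤ) (hψ : ∀ x, φ (h x) = ψ x) : interDeg (fun i => h (a i)) φ = interDeg a ψ := by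
  unfold interDeg altSum
  refine congrArg _ (Finset.sum_congr rfl fun I _ => ?_)
  rw [← map_prod, hψ]

variable (k : Type u) [Field k] [X.Over (Spec (CommRingCat.of k))] [IsProper (X ↘ Spec (CommRingCat.of k))]

/-- Cutting the module of a point by a section. -/
theorem exists_cut {y : X} {P : X.Modules} (hP : PicF.IsInvertible P) (b : Γ(P, ⊤)) (hyb : y ∈ glocus P b) :
    ∃ Q : X.Modules, Coh.IsCoh Q ∧ CohB1.support Q ⊆ closure {y} ∩ (glocus P b : Set X)ᶜ ∧
      (fun x => chiCl k (clM y) (InvCl.mk P hP * x) - chiCl k (clM y) x) = chiCl k Q := by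
  haveI := isNoetherian_of_proper (X := X) k
  let G := clM y
  have hG : Coh.IsCoh G := isCoh_clM y
  have hGP := isCoh_twist hP hG
  let u := mulSec G b
  haveI := hG.1
  haveI := hGP.1
  have hker : IsZero (kernel u) := isZero_of_mono_clM (kernel.ι u) (isCoh_kernel u hG hGP.1) fun h =>
    h (subsingleton_of_forall_eq 0 fun a => by
      have h1 : (DerSch.stalkFunctor X y).map u ((DerSch.stalkFunctor X y).map (kernel.ι u) a) = 0 := by
        refine (stalk_comp_apply _ _ _).trans ?_
        rw [kernel.condition]
        exact stalk_zero_apply _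
      exact (ModuleCat.mono_iff_injective ((DerSch.stalkFunctor X y).map (kernel.ι u))).1 inferInstance
        (((bijective_stalk_mulSec G b hyb).1 (h1.trans (map_zero _).symm)).trans (map_zero _).symm))
  haveI : Mono u := Preadditive.mono_of_isZero_kernel u hker
  have hQ : Coh.IsCoh (cokernel u) := isCoh_cokernel u hG.1 hGP
  refine ⟨cokernel u, hQ, fun z hz => ?_, ?_⟩
  · refine ⟨((support_twist hP G).trans (support_clM y)).le (support_subset_of_epi (cokernel.π u) hz),
      fun hzU => hz (subsingleton_of_forall_eq 0 fun a => ?_)⟩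
    obtain ⟨w, rfl⟩ := (ModuleCat.epi_iff_surjective ((DerSch.stalkFunctor X z).map (cokernel.π u))).1
      inferInstance a
    obtain ⟨v, rfl⟩ := (bijective_stalk_mulSec G b hzU).2 w
    refine (stalk_comp_apply _ _ _).trans ?_
    rw [cokernel.condition]
    exact stalk_zero_apply _
  · funext x
    rw [chiCl_mul k G hP x]
    have h2 : chiCl k (CohB1.tensorMod G P) x = chiCl k G x + chiCl k (cokernel u) x :=
      congrFun (chiCl_additive k (ShortComplex.mk u (cokernel.π u) (cokernel.condition u))
        { exact := ShortComplex.exact_cokernel u } hG hGP hQ) x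
    show chiCl k (CohB1.tensorMod G P) x - chiCl k G x = _
    omega

variable [Y.Over (Spec (CommRingCat.of k))] [IsProper (Y ↘ Spec (CommRingCat.of k))]

/-- Classes pulled back from ample ones have degree zero against modules with small image. -/
theorem interDeg_pull_eq_zero (f : X ⟶ Y) {H : Y.Modules} (hH : CohB1.IsAmple H) :
    ∀ (r : ℕ) (F : X.Modules), Coh.IsCoh F → topologicalKrullDim (CohB1.support F) ≤ r →
      (∀ z ∈ CohB1.support F, ptDim (Y ↘ Spec (CommRingCat.of k)) (f z) < r) →
      interDeg (fun _ : Fin r => invOf (PicM.pull f (PicM.of hH.1))) (chiCl k F) = 0 := by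
  haveI := isNoetherian_of_proper (X := X) k
  let q := Y ↘ Spec (CommRingCat.of k)
  intro r
  induction r with
  | zero =>
    intro F hF _ hsmall
    refine interDeg_eq_zero _ (finDeg_chiCl k hF ?_)
    rw [Set.eq_empty_iff_forall_notMem.2 fun z hz => Nat.not_lt_zero _ (hsmall z hz)]
    exact dim_empty_lt 0
  | succ r ih =>
    intro F hF hdim hsmall
    let c : Fin (r + 1) → InvCl X := fun _ => invOf (PicM.pull f (PicM.of hH.1))
    have hint : ∀ y ∈ CohB1.support F, topologicalKrullDim (closure {y} : Set X) ≤ (r + 1 : ℕ) →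
        interDeg c (chiCl k (clM y)) = 0 := by
      intro y hy hyd
      obtain ⟨-, -, hx⟩ := isAmple_iff_affGlocus.1 hH
      obtain ⟨m, hm, b, hyb, -, -⟩ := hx (f y)
      have hPm := isInvertible_tensorPow hH.1 m
      have hP := PicLoc.isInvertible_pullback f hPm
      have hloc := glocus_pullSec f hPm b
      obtain ⟨Q, hQ, hsupp, hfun⟩ := exists_cut k (y := y) hP (pullSec f b) (by rw [hloc]; exact hyb)
      have hQT : ∀ z ∈ CohB1.support Q, z ∈ closure ({y} : Set X) ∧ f z ∉ glocus _ b := fun z hz =>
        ⟨(hsupp hz).1, fun h => (hsupp hz).2 (by rw [hloc]; exact h)⟩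
      have hyQ : y ∉ CohB1.support Q := fun h => (hQT y h).2 hyb
      have hlt := dim_lt_of_notMem (isClosed_support _ (locallyFinGen_of_isFT _ hQ.2))
        (fun z hz => (hQT z hz).1) isClosed_closure rfl hyQ hyd
      have hle : topologicalKrullDim (CohB1.support Q) ≤ (r : ℕ) := by
        generalize topologicalKrullDim (CohB1.support Q) = a at hlt
        match a with
        | ⊥ => exact bot_le
        | (a : ℕ∞) =>
          rw [Nat.cast_succ] at hlt
          exact WithBot.coe_le_coe.2 (ENat.lt_natCast_add_one_iff.1 (WithBot.coe_lt_coe.1 hlt))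
      have h0 := ih Q hQ hle fun z hz => by
        have hsp : f y ⤳ f z := (specializes_iff_mem_closure.2 (hQT z hz).1).map f.continuous
        have h1 := ptDim_lt_of_specializes q hsp fun e => (hQT z hz).2 (e ▸ hyb)
        have h2 := hsmall y hy
        show ptDim q (f z) < r
        have h2' : ptDim q (f y) < r + 1 := h2
        omega
      let a := invOf (PicM.pull f (PicM.of hH.1))
      have ha : InvCl.mk _ hP = a ^ m := by
        rw [← map_pow, ← map_pow, ← PicM.of_tensorPow hH.1, PicM.pull_of, invOf_of]
      have hdeg : ClDeg (r + 2) (chiCl k (clM y)) :=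
        clDeg_chiCl k (isCoh_clM y) (r := r + 1) ((dim_mono (support_clM_subset y)).trans hyd)
      have key : (m : ℤ) * interDeg c (chiCl k (clM y)) = 0 := by
        rw [← h0, ← hfun, ha, ← interDeg_cons, interDeg_pow a _ hdeg]
        refine congrArg _ (congrArg (fun c => interDeg c _) (funext fun i => ?_))
        induction i using Fin.cases <;> rfl
      exact (mul_eq_zero.1 key).resolve_left (by exact_mod_cast hm.ne')
    let K : X.Modules → Prop := fun M => CohB1.support M ⊆ CohB1.support F → interDeg c (chiCl k M) = 0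
    have hK : ExtClass K :=
      { iso := fun e h hs => by
          rw [← chiCl_congr k e]
          exact h ((support_eq_of_iso e).le.trans hs)
        zero := fun M hM _ => by
          refine interDeg_eq_zero c (finDeg_chiCl k (isCoh_of_isZero hM) ?_)
          rw [Set.subset_empty_iff.1 (support_of_isZero hM ∅)]
          exact dim_empty_lt _
        ext := fun S hS h₁ h₂ h₃ a b hs => by
          haveI := hS.mono_f
          haveI := hS.epi_g
          rw [chiCl_additive k S hS h₁ h₂ h₃, interDeg_add_fun, a ((support_subset_of_mono S.f).trans hs),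
            b ((support_subset_of_epi S.g).trans hs), add_zero] }
    refine mem_of_ideals hK (CohB1.support F) (fun y hyF I ι hι hI hI0 => ?_) F hF subset_rfl subset_rfl
    intro _
    let i := (clI y).subschemeι
    haveI := hι
    haveI : Mono ((Coh.push i).map ι) :=
      haveI : (Coh.push i).IsRightAdjoint := (Scheme.Modules.pullbackPushforwardAdjunction i).isRightAdjoint
      inferInstance
    haveI := hI
    haveI : Coh.IsQCoh ((Coh.push i).obj I) := isQCoh_push i I
    have hM : Coh.IsCoh ((Coh.push i).obj I) :=
      isCoh_of_mono (show (Coh.push i).obj I ⟶ clM y from (Coh.push i).map ι) (isCoh_clM y) inferInstance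
    let j : (Coh.push i).obj I ⟶ clM y := (Coh.push i).map ι
    haveI : Mono j := inferInstanceAs (Mono ((Coh.push i).map ι))
    have hy : y ∈ CohB1.support ((Coh.push i).obj I) := by
      by_contra hy
      have h0 : (Coh.push i).map (𝟙 I) = (Coh.push i).map 0 := (isZero_of_mono_clM j hM hy).eq_of_src _ _
      exact hI0 ((IsZero.iff_id_eq_zero I).2 ((Coh.push i).map_injective h0))
    have hyd : topologicalKrullDim (closure {y} : Set X) ≤ (r + 1 : ℕ) := (dim_mono hyF).trans hdim
    have hc : Coh.IsCoh (cokernel j) := isCoh_cokernel j hM.1 (isCoh_clM y)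
    have hcy : y ∉ CohB1.support (cokernel j) := fun hy' => hy' (subsingleton_of_forall_eq 0 fun a => by
      obtain ⟨x, rfl⟩ := (ModuleCat.epi_iff_surjective ((DerSch.stalkFunctor X y).map (cokernel.π j))).1
        inferInstance a
      obtain ⟨w, rfl⟩ := surjective_stalk_of_mono_clM j hy x
      refine (stalk_comp_apply _ _ _).trans ?_
      rw [cokernel.condition]
      exact stalk_zero_apply _)
    have hlt := dim_lt_of_notMem (isClosed_support _ (locallyFinGen_of_isFT _ hc.2))
      ((support_subset_of_epi (cokernel.π j)).trans (support_clM_subset y)) isClosed_closure rfl hcy hyd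
    have e := congrArg (interDeg c) (chiCl_additive k (ShortComplex.mk j (cokernel.π j) (cokernel.condition j))
      { exact := ShortComplex.exact_cokernel j } hM (isCoh_clM y) hc)
    rw [interDeg_add_fun, hint y (hyF (subset_closure rfl)) hyd, interDeg_eq_zero c (finDeg_chiCl k hc hlt)] at e
    show interDeg c (chiCl k ((Coh.push i).obj I)) = 0
    exact ((add_zero _).symm.trans e.symm)

/-- Intersection degrees are multiplied by the degree of a finite flat morphism. -/
theorem interDeg_pull_of_finite [IsIntegral X] [IsIntegral Y] (g : X ⟶ Y) [IsFinite g] [Flat g]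
    (hg : g ≫ (Y ↘ Spec (CommRingCat.of k)) = X ↘ Spec (CommRingCat.of k)) {r : ℕ}
    (hX : topologicalKrullDim X ≤ r) (hY : topologicalKrullDim Y ≤ r) (a : Fin r → PicM Y) (y : Y) :
    interDeg (fun i => invOf (PicM.pull g (a i))) (chiCl k (clM (genericPoint X))) =
      Scheme.Hom.finrank g y * interDeg (fun i => invOf (a i)) (chiCl k (clM (genericPoint Y))) := by
  haveI := isNoetherian_of_proper (X := X) k
  haveI := isNoetherian_of_proper (X := Y) k
  haveI := isSeparated_of_proper (X := Y) k
  have hO : Coh.IsCoh (Coh.structureModule X) := isCoh_structureModule _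
  have hE : Coh.IsCoh ((Coh.push g).obj (Coh.structureModule X)) := isCoh_push_finite g hO
  have h1 := interDeg_eq_genRank k hX (fun i => invOf (PicM.pull g (a i))) _ hO
  rw [genRank_structureModule, Nat.cast_one, one_mul] at h1
  rw [← h1, finrank_eq_genRank g y, ← interDeg_eq_genRank k hY _ _ hE]
  unfold interDeg altSum
  refine congrArg _ (Finset.sum_congr rfl fun I _ => congrArg _ ?_)
  rw [← map_prod, ← map_prod, ← map_prod]
  obtain ⟨N, hN, hNe⟩ := PicM.exists_eq_of (∏ i ∈ I, a i)
  rw [hNe, PicM.pull_of, invOf_of, invOf_of, chiCl_mk, chiCl_mk]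
  have hNF : FlatMod.IsFinLocFree N := fun x => let ⟨U, hx, e⟩ := isFinLocFreeOfRank_one hN x; ⟨U, 1, hx, e⟩
  haveI hqc : Coh.IsQCoh (CohB1.tensorMod ((Scheme.Modules.pullback g).obj N) (Coh.structureModule X)) :=
    (isCoh_iso (tensorComm _ _) (isCoh_twist (F := Coh.structureModule X) (PicLoc.isInvertible_pullback g hN) hO)).1
  rw [euler_congr k Y (tensorComm _ _ ≪≫ (projIso (f := g) hNF).app (Coh.structureModule X)),
    euler_congr k X (tensorComm (Coh.structureModule X) ((Scheme.Modules.pullback g).obj N))]
  exact euler_push k g hg (CohB1.tensorMod ((Scheme.Modules.pullback g).obj N) (Coh.structureModule X))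

end Groth.Agent.AbCubeLib
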