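import Groth.Agent.AbCubeLib.PullKernel
import Groth.Agent.AbCubeLib.DenseTorsion
import Groth.Agent.AbCubeLib.IsogenyTate
import Groth.Agent.AbCubeLib.KernelPhi
import Groth.Agent.AbCubeLib.Invariant
import Groth.Agent.AbCubeLib.ExistsAmple
import Groth.Agent.AbVarLib.HomDim
import Groth.Agent.AbVarLib.MulIsogeny
import Groth.Agent.NeronLib.ProductDecomp

/-!
# Poincaré complete reducibility over an algebraically closed field
-/

set_option autoImplicit false
set_option backward.isDefEq.respectTransparency.types false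

universe u

open CategoryTheory CategoryTheory.Limits MonoidalCategory CartesianMonoidalCategory AlgebraicGeometry MonObj
  TopologicalSpace
open Groth.Agent.PicLib Groth.Agent.CubeLib Groth.Agent.AmpleLib Groth.Agent.Coherent Groth.Agent.AbVarLib

namespace Groth.Agent.AbCubeLib

variable {k : Type u} [Field k] [IsAlgClosed k]

local notation "𝕆" => 𝟙_ (Over (Spec (CommRingCat.of k)))

omit [IsAlgClosed k] in
theorem isMonHom_npow {X Y : Over (Spec (CommRingCat.of k))} [GrpObj X] [GrpObj Y] [IsCommMonObj Y] (f : X ⟶ Y)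
    [IsMonHom f] : ∀ n : ℕ, IsMonHom (f ^ n)
  | 0 => by rw [pow_zero]; exact inferInstanceAs (IsMonHom (toUnit X ≫ η[Y]))
  | n + 1 => by
    have := isMonHom_npow f n
    rw [pow_succ]
    exact inferInstanceAs (IsMonHom (lift (f ^ n) f ≫ μ[Y]))

variable {A B : Over (Spec (CommRingCat.of k))} [GrpObj A] [IsCommMonObj A] [IsProper A.hom] [GeometricallyIntegral A.hom]
  [GrpObj B] [IsCommMonObj B] [IsProper B.hom] [GeometricallyIntegral B.hom] (i : B ⟶ A) [IsMonHom i]

omit [IsCommMonObj A] [IsCommMonObj B] in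
/-- The points `x` such that a class and its translate by `x` agree on `B` form a closed set. -/
theorem exists_closed_eq_on (ℓ : PicM A.left) :
    ∃ Z : Set A.left, IsClosed Z ∧ ∀ x : 𝕆 ⟶ A, ptOf x ∈ Z ↔ pb (i * (toUnit B ≫ x)) ℓ = pb i ℓ := by
  haveI : IsCommMonObj A := isCommMonObj_of_isProper_of_geometricallyIntegral A
  have : IsProper (fst A B).left := inferInstanceAs (IsProper (pullback.fst A.hom B.hom))
  have : GeometricallyIntegral (fst A B).left := inferInstanceAs (GeometricallyIntegral (pullback.fst A.hom B.hom))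
  have : Flat B.hom := flat_of_field _
  have : Flat (fst A B).left := inferInstanceAs (Flat (pullback.fst A.hom B.hom))
  have : IsLocallyNoetherian A.left := LocallyOfFiniteType.isLocallyNoetherian A.hom
  obtain ⟨m, hm⟩ := PicM.exists_mul_eq_one (pb i ℓ)
  obtain ⟨N, hN, hNe⟩ := PicM.exists_eq_of (pb ((fst A B) * (snd A B ≫ i)) ℓ * pb (snd A B) m)
  refine ⟨_, isClosed_setOf_trivial_fibre (fst A B).left (fun y =>
    GeometricallyIntegral.geometrically_isIntegral (f := (fst A B).left) _ _ _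
      (IsPullback.of_hasPullback (fst A B).left (A.left.fromSpecResidueField y))) hN, fun x => ?_⟩
  show PicM.pull ((fst A B).left.fiberι (x.left (IsLocalRing.closedPoint k))) (PicM.of hN) = 1 ↔ _
  rw [pull_fiberι_eq_one_iff (PicM.of hN) x, ← hNe, pb, map_mul]
  change pb _ (pb _ ℓ) * pb _ (pb _ m) = 1 ↔ _
  rw [pb_pb, pb_pb, MonObj.comp_mul, ← Category.assoc, lift_fst, lift_snd, pb_id, Category.id_comp,
    _root_.mul_comm (toUnit B ≫ x)]
  exact ⟨fun h => by rw [← _root_.mul_one (pb (i * (toUnit B ≫ x)) ℓ), ← hm, _root_.mul_left_comm, h,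
    _root_.mul_one], fun h => by rw [h, hm]⟩

omit [IsCommMonObj B] in
/-- Classes restricted from translates. -/
theorem exists_translate_hom (ℓ : PicM A.left) : ∃ ψ : (𝕆 ⟶ A) →* PicM B.left,
    (∀ x, ψ x = 1 ↔ pb (i * (toUnit B ≫ x)) ℓ = pb i ℓ) ∧
    ∀ x (y : 𝕆 ⟶ B), pb (𝟙 B * (toUnit B ≫ y)) (ψ x) = ψ x := by
  obtain ⟨m, hm⟩ := PicM.exists_mul_eq_one (pb i ℓ)
  have hadd : ∀ x y : 𝕆 ⟶ A, pb (i * (toUnit B ≫ (x * y))) ℓ * m =
      pb (i * (toUnit B ≫ x)) ℓ * m * (pb (i * (toUnit B ≫ y)) ℓ * m) := fun x y => by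
    rw [_root_.mul_mul_mul_comm, ← square_const ℓ i x y]
    rw [_root_.mul_assoc, ← _root_.mul_assoc (pb i ℓ), hm, _root_.one_mul]
  let ψ : (𝕆 ⟶ A) →* PicM B.left :=
    { toFun := fun x => pb (i * (toUnit B ≫ x)) ℓ * m
      map_one' := by rw [MonObj.comp_one, _root_.mul_one, hm]
      map_mul' := hadd }
  refine ⟨ψ, fun x => ⟨fun h => ?_, fun h => ?_⟩, fun x y => ?_⟩
  · change pb (i * (toUnit B ≫ x)) ℓ * m = 1 at h
    rw [← _root_.mul_one (pb (i * (toUnit B ≫ x)) ℓ), ← hm, _root_.mul_left_comm, h, _root_.mul_one]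
  · show _ * m = 1
    rw [h, hm]
  · let g : B ⟶ B := 𝟙 B * (toUnit B ≫ y)
    have hu : ψ (y ≫ i) * (pb i ℓ * pb g m) = 1 := by
      show pb (i * (toUnit B ≫ y ≫ i)) ℓ * m * (pb i ℓ * pb g m) = 1
      have h1 : pb g (pb i ℓ * m) = 1 := by rw [hm]; exact map_one _
      rw [pb, map_mul] at h1
      change pb g (pb i ℓ) * pb g m = 1 at h1
      rw [pb_pb, MonObj.mul_comp, Category.id_comp, Category.assoc] at h1
      rw [_root_.mul_assoc (b := m), ← _root_.mul_assoc m, _root_.mul_comm m (pb i ℓ), hm, _root_.one_mul, h1]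
    have hg : pb g (ψ x) = ψ (x * (y ≫ i)) * (pb i ℓ * pb g m) := by
      show pb g (pb (i * (toUnit B ≫ x)) ℓ * m) = pb (i * (toUnit B ≫ (x * (y ≫ i)))) ℓ * m * (pb i ℓ * pb g m)
      rw [pb, map_mul]
      change pb g (pb _ ℓ) * pb g m = _
      rw [pb_pb, _root_.mul_assoc (b := m), ← _root_.mul_assoc m, _root_.mul_comm m (pb i ℓ), hm, _root_.one_mul]
      refine congrArg (fun e => pb e ℓ * pb g m) ?_
      rw [MonObj.comp_mul, MonObj.mul_comp, Category.id_comp, Category.assoc, ← Category.assoc g (toUnit B),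
        toUnit_unique (g ≫ toUnit B) (toUnit B), MonObj.comp_mul, _root_.mul_comm (toUnit B ≫ x), _root_.mul_assoc]
    rw [hg, map_mul, _root_.mul_assoc, hu, _root_.mul_one]

omit [IsCommMonObj B] in
/-- Torsion points give few classes. -/
theorem card_image_torsPts_le {ψ : (𝕆 ⟶ A) →* PicM B.left}
    (hinv : ∀ x (y : 𝕆 ⟶ B), pb (𝟙 B * (toUnit B ≫ y)) (ψ x) = ψ x)
    {b : ℕ} (hb : topologicalKrullDim B.left = b) {n : ℕ} (hn : (n : k) ≠ 0)
    (S : Finset (PicM B.left)) (hS : ∀ c ∈ S, ∃ x, x ∈ AbDual.torsPts A n 𝕆 ∧ ψ x = c) : S.card ≤ n ^ (2 * b) := by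
  haveI : IsCommMonObj B := isCommMonObj_of_isProper_of_geometricallyIntegral B
  have hn0 : 0 < n := Nat.pos_of_ne_zero fun h => hn (by rw [h, Nat.cast_zero])
  have hsm := AbVarLib.smooth_of_geometricallyReduced B
  have hunit : IsUnit ((n : ℤ) : Γ(Spec (CommRingCat.of k), ⊤)) := by
    have := (isUnit_iff_ne_zero.2 hn).map (Scheme.ΓSpecIso (CommRingCat.of k)).inv.hom
    rwa [map_natCast, ← Int.cast_natCast] at this
  have := flat_pow (A := B) hn0
  have : GeometricallyConnected B.hom := ⟨fun K _ w Q p q hQ => by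
    have := GeometricallyIrreducible.geometrically_irreducibleSpace (f := B.hom) w p q hQ
    infer_instance⟩
  obtain ⟨hfin, het, hsurj⟩ := AbVarLib.mul_isFinite_etale_surjective B (n : ℤ) hunit
  rw [zpow_natCast] at hfin het hsurj
  have hmh : IsMonHom ((𝟙 B : B ⟶ B) ^ n) := isMonHom_npow (𝟙 B) n
  have hpb : ∀ (c : PicM B.left), (∀ y : 𝕆 ⟶ B, pb (𝟙 B * (toUnit B ≫ y)) c = c) →
      ∀ N : ℕ, pb ((𝟙 B) ^ N) c = c ^ N := by
    intro c hc N
    induction N with
    | zero => rw [pow_zero, pow_zero, pb_one]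
    | succ N ih => rw [pow_succ, pow_succ, pb_mul_of_invariant c hc, ih, pb_id]
  have hfk : Finite (postHom ((𝟙 B) ^ n) 𝕆).ker := finite_ker ((𝟙 B) ^ n)
  refine (card_le_of_pull_eq_one ((𝟙 B) ^ n) S fun c hc => ?_).trans (le_of_eq ?_)
  · obtain ⟨x, hx, rfl⟩ := hS c hc
    show pb ((𝟙 B) ^ n) (ψ x) = 1
    rw [hpb _ (hinv x), ← map_pow, (AbDual.mem_torsPts A x).1 hx, map_one]
  · rw [← natCard_torsPts_eq hb hn, natCard_torsPts]
    exact Nat.card_congr (Equiv.subtypeEquivRight fun _ => Iff.rfl)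

/-- **Poincaré complete reducibility** over an algebraically closed field, with the complement given in terms of an
ample class. -/
theorem exists_complement_of_class [IsClosedImmersion i.left] {L : A.left.Modules} (hamp : CohB1.IsAmple L) :
    ∃ (C : Over (Spec (CommRingCat.of k))) (_ : GrpObj C) (j : C ⟶ A), IsProper C.hom ∧ GeometricallyIntegral C.hom ∧
      IsMonHom j ∧ IsClosedImmersion j.left ∧
      (Surjective ((fst B C ≫ i) * (snd B C ≫ j)).left ∧ IsFinite ((fst B C ≫ i) * (snd B C ≫ j)).left ∧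
        Flat ((fst B C ≫ i) * (snd B C ≫ j)).left) ∧
      (∀ z : 𝕆 ⟶ C, pb (i * (toUnit B ≫ z ≫ j)) (PicM.of hamp.1) = pb i (PicM.of hamp.1)) ∧
      ∃ d : ℕ, 0 < d ∧ ∀ x : 𝕆 ⟶ A, pb (i * (toUnit B ≫ x)) (PicM.of hamp.1) = pb i (PicM.of hamp.1) →
        ∃ z : 𝕆 ⟶ C, z ≫ j = x ^ d := by
  classical
  let ℓ := PicM.of hamp.1
  obtain ⟨ψ, hψ, hinv⟩ := exists_translate_hom i ℓ
  obtain ⟨Z, hZ, hZx⟩ := exists_closed_eq_on i ℓ
  let H : Subgroup (𝕆 ⟶ A) := ψ.ker
  obtain ⟨C, _, j, H₁, hjG, hjc, hjgi, hjp, hH₁, hind, hrg⟩ := exists_subvariety_of_subgroup H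
  refine ⟨C, inferInstance, j, hjp, hjgi, hjG, hjc, ?_⟩
  set dd := (H₁.subgroupOf H).index with hdd
  haveI : IsCommMonObj C := isCommMonObj_of_isProper_of_geometricallyIntegral C
  obtain ⟨a, ha⟩ := exists_dim_eq A
  obtain ⟨b, hb⟩ := exists_dim_eq B
  obtain ⟨c, hc⟩ := exists_dim_eq C
  -- points of `C` lie in `H`, and points of `H₁` come from `C`
  have hrgZ : Set.range j.left ⊆ Z := hrg.le.trans (closure_minimal (by
    rintro _ ⟨x, hx, rfl⟩
    exact (hZx x).2 ((hψ x).1 (hH₁ hx))) hZ)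
  have hCH : ∀ z : 𝕆 ⟶ C, ψ (z ≫ j) = 1 := fun z =>
    (hψ _).2 ((hZx _).1 (hrgZ (by rw [ptOf_comp]; exact ⟨ptOf z, rfl⟩)))
  have hH₁C : ∀ x ∈ H₁, ∃ z : 𝕆 ⟶ C, z ≫ j = x := by
    intro x hx
    obtain ⟨y, hy⟩ := hrg.ge (subset_closure ⟨x, hx, rfl⟩)
    have hyc : IsClosed ({y} : Set C.left) := by
      rw [← Set.preimage_image_eq {y} j.left.isClosedEmbedding.injective, Set.image_singleton, hy]
      exact (isClosed_point x).preimage j.left.continuous
    obtain ⟨z, rfl⟩ := exists_ptOf hyc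
    exact ⟨z, point_ext (show ptOf (z ≫ j) = ptOf x by rw [ptOf_comp]; exact hy)⟩
  haveI := Over.mono_of_mono_left j
  haveI := Over.mono_of_mono_left i
  -- finitely many points of `B` land in `H`
  have hBH : Set.Finite {y : 𝕆 ⟶ B | ψ (y ≫ i) = 1} := by
    have hampB : CohB1.IsAmple ((Scheme.Modules.pullback i.left).obj L) :=
      AmpleLib.isAmple_pullback_of_isAffineHom i.left hamp
    refine (finite_fixing_of_isAmple hampB).subset fun y (hy : ψ (y ≫ i) = 1) => ?_
    show pb (𝟙 B * (toUnit B ≫ y)) (pb i ℓ) = pb i ℓ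
    rw [pb_pb, MonObj.mul_comp, Category.id_comp, Category.assoc]
    exact (hψ _).1 hy
  -- the sum map has finite kernel
  let σ : B ⊗ C ⟶ A := (fst B C ≫ i) * (snd B C ≫ j)
  haveI : IsMonHom σ := inferInstanceAs (IsMonHom (lift _ _ ≫ μ[A]))
  have hσval : ∀ w : 𝕆 ⟶ B ⊗ C, w ≫ σ = ((w ≫ fst B C) ≫ i) * ((w ≫ snd B C) ≫ j) := fun w => by
    rw [MonObj.comp_mul, Category.assoc, Category.assoc]
  have hfst : ∀ w : 𝕆 ⟶ B ⊗ C, w ≫ σ = 1 → ψ ((w ≫ fst B C) ≫ i) = 1 := fun w hw => by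
    rw [hσval] at hw
    rw [eq_inv_of_mul_eq_one_left hw, ← GrpObj.inv_comp]
    exact hCH _
  have hker : Set.Finite {w : 𝕆 ⟶ B ⊗ C | w ≫ σ = 1} := by
    refine Set.Finite.of_finite_image (f := fun w => w ≫ fst B C) (hBH.subset ?_) ?_
    · rintro _ ⟨w, hw, rfl⟩
      exact hfst w hw
    · intro w hw w' hw' e
      refine CartesianMonoidalCategory.hom_ext _ _ e ((cancel_mono j).1 ?_)
      have h1 := hσval w
      have h2 := hσval w'
      rw [show w ≫ σ = 1 from hw] at h1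
      rw [show w' ≫ σ = 1 from hw', show w' ≫ fst B C = w ≫ fst B C from e.symm] at h2
      exact mul_left_cancel (h1.symm.trans h2)
  have : Smooth B.hom := AbVarLib.smooth_of_geometricallyReduced B
  have : Smooth C.hom := AbVarLib.smooth_of_geometricallyReduced C
  have : GeometricallyIntegral (B ⊗ C).hom := NeronLib.geometricallyIntegral_tensor B C
  have : IsProper (B ⊗ C).hom := inferInstanceAs (IsProper (pullback.fst B.hom C.hom ≫ B.hom))
  haveI : IsCommMonObj (B ⊗ C) := isCommMonObj_of_isProper_of_geometricallyIntegral (B ⊗ C)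
  have hfin : IsFinite σ.left := isFinite_of_finite_ker σ hker
  obtain ⟨e, he⟩ := exists_dim_eq (B ⊗ C)
  -- counting torsion points
  obtain ⟨l, hl, hlk⟩ : ∃ l : ℕ, l.Prime ∧ (l : k) ≠ 0 := by
    by_cases h2 : (2 : k) = 0
    · exact ⟨3, Nat.prime_three, fun h3 => one_ne_zero (α := k) (by push_cast at h3; linear_combination h3 - h2)⟩
    · exact ⟨2, Nat.prime_two, by simpa using h2⟩
  have hlk' : ∀ m, ((l ^ m : ℕ) : k) ≠ 0 := fun m => by rw [Nat.cast_pow]; exact pow_ne_zero _ hlk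
  have hpr : ∀ m : ℕ, (l ^ m) ^ (2 * e) = (l ^ m) ^ (2 * b) * (l ^ m) ^ (2 * c) := by
    intro m
    rw [← natCard_torsPts_eq hb (hlk' m), ← natCard_torsPts_eq hc (hlk' m), ← natCard_torsPts_eq he (hlk' m),
      ← Nat.card_prod]
    refine Nat.card_congr
      { toFun := fun w => (⟨w.1 ≫ fst B C, ?_⟩, ⟨w.1 ≫ snd B C, ?_⟩)
        invFun := fun p => ⟨lift p.1.1 p.2.1, ?_⟩
        left_inv := fun w => Subtype.ext (by apply CartesianMonoidalCategory.hom_ext <;> simp)
        right_inv := fun p => Prod.ext (Subtype.ext (lift_fst _ _)) (Subtype.ext (lift_snd _ _)) }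
    · rw [AbDual.mem_torsPts, ← MonObj.pow_comp, (AbDual.mem_torsPts _ w.1).1 w.2, MonObj.one_comp]
    · rw [AbDual.mem_torsPts, ← MonObj.pow_comp, (AbDual.mem_torsPts _ w.1).1 w.2, MonObj.one_comp]
    · rw [AbDual.mem_torsPts]
      apply CartesianMonoidalCategory.hom_ext
      · rw [MonObj.pow_comp, lift_fst, (AbDual.mem_torsPts _ p.1.1).1 p.1.2, MonObj.one_comp]
      · rw [MonObj.pow_comp, lift_snd, (AbDual.mem_torsPts _ p.2.1).1 p.2.2, MonObj.one_comp]
  set d := (H₁.subgroupOf H).index with hd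
  set κ := Nat.card (postHom σ 𝕆).ker with hκ
  have : Finite (postHom σ 𝕆).ker := hker.to_subtype
  have bound1 : ∀ m : ℕ, (l ^ m) ^ (2 * a) ≤ (l ^ m) ^ (2 * b) * (d * (l ^ m) ^ (2 * c)) := by
    intro m
    let T := AbDual.torsPts A (l ^ m) 𝕆
    have := finite_torsPts (A := A) (pow_pos hl.pos m)
    have := finite_torsPts (A := C) (pow_pos hl.pos m)
    let ψT := ψ.toHomUnits.comp T.subtype
    have h1 : Nat.card ψT.range ≤ (l ^ m) ^ (2 * b) := by
      haveI := Fintype.ofFinite T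
      rw [← natCard_torsPts_eq hb (hlk' m)]
      have := card_image_torsPts_le hinv hb (hlk' m) (Finset.univ.image fun x : T => ψ x.1) (by
        intro c hc'
        obtain ⟨x, -, rfl⟩ := Finset.mem_image.1 hc'
        exact ⟨(x : T).1, (x : T).2, rfl⟩)
      rw [natCard_torsPts_eq hb (hlk' m)]
      refine le_trans (le_of_eq ?_) this
      rw [← Nat.card_eq_finsetCard]
      refine Nat.card_congr (Equiv.ofBijective (fun z : ψT.range => (⟨(z.1 : PicM B.left), ?_⟩ :
        (Finset.univ.image fun x : T => ψ x.1 : Finset (PicM B.left)))) ⟨?_, ?_⟩)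
      · obtain ⟨x, hx⟩ := z.2
        exact Finset.mem_image.2 ⟨x, Finset.mem_univ _, congrArg Units.val hx⟩
      · intro z z' h
        exact Subtype.ext (Units.ext (congrArg Subtype.val h))
      · rintro ⟨_, hc'⟩
        obtain ⟨x, -, rfl⟩ := Finset.mem_image.1 hc'
        exact ⟨⟨ψT x, x, rfl⟩, rfl⟩
    have h2 : Nat.card (H₁.subgroupOf T) ≤ (l ^ m) ^ (2 * c) := by
      rw [← natCard_torsPts_eq hc (hlk' m)]
      have hz : ∀ x : H₁.subgroupOf T, ∃ z : AbDual.torsPts C (l ^ m) 𝕆, z.1 ≫ j = x.1.1 := by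
        intro x
        obtain ⟨z, hz⟩ := hH₁C x.1.1 x.2
        refine ⟨⟨z, (AbDual.mem_torsPts _ z).2 ((cancel_mono j).1 ?_)⟩, hz⟩
        rw [MonObj.pow_comp, hz, (AbDual.mem_torsPts _ _).1 x.1.2, MonObj.one_comp]
      choose z hz using hz
      exact Nat.card_le_card_of_injective z fun x y h => Subtype.ext (Subtype.ext (by rw [← hz x, ← hz y, h]))
    have h3 : H₁.relIndex (H ⊓ T) ≤ d := Subgroup.relIndex_le_of_le_right inf_le_left hind
    have h4 : Nat.card ψT.ker = Nat.card (H ⊓ T : Subgroup _) :=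
      Nat.card_congr
        { toFun := fun x => ⟨x.1.1, congrArg Units.val x.2, x.1.2⟩
          invFun := fun x => ⟨⟨x.1, x.2.2⟩, Units.ext x.2.1⟩
          left_inv := fun _ => rfl
          right_inv := fun _ => rfl }
    have h5 : Nat.card (H ⊓ T : Subgroup _) ≤ d * (l ^ m) ^ (2 * c) := by
      rw [← Subgroup.card_mul_index (H₁.subgroupOf (H ⊓ T)), _root_.mul_comm]
      refine Nat.mul_le_mul h3 (le_trans (Nat.card_le_card_of_injective
        (fun x => (⟨⟨x.1.1, x.1.2.2⟩, x.2⟩ : H₁.subgroupOf T)) ?_) h2)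
      intro x y h
      exact Subtype.ext (Subtype.ext (congrArg (fun z => z.1.1) h))
    calc (l ^ m) ^ (2 * a) = Nat.card T := (natCard_torsPts_eq ha (hlk' m)).symm
      _ = Nat.card ψT.range * Nat.card ψT.ker := by
        rw [← Subgroup.index_ker, _root_.mul_comm, Subgroup.card_mul_index]
      _ ≤ _ := Nat.mul_le_mul h1 (h4 ▸ h5)
  have bound2 : ∀ m : ℕ, (l ^ m) ^ (2 * e) ≤ κ * (l ^ m) ^ (2 * a) := by
    intro m
    rw [← natCard_torsPts_eq he (hlk' m), ← natCard_torsPts_eq ha (hlk' m)]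
    let T := AbDual.torsPts (B ⊗ C) (l ^ m) 𝕆
    have := finite_torsPts (A := A) (pow_pos hl.pos m)
    have := finite_torsPts (A := B ⊗ C) (pow_pos hl.pos m)
    let φ : T →* AbDual.torsPts A (l ^ m) 𝕆 :=
      ((postHom σ 𝕆).comp T.subtype).codRestrict _ fun w => by
        rw [AbDual.mem_torsPts, ← map_pow, show (w : T) ^ (l ^ m) = 1 from Subtype.ext w.2, map_one]
    rw [← Subgroup.card_mul_index φ.ker, Subgroup.index_ker]
    refine Nat.mul_le_mul (Nat.card_le_card_of_injective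
      (fun x => (⟨x.1.1, congrArg Subtype.val x.2⟩ : (postHom σ 𝕆).ker)) ?_) (Subgroup.card_le_card_group _)
    intro x y h
    exact Subtype.ext (Subtype.ext (congrArg (fun z : (postHom σ 𝕆).ker => z.1) h))
  have hexp : ∀ {p q K : ℕ}, (∀ m, (l ^ m) ^ (2 * p) ≤ K * (l ^ m) ^ (2 * q)) → p ≤ q := by
    intro p q K h
    by_contra hlt
    have hle : ∀ m, l ^ m ≤ K := fun m => by
      have h1 : l ^ m * (l ^ m) ^ (2 * q) ≤ (l ^ m) ^ (2 * p) := by
        rw [← pow_succ']; exact Nat.pow_le_pow_right (pow_pos hl.pos m) (by omega)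
      exact Nat.le_of_mul_le_mul_right (h1.trans (h m)) (pow_pos (pow_pos hl.pos m) _)
    obtain ⟨m, hm⟩ : ∃ m, K < l ^ m := ⟨K, Nat.lt_pow_self hl.one_lt⟩
    exact absurd (hle m) (not_le.2 hm)
  have hebc : e = b + c := by
    have h := hpr 1
    rw [pow_one, ← pow_add, ← Nat.mul_add] at h
    have := Nat.pow_right_injective hl.two_le h
    omega
  have h6 : a ≤ e := hexp (K := d) fun m => by
    rw [hebc, Nat.mul_add, pow_add, _root_.mul_left_comm]; exact bound1 m
  have h7 : e ≤ a := hexp bound2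
  obtain ⟨hs1, hs2⟩ := AbVarLib.surjective_and_flat_of_isFinite σ (by rw [he, ha, le_antisymm h7 h6])
  exact ⟨⟨hs1, hfin, hs2⟩, fun z => (hψ _).1 (hCH z), dd, Nat.pos_of_ne_zero hind, fun x hx =>
    hH₁C _ ((H₁.subgroupOf H).pow_index_mem ⟨x, (hψ x).2 hx⟩)⟩

omit [IsCommMonObj B] in
/-- **Poincaré complete reducibility** over an algebraically closed field. -/
theorem exists_complement [IsClosedImmersion i.left] :
    ∃ (C : Over (Spec (CommRingCat.of k))) (_ : GrpObj C) (j : C ⟶ A), IsProper C.hom ∧ GeometricallyIntegral C.hom ∧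
      IsMonHom j ∧ IsClosedImmersion j.left ∧
      Surjective ((fst B C ≫ i) * (snd B C ≫ j)).left ∧ IsFinite ((fst B C ≫ i) * (snd B C ≫ j)).left := by
  haveI : IsCommMonObj B := isCommMonObj_of_isProper_of_geometricallyIntegral B
  obtain ⟨L, -, hamp⟩ := exists_ample A
  obtain ⟨C, hC, j, h1, h2, h3, h4, ⟨h5, h6, -⟩, -⟩ := exists_complement_of_class i hamp
  exact ⟨C, hC, j, h1, h2, h3, h4, h5, h6⟩

end Groth.Agent.AbCubeLib
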