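import Groth.Agent.EulerLib.Positive
import Groth.Agent.AbCubeLib.MulBy
import Groth.Agent.AbCubeLib.DenseTorsion
import Groth.Prelude.Def_EndRing

/-!
# A positive definite bilinear form on the homomorphisms of abelian varieties
-/

set_option autoImplicit false
set_option linter.style.haveILetI false
set_option backward.isDefEq.respectTransparency.types false

universe u

open CategoryTheory CategoryTheory.Limits MonoidalCategory CartesianMonoidalCategory AlgebraicGeometry MonObj
  TopologicalSpace Opposite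
open Groth.Agent.PicLib Groth.Agent.CubeLib Groth.Agent.AmpleLib Groth.Agent.Coherent Groth.Agent.EulerLib
  Groth.Agent.DimLib Groth.Agent.AssSch12

namespace Groth.Agent.AbCubeLib

local notation "St" => DerSch.stalkFunctor _

section Positivity

variable {X : Scheme.{u}} (k : Type u) [Field k] [X.Over (Spec (CommRingCat.of k))]
  [IsProper (X ↘ Spec (CommRingCat.of k))]

/-- Positivity of a class with a section cutting properly, against ample classes. -/
theorem interDeg_cons_pos_of_section {r : ℕ} {y : X}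
    (hy : topologicalKrullDim (closure {y} : Set X) = ((r + 1 : ℕ) : WithBot ℕ∞))
    {P : X.Modules} (hP : PicF.IsInvertible P) (b : Γ(P, ⊤)) (hyb : y ∈ glocus P b)
    (hb : ¬ closure {y} ⊆ (glocus P b : Set X)) (L : Fin r → X.Modules) (hL : ∀ i, CohB1.IsAmple (L i)) :
    0 < interDeg (Fin.cons (InvCl.mk P hP) fun i => InvCl.mk (L i) (hL i).1) (chiCl k (clM y)) := by
  haveI := isNoetherian_of_proper (X := X) k
  let p := X ↘ Spec (CommRingCat.of k)
  let G := clM y
  have hG : Coh.IsCoh G := isCoh_clM y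
  have hGP := isCoh_twist hP hG
  let u := mulSec G b
  let T : Set X := closure {y} ∩ (glocus P b : Set X)ᶜ
  have hT : IsClosed T := isClosed_closure.inter (glocus P b).2.isClosed_compl
  haveI := hG.1
  haveI := hGP.1
  have hker : IsZero (kernel u) := isZero_of_mono_clM (kernel.ι u) (isCoh_kernel u hG hGP.1) fun h =>
    h (subsingleton_of_forall_eq 0 fun a => by
      have h1 : (DerSch.stalkFunctor X y).map u ((DerSch.stalkFunctor X y).map (kernel.ι u) a) = 0 := by
        refine (stalk_comp_apply _ _ _).trans ?_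
        rw [kernel.condition]
        exact stalk_zero_apply _
      exact (ModuleCat.mono_iff_injective ((DerSch.stalkFunctor X y).map (kernel.ι u))).1 inferInstance
        (((bijective_stalk_mulSec G b hyb).1 (h1.trans (map_zero _).symm)).trans (map_zero _).symm))
  haveI : Mono u := Preadditive.mono_of_isZero_kernel u hker
  let Q := cokernel u
  have hQ : Coh.IsCoh Q := isCoh_cokernel u hG.1 hGP
  have hGPsupp : CohB1.support (CohB1.tensorMod G P) = closure {y} :=
    (support_twist hP G).trans (support_clM y)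
  have hQsupp : CohB1.support Q = T := by
    refine Set.Subset.antisymm (fun z hz => ⟨hGPsupp.le (support_subset_of_epi (cokernel.π u) hz),
      fun hzU => hz (subsingleton_of_forall_eq 0 fun a => ?_)⟩) fun z hz hsub => ?_
    · obtain ⟨w, rfl⟩ := (ModuleCat.epi_iff_surjective ((DerSch.stalkFunctor X z).map (cokernel.π u))).1
        inferInstance a
      obtain ⟨v, rfl⟩ := (bijective_stalk_mulSec G b hzU).2 w
      refine (stalk_comp_apply _ _ _).trans ?_
      rw [cokernel.condition]
      exact stalk_zero_apply _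
    · refine not_surjective_stalk_mulSec G b hP hG hz.2 ((support_clM y).ge hz.1) fun w => ?_
      exact ((ShortComplex.ShortExact.moduleCat_exact_iff_function_exact _).1
        ((ShortComplex.exact_cokernel u).map (DerSch.stalkFunctor X z)) w).1 (hsub.elim _ _)
  have hyT : y ∉ T := fun h => h.2 hyb
  have hTlt := dim_lt_of_notMem hT Set.inter_subset_left isClosed_closure rfl hyT hy.le
  have hTge : (r : WithBot ℕ∞) ≤ topologicalKrullDim T := by
    obtain ⟨z₀, hz₀⟩ : T.Nonempty := by
      by_contra h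
      rw [Set.not_nonempty_iff_eq_empty] at h
      exact hb fun z hz => by
        by_contra hzU
        exact (h.le ⟨hz, hzU⟩ : z ∈ (∅ : Set X))
    obtain ⟨z, hz, -, hmax⟩ := exists_maximal_mem p hz₀ («η» := y)
      fun w hw _ => specializes_iff_mem_closure.2 hw.1
    obtain ⟨V₀, hzV₀, g₀, hg₀⟩ := exists_isGen hP z
    obtain ⟨V, hV, hzV, hVV₀⟩ := exists_isAffineOpen_mem_and_subset (x := z) (U := V₀) hzV₀
    have hg := hg₀.restrict (show V ≤ V₀ from hVV₀)
    let f := hg.coef le_rfl (resM P le_top b)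
    have hbo : glocus P b ⊓ V = X.basicOpen f := glocus_inf b hg
    have hyz : y ⤳ z := specializes_iff_mem_closure.2 hz.1
    have h1 := ptDim_le_add_of_minimal_zero p hV {f} hyz hzV
      (fun r' hr' => by
        rw [Finset.mem_singleton.1 hr']
        intro h
        rw [← hbo] at h
        exact hz.2 h.1)
      (fun w hyw hwz hwV hwf => (hmax w ⟨specializes_iff_mem_closure.1 hyw, fun hwU =>
        hwf f (Finset.mem_singleton_self f) (hbo ▸ ⟨hwU, hwV⟩)⟩ hwz).symm)
    rw [Finset.card_singleton] at h1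
    have hpy : ptDim p y = r + 1 := by
      have := topologicalKrullDim_eq_ptDim_of_isGenericPoint p (isGenericPoint_closure (x := y))
      rw [hy] at this
      exact_mod_cast this.symm
    rw [topologicalKrullDim_closed_eq_iSup p hT]
    refine le_trans ?_ (le_iSup (fun x : T => (ptDim p x.1 : WithBot ℕ∞)) ⟨z, hz⟩)
    exact_mod_cast (by omega : r ≤ ptDim p z)
  have hTle : topologicalKrullDim T ≤ (r : ℕ) := by
    generalize topologicalKrullDim T = a at hTlt
    match a with
    | ⊥ => exact bot_le
    | (a : ℕ∞) =>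
      rw [Nat.cast_succ] at hTlt
      exact WithBot.coe_le_coe.2 (ENat.lt_natCast_add_one_iff.1 (WithBot.coe_lt_coe.1 hTlt))
  have hQdim : topologicalKrullDim (CohB1.support Q) = r := by
    rw [hQsupp]
    exact le_antisymm hTle hTge
  have hpos := interDeg_pos k r L hL Q hQ hQdim
  have hadd := chiCl_additive k (ShortComplex.mk u (cokernel.π u) (cokernel.condition u))
    { exact := ShortComplex.exact_cokernel u } hG hGP hQ
  have hfun : (fun x => chiCl k G (InvCl.mk P hP * x) - chiCl k G x) = chiCl k Q := by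
    funext x
    rw [chiCl_mul k G hP x]
    have h2 : chiCl k (CohB1.tensorMod G P) x = chiCl k G x + chiCl k Q x := congrFun hadd x
    omega
  rw [interDeg_cons, hfun]
  exact hpos

include k in
/-- In an affine open, the closure of a point is that point. -/
theorem eq_of_closure_subset_affine {y : X} {U : X.Opens} (hU : IsAffineOpen U) (h : closure {y} ⊆ (U : Set X))
    {w : X} (hw : w ∈ closure {y}) : w = y := by
  let p := X ↘ Spec (CommRingCat.of k)
  have hd := not_subset_affine k hU h
  rw [topologicalKrullDim_closed_eq_iSup p isClosed_closure] at hd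
  have hy : ((ptDim p y : ℕ) : WithBot ℕ∞) ≤ 0 :=
    le_trans (le_iSup (fun x : (closure {y} : Set X) => (ptDim p x.1 : WithBot ℕ∞)) ⟨y, subset_closure rfl⟩) hd
  have hy' : ptDim p y = 0 := Nat.le_zero.1 (by exact_mod_cast hy)
  exact (eq_of_specializes_of_ptDim_le p (specializes_iff_mem_closure.2 hw) (by omega)).symm

end Positivity

/-- The class in `InvCl` of a class in `PicM`. -/
noncomputable def invOf {X : Scheme.{u}} : PicM X →* InvCl X :=
  have h : ∀ {L : X.Modules} (hL : PicF.IsInvertible L),
      InvCl.mk (PicM.exists_eq_of (PicM.of hL)).choose (PicM.exists_eq_of (PicM.of hL)).choose_spec.choose =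
        InvCl.mk L hL := fun {L} hL => by
    obtain ⟨e⟩ := (PicM.of_eq_iff _ _).1 (PicM.exists_eq_of (PicM.of hL)).choose_spec.choose_spec
    exact (InvCl.mk_eq hL _ e).symm
  { toFun := fun a => InvCl.mk (PicM.exists_eq_of a).choose (PicM.exists_eq_of a).choose_spec.choose
    map_one' := h isInvertible_structureModule
    map_mul' := fun a b => by
      obtain ⟨L, hL, rfl⟩ := PicM.exists_eq_of a
      obtain ⟨M, hM, rfl⟩ := PicM.exists_eq_of b
      rw [h hL, h hM, PicM.of_mul, h]
      rfl }

theorem invOf_of {X : Scheme.{u}} {L : X.Modules} (hL : PicF.IsInvertible L) :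
    invOf (PicM.of hL) = InvCl.mk L hL := by
  obtain ⟨e⟩ := (PicM.of_eq_iff _ _).1 (PicM.exists_eq_of (PicM.of hL)).choose_spec.choose_spec
  exact (InvCl.mk_eq hL _ e).symm

variable {k : Type u} [Field k] {A B : Over (Spec (CommRingCat.of k))} [GrpObj A] [GrpObj B]

omit [GrpObj A] in
/-- A morphism from a reduced scheme into the neutral point is trivial. -/
theorem eq_one_of_range_subset [IsReduced A.left] [IsSeparated B.hom] (φ : A ⟶ B)
    (h : Set.range φ.left ⊆ Set.range (1 : 𝟙_ (Over (Spec (CommRingCat.of k))) ⟶ B).left) : φ = 1 := by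
  let e : Spec (CommRingCat.of k) ⟶ B.left := (1 : 𝟙_ (Over (Spec (CommRingCat.of k))) ⟶ B).left
  have he : e ≫ B.hom = 𝟙 _ := Over.w (1 : 𝟙_ (Over (Spec (CommRingCat.of k))) ⟶ B)
  have : IsClosedImmersion e := by
    have : IsClosedImmersion (e ≫ B.hom) := by rw [he]; infer_instance
    exact IsClosedImmersion.of_comp e B.hom
  obtain ⟨z, hz⟩ := RedSepLib.exists_lift_of_range_subset φ.left e h
  have hz' : z = A.hom := by rw [← Category.comp_id z, ← he, reassoc_of% hz]; exact Over.w φ
  refine Over.OverMorphism.ext ?_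
  rw [← hz, hz', one_left_eq A]

/-- A homomorphism with a single point as image is trivial. -/
theorem eq_one_of_forall_eq [IsReduced A.left] [IsSeparated B.hom] (φ : A ⟶ B) [IsMonHom φ] {c : B.left}
    (h : ∀ z, φ.left z = c) : φ = 1 := by
  let e : 𝟙_ (Over (Spec (CommRingCat.of k))) ⟶ A := 1
  refine eq_one_of_range_subset φ ?_
  have h1 : e ≫ φ = 1 := MonObj.one_comp φ
  rintro _ ⟨z, rfl⟩
  refine ⟨IsLocalRing.closedPoint k, ?_⟩
  rw [← h1, h z, ← h (e.left (IsLocalRing.closedPoint k))]
  rfl

variable [IsProper A.hom] [GeometricallyIntegral A.hom] [IsProper B.hom] [GeometricallyIntegral B.hom]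

/-- A positive definite symmetric bilinear form on the homomorphisms, multiplied by `n` by the maps pulling every class
back to its `n`-th power. -/
theorem exists_hom_form_scaling [IsCommMonObj A] [IsCommMonObj B] :
    ∃ b : EndAV.Hom A B →+ EndAV.Hom A B →+ ℤ, (∀ x y, b x y = b y x) ∧ (∀ x, x ≠ 0 → 0 < b x x) ∧
      ∀ (σ : A ⟶ A) [IsMonHom σ] (n : ℕ), (∀ a : PicM A.left, PicM.pull σ.left a = a ^ n) →
        ∀ x y : EndAV.Hom A B, b (EndAV.Hom.of (σ ≫ x.toHom)) (EndAV.Hom.of (σ ≫ y.toHom)) = n * b x y := by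
  letI : A.left.Over (Spec (CommRingCat.of k)) := ⟨A.hom⟩
  letI : B.left.Over (Spec (CommRingCat.of k)) := ⟨B.hom⟩
  haveI : IsProper (A.left ↘ Spec (CommRingCat.of k)) := ‹IsProper A.hom›
  haveI : IsProper (B.left ↘ Spec (CommRingCat.of k)) := ‹IsProper B.hom›
  haveI : IsIntegral A.left := GeometricallyIntegral.isIntegral_of_subsingleton A.hom
  haveI := isNoetherian_of_proper (X := A.left) k
  let ξ := genericPoint A.left
  have hcl : closure ({ξ} : Set A.left) = Set.univ := genericPoint_closure _
  obtain ⟨g, hg⟩ := exists_dim_eq A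
  have hdim : topologicalKrullDim (closure ({ξ} : Set A.left) : Set A.left) = g := by
    rw [hcl, ← hg]
    exact IsHomeomorph.topologicalKrullDim_eq _ (Homeomorph.Set.univ A.left).isHomeomorph
  rcases g with _ | r
  · refine ⟨0, fun x y => rfl, fun x hx => absurd ?_ hx, fun _ _ _ _ _ _ => by simp⟩
    refine EndAV.Hom.ext (eq_one_of_forall_eq x.toHom (c := x.toHom.left ξ) fun z => congrArg _ ?_)
    have hz : z ∈ closure ({ξ} : Set A.left) := hcl ▸ Set.mem_univ z
    have hd := hdim.le
    rw [topologicalKrullDim_closed_eq_iSup A.hom isClosed_closure] at hd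
    have hy : ((ptDim A.hom ξ : ℕ) : WithBot ℕ∞) ≤ ((0 : ℕ) : WithBot ℕ∞) :=
      le_trans (le_iSup (fun x : (closure {ξ} : Set A.left) => (ptDim A.hom x.1 : WithBot ℕ∞)) ⟨ξ, subset_closure rfl⟩) hd
    have hy' : ptDim A.hom ξ = 0 := Nat.le_zero.1 (by exact_mod_cast hy)
    exact (eq_of_specializes_of_ptDim_le A.hom (specializes_iff_mem_closure.2 hz) (by omega)).symm
  obtain ⟨M, hM, hMamp, hMsym⟩ := exists_symmetric_ample_class (A := B)
  obtain ⟨L, hL, hLamp⟩ := exists_ample A
  let c : Fin r → InvCl A.left := fun _ => InvCl.mk L hLamp.1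
  let Φ : InvCl A.left → ℤ := chiCl k (clM ξ)
  have hΦ : ClDeg (r + 2) Φ :=
    clDeg_chiCl k (isCoh_clM ξ) (r := r + 1) ((dim_mono (support_clM_subset ξ)).trans hdim.le)
  let q : (A ⟶ B) → ℤ := fun f => interDeg (Fin.cons (invOf (pb f (PicM.of hM))) c) Φ
  have hq1 : q 1 = 0 := by
    show interDeg _ Φ = 0
    rw [pb_one, map_one, interDeg_one]
  have hadd : ∀ a a' : PicM A.left, interDeg (Fin.cons (invOf (a * a')) c) Φ =
      interDeg (Fin.cons (invOf a) c) Φ + interDeg (Fin.cons (invOf a') c) Φ := fun a a' => by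
    rw [map_mul, interDeg_mul _ _ c hΦ]
  have hcube : ∀ f g h : A ⟶ B, q (f * g * h) + q f + q g + q h = q (f * g) + q (f * h) + q (g * h) :=
    fun f g h => by
    have e := congrArg (fun a => interDeg (Fin.cons (invOf a) c) Φ) (cube_relation (PicM.of hM) f g h)
    simpa only [hadd] using e
  have hinv : ∀ f : A ⟶ B, q f⁻¹ = q f := fun f => by
    show interDeg (Fin.cons (invOf (pb f⁻¹ (PicM.of hM))) c) Φ = _
    rw [show f⁻¹ = f ≫ (𝟙 B)⁻¹ by rw [GrpObj.comp_inv, Category.comp_id], ← pb_pb, hMsym]
  let β : (A ⟶ B) → (A ⟶ B) → ℤ := fun f g => q (f * g) - q f - q g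
  have hβsymm : ∀ f g, β f g = β g f := fun f g => by
    show q (f * g) - q f - q g = q (g * f) - q g - q f
    rw [show g * f = f * g from _root_.mul_comm g f]
    ring
  have hβadd : ∀ f g h, β (f * g) h = β f h + β g h := fun f g h => by
    have := hcube f g h
    show q (f * g * h) - q (f * g) - q h = q (f * h) - q f - q h + (q (g * h) - q g - q h)
    omega
  let b : EndAV.Hom A B →+ EndAV.Hom A B →+ ℤ :=
    AddMonoidHom.mk' (fun x => AddMonoidHom.mk' (fun y => β x.toHom y.toHom) fun y z => by
        simp only [EndAV.Hom.toHom_add]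
        rw [hβsymm, hβadd, hβsymm y.toHom, hβsymm z.toHom])
      fun x y => AddMonoidHom.ext fun z => by
        show β (x + y).toHom z.toHom = β x.toHom z.toHom + β y.toHom z.toHom
        rw [EndAV.Hom.toHom_add, hβadd]
  refine ⟨b, fun x y => hβsymm _ _, fun x hx => ?_, fun σ _ n hσ x y => ?_⟩
  swap
  · have hpow : ∀ (a : PicM A.left), interDeg (Fin.cons (invOf (a ^ n)) c) Φ = n * interDeg (Fin.cons (invOf a) c) Φ :=
      fun a => by rw [map_pow, interDeg_pow _ _ hΦ]
    have hqσ : ∀ f : A ⟶ B, q (σ ≫ f) = n * q f := fun f => by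
      show interDeg (Fin.cons (invOf (pb (σ ≫ f) (PicM.of hM))) c) Φ = _
      rw [← pb_pb, show pb σ (pb f (PicM.of hM)) = pb f (PicM.of hM) ^ n from hσ _, hpow]
    show β (σ ≫ x.toHom) (σ ≫ y.toHom) = n * β x.toHom y.toHom
    show q ((σ ≫ x.toHom) * (σ ≫ y.toHom)) - q (σ ≫ x.toHom) - q (σ ≫ y.toHom) = _
    rw [← MonObj.comp_mul, hqσ, hqσ, hqσ]
    ring
  let φ := x.toHom
  have h2 : b x x = 2 * q φ := by
    have h := hcube φ φ φ⁻¹
    rw [mul_inv_cancel_right, mul_inv_cancel, hq1, hinv] at h
    show q (φ * φ) - q φ - q φ = _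
    omega
  suffices 0 < q φ by omega
  obtain ⟨-, -, hx'⟩ := isAmple_iff_affGlocus.1 hMamp
  obtain ⟨m, hm, s, hys, -, hs⟩ := hx' (φ.left ξ)
  have hP : PicF.IsInvertible ((Scheme.Modules.pullback φ.left).obj (CohB1.tensorPow M m)) :=
    PicLoc.isInvertible_pullback φ.left (isInvertible_tensorPow hM m)
  have hloc := glocus_pullSec φ.left (isInvertible_tensorPow hM m) s
  have hns : ¬ closure ({ξ} : Set A.left) ⊆
      (glocus ((Scheme.Modules.pullback φ.left).obj (CohB1.tensorPow M m)) (pullSec φ.left s) : Set A.left) := by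
    rw [hcl, hloc]
    intro hall
    apply hx
    refine EndAV.Hom.ext (eq_one_of_forall_eq φ (c := φ.left ξ) fun z => ?_)
    haveI : B.left.IsSeparated := isSeparated_of_proper (X := B.left) k
    have hsub : closure {φ.left ξ} ⊆ (glocus (CohB1.tensorPow M m) s : Set B.left) := by
      intro w hw
      haveI : IsProper (φ.left ≫ B.hom) := by rw [Over.w]; infer_instance
      haveI : IsProper φ.left := IsProper.of_comp _ B.hom
      have : w ∈ Set.range φ.left :=
        φ.left.isClosedMap.isClosed_range.closure_subset_iff.2 (Set.singleton_subset_iff.2 ⟨ξ, rfl⟩) hw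
      obtain ⟨z', rfl⟩ := this
      exact hall (Set.mem_univ z')
    refine eq_of_closure_subset_affine k hs hsub ?_
    have hz : z ∈ closure ({ξ} : Set A.left) := hcl ▸ Set.mem_univ z
    have := image_closure_subset_closure_image φ.left.continuous ⟨z, hz, rfl⟩
    rwa [Set.image_singleton] at this
  have hpos := interDeg_cons_pos_of_section k (r := r) (y := ξ) hdim hP (pullSec φ.left s)
    (by rw [hloc]; exact hys) hns (fun _ => L) (fun _ => hLamp)
  have hcl' : InvCl.mk _ hP = invOf (pb φ (PicM.of hM)) ^ m := by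
    rw [← map_pow, show pb φ (PicM.of hM) = PicM.pull φ.left (PicM.of hM) from rfl, ← map_pow,
      ← PicM.of_tensorPow hM, PicM.pull_of, invOf_of]
  rw [hcl', interDeg_pow _ _ hΦ] at hpos
  exact pos_of_mul_pos_right hpos (Int.natCast_nonneg m)

/-- A positive definite symmetric bilinear form on the homomorphisms. -/
theorem exists_hom_form [IsCommMonObj A] [IsCommMonObj B] :
    ∃ b : EndAV.Hom A B →+ EndAV.Hom A B →+ ℤ, (∀ x y, b x y = b y x) ∧ ∀ x, x ≠ 0 → 0 < b x x := by
  obtain ⟨b, h1, h2, -⟩ := exists_hom_form_scaling (A := A) (B := B)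
  exact ⟨b, h1, h2⟩

end Groth.Agent.AbCubeLib
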