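import Groth.Agent.AbCubeLib.FiniteDegree
import Groth.Agent.Coherent.DevissageTwoThree
import Groth.Agent.Coherent.DevissageIdeal
import Groth.Agent.DCat.FlatPull
import Groth.Agent.RelVALib.AffBaseChange
import Groth.Agent.ZClosLib.Descent
import Groth.Agent.EulerLib.Additive

/-!
# Euler characteristics and finite flat pullback

An additive function on coherent modules that kills all direct images along a finite surjective morphism is zero;
applied to `F ↦ χ(f^*F) - d·χ(F)`.
-/

set_option autoImplicit false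
set_option linter.style.haveILetI false
set_option backward.isDefEq.respectTransparency false

universe u

open CategoryTheory CategoryTheory.Limits AlgebraicGeometry Opposite TopologicalSpace
open Groth.Agent.Coherent Groth.Agent.AssSch12 Groth.Agent.EulerLib

namespace Groth.Agent.AbCubeLib

attribute [local instance] hasFiniteBiproducts

variable {X Y : Scheme.{u}}

/-- `Δ` is additive on coherent short exact sequences. -/
def IsAdditive (Δ : Y.Modules → ℤ) : Prop :=
  ∀ S : ShortComplex Y.Modules, S.ShortExact → Coh.IsCoh S.X₁ → Coh.IsCoh S.X₂ → Coh.IsCoh S.X₃ →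
    Δ S.X₂ = Δ S.X₁ + Δ S.X₃

theorem IsAdditive.apply_isZero [IsNoetherian Y] {Δ : Y.Modules → ℤ} (h : IsAdditive Δ)
    (hiso : ∀ M N : Y.Modules, Nonempty (M ≅ N) → Δ M = Δ N) {M : Y.Modules} (hM : IsZero M) : Δ M = 0 := by
  have hS : (ShortComplex.mk (𝟙 M) (0 : M ⟶ M) comp_zero).ShortExact :=
    { exact := (ShortComplex.exact_iff_epi _ rfl).2 inferInstance
      mono_f := inferInstanceAs (Mono (𝟙 M))
      epi_g := ⟨fun a b _ => hM.eq_of_src a b⟩ }
  have := h _ hS (isCoh_of_isZero hM) (isCoh_of_isZero hM) (isCoh_of_isZero hM)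
  simpa using this

/-- An additive function on a constant biproduct. -/
theorem IsAdditive.apply_biproduct [IsNoetherian Y] {Δ : Y.Modules → ℤ} (h : IsAdditive Δ)
    (hiso : ∀ M N : Y.Modules, Nonempty (M ≅ N) → Δ M = Δ N) {C : Y.Modules} (hC : Coh.IsCoh C) :
    ∀ n : ℕ, Δ (⨁ fun _ : Fin n => C) = (n : ℤ) * Δ C := by
  intro n
  induction n with
  | zero =>
    have hz : IsZero (⨁ fun _ : Fin 0 => C) := by
      rw [IsZero.iff_id_eq_zero]
      exact biproduct.hom_ext _ _ fun j => j.elim0
    rw [h.apply_isZero hiso hz]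
    simp
  | succ n ih =>
    let F : Fin (n + 1) → Y.Modules := fun _ => C
    let F' : Fin n → Y.Modules := fun _ => C
    let S : ShortComplex Y.Modules := ShortComplex.mk (biproduct.ι F 0)
      (biproduct.lift (f := F') fun j => biproduct.π F j.succ) (biproduct.hom_ext _ _ fun j => by
        rw [Category.assoc, biproduct.lift_π, zero_comp, biproduct.ι_π_ne]
        exact (Fin.succ_ne_zero j).symm)
    let σ : S.Splitting :=
      { r := biproduct.π F 0
        s := biproduct.desc (f := F') fun j => biproduct.ι F j.succ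
        f_r := biproduct.ι_π_self F 0
        s_g := biproduct.hom_ext' _ _ fun i => biproduct.hom_ext _ _ fun j => by
          rw [biproduct.ι_desc_assoc, Category.assoc, biproduct.lift_π, Category.comp_id]
          rcases eq_or_ne i j with rfl | hij
          · rw [biproduct.ι_π_self, biproduct.ι_π_self]
          · rw [biproduct.ι_π_ne F (fun e => hij (Fin.succ_injective _ e)), biproduct.ι_π_ne F' hij]
        id := by
          show biproduct.π F 0 ≫ biproduct.ι F 0 +
            biproduct.lift (f := F') (fun j => biproduct.π F j.succ) ≫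
              biproduct.desc (f := F') (fun j => biproduct.ι F j.succ) = 𝟙 (⨁ F)
          rw [biproduct.lift_desc, ← biproduct.total (f := F), Fin.sum_univ_succ] }
    have hd := h S σ.shortExact hC (isCoh_biproduct F fun _ => hC) (isCoh_biproduct F' fun _ => hC)
    show Δ (⨁ F) = _
    rw [hd]
    show Δ C + Δ (⨁ F') = _
    rw [ih]
    push_cast
    ring

variable [IsNoetherian Y] (f : X ⟶ Y) [IsFinite f] [Surjective f]

/-- **Dévissage along a finite surjection.** -/
theorem additive_eq_zero_of_push {Δ : Y.Modules → ℤ}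
    (hiso : ∀ M N : Y.Modules, Nonempty (M ≅ N) → Δ M = Δ N) (hadd : IsAdditive Δ)
    (hpush : ∀ G : X.Modules, Coh.IsCoh G → Δ ((Coh.push f).obj G) = 0)
    {F : Y.Modules} (hF : Coh.IsCoh F) : Δ F = 0 := by
  haveI : IsLocallyNoetherian X := LocallyOfFiniteType.isLocallyNoetherian f
  let K : Y.Modules → Prop := fun M => Δ M = 0
  have hG₀ : Coh.IsCoh ((Coh.push f).obj (Coh.structureModule X)) := isCoh_push_finite f (isCoh_structureModule X)
  have hK' := devClass_of_twoThree K Set.univ (fun M N e hM => (hiso M N e).symm.trans hM)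
    (fun S hS c₁ c₂ c₃ _ => by
      have h := hadd S hS c₁ c₂ c₃
      exact ⟨fun a b => by simp only [K] at *; omega, fun a b => by simp only [K] at *; omega,
        fun a b => by simp only [K] at *; omega⟩)
    hG₀ (Set.subset_univ _) (hpush _ (isCoh_structureModule X))
  refine (mem_of_support hK'.toExt Set.univ (fun Z _ _ _ y hy Z₁ hZ₁ hsm => ?_) ⊤ subset_rfl F hF
    (Set.subset_univ _)).1
  obtain ⟨y', rfl⟩ := f.surjective y
  let G := (Coh.push f).obj (clM y')
  have hG : Coh.IsCoh G := isCoh_push_finite f (isCoh_clM y')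
  have hmaps : ∀ z : (clI y').subscheme, f ((clI y').subschemeι z) ∈ closure ({f y'} : Set Y) := fun z => by
    have hz : (clI y').subschemeι z ∈ closure ({y'} : Set X) := by rw [← range_clι]; exact ⟨z, rfl⟩
    exact (image_closure_subset_closure_image f.continuous).trans (by rw [Set.image_singleton])
      ⟨_, hz, rfl⟩
  have hGs : CohB1.support G ⊆ Z₁ := fun w hw => (hy.subset.trans hZ₁) <| by
    by_contra hne
    refine hw (subsingleton_of_forall_eq 0 fun a => ?_)
    obtain ⟨O, hwO, s, rfl⟩ := G.presheaf.exists_germ_eq (show G.presheaf.stalk w from a)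
    let O' : Y.Opens := O ⊓ ⟨(closure ({f y'} : Set Y))ᶜ, isClosed_closure.isOpen_compl⟩
    rw [← TopCat.Presheaf.germ_res_apply G.presheaf (homOfLE (inf_le_left : O' ≤ O)) w ⟨hwO, hne⟩ s]
    have hbot : (clI y').subschemeι ⁻¹ᵁ (f ⁻¹ᵁ O') = ⊥ := eq_bot_iff.2 fun z hz => absurd (hmaps z) hz.2
    haveI : Subsingleton Γ((clI y').subscheme, (clI y').subschemeι ⁻¹ᵁ (f ⁻¹ᵁ O')) := by
      rw [hbot]; infer_instance
    let s' : Γ((clI y').subscheme, (clI y').subschemeι ⁻¹ᵁ (f ⁻¹ᵁ O')) :=
      G.presheaf.map (homOfLE (inf_le_left : O' ≤ O)).op s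
    have hs : G.presheaf.map (homOfLE (inf_le_left : O' ≤ O)).op s = 0 :=
      Subsingleton.elim (α := Γ((clI y').subscheme, (clI y').subschemeι ⁻¹ᵁ (f ⁻¹ᵁ O'))) s' 0
    rw [hs]
    exact map_zero _
  have hk : Killed (f y') 1 G := by
    refine killed_of_killedByIdeal (Z := closure ({f y'} : Set Y)) isClosed_closure subset_rfl hG fun U r hr m => ?_
    let i := (clI y').subschemeι
    let m' : Γ((clI y').subscheme, i ⁻¹ᵁ (f ⁻¹ᵁ U.1)) := m
    suffices h0 : i.app _ (f.app U.1 r) = 0 by
      show (show Γ((clI y').subscheme, i ⁻¹ᵁ (f ⁻¹ᵁ U.1)) from i.app _ (f.app U.1 r) * m') = 0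
      rw [h0, zero_mul]
    refine eq_zero_of_basicOpen_eq_bot _ (eq_bot_iff.2 fun z hz => ?_)
    exfalso
    have hzb : f (i z) ∈ Y.basicOpen r := by
      have hzb' : z ∈ i ⁻¹ᵁ (f ⁻¹ᵁ Y.basicOpen r) := by
        rwa [f.preimage_basicOpen, i.preimage_basicOpen]
      exact hzb'
    have hzU : f (i z) ∈ U.1 := Y.basicOpen_le r hzb
    rw [Scheme.IdealSheafData.vanishingIdeal_ideal, PrimeSpectrum.mem_vanishingIdeal] at hr
    have hp : U.2.fromSpec (U.2.primeIdealOf ⟨f (i z), hzU⟩) = f (i z) := U.2.fromSpec_primeIdealOf _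
    have hin := hr (U.2.primeIdealOf ⟨f (i z), hzU⟩) (by
      show U.2.fromSpec _ ∈ closure ({f y'} : Set Y)
      rw [hp]; exact hmaps z)
    exact (EGA43.InjFibre.mem_basicOpen_iff_notMem U.2 hzU r).1 hzb hin
  have hyG : f y' ∈ CohB1.support G := by
    intro hsub
    let one : G.presheaf.stalk (f y') := G.presheaf.germ ⊤ (f y') trivial
      (show Γ(G, ⊤) from clOne y' (f ⁻¹ᵁ ⊤))
    have h0 : one = G.presheaf.germ ⊤ (f y') trivial 0 :=
      (Subsingleton.elim one 0).trans (map_zero _).symm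
    obtain ⟨W, hW, i₁, i₂, e₁⟩ := TopCat.Presheaf.germ_eq _ (f y') (U := (⊤ : Y.Opens)) (V := (⊤ : Y.Opens))
      trivial trivial _ _ h0
    rw [map_zero] at e₁
    let i := (clI y').subschemeι
    have e₂ : (clI y').subscheme.presheaf.map ((Opens.map i.base).map ((Opens.map f.base).map i₁)).op
        (1 : Γ((clI y').subscheme, i ⁻¹ᵁ (f ⁻¹ᵁ ⊤))) = 0 := e₁
    rw [map_one] at e₂
    obtain ⟨z, hz⟩ : y' ∈ Set.range i := by rw [range_clι]; exact subset_closure rfl
    have := congrArg ((clI y').subscheme.presheaf.germ (i ⁻¹ᵁ (f ⁻¹ᵁ W)) z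
      (show f (i z) ∈ W from hz.symm ▸ hW)) e₂
    rw [map_one, map_zero] at this
    exact one_ne_zero this
  rintro C hC hCZ ⟨e⟩
  have := finite_stalk hG (f y')
  obtain ⟨n, ⟨eG⟩⟩ := exists_equiv_fin (R := Y.presheaf.stalk (f y')) (M := G.presheaf.stalk (f y'))
    fun r hr a => hk r (by rwa [pow_one]) a
  rcases n with _ | n
  · exact absurd eG.toEquiv.subsingleton hyG
  let Fn : Fin (n + 1) → Y.Modules := fun _ => C
  haveI : PreservesBinaryBiproducts (DerSch.stalkFunctor Y (f y')) :=
    preservesBinaryBiproducts_of_preservesBinaryCoproducts _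
  have : (DerSch.stalkFunctor Y (f y')).Additive := Functor.additive_of_preservesBinaryBiproducts _
  let eF : (DerSch.stalkFunctor Y (f y')).obj (⨁ Fn) ≅ (DerSch.stalkFunctor Y (f y')).obj G :=
    (DerSch.stalkFunctor Y (f y')).mapBiproduct Fn ≪≫ biproduct.mapIso (fun _ => e) ≪≫
      ModuleCat.biproductIsoPi (fun _ : Fin (n + 1) => resMod (f y')) ≪≫
      (eG.symm.toModuleIso : ModuleCat.of _ (Fin (n + 1) → resMod (f y')) ≅ (DerSch.stalkFunctor Y (f y')).obj G)
  have hFn : Coh.IsCoh (⨁ Fn) := isCoh_biproduct Fn fun _ => hC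
  have hzero : Δ (⨁ Fn) = 0 := ((mem_iff_of_stalk_iso hK' hsm hFn hG
    (support_biproduct_subset Fn fun _ => hCZ) hGs eF hk).2 ⟨hpush _ (isCoh_clM y'), Set.subset_univ _⟩).1
  rw [hadd.apply_biproduct hiso hC (n + 1)] at hzero
  exact ⟨(mul_eq_zero.1 hzero).resolve_left (by omega), Set.subset_univ _⟩

/-- `χ(f^*F) = d·χ(F)` once it holds for direct images. -/
theorem euler_pullback_eq_mul (k : Type u) [Field k] [X.Over (Spec (CommRingCat.of k))]
    [Y.Over (Spec (CommRingCat.of k))] [IsProper (X ↘ Spec (CommRingCat.of k))]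
    [IsProper (Y ↘ Spec (CommRingCat.of k))] [Flat f]
    (hf : f ≫ (Y ↘ Spec (CommRingCat.of k)) = X ↘ Spec (CommRingCat.of k)) (d : ℤ)
    (h : ∀ G : X.Modules, Coh.IsCoh G →
      Curv2.euler k X ((Scheme.Modules.pullback f).obj ((Coh.push f).obj G)) = d * Curv2.euler k X G)
    {F : Y.Modules} (hF : Coh.IsCoh F) :
    Curv2.euler k X ((Scheme.Modules.pullback f).obj F) = d * Curv2.euler k Y F := by
  haveI := isSeparated_of_proper (X := Y) k
  refine sub_eq_zero.1 (additive_eq_zero_of_push f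
    (Δ := fun M => Curv2.euler k X ((Scheme.Modules.pullback f).obj M) - d * Curv2.euler k Y M) ?_ ?_ ?_ hF)
  · rintro M N ⟨e⟩
    simp only [euler_congr k X ((Scheme.Modules.pullback f).mapIso e), euler_congr k Y e]
  · intro S hS c₁ c₂ c₃
    have h1 := euler_additive k Y S hS c₁ c₂ c₃
    have h2 := euler_additive k X (S.map (Scheme.Modules.pullback f)) (hS.map_of_exact _)
      (ZClosLib.isCoh_pullback f _ c₁) (ZClosLib.isCoh_pullback f _ c₂) (ZClosLib.isCoh_pullback f _ c₃)
    simp only [ShortComplex.map_X₁, ShortComplex.map_X₂, ShortComplex.map_X₃] at h2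
    simp only [h1, h2]
    ring
  · intro G hG
    haveI := hG.1
    simp only [h G hG, euler_push k f hf G, sub_self]

end Groth.Agent.AbCubeLib
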