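import Groth.Agent.CubeLib.FieldChange
import Mathlib.CategoryTheory.Monoidal.Cartesian.Grp

/-!
# The cubical relation on a proper geometrically integral group scheme
-/

set_option autoImplicit false
set_option backward.isDefEq.respectTransparency.types false

universe u

open CategoryTheory CategoryTheory.Limits MonoidalCategory CartesianMonoidalCategory AlgebraicGeometry MonObj
open Groth.Agent.PicLib Groth.Agent.CubeLib

namespace Groth.Agent.AbCubeLib

variable {k : Type u} [Field k] {A : Over (Spec (CommRingCat.of k))} [GrpObj A]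

/-- Pullback of a class along a morphism of `k`-schemes. -/
noncomputable abbrev pb {V W : Over (Spec (CommRingCat.of k))} (f : V ⟶ W) (a : PicM W.left) : PicM V.left :=
  PicM.pull f.left a

theorem pb_pb {U V W : Over (Spec (CommRingCat.of k))} (f : U ⟶ V) (g : V ⟶ W) (a : PicM W.left) :
    pb f (pb g a) = pb (f ≫ g) a := by
  rw [pb, pb, pb, PicM.pull_pull, Over.comp_left]

/-- Constant maps pull every class back to the trivial one. -/
theorem pb_one (V : Over (Spec (CommRingCat.of k))) (a : PicM A.left) : pb (1 : V ⟶ A) a = 1 := by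
  rw [show (1 : V ⟶ A) = toUnit V ≫ η[A] from rfl, ← pb_pb]
  have h : pb η[A] a = 1 := PicM.eq_one_of_field k _
  rw [h]
  exact map_one _

variable [IsProper A.hom] [GeometricallyIntegral A.hom]

/-- The cubical relation. -/
theorem cube_relation (a : PicM A.left) {V : Over (Spec (CommRingCat.of k))} (f g h : V ⟶ A) :
    pb (f * g * h) a * pb f a * pb g a * pb h a = pb (f * g) a * pb (f * h) a * pb (g * h) a := by
  let p : A ⊗ (A ⊗ A) ⟶ A := fst _ _
  let q : A ⊗ (A ⊗ A) ⟶ A := snd _ _ ≫ fst _ _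
  let r : A ⊗ (A ⊗ A) ⟶ A := snd _ _ ≫ snd _ _
  have huniv : pb (p * q * r) a * pb p a * pb q a * pb r a = pb (p * q) a * pb (p * r) a * pb (q * r) a := by
    refine eq_of_slices η[A] η[A] η[A] ?_ ?_ ?_
    · simp only [map_mul]
      simp only [pb_pb, comp_mul]
      have e₁ : lift (toUnit (A ⊗ A) ≫ η[A]) (𝟙 (A ⊗ A)) ≫ p = 1 := by simp [p]; rfl
      have e₂ : lift (toUnit (A ⊗ A) ≫ η[A]) (𝟙 (A ⊗ A)) ≫ q = fst A A := by simp [q]
      have e₃ : lift (toUnit (A ⊗ A) ≫ η[A]) (𝟙 (A ⊗ A)) ≫ r = snd A A := by simp [r]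
      simp only [e₁, e₂, e₃, _root_.one_mul, pb_one, _root_.mul_one]
      simp only [_root_.mul_comm, _root_.mul_left_comm]
    · simp only [map_mul]
      simp only [pb_pb, comp_mul]
      have e₁ : lift (fst A A) (lift (toUnit (A ⊗ A) ≫ η[A]) (snd A A)) ≫ p = fst A A := by simp [p]
      have e₂ : lift (fst A A) (lift (toUnit (A ⊗ A) ≫ η[A]) (snd A A)) ≫ q = 1 := by simp [q]; rfl
      have e₃ : lift (fst A A) (lift (toUnit (A ⊗ A) ≫ η[A]) (snd A A)) ≫ r = snd A A := by simp [r]
      simp only [e₁, e₂, e₃, _root_.one_mul, pb_one, _root_.mul_one]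
      simp only [_root_.mul_comm, _root_.mul_left_comm]
    · simp only [map_mul]
      simp only [pb_pb, comp_mul]
      have e₁ : lift (fst A A) (lift (snd A A) (toUnit (A ⊗ A) ≫ η[A])) ≫ p = fst A A := by simp [p]
      have e₂ : lift (fst A A) (lift (snd A A) (toUnit (A ⊗ A) ≫ η[A])) ≫ q = snd A A := by simp [q]
      have e₃ : lift (fst A A) (lift (snd A A) (toUnit (A ⊗ A) ≫ η[A])) ≫ r = 1 := by simp [r]; rfl
      simp only [e₁, e₂, e₃, _root_.one_mul, pb_one, _root_.mul_one]
  have h' := congrArg (pb (lift f (lift g h))) huniv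
  simp only [map_mul, pb_pb, comp_mul] at h'
  simpa [p, q, r] using h'

end Groth.Agent.AbCubeLib
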