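import Mathlib
import Groth.Agent.UfdExt24.Extend

/-!
# Affine opens of the spectrum of a factorial domain
-/

set_option autoImplicit false
set_option backward.isDefEq.respectTransparency.types false

universe u

open CategoryTheory AlgebraicGeometry Opposite TopologicalSpace

namespace Groth.Agent.AbCubeLib

variable {Y : Scheme.{u}}

/-- A nonempty affine open of an affine scheme with factorial domain of functions is principal, with a generator of
a radical ideal. -/
theorem exists_basicOpen_eq_of_affine [IsAffine Y] [IsDomain Γ(Y, ⊤)] [UniqueFactorizationMonoid Γ(Y, ⊤)]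
    {V : Y.Opens} (hV : IsAffineOpen V) (hne : (V : Set Y).Nonempty) :
    ∃ f : Γ(Y, ⊤), f ≠ 0 ∧ (∀ g (n : ℕ), f ∣ g ^ n → f ∣ g) ∧ V = Y.basicOpen f := by
  classical
  have : Nonempty Y := ⟨hne.some⟩
  have : IsIntegral Y := isIntegral_of_isAffine_of_isDomain Y
  have hT : IsAffineOpen (⊤ : Y.Opens) := isAffineOpen_top Y
  obtain ⟨y₀, hy₀⟩ := hne
  have : Nonempty V := ⟨⟨y₀, hy₀⟩⟩
  obtain ⟨a, ha, hy₀a⟩ := hT.exists_basicOpen_le (V := V) ⟨y₀, hy₀⟩ trivial
  have ha0 : a ≠ 0 := by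
    rintro rfl
    rw [Scheme.basicOpen_zero] at hy₀a
    exact hy₀a
  -- the point of a prime element
  have hpt : ∀ π : Γ(Y, ⊤), Prime π → ∃ q : Y, ∀ r : Γ(Y, ⊤), q ∈ Y.basicOpen r ↔ ¬π ∣ r := by
    intro π hπ
    let P : PrimeSpectrum Γ(Y, ⊤) := ⟨Ideal.span {π}, (Ideal.span_singleton_prime hπ.ne_zero).2 hπ⟩
    refine ⟨hT.fromSpec P, fun r => ?_⟩
    show P ∈ hT.fromSpec ⁻¹ᵁ Y.basicOpen r ↔ _
    rw [hT.fromSpec_preimage_basicOpen r, ← Ideal.mem_span_singleton]
    rfl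
  choose! q hq using hpt
  have hqdvd : ∀ π : Γ(Y, ⊤), Prime π → q π ∉ V → π ∣ a := fun π hπ h => by
    by_contra h'
    exact h (ha ((hq π hπ a).2 h'))
  let T : Finset (Associates Γ(Y, ⊤)) :=
    ((UniqueFactorizationMonoid.factors a).map Associates.mk).toFinset.filter fun c => q (Quot.out c) ∉ V
  let f : Γ(Y, ⊤) := ∏ c ∈ T, (Quot.out c)
  have hTp : ∀ c ∈ T, Prime (Quot.out c) := by
    intro c hc
    obtain ⟨p, hp, rfl⟩ := Multiset.mem_map.1 (Multiset.mem_toFinset.1 (Finset.mem_filter.1 hc).1)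
    exact (Associates.mk_eq_mk_iff_associated.1 (Associates.quot_out (Associates.mk p))).symm.prime
      (UniqueFactorizationMonoid.prime_of_factor p hp)
  -- every prime outside `V` divides `f`
  have hmemT : ∀ π : Γ(Y, ⊤), Prime π → q π ∉ V → π ∣ f := by
    intro π hπ h
    obtain ⟨p, hp, hpπ⟩ := UniqueFactorizationMonoid.exists_mem_factors_of_dvd ha0 hπ.irreducible (hqdvd π hπ h)
    let c := Associates.mk p
    have hassoc : Associated π (Quot.out c) := hpπ.trans (Associates.mk_eq_mk_iff_associated.1 (Associates.quot_out c)).symm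
    have hc : c ∈ T := Finset.mem_filter.2 ⟨Multiset.mem_toFinset.2 (Multiset.mem_map_of_mem _ hp), fun hc' => h ?_⟩
    · exact hassoc.dvd.trans (Finset.dvd_prod_of_mem _ hc)
    · have hπ' : Prime (Quot.out c) := hassoc.prime hπ
      by_contra hqV
      obtain ⟨r, hr, hrm⟩ := hT.exists_basicOpen_le (V := V) ⟨q (Quot.out c), hc'⟩ trivial
      refine hqV (hr ((hq π hπ r).2 fun hd => (hq _ hπ' r).1 hrm (hassoc.symm.dvd.trans hd)))
  have hf0 : f ≠ 0 := Finset.prod_ne_zero_iff.2 fun c hc => (hTp c hc).ne_zero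
  have hrad : ∀ g (n : ℕ), f ∣ g ^ n → f ∣ g := by
    intro g n h
    have hmk : Associates.mk f = ∏ c ∈ T, c := by
      show Associates.mkMonoidHom f = _
      rw [map_prod]
      exact Finset.prod_congr rfl fun c _ => Associates.quot_out c
    rw [← Associates.mk_dvd_mk, hmk]
    refine Finset.prod_primes_dvd _ (fun c hc => ?_) (fun c hc => ?_)
    · rw [← Associates.quot_out c]
      exact Associates.prime_mk.2 (hTp c hc)
    · rw [← Associates.quot_out c, Associates.mk_dvd_mk]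
      exact (hTp c hc).dvd_of_dvd_pow ((Finset.dvd_prod_of_mem _ hc).trans h)
  have hVf : V ≤ Y.basicOpen f := by
    intro y hy
    by_contra hyf
    have hnu : ¬IsUnit (Y.presheaf.germ ⊤ y trivial f) := fun hu => hyf ((Y.mem_basicOpen f y trivial).2 hu)
    obtain ⟨c, hc, hcu⟩ : ∃ c ∈ T, ¬IsUnit (Y.presheaf.germ ⊤ y trivial (Quot.out c)) := by
      by_contra hcon
      push Not at hcon
      refine hnu ?_
      rw [map_prod]
      exact IsUnit.prod_iff.2 hcon
    obtain ⟨r, hr, hyr⟩ := hT.exists_basicOpen_le (V := V) ⟨y, hy⟩ trivial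
    refine (Finset.mem_filter.1 hc).2 (hr ((hq _ (hTp c hc) r).2 fun hd => hcu ?_))
    exact isUnit_of_dvd_unit (map_dvd (Y.presheaf.germ ⊤ y trivial).hom hd) ((Y.mem_basicOpen r y trivial).1 hyr)
  refine ⟨f, hf0, hrad, ?_⟩
  let ρ : Γ(Y, ⊤) →+* Γ(Y, V) := (Y.presheaf.map (homOfLE (le_top : V ≤ ⊤)).op).hom
  have hρ : Function.Injective ρ := AlgebraicGeometry.map_injective_of_isIntegral Y (homOfLE le_top)
  -- denominators
  have hden : ∀ (b : Γ(Y, V)) (y : Y), y ∈ V → ∃ s c : Γ(Y, ⊤), y ∈ Y.basicOpen s ∧ ρ s * b = ρ c := by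
    intro b y hy
    let _ := Y.presheaf.algebra_section_stalk (⟨y, trivial⟩ : (⊤ : Y.Opens))
    have := hT.isLocalization_stalk ⟨y, trivial⟩
    obtain ⟨⟨c, s⟩, hcs⟩ := IsLocalization.surj (hT.primeIdealOf ⟨y, trivial⟩).asIdeal.primeCompl
      (Y.presheaf.germ V y hy b)
    have hg : ∀ r : Γ(Y, ⊤), Y.presheaf.germ V y hy (ρ r) = Y.presheaf.germ ⊤ y trivial r := fun r =>
      TopCat.Presheaf.germ_res_apply Y.presheaf (homOfLE le_top) y hy r
    refine ⟨s.1, c, (Y.mem_basicOpen (U := ⊤) s.1 y trivial).2 (IsLocalization.map_units (Y.presheaf.stalk y) s),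
      germ_injective_of_isIntegral Y y hy ?_⟩
    rw [map_mul, hg, hg, mul_comm]
    exact hcs
  have hsurj : ∀ b : Γ(Y, V), ∃ (n : ℕ) (c : Γ(Y, ⊤)), ρ (f ^ n) * b = ρ c := by
    intro b
    obtain ⟨s₀, c₀, hs₀, hsc₀⟩ := hden b y₀ hy₀
    have key : ∀ s : Γ(Y, ⊤), s ≠ 0 → ∀ m, (∃ c, ρ (f ^ m * s) * b = ρ c) → ∃ n c, ρ (f ^ n) * b = ρ c := by
      intro s
      induction s using UniqueFactorizationMonoid.induction_on_prime with
      | h₁ => exact fun h => absurd rfl h
      | h₂ u hu =>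
        intro _ m ⟨c, hc⟩
        obtain ⟨v, hv⟩ := hu.exists_right_inv
        refine ⟨m, c * v, ?_⟩
        rw [map_mul ρ c, ← hc, map_mul, mul_assoc (ρ (f ^ m)), mul_comm (ρ u) b, ← mul_assoc, mul_assoc _ (ρ u),
          ← map_mul, hv, map_one, mul_one]
      | h₃ t π ht hπ ih =>
        intro h0 m ⟨c, hc⟩
        have ht0 : t ≠ 0 := ht
        by_cases hqV : q π ∈ V
        · obtain ⟨s', c', hs', hsc'⟩ := hden b (q π) hqV
          have hπs' : ¬π ∣ s' := (hq π hπ s').1 hs'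
          have e : c * s' = c' * (f ^ m * (π * t)) := hρ (by
            rw [map_mul, map_mul, ← hc, ← hsc']; ring)
          obtain ⟨c₁, rfl⟩ : π ∣ c := (hπ.dvd_or_dvd (a := c) (b := s') ⟨c' * (f ^ m * t), by rw [e]; ring⟩).resolve_right hπs'
          refine ih ht0 m ⟨c₁, ?_⟩
          refine mul_left_cancel₀ (show ρ π ≠ 0 from fun h => hπ.ne_zero (hρ (h.trans (map_zero ρ).symm))) ?_
          rw [← map_mul, ← hc, ← mul_assoc, ← map_mul]
          ring_nf
        · obtain ⟨g, hg⟩ := hmemT π hπ hqV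
          refine ih ht0 (m + 1) ⟨g * c, ?_⟩
          rw [map_mul ρ g, ← hc, ← mul_assoc, ← map_mul, pow_succ]
          congr 2
          rw [hg]; ring
    exact key s₀ (fun h0 => by rw [h0, Scheme.basicOpen_zero] at hs₀; exact hs₀) 0 ⟨c₀, by rw [pow_zero, one_mul, hsc₀]⟩
  have hD : IsAffineOpen (Y.basicOpen f) := hT.basicOpen f
  let i : V ⟶ Y.basicOpen f := homOfLE hVf
  have : Nonempty (Y.basicOpen f) := ⟨⟨y₀, hVf hy₀⟩⟩
  have hbij : Function.Bijective (Y.presheaf.map i.op) := by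
    refine ⟨AlgebraicGeometry.map_injective_of_isIntegral Y i, fun b => ?_⟩
    obtain ⟨n, c, hc⟩ := hsurj b
    let σ : Γ(Y, ⊤) →+* Γ(Y, Y.basicOpen f) := (Y.presheaf.map (homOfLE le_top).op).hom
    have hσ : ∀ r, Y.presheaf.map i.op (σ r) = ρ r := fun r => by
      show (Y.presheaf.map _ ≫ Y.presheaf.map _) r = _
      rw [← Functor.map_comp]
      rfl
    have hu : IsUnit (σ (f ^ n)) := by
      rw [map_pow]
      exact (RingedSpace.isUnit_res_basicOpen Y.toRingedSpace f).pow n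
    obtain ⟨v, hv⟩ := hu.exists_left_inv
    refine ⟨v * σ c, ?_⟩
    rw [map_mul, hσ, ← hc, ← hσ, ← mul_assoc, ← map_mul, hv, map_one, one_mul]
  have : IsIso (Y.presheaf.map i.op) := (ConcreteCategory.isIso_iff_bijective _).2 hbij
  refine le_antisymm hVf fun z hz => ?_
  obtain ⟨w, hw⟩ := hD.range_fromSpec.ge hz
  obtain ⟨w', rfl⟩ := (Spec.map (Y.presheaf.map i.op)).surjective w
  refine hV.range_fromSpec.le ⟨w', ?_⟩
  have e := hD.map_fromSpec hV i.op
  rw [← e]
  exact hw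

end Groth.Agent.AbCubeLib
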