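import Groth.Agent.Coherent.Serre.AmpleCriterion
import Groth.Agent.Coherent.Serre.Vanishing
import Groth.Agent.Coherent.FlatBaseChangeMain
import Groth.Agent.DCat.PullTensor
import Groth.Agent.AmpleLib.Twist2
import Groth.Agent.AmpleLib.Ample
import Mathlib.RingTheory.TensorProduct.IsBaseChangeFree
import Mathlib.RingTheory.Flat.FaithfullyFlat.Basic

/-!
# Ampleness descends along extensions of the ground field
-/

set_option autoImplicit false
set_option backward.isDefEq.respectTransparency false

universe u

open CategoryTheory CategoryTheory.Limits AlgebraicGeometry Opposite TopologicalSpace TensorProduct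
open Groth.Agent.Coherent Groth.Agent.PicLib Groth.Agent.AmpleLib Groth.Agent.Coherent.Serre

namespace Groth.Agent.AbCubeLib

variable (k K : Type u) [Field k] [Field K] [Algebra k K] {X X' : Scheme.{u}}
  [X.Over (Spec (CommRingCat.of k))] [X'.Over (Spec (CommRingCat.of K))] [IsProper (X ↘ Spec (CommRingCat.of k))]

/-- A module on a proper scheme over a field is ample as soon as it is ample after extension of the field. -/
theorem isAmple_of_baseChange (g : X' ⟶ X)
    (h : IsPullback g (X' ↘ Spec (CommRingCat.of K)) (X ↘ Spec (CommRingCat.of k))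
      (Spec.map (CommRingCat.ofHom (algebraMap k K))))
    {L : X.Modules} (hL : PicF.IsInvertible L) (hA : CohB1.IsAmple ((Scheme.Modules.pullback g).obj L)) :
    CohB1.IsAmple L := by
  have : IsProper (X' ↘ Spec (CommRingCat.of K)) :=
    MorphismProperty.IsStableUnderBaseChange.of_isPullback (P := @IsProper) h inferInstance
  have : IsLocallyNoetherian X := LocallyOfFiniteType.isLocallyNoetherian (X ↘ Spec (CommRingCat.of k))
  have : CompactSpace X := QuasiCompact.compactSpace_of_compactSpace (X ↘ Spec (CommRingCat.of k))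
  have : QuasiSeparatedSpace X :=
    (HasAffineProperty.iff_of_isAffine (P := @QuasiSeparated) (f := X ↘ Spec (CommRingCat.of k))).mp inferInstance
  refine isAmple_of_H1_twisted_ideals hL fun I i hi hI => ?_
  have hIc : Coh.IsCoh I := isCoh_of_mono i (isCoh_structureModule X) hI
  have : Coh.IsQCoh I := hI
  have : Coh.IsQCoh ((Scheme.Modules.pullback g).obj I) := EGA43.InjFibre.isQCoh_pullback _ _
  obtain ⟨n₀, hn₀⟩ := exists_subsingleton_HH_twist K hA ((Scheme.Modules.pullback g).obj I)
    ⟨EGA43.InjFibre.isQCoh_pullback _ _, isFT_pullback_qcoh _ hIc.1 hIc.2⟩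
  refine ⟨n₀, ?_⟩
  let M := CohB1.tensorMod I (CohB1.tensorPow L (n₀ + 1))
  have : Coh.IsQCoh M := isQCoh_tensor_invertible I (isInvertible_tensorPow hL _)
  obtain ⟨e⟩ := nonempty_flat_base_change (A := k) (B := K) (g := g) (M := M) h 1
  obtain ⟨ep, -⟩ := exists_pullPowIso g hL (n₀ + 1)
  have eM : (Scheme.Modules.pullback g).obj M ≅
      CohB1.tensorMod ((Scheme.Modules.pullback g).obj I) (CohB1.tensorPow ((Scheme.Modules.pullback g).obj L) (n₀ + 1)) :=
    Groth.Agent.DCat.PullTensor.pullTensorIso g I (CohB1.tensorPow L (n₀ + 1)) ≪≫ tensorIso (Iso.refl _) ep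
  have h1 : Subsingleton (Coh.HH X' ((Scheme.Modules.pullback g).obj M) 1) :=
    HH_subsingleton_of_iso K eM.symm 1 (hn₀ (n₀ + 1) (Nat.le_succ _) 1 one_pos)
  have h2 : Subsingleton (K ⊗[k] Coh.HH X M 1) := e.toEquiv.subsingleton
  by_contra hne
  rw [not_subsingleton_iff_nontrivial] at hne
  exact not_subsingleton (K ⊗[k] Coh.HH X M 1) h2

end Groth.Agent.AbCubeLib
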