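import Groth.Agent.AbCubeLib.Invariant
import Groth.Agent.AbCubeLib.AmpleField
import Groth.Agent.AbVarLib.AlgClosedIntegral
import Mathlib.CategoryTheory.Monoidal.Cartesian.Over

/-!
# A section with affine nonvanishing locus on an abelian variety
-/

set_option autoImplicit false
set_option backward.isDefEq.respectTransparency.types false

universe u

open CategoryTheory CategoryTheory.Limits MonoidalCategory CartesianMonoidalCategory AlgebraicGeometry MonObj
  TopologicalSpace
open Groth.Agent.PicLib Groth.Agent.CubeLib Groth.Agent.AmpleLib Groth.Agent.Coherent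

namespace Groth.Agent.AbCubeLib

variable {k : Type u} [Field k] {A : Over (Spec (CommRingCat.of k))}
  [GrpObj A] [IsProper A.hom] [GeometricallyIntegral A.hom]

/-- Translation by a point is an isomorphism. -/
theorem isIso_translate (x : 𝟙_ (Over (Spec (CommRingCat.of k))) ⟶ A) : IsIso (𝟙 A * (toUnit A ≫ x)) := by
  have h : ∀ a b : 𝟙_ (Over (Spec (CommRingCat.of k))) ⟶ A,
      (𝟙 A * (toUnit A ≫ a)) ≫ (𝟙 A * (toUnit A ≫ b)) = 𝟙 A * (toUnit A ≫ (a * b)) := fun a b => by
    rw [comp_mul, Category.comp_id, ← Category.assoc, comp_toUnit, _root_.mul_assoc, ← comp_mul]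
  refine ⟨𝟙 A * (toUnit A ≫ x⁻¹), ?_, ?_⟩
  · rw [h, mul_inv_cancel, comp_one, _root_.mul_one]
  · rw [h, inv_mul_cancel, comp_one, _root_.mul_one]

/-- Inversion followed by translation is an involution. -/
theorem isIso_inv_translate (x : 𝟙_ (Over (Spec (CommRingCat.of k))) ⟶ A) :
    IsIso ((𝟙 A)⁻¹ * (toUnit A ≫ x)) := by
  haveI : IsCommMonObj A := isCommMonObj_of_isProper_of_geometricallyIntegral A
  have h : ((𝟙 A)⁻¹ * (toUnit A ≫ x)) ≫ ((𝟙 A)⁻¹ * (toUnit A ≫ x)) = 𝟙 A := by
    rw [comp_mul, ← Category.assoc, comp_toUnit, GrpObj.comp_inv, Category.comp_id, _root_.mul_inv_rev,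
      _root_.inv_inv, _root_.mul_comm (toUnit A ≫ x)⁻¹, _root_.mul_assoc, _root_.inv_mul_cancel, _root_.mul_one]
  exact ⟨(𝟙 A)⁻¹ * (toUnit A ≫ x), h, h⟩

variable [IsAlgClosed k]

/-- An invertible module with a section whose nonvanishing locus is affine and nonempty is ample. -/
theorem isAmple_of_affine_glocus {L : A.left.Modules} (hL : PicF.IsInvertible L) (s : Γ(L, ⊤))
    (haff : IsAffineOpen (glocus L s)) (hne : (glocus L s : Set A.left).Nonempty) : CohB1.IsAmple L := by
  haveI : IsCommMonObj A := isCommMonObj_of_isProper_of_geometricallyIntegral A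
  have : CompactSpace A.left := QuasiCompact.compactSpace_of_compactSpace A.hom
  have : A.left.IsSeparated := Serre.isSeparated_of_isProper A.hom
  have : IsIntegral A.left := GeometricallyIntegral.isIntegral_of_subsingleton A.hom
  have : JacobsonSpace A.left := LocallyOfFiniteType.jacobsonSpace A.hom
  refine ⟨hL, inferInstance, fun z => ?_⟩
  obtain ⟨y, hy, hyc⟩ := (isClosed_closure (s := ({z} : Set A.left))).exists_closed_singleton ⟨z, subset_closure rfl⟩
  let p : 𝟙_ (Over (Spec (CommRingCat.of k))) ⟶ A :=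
    Over.homMk (pointOfClosedPoint A.hom y hyc) (pointOfClosedPoint_comp A.hom y hyc)
  have := isIso_translate p
  have := isIso_inv_translate p
  have : IsIso (𝟙 A * (toUnit A ≫ p)).left :=
    inferInstanceAs (IsIso ((Over.forget _).map (𝟙 A * (toUnit A ≫ p))))
  have : IsIso ((𝟙 A)⁻¹ * (toUnit A ≫ p)).left :=
    inferInstanceAs (IsIso ((Over.forget _).map ((𝟙 A)⁻¹ * (toUnit A ≫ p))))
  let O₁ : A.left.Opens := (𝟙 A * (toUnit A ≫ p)).left ⁻¹ᵁ glocus L s
  let O₂ : A.left.Opens := ((𝟙 A)⁻¹ * (toUnit A ≫ p)).left ⁻¹ᵁ glocus L s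
  have hO₁ : (O₁ : Set A.left).Nonempty := hne.preimage (Surjective.surj)
  have hO₂ : (O₂ : Set A.left).Nonempty := hne.preimage (Surjective.surj)
  obtain ⟨w, ⟨hw₁, hw₂⟩, hwc⟩ := nonempty_inter_closedPoints
    (nonempty_preirreducible_inter O₁.isOpen O₂.isOpen hO₁ hO₂) (O₁.isOpen.inter O₂.isOpen).isLocallyClosed
  let x : 𝟙_ (Over (Spec (CommRingCat.of k))) ⟶ A :=
    Over.homMk (pointOfClosedPoint A.hom w hwc) (pointOfClosedPoint_comp A.hom w hwc)
  have := isIso_translate x
  have := isIso_translate x⁻¹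
  let t₁ := (𝟙 A * (toUnit A ≫ x)).left
  let t₂ := (𝟙 A * (toUnit A ≫ x⁻¹)).left
  have : IsIso t₁ := inferInstanceAs (IsIso ((Over.forget _).map (𝟙 A * (toUnit A ≫ x))))
  have : IsIso t₂ := inferInstanceAs (IsIso ((Over.forget _).map (𝟙 A * (toUnit A ≫ x⁻¹))))
  have h1 : t₁ y ∈ glocus L s := by
    have e : p ≫ (𝟙 A * (toUnit A ≫ x)) = x ≫ (𝟙 A * (toUnit A ≫ p)) := by
      simp only [comp_mul, Category.comp_id, ← Category.assoc, comp_toUnit, toUnit_unique (toUnit (𝟙_ _)) (𝟙 _),
        Category.id_comp]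
      exact _root_.mul_comm _ _
    have e2 : t₁ (p.left (IsLocalRing.closedPoint k)) =
        (𝟙 A * (toUnit A ≫ p)).left (x.left (IsLocalRing.closedPoint k)) := by
      rw [← Scheme.Hom.comp_apply, ← Scheme.Hom.comp_apply, ← Over.comp_left, ← Over.comp_left, e]
    rw [show p.left (IsLocalRing.closedPoint k) = y from pointOfClosedPoint_apply _ _ _ _,
      show x.left (IsLocalRing.closedPoint k) = w from pointOfClosedPoint_apply _ _ _ _] at e2
    rw [e2]
    exact hw₁
  have h2 : t₂ y ∈ glocus L s := by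
    have e : p ≫ (𝟙 A * (toUnit A ≫ x⁻¹)) = x ≫ ((𝟙 A)⁻¹ * (toUnit A ≫ p)) := by
      simp only [comp_mul, GrpObj.comp_inv, Category.comp_id, ← Category.assoc, comp_toUnit,
        toUnit_unique (toUnit (𝟙_ _)) (𝟙 _), Category.id_comp]
      exact _root_.mul_comm _ _
    have e2 : t₂ (p.left (IsLocalRing.closedPoint k)) =
        ((𝟙 A)⁻¹ * (toUnit A ≫ p)).left (x.left (IsLocalRing.closedPoint k)) := by
      rw [← Scheme.Hom.comp_apply, ← Scheme.Hom.comp_apply, ← Over.comp_left, ← Over.comp_left, e]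
    rw [show p.left (IsLocalRing.closedPoint k) = y from pointOfClosedPoint_apply _ _ _ _,
      show x.left (IsLocalRing.closedPoint k) = w from pointOfClosedPoint_apply _ _ _ _] at e2
    rw [e2]
    exact hw₂
  have hcls : PicM.pull t₁ (PicM.of hL) * PicM.pull t₂ (PicM.of hL) = PicM.of (isInvertible_tensorPow hL 2) := by
    have h := square_const (PicM.of hL) (𝟙 A) x x⁻¹
    rw [mul_inv_cancel, comp_one, _root_.mul_one, pb_id] at h
    exact h.symm.trans (by rw [PicM.of_tensorPow, pow_two])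
  rw [PicM.pull_of, PicM.pull_of, PicM.of_mul, PicM.of_eq_iff] at hcls
  obtain ⟨e⟩ := hcls
  let σ : Γ(CohB1.tensorPow L 2, ⊤) := e.hom.app ⊤ (tmul (pullSec t₁ s) (pullSec t₂ s))
  have hσ : glocus (CohB1.tensorPow L 2) σ = t₁ ⁻¹ᵁ glocus L s ⊓ t₂ ⁻¹ᵁ glocus L s :=
    (glocus_map_iso e _).trans ((glocus_tmul (PicLoc.isInvertible_pullback _ hL) (PicLoc.isInvertible_pullback _ hL)
      _ _).trans (by rw [glocus_pullSec t₁ hL, glocus_pullSec t₂ hL]))
  refine ⟨1, unitDesc (CohB1.tensorPow L 2) σ, ?_, ?_⟩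
  · show z ∈ glocus (CohB1.tensorPow L 2) σ
    obtain ⟨z', hz', rfl⟩ := mem_closure_iff.1 hy _ (glocus (CohB1.tensorPow L 2) σ).2 (hσ.ge ⟨h1, h2⟩)
    exact hz'
  · show IsAffineOpen (glocus (CohB1.tensorPow L 2) σ)
    rw [hσ]
    exact (haff.preimage_of_isIso t₁).inf (haff.preimage_of_isIso t₂)

end Groth.Agent.AbCubeLib

namespace Groth.Agent.AbCubeLib

variable {k : Type u} [Field k] {A : Over (Spec (CommRingCat.of k))}
  [GrpObj A] [IsProper A.hom] [GeometricallyIntegral A.hom]

/-- The same over an arbitrary field. -/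
theorem isAmple_of_affine_glocus' {L : A.left.Modules} (hL : PicF.IsInvertible L) (s : Γ(L, ⊤))
    (haff : IsAffineOpen (glocus L s)) (hne : (glocus L s : Set A.left).Nonempty) : CohB1.IsAmple L := by
  let K := AlgebraicClosure k
  let φ : Spec (CommRingCat.of K) ⟶ Spec (CommRingCat.of k) := Spec.map (CommRingCat.ofHom (algebraMap k K))
  let B : Over (Spec (CommRingCat.of K)) := (Over.pullback φ).obj A
  letI : GrpObj B := Functor.grpObjObj
  have : IsProper B.hom := inferInstanceAs (IsProper (pullback.snd A.hom φ))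
  have : GeometricallyIntegral B.hom := inferInstanceAs (GeometricallyIntegral (pullback.snd A.hom φ))
  let g : B.left ⟶ A.left := pullback.fst A.hom φ
  have hP : IsPullback g B.hom A.hom φ := IsPullback.of_hasPullback A.hom φ
  have : IsAffineHom g := MorphismProperty.of_isPullback (P := @IsAffineHom) hP.flip inferInstance
  have : Surjective g := MorphismProperty.of_isPullback (P := @Surjective) hP.flip
    (inferInstanceAs (Surjective φ))
  let _ : A.left.Over (Spec (CommRingCat.of k)) := ⟨A.hom⟩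
  let _ : B.left.Over (Spec (CommRingCat.of K)) := ⟨B.hom⟩
  have : IsProper (A.left ↘ Spec (CommRingCat.of k)) := inferInstanceAs (IsProper A.hom)
  refine isAmple_of_baseChange k K g hP hL (isAmple_of_affine_glocus (PicLoc.isInvertible_pullback g hL)
    (pullSec g s) ?_ ?_)
  · have h := glocus_pullSec g hL s
    exact h ▸ haff.preimage g
  · have h := glocus_pullSec g hL s
    exact h ▸ hne.preimage g.surjective

end Groth.Agent.AbCubeLib
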