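import Groth.Agent.AbCubeLib.KernelPhi
import Groth.Agent.AmpleLib.Generated
import Groth.Agent.PnEmb.Criterion
import Groth.Agent.PnEmb.Segre
import Groth.Agent.MorProj.ProperFinite
import Groth.Agent.AbVarLib.AlgClosedIntegral

/-!
# Sections of squares, and the ampleness criterion on an abelian variety
-/

set_option autoImplicit false
set_option backward.isDefEq.respectTransparency.types false
set_option maxHeartbeats 1000000

universe u

open CategoryTheory CategoryTheory.Limits MonoidalCategory CartesianMonoidalCategory AlgebraicGeometry MonObj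
  TopologicalSpace
open Groth.Agent.PicLib Groth.Agent.CubeLib Groth.Agent.AmpleLib Groth.Agent.Coherent

namespace Groth.Agent.AbCubeLib

/-- Sections without common zero generate. -/
theorem isGloballyGenerated_of_glocus {X : Scheme.{u}} {M : X.Modules}
    (h : ∀ z : X, ∃ σ : Γ(M, ⊤), z ∈ glocus M σ) : Curv2.IsGloballyGenerated M := by
  refine isGloballyGenerated_of_locally fun y => ?_
  obtain ⟨σ, hσ⟩ := h y
  refine ⟨glocus M σ, hσ, fun W hW a z hz => ⟨W, le_rfl, hz, ?_⟩⟩
  have hg := (le_glocus_iff σ W).1 hW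
  obtain ⟨c, hc⟩ := (hg W le_rfl).2 (resM M le_rfl a)
  rw [← hc]
  exact Submodule.smul_mem _ c (Submodule.subset_span ⟨σ, by simp [resM_self]⟩)

variable {k : Type u} [Field k] [IsAlgClosed k] {A : Over (Spec (CommRingCat.of k))}
  [GrpObj A] [IsProper A.hom] [GeometricallyIntegral A.hom]

omit [IsAlgClosed k] [IsProper A.hom] [GeometricallyIntegral A.hom] in
theorem point_translate (p x : 𝟙_ (Over (Spec (CommRingCat.of k))) ⟶ A) :
    p ≫ (𝟙 A * (toUnit A ≫ x)) = p * x := by
  simp only [comp_mul, Category.comp_id, ← Category.assoc, comp_toUnit, toUnit_unique (toUnit (𝟙_ _)) (𝟙 _),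
    Category.id_comp]

/-- For every point, the translations moving it and the opposite ones into a given nonempty open form a nonempty open. -/
theorem exists_open_translates (p : 𝟙_ (Over (Spec (CommRingCat.of k))) ⟶ A) (U : A.left.Opens)
    (hne : (U : Set A.left).Nonempty) :
    ∃ O : A.left.Opens, (O : Set A.left).Nonempty ∧ ∀ x : 𝟙_ (Over (Spec (CommRingCat.of k))) ⟶ A,
      x.left (IsLocalRing.closedPoint k) ∈ O → (p * x).left (IsLocalRing.closedPoint k) ∈ U ∧
        (p * x⁻¹).left (IsLocalRing.closedPoint k) ∈ U := by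
  haveI : IsCommMonObj A := isCommMonObj_of_isProper_of_geometricallyIntegral A
  have : IsIntegral A.left := GeometricallyIntegral.isIntegral_of_subsingleton A.hom
  have := isIso_translate p
  have := isIso_inv_translate p
  have : IsIso (𝟙 A * (toUnit A ≫ p)).left :=
    inferInstanceAs (IsIso ((Over.forget _).map (𝟙 A * (toUnit A ≫ p))))
  have : IsIso ((𝟙 A)⁻¹ * (toUnit A ≫ p)).left :=
    inferInstanceAs (IsIso ((Over.forget _).map ((𝟙 A)⁻¹ * (toUnit A ≫ p))))
  let O₁ : A.left.Opens := (𝟙 A * (toUnit A ≫ p)).left ⁻¹ᵁ U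
  let O₂ : A.left.Opens := ((𝟙 A)⁻¹ * (toUnit A ≫ p)).left ⁻¹ᵁ U
  have hO₁ : (O₁ : Set A.left).Nonempty := hne.preimage (Surjective.surj)
  have hO₂ : (O₂ : Set A.left).Nonempty := hne.preimage (Surjective.surj)
  refine ⟨O₁ ⊓ O₂, nonempty_preirreducible_inter O₁.isOpen O₂.isOpen hO₁ hO₂, fun x hx => ⟨?_, ?_⟩⟩
  · rw [_root_.mul_comm, ← point_translate, Over.comp_left]
    exact hx.1
  · rw [show p * x⁻¹ = x ≫ ((𝟙 A)⁻¹ * (toUnit A ≫ p)) by
      simp only [comp_mul, GrpObj.comp_inv, Category.comp_id, ← Category.assoc, comp_toUnit,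
        toUnit_unique (toUnit (𝟙_ _)) (𝟙 _), Category.id_comp]
      exact _root_.mul_comm _ _, Over.comp_left]
    exact hx.2

/-- A closed point in every open neighbourhood witness: points where a section of the square is nonzero. -/
theorem exists_sq_section {L : A.left.Modules} (hL : PicF.IsInvertible L) (s : Γ(L, ⊤))
    (x : 𝟙_ (Over (Spec (CommRingCat.of k))) ⟶ A) :
    ∃ σ : Γ(CohB1.tensorPow L 2, ⊤), glocus (CohB1.tensorPow L 2) σ =
      (𝟙 A * (toUnit A ≫ x)).left ⁻¹ᵁ glocus L s ⊓ (𝟙 A * (toUnit A ≫ x⁻¹)).left ⁻¹ᵁ glocus L s := by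
  let t₁ := (𝟙 A * (toUnit A ≫ x)).left
  let t₂ := (𝟙 A * (toUnit A ≫ x⁻¹)).left
  have hcls : PicM.pull t₁ (PicM.of hL) * PicM.pull t₂ (PicM.of hL) = PicM.of (isInvertible_tensorPow hL 2) := by
    have h := square_const (PicM.of hL) (𝟙 A) x x⁻¹
    rw [mul_inv_cancel, comp_one, _root_.mul_one, pb_id] at h
    exact h.symm.trans (by rw [PicM.of_tensorPow, pow_two])
  rw [PicM.pull_of, PicM.pull_of, PicM.of_mul, PicM.of_eq_iff] at hcls
  obtain ⟨e⟩ := hcls
  exact ⟨e.hom.app ⊤ (tmul (pullSec t₁ s) (pullSec t₂ s)),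
    (glocus_map_iso e _).trans ((glocus_tmul (PicLoc.isInvertible_pullback _ hL) (PicLoc.isInvertible_pullback _ hL)
      _ _).trans (by rw [glocus_pullSec t₁ hL, glocus_pullSec t₂ hL]))⟩

/-- The square of a module with a nonzero section has sections without common zero. -/
theorem exists_sq_section_mem {L : A.left.Modules} (hL : PicF.IsInvertible L) (s : Γ(L, ⊤))
    (hne : (glocus L s : Set A.left).Nonempty) (z : A.left) :
    ∃ σ : Γ(CohB1.tensorPow L 2, ⊤), z ∈ glocus (CohB1.tensorPow L 2) σ := by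
  have : CompactSpace A.left := QuasiCompact.compactSpace_of_compactSpace A.hom
  have : JacobsonSpace A.left := LocallyOfFiniteType.jacobsonSpace A.hom
  obtain ⟨y, hy, hyc⟩ := (isClosed_closure (s := ({z} : Set A.left))).exists_closed_singleton ⟨z, subset_closure rfl⟩
  let p : 𝟙_ (Over (Spec (CommRingCat.of k))) ⟶ A :=
    Over.homMk (pointOfClosedPoint A.hom y hyc) (pointOfClosedPoint_comp A.hom y hyc)
  obtain ⟨O, hO, hOx⟩ := exists_open_translates p (glocus L s) hne
  obtain ⟨w, hw, hwc⟩ := nonempty_inter_closedPoints hO O.isOpen.isLocallyClosed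
  let x : 𝟙_ (Over (Spec (CommRingCat.of k))) ⟶ A :=
    Over.homMk (pointOfClosedPoint A.hom w hwc) (pointOfClosedPoint_comp A.hom w hwc)
  obtain ⟨h1, h2⟩ := hOx x (show x.left (IsLocalRing.closedPoint k) ∈ O by
    rw [show x.left (IsLocalRing.closedPoint k) = w from pointOfClosedPoint_apply _ _ _ _]; exact hw)
  obtain ⟨σ, hσ⟩ := exists_sq_section hL s x
  refine ⟨σ, ?_⟩
  have hy' : y ∈ glocus (CohB1.tensorPow L 2) σ := by
    rw [show y = p.left (IsLocalRing.closedPoint k) from (pointOfClosedPoint_apply _ _ _ _).symm, hσ]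
    refine ⟨?_, ?_⟩
    · show (𝟙 A * (toUnit A ≫ x)).left (p.left _) ∈ glocus L s
      rw [← Scheme.Hom.comp_apply, ← Over.comp_left, point_translate]
      exact h1
    · show (𝟙 A * (toUnit A ≫ x⁻¹)).left (p.left _) ∈ glocus L s
      rw [← Scheme.Hom.comp_apply, ← Over.comp_left, point_translate]
      exact h2
  obtain ⟨z', hz', rfl⟩ := mem_closure_iff.1 hy _ (glocus (CohB1.tensorPow L 2) σ).2 hy'
  exact hz'

/-- If the square of a class with a nonzero section is trivial on an integral proper subscheme, so are all translates. -/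
theorem pb_translate_eq_one_of_sq {L : A.left.Modules} (hL : PicF.IsInvertible L) (s : Γ(L, ⊤))
    (hne : (glocus L s : Set A.left).Nonempty) {T : Over (Spec (CommRingCat.of k))} [IsProper T.hom]
    [IsIntegral T.left] (i : T ⟶ A) (h : pb i (PicM.of hL) * pb i (PicM.of hL) = 1)
    (x : 𝟙_ (Over (Spec (CommRingCat.of k))) ⟶ A) :
    pb (i * (toUnit T ≫ x)) (PicM.of hL) = 1 := by
  haveI : IsCommMonObj A := isCommMonObj_of_isProper_of_geometricallyIntegral A
  have : GeometricallyIntegral T.hom := AbVarLib.geometricallyIntegral_of_isAlgClosed T.hom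
  have : IsProper (fst A T).left := inferInstanceAs (IsProper (pullback.fst A.hom T.hom))
  have : GeometricallyIntegral (fst A T).left := inferInstanceAs (GeometricallyIntegral (pullback.fst A.hom T.hom))
  have : Flat T.hom := flat_of_field _
  have : Flat (fst A T).left := inferInstanceAs (Flat (pullback.fst A.hom T.hom))
  have : IsLocallyNoetherian A.left := LocallyOfFiniteType.isLocallyNoetherian A.hom
  have : IsIntegral A.left := GeometricallyIntegral.isIntegral_of_subsingleton A.hom
  have : JacobsonSpace A.left := LocallyOfFiniteType.jacobsonSpace A.hom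
  have : JacobsonSpace T.left := LocallyOfFiniteType.jacobsonSpace T.hom
  obtain ⟨f₀, -, hf₀⟩ := nonempty_inter_closedPoints (Z := (Set.univ : Set T.left)) Set.univ_nonempty
    isClosed_univ.isLocallyClosed
  let f : 𝟙_ (Over (Spec (CommRingCat.of k))) ⟶ T :=
    Over.homMk (pointOfClosedPoint T.hom f₀ hf₀) (pointOfClosedPoint_comp T.hom f₀ hf₀)
  obtain ⟨O, hO, hOx⟩ := exists_open_translates (f ≫ i) (glocus L s) hne
  have hnz : ∀ y : 𝟙_ (Over (Spec (CommRingCat.of k))) ⟶ A,
      (f ≫ i * y).left (IsLocalRing.closedPoint k) ∈ glocus L s →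
      pullSec (i * (toUnit T ≫ y)).left s ≠ 0 := by
    intro y hy h0
    have hm : f.left (IsLocalRing.closedPoint k) ∈
        glocus ((Scheme.Modules.pullback (i * (toUnit T ≫ y)).left).obj L) (pullSec (i * (toUnit T ≫ y)).left s) := by
      rw [glocus_pullSec _ hL]
      show (i * (toUnit T ≫ y)).left (f.left _) ∈ glocus L s
      rw [← Scheme.Hom.comp_apply, ← Over.comp_left, comp_mul, ← Category.assoc, comp_toUnit,
        toUnit_unique (toUnit (𝟙_ _)) (𝟙 _), Category.id_comp]
      exact hy
    have hW := isGen_glocus (pullSec (i * (toUnit T ≫ y)).left s)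
    rw [h0] at hm hW
    have : Nonempty ↥(glocus ((Scheme.Modules.pullback (i * (toUnit T ≫ y)).left).obj L)
        (0 : Γ((Scheme.Modules.pullback (i * (toUnit T ≫ y)).left).obj L, ⊤))) := ⟨⟨_, hm⟩⟩
    exact one_ne_zero (α := Γ(T.left, glocus ((Scheme.Modules.pullback (i * (toUnit T ≫ y)).left).obj L) 0))
      ((hW _ le_rfl).1 (by
        erw [map_zero, map_zero]; exact (smul_zero _).trans (smul_zero _).symm))
  have hO1 : ∀ y : 𝟙_ (Over (Spec (CommRingCat.of k))) ⟶ A, y.left (IsLocalRing.closedPoint k) ∈ O →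
      pb (i * (toUnit T ≫ y)) (PicM.of hL) = 1 := by
    intro y hy
    have hsq : pb (i * (toUnit T ≫ y)) (PicM.of hL) * pb (i * (toUnit T ≫ y⁻¹)) (PicM.of hL) = 1 := by
      rw [← square_const, mul_inv_cancel, comp_one, _root_.mul_one]
      exact h
    rw [pb, pb, PicM.pull_of, PicM.pull_of] at hsq
    rw [pb, PicM.pull_of]
    exact eq_one_of_sections T.hom (PicLoc.isInvertible_pullback _ hL) (PicLoc.isInvertible_pullback _ hL) hsq
      (hnz y (hOx y hy).1) (hnz y⁻¹ (hOx y hy).2)
  have hslice : ∀ y : 𝟙_ (Over (Spec (CommRingCat.of k))) ⟶ A,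
      pb (lift (toUnit T ≫ y) (𝟙 T)) (pb (snd A T ≫ i * fst A T) (PicM.of hL)) =
        pb (i * (toUnit T ≫ y)) (PicM.of hL) := fun y => by
    rw [pb_pb, comp_mul, ← Category.assoc, lift_snd, lift_fst, Category.id_comp]
  obtain ⟨N, hN, hNe⟩ := PicM.exists_eq_of (pb (snd A T ≫ i * fst A T) (PicM.of hL))
  have hcl := isClosed_setOf_trivial_fibre (fst A T).left (fun y =>
    GeometricallyIntegral.geometrically_isIntegral (f := (fst A T).left) _ _ _
      (IsPullback.of_hasPullback (fst A T).left (A.left.fromSpecResidueField y))) hN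
  have hOsub : (O : Set A.left) ⊆ {y | PicM.pull ((fst A T).left.fiberι y) (PicM.of hN) = 1} := by
    intro w hw
    by_contra hn
    obtain ⟨v, ⟨hv, hvO⟩, hvc⟩ := nonempty_inter_closedPoints (Z := {y | PicM.pull ((fst A T).left.fiberι y) (PicM.of hN) = 1}ᶜ ∩ O)
      ⟨w, hn, hw⟩ (hcl.isOpen_compl.inter O.isOpen).isLocallyClosed
    let y : 𝟙_ (Over (Spec (CommRingCat.of k))) ⟶ A :=
      Over.homMk (pointOfClosedPoint A.hom v hvc) (pointOfClosedPoint_comp A.hom v hvc)
    have hyv : y.left (IsLocalRing.closedPoint k) = v := pointOfClosedPoint_apply _ _ _ _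
    refine hv ?_
    show PicM.pull ((fst A T).left.fiberι v) (PicM.of hN) = 1
    rw [← hyv, pull_fiberι_eq_one_iff, ← hNe, hslice]
    exact hO1 y (show y.left (IsLocalRing.closedPoint k) ∈ O by rw [hyv]; exact hvO)
  have hall := (hcl.closure_subset_iff.2 hOsub) (show x.left (IsLocalRing.closedPoint k) ∈ closure (O : Set A.left) by
    rw [(O.isOpen.dense hO).closure_eq]; trivial)
  rw [← hslice, hNe]
  exact (pull_fiberι_eq_one_iff (PicM.of hN) x).1 hall

/-- Translations by differences of points of such a subscheme fix the class. -/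
theorem translate_eq_of_sq {L : A.left.Modules} (hL : PicF.IsInvertible L) (s : Γ(L, ⊤))
    (hne : (glocus L s : Set A.left).Nonempty) {T : Over (Spec (CommRingCat.of k))} [IsProper T.hom]
    [IsIntegral T.left] (i : T ⟶ A) (h : pb i (PicM.of hL) * pb i (PicM.of hL) = 1)
    (f g : 𝟙_ (Over (Spec (CommRingCat.of k))) ⟶ T) :
    pb (𝟙 A * (toUnit A ≫ (f ≫ i * (g ≫ i)⁻¹))) (PicM.of hL) = PicM.of hL := by
  haveI : IsCommMonObj A := isCommMonObj_of_isProper_of_geometricallyIntegral A
  have : GeometricallyIntegral T.hom := AbVarLib.geometricallyIntegral_of_isAlgClosed T.hom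
  have : IsProper (fst A T).left := inferInstanceAs (IsProper (pullback.fst A.hom T.hom))
  have : GeometricallyIntegral (fst A T).left := inferInstanceAs (GeometricallyIntegral (pullback.fst A.hom T.hom))
  have : Flat T.hom := flat_of_field _
  have : Flat (fst A T).left := inferInstanceAs (Flat (pullback.fst A.hom T.hom))
  have : GeometricallyConnected (fst A T).left := ⟨fun K _ w Q p q hQ => by
    have := GeometricallyIrreducible.geometrically_irreducibleSpace (f := (fst A T).left) w p q hQ
    infer_instance⟩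
  have : IsLocallyNoetherian A.left := LocallyOfFiniteType.isLocallyNoetherian A.hom
  have : IsIntegral A.left := GeometricallyIntegral.isIntegral_of_subsingleton A.hom
  have : JacobsonSpace A.left := LocallyOfFiniteType.jacobsonSpace A.hom
  obtain ⟨N, hN, hNe⟩ := PicM.exists_eq_of (pb (snd A T ≫ i * fst A T) (PicM.of hL))
  have hslice : ∀ y : 𝟙_ (Over (Spec (CommRingCat.of k))) ⟶ A,
      pb (lift (toUnit T ≫ y) (𝟙 T)) (PicM.of hN) = 1 := fun y => by
    rw [← hNe, pb_pb, comp_mul, ← Category.assoc, lift_snd, lift_fst, Category.id_comp]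
    exact pb_translate_eq_one_of_sq hL s hne i h y
  have hall : ∀ y, PicM.pull ((fst A T).left.fiberι y) (PicM.of hN) = 1 := by
    intro y
    by_contra hy
    obtain ⟨z, hz, hzc⟩ := nonempty_inter_closedPoints
      (Z := {y : A.left | PicM.pull ((fst A T).left.fiberι y) (PicM.of hN) = 1}ᶜ) ⟨y, hy⟩
      (isClosed_setOf_trivial_fibre (fst A T).left (fun y =>
        GeometricallyIntegral.geometrically_isIntegral (f := (fst A T).left) _ _ _
          (IsPullback.of_hasPullback (fst A T).left (A.left.fromSpecResidueField y))) hN).isOpen_compl.isLocallyClosed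
    let t : 𝟙_ (Over (Spec (CommRingCat.of k))) ⟶ A :=
      Over.homMk (pointOfClosedPoint A.hom z hzc) (pointOfClosedPoint_comp A.hom z hzc)
    refine hz ?_
    show PicM.pull ((fst A T).left.fiberι z) (PicM.of hN) = 1
    rw [show z = t.left (IsLocalRing.closedPoint k) from (pointOfClosedPoint_apply _ _ _ _).symm,
      pull_fiberι_eq_one_iff]
    exact hslice t
  obtain ⟨c, hc⟩ := exists_pull_eq (f := (fst A T).left) (bijective_algebraMap_fibre _) (PicM.of hN) hall
  have key : ∀ e : 𝟙_ (Over (Spec (CommRingCat.of k))) ⟶ T, pb (𝟙 A * (toUnit A ≫ e ≫ i)) (PicM.of hL) = c := by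
    intro e
    have h2 := congrArg (pb (lift (𝟙 A) (toUnit A ≫ e))) (hc.trans hNe.symm)
    change pb (lift (𝟙 A) (toUnit A ≫ e)) (pb (fst A T) c) = pb _ (pb _ _) at h2
    rw [pb_pb, lift_fst, pb_id, pb_pb, comp_mul, ← Category.assoc, lift_snd, lift_fst, Category.assoc,
      _root_.mul_comm] at h2
    exact h2.symm
  have h3 := congrArg (pb (𝟙 A * (toUnit A ≫ (g ≫ i)⁻¹))) ((key f).trans (key g).symm)
  clear hslice hall hNe hN N hc
  rw [pb_pb, pb_pb] at h3
  simp only [comp_mul, Category.comp_id, ← Category.assoc, comp_toUnit] at h3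
  simp only [Category.assoc, _root_.mul_assoc, ← comp_mul] at h3
  rw [inv_mul_cancel, comp_one, _root_.mul_one, pb_id, _root_.mul_comm (g ≫ i)⁻¹] at h3
  exact h3

/-- A module with a nonzero section is ample if positive dimensional subvarieties move its class. -/
theorem isAmple_of_sq_separates {L : A.left.Modules} (hL : PicF.IsInvertible L) (s : Γ(L, ⊤))
    (hne : (glocus L s : Set A.left).Nonempty)
    (hsep : ∀ (T : Over (Spec (CommRingCat.of k))) [IsProper T.hom] [IsIntegral T.left] (i : T ⟶ A)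
      [IsClosedImmersion i.left], pb i (PicM.of hL) * pb i (PicM.of hL) = 1 → Subsingleton T.left) :
    CohB1.IsAmple L := by
  classical
  have : CompactSpace A.left := QuasiCompact.compactSpace_of_compactSpace A.hom
  have : IsLocallyNoetherian A.left := LocallyOfFiniteType.isLocallyNoetherian A.hom
  have : IsNoetherian A.left := { }
  have : Nonempty A.left := ⟨hne.some⟩
  choose σ hσ using exists_sq_section_mem hL s hne
  obtain ⟨F, hF⟩ := isCompact_univ.elim_finite_subcover (fun z : A.left => (glocus _ (σ z) : Set A.left))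
    (fun z => (glocus _ (σ z)).2) fun z _ => Set.mem_iUnion.2 ⟨z, hσ z⟩
  obtain ⟨z₀⟩ := ‹Nonempty A.left›
  let F' := insert z₀ F
  obtain ⟨N, hN⟩ : ∃ N, F'.card = N + 1 := Nat.exists_eq_add_one.2 (Finset.card_pos.2 (Finset.insert_nonempty _ _))
  let e : Fin (N + 1) ≃ F' := (finCongr hN.symm).trans F'.equivFin.symm
  have hM := isInvertible_tensorPow hL 2
  obtain ⟨r, hr, τ, hτ⟩ := UPLib.exists_hom_projSpace N A.hom hM (fun l => σ (e l).1) fun z => by
    obtain ⟨z', hz', hzz'⟩ := Set.mem_iUnion₂.1 (hF (Set.mem_univ z))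
    exact ⟨e.symm ⟨z', Finset.mem_insert_of_mem hz'⟩, by rw [Equiv.apply_symm_apply]; exact hzz'⟩
  have hs₂ : IsSeparated (CohB1.ProjSpace.toSpec N k) :=
    MorphismProperty.comp_mem @IsSeparated (Proj.toSpecZero (CohB1.polyGrading N k)) _ inferInstance inferInstance
  have : IsProper (r ≫ CohB1.ProjSpace.toSpec N k) := hr.symm ▸ ‹IsProper A.hom›
  have : IsProper r := IsProper.of_comp r (CohB1.ProjSpace.toSpec N k)
  have : IsProper (CohB1.ProjSpace.toSpec N k) := CurveLib.isProper_projSpace k N
  have : JacobsonSpace (CohB1.ProjSpace N k) := LocallyOfFiniteType.jacobsonSpace (CohB1.ProjSpace.toSpec N k)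
  obtain ⟨U, hU, hUfin⟩ := MorProj.exists_finite_fibre_locus r
  have hclosed : ∀ y : CohB1.ProjSpace N k, IsClosed ({y} : Set _) → (r ⁻¹' {y}).Finite := by
    intro y hy
    obtain ⟨l, hl⟩ := Opens.mem_iSup.1 ((Proj.iSup_basicOpen_eq_top (CohB1.polyGrading N k) _
      (ProjLib.irrelevant_le_span_X N _)).ge (show y ∈ (⊤ : (CohB1.ProjSpace N k).Opens) from trivial))
    obtain ⟨S, hS, hScl, hSirr, hSeq⟩ :=
      NoetherianSpace.exists_finite_set_isClosed_irreducible (hy.preimage r.continuous)
    rw [hSeq]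
    refine hS.sUnion fun C hC => Set.Subsingleton.finite ?_
    let C' : Closeds A.left := ⟨C, hScl C hC⟩
    let I := Scheme.IdealSheafData.vanishingIdeal C'
    have : IsReduced I.subscheme := Props12.isReduced_subscheme_vanishingIdeal C'
    have hrg : Set.range I.subschemeι = C := by rw [Scheme.IdealSheafData.range_subschemeι]; rfl
    have : IrreducibleSpace I.subscheme := by
      have he := I.subschemeι.isEmbedding
      have hne' : Nonempty I.subscheme := by
        obtain ⟨c, hc⟩ := (hSirr C hC).1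
        obtain ⟨w, -⟩ : c ∈ Set.range I.subschemeι := hrg ▸ hc
        exact ⟨w⟩
      have hpre : PreirreducibleSpace I.subscheme := ⟨fun u v hu hv hu' hv' => by
        obtain ⟨U', hU', rfl⟩ := he.isInducing.isOpen_iff.1 hu
        obtain ⟨V', hV', rfl⟩ := he.isInducing.isOpen_iff.1 hv
        obtain ⟨p, -, hp⟩ := hu'
        obtain ⟨q, -, hq⟩ := hv'
        obtain ⟨w, hwC, hwU, hwV⟩ := (hSirr C hC).2 U' V' hU' hV' ⟨_, hrg ▸ ⟨p, rfl⟩, hp⟩ ⟨_, hrg ▸ ⟨q, rfl⟩, hq⟩
        obtain ⟨w', rfl⟩ : w ∈ Set.range I.subschemeι := hrg ▸ hwC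
        exact ⟨w', trivial, hwU, hwV⟩⟩
      exact { toPreirreducibleSpace := hpre, toNonempty := hne' }
    have : IsIntegral I.subscheme := isIntegral_of_irreducibleSpace_of_isReduced _
    let T : Over (Spec (CommRingCat.of k)) := Over.mk (I.subschemeι ≫ A.hom)
    have : IsProper T.hom := inferInstanceAs (IsProper (I.subschemeι ≫ A.hom))
    have : IsIntegral T.left := inferInstanceAs (IsIntegral I.subscheme)
    let i : T ⟶ A := Over.homMk I.subschemeι rfl
    have : IsClosedImmersion i.left := inferInstanceAs (IsClosedImmersion I.subschemeι)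
    have hone : pb i (PicM.of hL) * pb i (PicM.of hL) = 1 := by
      show PicM.pull i.left _ * PicM.pull i.left _ = 1
      rw [← map_mul, ← pow_two, ← PicM.of_tensorPow hL, PicM.pull_of]
      refine eq_one_of_isGen_top _ (t := pullSec i.left (σ (e l).1)) ?_
      rw [← resM_self ((Scheme.Modules.pullback i.left).obj (CohB1.tensorPow L 2)) le_rfl (pullSec i.left (σ (e l).1))]
      refine (le_glocus_iff _ _).1 ?_
      rw [glocus_pullSec _ hM]
      intro w _
      have hw : i.left w ∈ C := hrg ▸ ⟨w, rfl⟩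
      have hwy : r (i.left w) = y := (hSeq ▸ Set.subset_sUnion_of_mem hC) hw
      show i.left w ∈ glocus _ (σ (e l).1)
      refine (PnEmb.preimage_chartOpen r τ (σ := fun l => σ (e l).1) hτ l).le ?_
      show r (i.left w) ∈ PnEmb.chartOpen N k l
      rw [hwy]
      exact hl
    have := hsep T i hone
    rw [← hrg]
    have : Subsingleton I.subscheme := ‹Subsingleton T.left›
    exact Set.subsingleton_range _
  have htop : U = ⊤ := by
    rw [eq_top_iff]
    intro y _
    by_contra hy
    obtain ⟨v, hv, hvc⟩ := nonempty_inter_closedPoints (Z := ((U : Set (CohB1.ProjSpace N k)))ᶜ) ⟨y, hy⟩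
      U.isOpen.isClosed_compl.isLocallyClosed
    exact hv (hU.ge (hclosed v hvc))
  have : LocallyQuasiFinite r := .of_finite_preimage_singleton r fun y => hU.le (htop.ge (show y ∈ (⊤ : (CohB1.ProjSpace N k).Opens) from trivial))
  have : IsFinite r := (IsFinite.iff_isProper_and_locallyQuasiFinite r).2 ⟨inferInstance, inferInstance⟩
  have hO : CohB1.IsAmple (Twist.twistProjSpace N k 1) :=
    TwistLib.G.isAmple_twist_one (𝒜 := CohB1.polyGrading N k) (Finset.univ.image MvPolynomial.X) (by
        intro g hg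
        obtain ⟨j, -, rfl⟩ := Finset.mem_image.1 hg
        exact MvPolynomial.isHomogeneous_X _ j)
      (by
        rw [Finset.coe_image, Finset.coe_univ, Set.image_univ]
        refine le_antisymm (ProjLib.irrelevant_le_span_X N _) (Ideal.span_le.2 ?_)
        rintro _ ⟨j, rfl⟩
        exact HomogeneousIdeal.mem_irrelevant_of_mem (CohB1.polyGrading N _) Nat.one_pos
          (MvPolynomial.isHomogeneous_X _ j))
  exact (isAmple_pow_iff hL 2 two_pos).1 (isAmple_of_iso τ (isAmple_pullback_of_isAffineHom r hO))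

/-- An integral subscheme whose differences of points lie in a finite set is a point. -/
theorem subsingleton_of_finite_differences {T : Over (Spec (CommRingCat.of k))} [IsProper T.hom]
    [IsIntegral T.left] (i : T ⟶ A) [IsClosedImmersion i.left]
    {S : Set (𝟙_ (Over (Spec (CommRingCat.of k))) ⟶ A)} (hS : S.Finite)
    (h : ∀ f g : 𝟙_ (Over (Spec (CommRingCat.of k))) ⟶ T, f ≫ i * (g ≫ i)⁻¹ ∈ S) : Subsingleton T.left := by
  have : JacobsonSpace T.left := LocallyOfFiniteType.jacobsonSpace T.hom
  obtain ⟨f₀, -, hf₀⟩ := nonempty_inter_closedPoints (Z := (Set.univ : Set T.left)) Set.univ_nonempty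
    isClosed_univ.isLocallyClosed
  let g : 𝟙_ (Over (Spec (CommRingCat.of k))) ⟶ T :=
    Over.homMk (pointOfClosedPoint T.hom f₀ hf₀) (pointOfClosedPoint_comp T.hom f₀ hf₀)
  have : Mono i := @Functor.mono_of_mono_map _ _ _ _ (Over.forget _) _ _ _ i (inferInstanceAs (Mono i.left))
  have hfinpts : (Set.univ : Set (𝟙_ (Over (Spec (CommRingCat.of k))) ⟶ T)).Finite :=
    (hS.preimage (f := fun f : 𝟙_ (Over (Spec (CommRingCat.of k))) ⟶ T => f ≫ i * (g ≫ i)⁻¹)
      fun a _ b _ hab => (cancel_mono i).1 (mul_right_cancel hab)).subset fun f _ => h f g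
  have : Finite (closedPoints T.left) := by
    have : Finite (𝟙_ (Over (Spec (CommRingCat.of k))) ⟶ T) := Set.finite_univ_iff.1 hfinpts
    refine Finite.of_surjective (fun f : 𝟙_ (Over (Spec (CommRingCat.of k))) ⟶ T =>
      (⟨f.left (IsLocalRing.closedPoint k), isClosed_point f⟩ : closedPoints T.left)) fun v =>
      ⟨Over.homMk (pointOfClosedPoint T.hom v.1 v.2) (pointOfClosedPoint_comp T.hom v.1 v.2),
        Subtype.ext (pointOfClosedPoint_apply _ _ _ _)⟩
  have hcl : IsClosed (closedPoints T.left) := by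
    rw [show closedPoints T.left = ⋃ v ∈ closedPoints T.left, {v} from (Set.biUnion_of_singleton _).symm]
    exact (Set.toFinite (closedPoints T.left)).isClosed_biUnion fun v hv => hv
  have huniv : closedPoints T.left = Set.univ := by rw [← hcl.closure_eq, closure_closedPoints]
  refine ⟨fun a b => ?_⟩
  have : Finite T.left := Set.finite_univ_iff.1 (huniv ▸ Set.toFinite (closedPoints T.left))
  have : T1Space T.left := ⟨fun v => huniv.ge (Set.mem_univ v)⟩
  have : DiscreteTopology T.left := inferInstance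
  exact (isPreirreducible_iff_subsingleton.1 (PreirreducibleSpace.isPreirreducible_univ (X := T.left))) trivial trivial

/-- A module with a nonzero section whose class is fixed by finitely many translations only is ample. -/
theorem isAmple_of_finite_fixing {L : A.left.Modules} (hL : PicF.IsInvertible L) (s : Γ(L, ⊤))
    (hne : (glocus L s : Set A.left).Nonempty)
    (hfin : Set.Finite {x : 𝟙_ (Over (Spec (CommRingCat.of k))) ⟶ A |
      pb (𝟙 A * (toUnit A ≫ x)) (PicM.of hL) = PicM.of hL}) : CohB1.IsAmple L :=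
  isAmple_of_sq_separates hL s hne fun _ _ _ i _ h =>
    subsingleton_of_finite_differences i hfin fun f g => translate_eq_of_sq hL s hne i h f g

end Groth.Agent.AbCubeLib
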