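import Mathlib

/-!
# The dimension of the centralizer of a semisimple endomorphism
-/

set_option autoImplicit false
set_option linter.style.haveILetI false

universe u v w

open Polynomial Matrix
open scoped Kronecker

namespace Groth.Agent.AbCubeLib

/-- The number of pairs of equal elements of a multiset. -/
noncomputable def sqMult {α : Type*} (s : Multiset α) : ℕ := by
  classical exact (s.map fun a => s.count a).sum

theorem sqMult_map {α β : Type*} (s : Multiset α) {f : α → β} (hf : Function.Injective f) :
    sqMult (s.map f) = sqMult s := by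
  classical
  rw [sqMult, sqMult, Multiset.map_map]
  exact congrArg _ (Multiset.map_congr rfl fun a _ => Multiset.count_map_eq_count' _ _ hf a)

/-- The rank of a matrix does not change under field extensions. -/
theorem rank_map_ringHom {K : Type u} {L : Type v} [Field K] [Field L] (φ : K →+* L) {m : Type w} [Fintype m]
    [DecidableEq m] (N : Matrix m m K) : (N.map φ).rank = N.rank := by
  classical
  obtain ⟨l, l', d, h⟩ := Matrix.Pivot.exists_list_transvec_mul_diagonal_mul_list_transvec N
  have hA : IsUnit (l.map Matrix.TransvectionStruct.toMatrix).prod.det := by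
    rw [Matrix.TransvectionStruct.det_toMatrix_prod]; exact isUnit_one
  have hB : IsUnit (l'.map Matrix.TransvectionStruct.toMatrix).prod.det := by
    rw [Matrix.TransvectionStruct.det_toMatrix_prod]; exact isUnit_one
  have hdet : ∀ A : Matrix m m K, IsUnit A.det → IsUnit (A.map φ).det := fun A hA' => by
    have := hA'.map φ
    rwa [RingHom.map_det] at this
  rw [h, Matrix.map_mul, Matrix.map_mul, rank_mul_eq_left_of_isUnit_det _ _ (hdet _ hB),
    rank_mul_eq_right_of_isUnit_det _ _ (hdet _ hA), rank_mul_eq_left_of_isUnit_det _ _ hB,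
    rank_mul_eq_right_of_isUnit_det _ _ hA, Matrix.diagonal_map (map_zero φ), rank_diagonal, rank_diagonal]
  exact Fintype.card_congr (Equiv.subtypeEquivRight fun i => by simp)

/-- The matrix of `X ↦ X M - M X`. -/
noncomputable def adMat {K : Type u} [CommRing K] {n : ℕ} (M : Matrix (Fin n) (Fin n) K) :
    Matrix (Fin n × Fin n) (Fin n × Fin n) K :=
  (1 : Matrix (Fin n) (Fin n) K) ⊗ₖ Mᵀ - M ⊗ₖ (1 : Matrix (Fin n) (Fin n) K)

theorem adMat_mulVec {K : Type u} [CommRing K] {n : ℕ} (M X : Matrix (Fin n) (Fin n) K) (i j : Fin n) :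
    (adMat M *ᵥ fun p => X p.1 p.2) (i, j) = (X * M - M * X) i j := by
  rw [adMat, Matrix.sub_mulVec, Pi.sub_apply, Matrix.sub_apply]
  simp only [Matrix.mulVec, dotProduct, Fintype.sum_prod_type, Matrix.kroneckerMap_apply, Matrix.mul_apply,
    Matrix.one_apply, Matrix.transpose_apply]
  simp [Finset.sum_ite_eq, ite_mul, mul_comm]

/-- The centralizer of a semisimple endomorphism has dimension the number of pairs of equal roots of
its characteristic polynomial. -/
theorem finrank_centralizer {K : Type u} [Field K] [PerfectField K] {V : Type v} [AddCommGroup V] [Module K V]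
    [FiniteDimensional K V] (f : Module.End K V) (hf : f.IsSemisimple) {L : Type w} [Field L] [IsAlgClosed L]
    (φ : K →+* L) :
    Module.finrank K (LinearMap.ker (LinearMap.lcomp K V f - LinearMap.llcomp K V V V f :
      Module.End K V →ₗ[K] Module.End K V)) = sqMult (f.charpoly.map φ).roots := by
  classical
  let n := Module.finrank K V
  let b := Module.finBasis K V
  let M := LinearMap.toMatrix b b f
  -- the kernel is that of the matrix `adMat M`
  let e : Module.End K V ≃ₗ[K] (Fin n × Fin n → K) :=
    (LinearMap.toMatrix b b).trans (LinearEquiv.curry K K (Fin n) (Fin n)).symm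
  have hker : (LinearMap.ker (LinearMap.lcomp K V f - LinearMap.llcomp K V V V f :
      Module.End K V →ₗ[K] Module.End K V)).map e.toLinearMap = LinearMap.ker (adMat M).mulVecLin := by
    ext v
    rw [Submodule.mem_map_equiv, LinearMap.mem_ker, LinearMap.mem_ker, Matrix.mulVecLin_apply]
    let x := e.symm v
    have hv : v = fun p => LinearMap.toMatrix b b x p.1 p.2 := (e.apply_symm_apply v).symm
    show x.comp f - f.comp x = 0 ↔ _
    rw [hv, ← (LinearMap.toMatrix b b).map_eq_zero_iff, map_sub, LinearMap.toMatrix_comp b b b,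
      LinearMap.toMatrix_comp b b b, funext_iff, Prod.forall, ← Matrix.ext_iff]
    exact forall₂_congr fun i j => by rw [adMat_mulVec]; rfl
  have h1 : Module.finrank K (LinearMap.ker (LinearMap.lcomp K V f - LinearMap.llcomp K V V V f :
      Module.End K V →ₗ[K] Module.End K V)) + (adMat M).rank = n * n := by
    rw [← LinearEquiv.finrank_map_eq e, hker, Matrix.rank, add_comm,
      LinearMap.finrank_range_add_finrank_ker, Module.finrank_fintype_fun_eq_card, Fintype.card_prod, Fintype.card_fin]
  -- diagonalise over `L`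
  letI := φ.toAlgebra
  have hsq : Squarefree ((minpoly K f).map φ) :=
    (PerfectField.separable_iff_squarefree.2 hf.minpoly_squarefree).map.squarefree
  let g : Module.End L (Fin n → L) := Matrix.toLin' (M.map φ)
  have hg : g.IsSemisimple := by
    refine Module.End.isSemisimple_of_squarefree_aeval_eq_zero hsq ?_
    have h0 : Polynomial.aeval M (minpoly K f) = 0 := by
      have h2 := Polynomial.aeval_algHom_apply (LinearMap.toMatrixAlgEquiv b).toAlgHom f (minpoly K f)
      rw [minpoly.aeval, map_zero] at h2
      exact h2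
    have h1 : Polynomial.aeval (M.map φ) ((minpoly K f).map φ) = 0 := by
      rw [show φ = algebraMap K L from rfl, Polynomial.aeval_map_algebraMap]
      have h2 := Polynomial.aeval_algHom_apply ((Algebra.ofId K L).mapMatrix (m := Fin n)) M (minpoly K f)
      rw [h0, map_zero] at h2
      exact h2
    show Polynomial.aeval (Matrix.toLinAlgEquiv' (M.map φ)) _ = 0
    have h2 := Polynomial.aeval_algHom_apply (Matrix.toLinAlgEquiv' (n := Fin n) (R := L)).toAlgHom (M.map φ)
      ((minpoly K f).map φ)
    rw [h1, map_zero] at h2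
    exact h2
  let S : Set (Fin n → L) := {v | ∃ μ : L, g v = μ • v}
  have hS : ⊤ ≤ Submodule.span L S := by
    rw [← hg.iSup_eigenspace_eq_top]
    exact iSup_le fun μ v hv => Submodule.subset_span ⟨μ, Module.End.mem_eigenspace_iff.1 hv⟩
  let B₀ := Module.Basis.ofSpan hS
  let B := B₀.reindex (B₀.indexEquiv (Pi.basisFun L (Fin n)))
  have hB : ∀ i, ∃ μ : L, g (B i) = μ • B i := fun i => by
    simp only [B, Module.Basis.reindex_apply]
    exact Module.Basis.ofSpan_subset hS ⟨_, rfl⟩
  choose a ha using hB
  have hD : LinearMap.toMatrix B B g = Matrix.diagonal a := by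
    ext i j
    rw [LinearMap.toMatrix_apply, ha, map_smul, B.repr_self, Finsupp.smul_apply, Finsupp.single_apply,
      Matrix.diagonal_apply]
    by_cases h : i = j
    · simp [h]
    · simp [h, Ne.symm h]
  let P := B.toMatrix (Pi.basisFun L (Fin n))
  let P' := (Pi.basisFun L (Fin n)).toMatrix B
  have hPP' : P * P' = 1 := B.toMatrix_mul_toMatrix_flip _
  have hP'P : P' * P = 1 := (Pi.basisFun L (Fin n)).toMatrix_mul_toMatrix_flip _
  have hM : M.map φ = P' * Matrix.diagonal a * P := by
    rw [← hD, basis_toMatrix_mul_linearMap_toMatrix_mul_basis_toMatrix, LinearMap.toMatrix_eq_toMatrix',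
      LinearMap.toMatrix'_toLin']
  have hPu : IsUnit P.det := IsUnit.of_mul_eq_one _ (by rw [← Matrix.det_mul, hPP', Matrix.det_one])
  have hP'u : IsUnit P'.det := IsUnit.of_mul_eq_one _ (by rw [← Matrix.det_mul, hP'P, Matrix.det_one])
  have hadd : (adMat M).map φ = adMat (M.map φ) := by
    ext ⟨i, j⟩ ⟨i', j'⟩
    simp [adMat, Matrix.one_apply, apply_ite φ]
  have hconj : adMat (M.map φ) =
      (P' ⊗ₖ Pᵀ) * Matrix.diagonal (fun p : Fin n × Fin n => a p.2 - a p.1) * (P ⊗ₖ P'ᵀ) := by
    have e : Matrix.diagonal (fun p : Fin n × Fin n => a p.2 - a p.1) =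
        (1 : Matrix (Fin n) (Fin n) L) ⊗ₖ Matrix.diagonal a - Matrix.diagonal a ⊗ₖ (1 : Matrix (Fin n) (Fin n) L) := by
      rw [← Matrix.diagonal_one, Matrix.diagonal_kronecker_diagonal, Matrix.diagonal_kronecker_diagonal,
        Matrix.diagonal_sub]
      simp
    rw [e, mul_sub, sub_mul, ← Matrix.mul_kronecker_mul, ← Matrix.mul_kronecker_mul, ← Matrix.mul_kronecker_mul,
      ← Matrix.mul_kronecker_mul, Matrix.mul_one, Matrix.mul_one, hP'P, ← Matrix.transpose_mul, hP'P,
      Matrix.transpose_one, adMat, hM]
    congr 1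
    congr 1
    rw [Matrix.transpose_mul, Matrix.transpose_mul, Matrix.diagonal_transpose, Matrix.mul_assoc]
  have hu1 : IsUnit (P' ⊗ₖ Pᵀ).det := by
    rw [Matrix.det_kronecker, Matrix.det_transpose]; exact (hP'u.pow _).mul (hPu.pow _)
  have hu2 : IsUnit (P ⊗ₖ P'ᵀ).det := by
    rw [Matrix.det_kronecker, Matrix.det_transpose]; exact (hPu.pow _).mul (hP'u.pow _)
  rw [← rank_map_ringHom φ, hadd, hconj, rank_mul_eq_left_of_isUnit_det _ _ hu2,
    rank_mul_eq_right_of_isUnit_det _ _ hu1, rank_diagonal] at h1
  -- the roots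
  have hroots : (f.charpoly.map φ).roots = Finset.univ.val.map a := by
    have hc : f.charpoly.map φ = (Matrix.diagonal a).charpoly := by
      rw [← LinearMap.charpoly_toMatrix f b, ← Matrix.charpoly_map]
      show (M.map φ).charpoly = _
      rw [hM, Matrix.charpoly_mul_comm, ← Matrix.mul_assoc, hPP', Matrix.one_mul]
    rw [hc, Matrix.charpoly_diagonal, Finset.prod_eq_multiset_prod,
      show (Finset.univ.val.map fun i => Polynomial.X - Polynomial.C (a i)) =
        (Finset.univ.val.map a).map fun x => Polynomial.X - Polynomial.C x by rw [Multiset.map_map]; rfl,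
      Polynomial.roots_multiset_prod_X_sub_C]
  have h2 : sqMult (Finset.univ.val.map a) + Fintype.card {p : Fin n × Fin n // a p.2 - a p.1 ≠ 0} = n * n := by
    have e1 : sqMult (Finset.univ.val.map a) = Fintype.card {p : Fin n × Fin n // ¬(a p.2 - a p.1 ≠ 0)} := by
      rw [sqMult, Multiset.map_map, ← Finset.sum_eq_multiset_sum, Fintype.card_subtype,
        Finset.card_filter, Fintype.sum_prod_type]
      refine Finset.sum_congr rfl fun i _ => ?_
      rw [Function.comp_apply, Multiset.count_map, ← Finset.filter_val, ← Finset.card_def, Finset.card_filter]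
      exact Finset.sum_congr rfl fun j _ => if_congr (by simp [sub_eq_zero, eq_comm]) rfl rfl
    rw [e1, Fintype.card_subtype_compl, Fintype.card_prod, Fintype.card_fin]
    have := Fintype.card_subtype_le (fun p : Fin n × Fin n => a p.2 - a p.1 ≠ 0)
    rw [Fintype.card_prod, Fintype.card_fin] at this
    omega
  rw [hroots]
  omega

end Groth.Agent.AbCubeLib
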