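import Mathlib.Analysis.Complex.Polynomial.Basic
import Mathlib.Analysis.SpecialFunctions.Log.Basic
import Mathlib.RingTheory.Polynomial.Resultant.Basic
import Mathlib.Topology.Algebra.Polynomial
import Mathlib.Analysis.Polynomial.Basic
import Mathlib.RingTheory.IntegralClosure.IntegrallyClosed
import Mathlib.RingTheory.Polynomial.RationalRoot

/-!
# Polynomials with all roots on the circle of radius `√q`
-/

set_option autoImplicit false

open Polynomial

namespace Groth.Agent.AbCubeLib

/-- A monic real polynomial without roots is positive and of even degree. -/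
theorem eval_pos_of_no_root (R : ℝ[X]) (hR : R.Monic) (h : ∀ x, R.eval x ≠ 0) :
    0 < R.eval 0 ∧ Even R.natDegree := by
  have key : ∀ T : ℝ[X], T.Monic → (∀ x, T.eval x ≠ 0) → 0 < T.eval 0 := by
    intro T hT hne
    rcases Nat.eq_zero_or_pos T.natDegree with h0 | h0
    · rw [hT.natDegree_eq_zero.1 h0, eval_one]; exact one_pos
    rcases (hne 0).lt_or_gt with hlt | hgt
    · obtain ⟨y, hy, hy0⟩ := ((T.tendsto_atTop_of_leadingCoeff_nonneg (natDegree_pos_iff_degree_pos.1 h0)
        (by rw [hT.leadingCoeff]; exact zero_le_one)).eventually (Filter.eventually_gt_atTop 0)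
        |>.and (Filter.eventually_ge_atTop (0 : ℝ))).exists
      obtain ⟨x, -, hx⟩ := intermediate_value_Icc hy0 T.continuous.continuousOn ⟨hlt.le, hy.le⟩
      exact absurd hx (hne x)
    · exact hgt
  refine ⟨key R hR h, Nat.not_odd_iff_even.1 fun hodd => ?_⟩
  have hm : (-(R.comp (-X))).Monic := by
    rw [Monic, leadingCoeff_neg, leadingCoeff_comp (by simp), leadingCoeff_neg, leadingCoeff_X, hR.leadingCoeff,
      hodd.neg_one_pow]
    simp
  have h2 := key _ hm fun x => by simpa using h (-x)
  have h1 := key R hR h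
  simp only [eval_neg, eval_comp, eval_X, neg_zero] at h2
  linarith

/-- With a positive value at `0`, the real roots `±s` of largest possible absolute value occur evenly. -/
theorem even_rootMultiplicity (P : ℝ[X]) (hP : P.Monic) (hd : Even P.natDegree) (h0 : 0 < P.eval 0) {s : ℝ}
    (hs : 0 < s) (hroots : ∀ x, P.eval x = 0 → x = s ∨ x = -s) :
    Even (P.rootMultiplicity s) ∧ Even (P.rootMultiplicity (-s)) := by
  set a := P.rootMultiplicity s
  set b := P.rootMultiplicity (-s)
  obtain ⟨u, hu, hu0⟩ := exists_eq_pow_rootMultiplicity_mul_and_not_dvd P hP.ne_zero s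
  obtain ⟨v, hv, hv0⟩ := exists_eq_pow_rootMultiplicity_mul_and_not_dvd u
    (by rintro rfl; exact hP.ne_zero (by rw [hu, mul_zero])) (-s)
  have hub : u.rootMultiplicity (-s) = b := by
    have hne : ((X - C s) ^ a).rootMultiplicity (-s) = 0 := by
      refine rootMultiplicity_eq_zero fun hr => ?_
      rw [IsRoot, eval_pow, eval_sub, eval_X, eval_C] at hr
      have := eq_zero_of_pow_eq_zero hr
      linarith
    have h := rootMultiplicity_mul (x := -s) (p := (X - C s) ^ a) (q := u) (by rw [← hu]; exact hP.ne_zero)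
    rw [← hu, hne, zero_add] at h
    exact h.symm
  rw [hub] at hv
  have hum : u.Monic := ((monic_X_sub_C s).pow a).of_mul_monic_left (hu ▸ hP)
  have hvm : v.Monic := ((monic_X_sub_C (-s)).pow b).of_mul_monic_left (hv ▸ hum)
  obtain ⟨hvpos, hveven⟩ := eval_pos_of_no_root v hvm fun x hx => by
    rcases hroots x (by rw [hu, hv, eval_mul, eval_mul, hx, mul_zero, mul_zero]) with rfl | rfl
    · exact hu0 (dvd_iff_isRoot.2 (by rw [IsRoot, hv, eval_mul, hx, mul_zero]))
    · exact hv0 (dvd_iff_isRoot.2 hx)
  have hdeg : P.natDegree = a + (b + v.natDegree) := by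
    rw [hu, ((monic_X_sub_C s).pow a).natDegree_mul hum, hv, ((monic_X_sub_C (-s)).pow b).natDegree_mul hvm,
      natDegree_pow, natDegree_pow, natDegree_X_sub_C, natDegree_X_sub_C, mul_one, mul_one]
  rw [hu, hv, eval_mul, eval_mul, eval_pow, eval_pow, eval_sub, eval_sub, eval_X, eval_C, eval_C, zero_sub,
    zero_sub, neg_neg] at h0
  have ha : Even a := by
    by_contra hodd
    rw [(Nat.not_even_iff_odd.1 hodd).neg_pow, neg_mul] at h0
    linarith [mul_pos (pow_pos hs a) (mul_pos (pow_pos hs b) hvpos)]
  refine ⟨ha, ?_⟩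
  rw [hdeg] at hd
  have := (Nat.even_add.1 hd).1 ha
  exact (Nat.even_add.1 this).2 hveven

/-- The arithmetic mean is at least one when the product is. -/
theorem card_le_sum_of_one_le_prod (s : Multiset ℝ) (hpos : ∀ c ∈ s, 0 < c) (hprod : 1 ≤ s.prod) :
    (Multiset.card s : ℝ) ≤ s.sum := by
  have h : ∀ s : Multiset ℝ, (∀ c ∈ s, 0 < c) → Real.log s.prod ≤ s.sum - Multiset.card s := by
    intro s
    induction s using Multiset.induction with
    | empty => simp
    | cons a s ih =>
      intro h
      have ha := h a (Multiset.mem_cons_self a s)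
      have hs := fun c hc => h c (Multiset.mem_cons_of_mem hc)
      have hp : s.prod ≠ 0 := Multiset.prod_ne_zero fun h0 => lt_irrefl (0 : ℝ) (hs 0 h0)
      rw [Multiset.prod_cons, Real.log_mul ha.ne' hp, Multiset.sum_cons, Multiset.card_cons, Nat.cast_succ]
      linarith [ih hs, Real.log_le_sub_one_of_pos ha]
  have := (Real.log_nonneg hprod).trans (h s hpos)
  linarith

/-- The product of the values of an integral polynomial at the roots of a monic one is an integer. -/
theorem exists_int_prod_eval (P H : ℤ[X]) (hP : P.Monic) :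
    ∃ z : ℤ, (((P.map (Int.castRingHom ℂ)).roots.map (H.map (Int.castRingHom ℂ)).eval).prod) = z := by
  refine ⟨resultant P H P.natDegree H.natDegree, ?_⟩
  have h := resultant_eq_prod_eval (P.map (Int.castRingHom ℂ)) (H.map (Int.castRingHom ℂ)) H.natDegree natDegree_map_le
    (IsAlgClosed.splits _)
  rw [hP.natDegree_map, (hP.map _).leadingCoeff, one_pow, one_mul, resultant_map_map] at h
  exact h.symm

/-- The bound on the trace. -/
theorem abs_nextCoeff_le (P : ℤ[X]) (hP : P.Monic) {g : ℕ} (hd : P.natDegree = 2 * g) {q : ℕ} (hq : q ≠ 0)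
    (hroots : ∀ ω ∈ (P.map (Int.castRingHom ℂ)).roots, ‖ω‖ = Real.sqrt q) :
    |(P.nextCoeff : ℝ)| ≤ (g : ℝ) * (⌊2 * Real.sqrt q⌋ : ℝ) := by
  set m : ℤ := ⌊2 * Real.sqrt q⌋
  set s := (P.map (Int.castRingHom ℂ)).roots with hs
  have hsp := IsAlgClosed.splits (P.map (Int.castRingHom ℂ))
  have hcard : Multiset.card s = 2 * g := by rw [hs, ← hsp.natDegree_eq_card_roots, hP.natDegree_map, hd]
  have hsum : (P.nextCoeff : ℝ) = -(s.map Complex.re).sum := by
    have h := hsp.nextCoeff_eq_neg_sum_roots_of_monic (hP.map _)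
    rw [nextCoeff_map (RingHom.injective_int _)] at h
    have h2 := congrArg Complex.re h
    rw [Complex.neg_re, show s.sum.re = (s.map Complex.re).sum from map_multiset_sum Complex.reLm s] at h2
    simpa using h2
  -- one of the two inequalities, for both signs
  have key : ∀ e : ℤ, e * e = 1 → (e : ℝ) * (s.map Complex.re).sum ≤ (g : ℝ) * m := by
    intro e he
    let c : ℂ → ℝ := fun ω => (m : ℝ) + 1 - 2 * (e : ℝ) * ω.re
    have hbound : ∀ ω ∈ s, 0 < c ω := fun ω hω => by
      have h1 : |(e : ℝ) * ω.re| ≤ Real.sqrt q := by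
        rw [← hroots ω hω, abs_mul]
        have : |(e : ℝ)| = 1 := by
          have : (e : ℝ) * e = 1 := by exact_mod_cast he
          nlinarith [abs_nonneg (e : ℝ), abs_mul_abs_self (e : ℝ)]
        rw [this, one_mul]
        exact Complex.abs_re_le_norm ω
      have h2 := Int.lt_floor_add_one (2 * Real.sqrt q)
      have h3 := (abs_le.1 h1).2
      show (0 : ℝ) < (m : ℝ) + 1 - 2 * (e : ℝ) * ω.re
      rw [mul_assoc]
      linarith
    have hne : ∀ ω ∈ s, ω ≠ 0 := fun ω hω h0 => by
      have := hroots ω hω
      rw [h0, norm_zero] at this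
      exact (Real.sqrt_pos.2 (Nat.cast_pos.2 (Nat.pos_of_ne_zero hq))).ne this
    -- the product is a positive integer
    obtain ⟨z, hz⟩ := exists_int_prod_eval P (C (m + 1) * X - C e * X ^ 2 - C (e * q)) hP
    obtain ⟨w, hw⟩ := exists_int_prod_eval P X hP
    rw [← hs] at hz hw
    have hfac : ∀ ω ∈ s, ((C (m + 1) * X - C e * X ^ 2 - C (e * (q : ℤ))).map (Int.castRingHom ℂ)).eval ω =
        (c ω : ℂ) * ω := fun ω hω => by
      have hn : (starRingEnd ℂ) ω * ω = (q : ℂ) := by
        rw [← Complex.normSq_eq_conj_mul_self, Complex.normSq_eq_norm_sq, hroots ω hω,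
          Real.sq_sqrt (Nat.cast_nonneg q)]
        norm_num
      simp only [Polynomial.map_sub, Polynomial.map_mul, Polynomial.map_C, Polynomial.map_X, Polynomial.map_pow,
        eval_sub, eval_mul, eval_C, eval_X, eval_pow]
      simp only [map_add, map_one, map_mul, eq_intCast, c, Int.cast_natCast]
      push_cast
      rw [show (2 : ℂ) * (e : ℂ) * (ω.re : ℂ) = (e : ℂ) * (ω + (starRingEnd ℂ) ω) by
        rw [Complex.add_conj]; push_cast; ring]
      linear_combination ((e : ℂ)) * hn
    rw [Multiset.map_congr rfl hfac, Multiset.prod_map_mul] at hz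
    rw [Polynomial.map_X, show s.map (Polynomial.eval · X) = s from
      (Multiset.map_congr rfl fun ω _ => eval_X).trans (Multiset.map_id s)] at hw
    rw [show (s.map fun ω => ω) = s from Multiset.map_id s, hw,
      show (s.map fun ω => (c ω : ℂ)) = (s.map c).map Complex.ofRealHom by rw [Multiset.map_map]; rfl,
      ← map_multiset_prod] at hz
    have hwn : (|w| : ℝ) = (q : ℝ) ^ g := by
      have h := congrArg (fun x : ℂ => ‖x‖) hw
      simp only [Complex.norm_intCast] at h
      rw [← h, show ‖s.prod‖ = (s.map fun ω => ‖ω‖).prod from map_multiset_prod (normHom (α := ℂ)) s,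
        Multiset.map_congr rfl hroots, Multiset.map_const', Multiset.prod_replicate, hcard, pow_mul,
        Real.sq_sqrt (Nat.cast_nonneg q)]
    have hprod1 : 1 ≤ (s.map c).prod := by
      have hp : 0 < (s.map c).prod := Multiset.prod_pos fun x hx => by
        obtain ⟨ω, hω, rfl⟩ := Multiset.mem_map.1 hx
        exact hbound ω hω
      have hz' : (s.map c).prod * (w : ℝ) = (z : ℝ) := by
        have := congrArg Complex.re hz
        simpa using this
      -- a rational algebraic integer
      have hdvd : ∃ d : ℤ, (s.map c).prod = (d : ℝ) := by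
        have hw0 : (w : ℚ) ≠ 0 := by
          intro h0
          rw [Int.cast_eq_zero.1 h0, Int.cast_zero] at hwn
          simp [eq_comm, hq] at hwn
        have hrat : (((s.map c).prod : ℝ) : ℂ) = algebraMap ℚ ℂ ((z : ℚ) / (w : ℚ)) := by
          rw [map_div₀, map_intCast, map_intCast, eq_div_iff (by exact_mod_cast (Int.cast_ne_zero.1 hw0))]
          exact_mod_cast hz'
        have hint : IsIntegral ℤ (((s.map c).prod : ℝ) : ℂ) := by
          rw [← Complex.ofRealHom_eq_coe, map_multiset_prod, Multiset.map_map]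
          refine IsIntegral.multiset_prod fun x hx => ?_
          obtain ⟨ω, hω, rfl⟩ := Multiset.mem_map.1 hx
          have hωi : IsIntegral ℤ ω := ⟨P, hP, by
            rw [algebraMap_int_eq, ← eval_map]
            exact (mem_roots'.1 hω).2⟩
          show IsIntegral ℤ ((c ω : ℂ))
          rw [show (c ω : ℂ) = algebraMap ℤ ℂ (m + 1) - algebraMap ℤ ℂ e * (ω + (starRingEnd ℂ) ω) by
            simp only [c, Complex.add_conj, algebraMap_int_eq, eq_intCast]; push_cast; ring]
          exact isIntegral_algebraMap.sub (isIntegral_algebraMap.mul (hωi.add (hωi.map (starRingEnd ℂ).toIntAlgHom)))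
        rw [hrat, isIntegral_algebraMap_iff (algebraMap ℚ ℂ).injective] at hint
        obtain ⟨d, hd'⟩ := IsIntegrallyClosed.isIntegral_iff.1 hint
        refine ⟨d, Complex.ofReal_injective ?_⟩
        rw [hrat, ← hd', algebraMap_int_eq, eq_intCast, map_intCast, Complex.ofReal_intCast]
      obtain ⟨d, hd'⟩ := hdvd
      rw [hd'] at hp ⊢
      exact_mod_cast (Int.cast_pos.1 hp : 0 < d)
    have h := card_le_sum_of_one_le_prod (s.map c) (fun x hx => by
      obtain ⟨ω, hω, rfl⟩ := Multiset.mem_map.1 hx
      exact hbound ω hω) hprod1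
    rw [Multiset.card_map, hcard, Multiset.sum_map_sub, Multiset.map_const', Multiset.sum_replicate, hcard,
      Multiset.sum_map_mul_left, nsmul_eq_mul] at h
    push_cast at h
    linarith
  rw [hsum, abs_neg, abs_le]
  have h1 := key 1 rfl
  have h2 := key (-1) rfl
  push_cast at h1 h2
  constructor <;> linarith

end Groth.Agent.AbCubeLib
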