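import Groth.Agent.AbCubeLib.CharpolyKill
import Groth.Agent.AbCubeLib.WeilPoly
import Mathlib.RingTheory.Jacobson.Semiprimary
import Mathlib.RingTheory.PrincipalIdealDomain

/-!
# The Weil polynomial of a Frobenius endomorphism
-/

set_option autoImplicit false
set_option backward.isDefEq.respectTransparency.types false

universe u

open CategoryTheory CategoryTheory.Limits MonoidalCategory CartesianMonoidalCategory AlgebraicGeometry MonObj

namespace Groth.Agent.AbCubeLib

/-- A squarefree annihilating polynomial makes the generated algebra semisimple. -/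
theorem isSemisimpleRing_adjoin {R : Type*} [Ring R] [Algebra ℚ R] (x : R) {F : Polynomial ℚ} (hsq : Squarefree F)
    (hF : Polynomial.aeval x F = 0) : IsSemisimpleRing (Algebra.adjoin ℚ ({x} : Set R)) := by
  have hint : IsIntegral ℚ x := (IsAlgebraic.isIntegral ⟨F, hsq.ne_zero, hF⟩)
  haveI : Module.Finite ℚ (Algebra.adjoin ℚ ({x} : Set R)) :=
    Module.Finite.iff_fg.2 hint.fg_adjoin_singleton
  letI : CommRing (Algebra.adjoin ℚ ({x} : Set R)) := Algebra.adjoinCommRingOfComm ℚ (by simp)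
  haveI : IsArtinianRing (Algebra.adjoin ℚ ({x} : Set R)) := IsArtinianRing.of_finite ℚ _
  haveI : IsReduced (Algebra.adjoin ℚ ({x} : Set R)) := ⟨fun y ⟨n, hn⟩ => by
    obtain ⟨q, hq⟩ : ∃ q : Polynomial ℚ, Polynomial.aeval x q = (y : R) := by
      exact (Algebra.adjoin_singleton_eq_range_aeval ℚ x).le y.2
    obtain ⟨m, hm, hmsq⟩ : ∃ m : Polynomial ℚ, minpoly ℚ x = m ∧ Squarefree m :=
      ⟨_, rfl, hsq.squarefree_of_dvd (minpoly.dvd ℚ x hF)⟩
    have h : minpoly ℚ x ∣ q ^ n := by
      refine minpoly.dvd ℚ x ?_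
      rw [map_pow, hq]
      exact congrArg Subtype.val hn
    rw [hm] at h
    obtain ⟨c, hc⟩ := hmsq.isRadical n q h
    refine Subtype.ext ?_
    show (y : R) = 0
    rw [← hq, hc, map_mul, ← hm, minpoly.aeval, zero_mul]⟩
  exact IsArtinianRing.isSemisimpleRing_of_isReduced _

variable {k : Type u} [Field k] {A : Over (Spec (CommRingCat.of k))} [GrpObj A] [IsCommMonObj A]
  [IsProper A.hom] [GeometricallyIntegral A.hom] {K : Type u} [Field K] [IsAlgClosed K]
  (j : Spec (CommRingCat.of K) ⟶ Spec (CommRingCat.of k)) {l : ℕ} [Fact l.Prime]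
  [Module.Free ℤ_[l] (AbDual.TateMod A l (Over.mk j))] [Module.Finite ℤ_[l] (AbDual.TateMod A l (Over.mk j))]

/-- Uniqueness of the integral characteristic polynomial, with its degree and values. -/
theorem charpoly_spec (hl : (l : k) ≠ 0) {r : ℕ} (hr : topologicalKrullDim A.left = r) (φ : EndAV.End A)
    (P : Polynomial ℤ) (hP : (EndAV.End.tateRep l (Over.mk j) φ).charpoly = P.map (Int.castRingHom ℤ_[l])) :
    P.Monic ∧ P.natDegree = 2 * r ∧
      ∀ n : ℤ, degQ (φ - (n : EndAV.End A)).toHom = ((P.eval n : ℤ) : ℚ) := by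
  obtain ⟨P', hm, hd, hv, hc⟩ := exists_int_charpoly_bc j hr φ
  rw [hc l hl] at hP
  rw [← Polynomial.map_injective _ (RingHom.injective_int _) hP]
  exact ⟨hm, hd, hv⟩

theorem degQ_nonneg (f : A ⟶ A) : 0 ≤ degQ f := by
  rw [degQ]
  split_ifs <;> positivity

/-- The value at `0` of the Weil polynomial is positive. -/
theorem eval_zero_pos (hl : (l : k) ≠ 0) {r : ℕ} (hr : topologicalKrullDim A.left = r)
    (π : EndAV.End A) {q : ℕ} (hq : q ≠ 0) (hπ : ∀ a : PicLib.PicM A.left, PicLib.PicM.pull π.toHom.left a = a ^ q)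
    (P : Polynomial ℤ) (hP : (EndAV.End.tateRep l (Over.mk j) π).charpoly = P.map (Int.castRingHom ℤ_[l])) :
    0 < P.eval 0 := by
  obtain ⟨hm, hd, hv⟩ := charpoly_spec j hl hr π P hP
  have h0 := hv 0
  rw [Int.cast_zero, sub_zero] at h0
  refine lt_of_le_of_ne (by exact_mod_cast h0 ▸ degQ_nonneg π.toHom) fun h => ?_
  have h2 : (0 : ℂ) ∈ (P.map (Int.castRingHom ℂ)).roots := by
    rw [Polynomial.mem_roots (hm.map _).ne_zero, Polynomial.IsRoot, ← Polynomial.coeff_zero_eq_eval_zero,
      Polynomial.coeff_map, Polynomial.coeff_zero_eq_eval_zero, ← h, map_zero]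
  have := norm_root_eq_sqrt j π hq hπ P hP 0 h2
  rw [norm_zero] at this
  exact (Real.sqrt_pos.2 (Nat.cast_pos.2 (Nat.pos_of_ne_zero hq))).ne this

end Groth.Agent.AbCubeLib
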