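import Groth.Agent.AbCubeLib.HomRank
import Mathlib.RingTheory.IntegralClosure.IsIntegralClosure.Basic

/-!
# The minimal polynomial on the Tate module is integral
-/

set_option autoImplicit false
set_option backward.isDefEq.respectTransparency.types false

universe u

open CategoryTheory CategoryTheory.Limits MonoidalCategory CartesianMonoidalCategory AlgebraicGeometry MonObj Polynomial

namespace Groth.Agent.AbCubeLib

variable {k : Type u} [Field k] {K : Type u} [Field K] [IsAlgClosed K]
  (g : Spec (CommRingCat.of K) ⟶ Spec (CommRingCat.of k)) {A : Over (Spec (CommRingCat.of k))}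
  [GrpObj A] [IsCommMonObj A] [IsProper A.hom] [GeometricallyIntegral A.hom] {l : ℕ} [Fact l.Prime]

/-- Polynomials in an endomorphism act as the polynomials in its Tate map. -/
theorem tateRep_aeval (φ : EndAV.End A) (P : ℤ[X]) :
    EndAV.End.tateRep l (Over.mk g) (aeval φ P) =
      aeval (EndAV.End.tateRep l (Over.mk g) φ) (P.map (Int.castRingHom ℤ_[l])) := by
  rw [aeval_def, aeval_def, eval₂_map, hom_eval₂]
  exact congrArg (fun f => eval₂ f _ P) (RingHom.ext_int _ _)

/-- Independent endomorphisms stay independent on the Tate module. -/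
theorem linearIndependent_tateRep (hl : (l : k) ≠ 0) {n : ℕ} (e : Fin n → EndAV.End A)
    (he : LinearIndependent ℤ e) :
    LinearIndependent ℤ_[l] fun i => EndAV.End.tateRep l (Over.mk g) (e i) :=
  linearIndependent_tateMap g hl e he

/-- The representation on the Tate module is faithful. -/
theorem tateRep_injective (hl : (l : k) ≠ 0) : Function.Injective (EndAV.End.tateRep l (Over.mk g) (A := A)) := by
  rw [injective_iff_map_eq_zero]
  intro φ hφ
  by_contra h
  obtain ⟨b, -, hb⟩ := exists_hom_form (A := A) (B := A)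
  have hli : LinearIndependent ℤ (fun _ : Fin 1 => φ) := by
    refine Fintype.linearIndependent_iff.2 fun c hc i => ?_
    rw [Fin.sum_univ_one] at hc
    rw [Subsingleton.elim i 0]
    have h2 := congrArg (fun x : EndAV.Hom A A => b x φ) hc
    simp only [map_zsmul, AddMonoidHom.zsmul_apply, map_zero, AddMonoidHom.zero_apply, smul_eq_mul, mul_eq_zero] at h2
    exact h2.resolve_right (hb φ h).ne'
  exact (linearIndependent_tateRep g hl _ hli).ne_zero 0 hφ

/-- The minimal polynomial on the Tate module has integer coefficients. -/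
theorem exists_minpoly_eq [Module.Free ℤ_[l] (AbDual.TateMod A l (Over.mk g))]
    [Module.Finite ℤ_[l] (AbDual.TateMod A l (Over.mk g))] (hl : (l : k) ≠ 0) (φ : EndAV.End A) :
    ∃ P : ℤ[X], P.Monic ∧ aeval φ P = 0 ∧
      minpoly ℤ_[l] (EndAV.End.tateRep l (Over.mk g) φ) = P.map (Int.castRingHom ℤ_[l]) := by
  obtain ⟨d, hd⟩ := exists_dim_eq A
  haveI : Module.Finite ℤ (EndAV.End A) := (hom_free_finite (A := A) (B := A) hd hd).2.1
  classical
  have hfree : Module.Free ℤ (EndAV.End A) := (hom_free_finite (A := A) (B := A) hd hd).1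
  obtain ⟨P, hP, hP0, hmin⟩ : ∃ P : ℤ[X], P.Monic ∧ aeval φ P = 0 ∧
      LinearIndependent ℤ (fun i : Fin P.natDegree => φ ^ (i : ℕ)) := by
    -- work in the commutative subring generated by `φ`
    let S := Algebra.adjoin ℤ ({φ} : Set (EndAV.End A))
    letI : CommRing S := Algebra.adjoinCommRingOfComm ℤ (by simp)
    let φ' : S := ⟨φ, Algebra.subset_adjoin rfl⟩
    have hφ' : IsIntegral ℤ φ' := (isIntegral_algHom_iff S.val Subtype.val_injective).1 (IsIntegral.of_finite ℤ φ)
    let m := minpoly ℚ ((1 : ℚ) ⊗ₜ[ℤ] φ' : TensorProduct ℤ ℚ S)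
    have hi : IsIntegral ℤ ((1 : ℚ) ⊗ₜ[ℤ] φ' : TensorProduct ℤ ℚ S) :=
      hφ'.map (Algebra.TensorProduct.includeRight : S →ₐ[ℤ] TensorProduct ℤ ℚ S)
    haveI : Module.Flat ℤ ℚ := inferInstance
    haveI : Module.Free ℤ (EndAV.End A) := hfree
    obtain ⟨P, hPm, hP⟩ : ∃ P : ℤ[X], P.map (algebraMap ℤ ℚ) = m ∧ P.Monic := by
      have hdvd : m ∣ (minpoly ℤ φ').map (algebraMap ℤ ℚ) := by
        refine minpoly.dvd ℚ _ ?_
        rw [aeval_map_algebraMap]
        show aeval ((Algebra.TensorProduct.includeRight : S →ₐ[ℤ] TensorProduct ℤ ℚ S) φ') _ = 0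
        rw [aeval_algHom_apply, minpoly.aeval, map_zero]
      have hl : m ∈ lifts (algebraMap ℤ ℚ) := by
        obtain ⟨g, hg⟩ := IsIntegrallyClosed.eq_map_mul_C_of_dvd ℚ (minpoly.monic hφ') hdvd
        rw [Polynomial.mem_lifts]
        refine ⟨g, ?_⟩
        simpa [(minpoly.monic (IsIntegral.tower_top hi)).leadingCoeff, show m.leadingCoeff = 1 from (minpoly.monic (IsIntegral.tower_top hi)).leadingCoeff] using hg
      obtain ⟨P, hP, -, hPm⟩ := lifts_and_degree_eq_and_monic hl (minpoly.monic (IsIntegral.tower_top hi))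
      exact ⟨P, hP, hPm⟩
    have hinj : Function.Injective (fun x : S => ((1 : ℚ) ⊗ₜ[ℤ] x : TensorProduct ℤ ℚ S)) :=
      Algebra.TensorProduct.includeRight_injective (IsFractionRing.injective ℤ ℚ)
    refine ⟨P, hP, ?_, ?_⟩
    · have h : aeval φ' P = 0 := hinj (by
        show ((Algebra.TensorProduct.includeRight : S →ₐ[ℤ] TensorProduct ℤ ℚ S) (aeval φ' P)) =
          (Algebra.TensorProduct.includeRight : S →ₐ[ℤ] TensorProduct ℤ ℚ S) 0
        rw [← aeval_algHom_apply, map_zero, Algebra.TensorProduct.includeRight_apply,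
          ← aeval_map_algebraMap ℚ, hPm]
        exact minpoly.aeval _ _)
      have := congrArg S.val h
      rwa [← aeval_algHom_apply, map_zero] at this
    · refine Fintype.linearIndependent_iff.2 fun c hc i => ?_
      have hdeg : P.natDegree = m.natDegree := by rw [← hPm, hP.natDegree_map]
      have hsum : (∑ j : Fin P.natDegree, (c j : ℚ) • ((1 : ℚ) ⊗ₜ[ℤ] φ' : TensorProduct ℤ ℚ S) ^ (j : ℕ)) = 0 := by
        have h1 : (∑ j : Fin P.natDegree, c j • φ' ^ (j : ℕ)) = 0 := Subtype.ext (by simpa [φ'] using hc)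
        have h2 := congrArg (Algebra.TensorProduct.includeRight : S →ₐ[ℤ] TensorProduct ℤ ℚ S) h1
        rw [map_sum, map_zero] at h2
        refine Eq.trans (Finset.sum_congr rfl fun j _ => ?_) h2
        rw [map_zsmul, map_pow, Int.cast_smul_eq_zsmul]
        rfl
      have hli := linearIndependent_pow (K := ℚ) (((1 : ℚ) ⊗ₜ[ℤ] φ' : TensorProduct ℤ ℚ S))
      have := Fintype.linearIndependent_iff.1 hli (fun j => (c (Fin.cast hdeg.symm j) : ℚ)) ?_ (Fin.cast hdeg i)
      · simpa using this
      · refine Eq.trans ?_ hsum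
        exact Fintype.sum_equiv (finCongr hdeg.symm) _ _ fun j => rfl
  refine ⟨P, hP, hP0, ?_⟩
  have hli := linearIndependent_tateRep g hl (fun i : Fin P.natDegree => φ ^ (i : ℕ)) hmin
  set t := EndAV.End.tateRep l (Over.mk g) φ with ht
  have hPl : aeval t (P.map (Int.castRingHom ℤ_[l])) = 0 := by rw [← tateRep_aeval, hP0, map_zero]
  have hmon := hP.map (Int.castRingHom ℤ_[l])
  refine (minpoly.unique' ℤ_[l] t hmon hPl fun q hq => or_iff_not_imp_left.2 fun hq0 => ?_).symm
  intro hqt
  rw [hmon.degree_map (f := RingHom.id _) |>.symm, Polynomial.map_id, degree_eq_natDegree hmon.ne_zero,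
    degree_eq_natDegree hq0, hP.natDegree_map] at hq
  have hlt : q.natDegree < P.natDegree := by exact_mod_cast hq
  rw [aeval_eq_sum_range' hlt, ← Fin.sum_univ_eq_sum_range (fun i => q.coeff i • t ^ i)] at hqt
  refine hq0 (Polynomial.ext fun i => ?_)
  rw [coeff_zero]
  by_cases hi : i < P.natDegree
  · exact Fintype.linearIndependent_iff.1 hli (fun j => q.coeff j) (by simp only [map_pow]; exact hqt) ⟨i, hi⟩
  · exact coeff_eq_zero_of_natDegree_lt (by omega)

end Groth.Agent.AbCubeLib
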