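import Groth.Agent.AbCubeLib.CharpolyTate
import Groth.Agent.AbCubeLib.MinpolyTate
import Mathlib.LinearAlgebra.Matrix.Charpoly.Eigs
import Mathlib.LinearAlgebra.Matrix.Charpoly.LinearMap
import Mathlib.RingTheory.IntegralClosure.IntegrallyClosed

/-!
# The characteristic polynomial of an endomorphism is integral and independent of `l`
-/

set_option autoImplicit false
set_option backward.isDefEq.respectTransparency.types false

universe u

open CategoryTheory CategoryTheory.Limits MonoidalCategory CartesianMonoidalCategory AlgebraicGeometry MonObj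

namespace Groth.Agent.AbCubeLib

/-- A rational polynomial whose roots are algebraic integers has integer coefficients. -/
theorem exists_map_eq_of_roots_isIntegral {L : Type*} [Field L] [IsAlgClosed L] [Algebra ℚ L] (P : Polynomial ℚ)
    (hP : P.Monic) (h : ∀ x ∈ P.aroots L, IsIntegral ℤ x) :
    ∃ P' : Polynomial ℤ, P'.Monic ∧ P'.map (Int.castRingHom ℚ) = P := by
  have hlift : P.map (algebraMap ℚ L) ∈ Polynomial.lifts (algebraMap (integralClosure ℤ L) L) := by
    rw [(IsAlgClosed.splits _).eq_prod_roots_of_monic (hP.map _), ← Polynomial.aroots_def]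
    refine Subsemiring.multiset_prod_mem _ _ fun p hp => ?_
    obtain ⟨a, ha, rfl⟩ := Multiset.mem_map.1 hp
    exact ⟨Polynomial.X - Polynomial.C (⟨a, h a ha⟩ : integralClosure ℤ L), by simp [Polynomial.coe_mapRingHom]⟩
  rw [Polynomial.lifts_iff_coeff_lifts] at hlift
  have hl : P ∈ Polynomial.lifts (Int.castRingHom ℚ) := by
    rw [Polynomial.lifts_iff_coeff_lifts]
    intro i
    obtain ⟨y, hy⟩ := hlift i
    have hi : IsIntegral ℤ (P.coeff i) := by
      refine (isIntegral_algebraMap_iff (B := L) (algebraMap ℚ L).injective).1 ?_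
      rw [← Polynomial.coeff_map, ← hy]
      exact y.2
    obtain ⟨z, hz⟩ := IsIntegrallyClosed.isIntegral_iff.1 hi
    exact ⟨z, by rw [← hz]; exact (eq_intCast (algebraMap ℤ ℚ) z).symm⟩
  obtain ⟨P', hP', -, hm⟩ := Polynomial.lifts_and_degree_eq_and_monic hl hP
  exact ⟨P', hm, hP'⟩

variable {k : Type u} [Field k] [IsAlgClosed k] {A : Over (Spec (CommRingCat.of k))} [GrpObj A] [IsCommMonObj A]
  [IsProper A.hom] [GeometricallyIntegral A.hom]

local notation "𝕆" => 𝟙_ (Over (Spec (CommRingCat.of k)))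

/-- The Tate module over an algebraically closed field has a basis of `2 g` elements. -/
theorem exists_tate_basis_unit {g : ℕ} (hg : topologicalKrullDim A.left = g) {l : ℕ} [Fact l.Prime]
    (hl : (l : k) ≠ 0) : Nonempty (Module.Basis (Fin (2 * g)) ℤ_[l] (AbDual.TateMod A l 𝕆)) := by
  refine exists_tate_basis fun n => ?_
  rw [natCard_torsPts_eq hg (by rw [Nat.cast_pow]; exact pow_ne_zero _ hl), ← pow_mul, Nat.mul_comm]

theorem exists_prime_ne_zero : ∃ l : ℕ, l.Prime ∧ (l : k) ≠ 0 := by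
  by_cases h2 : ((2 : ℕ) : k) = 0
  · refine ⟨3, Nat.prime_three, fun h3 => ?_⟩
    rw [Nat.cast_ofNat] at h2 h3
    exact one_ne_zero (by linear_combination h3 - h2 : (1 : k) = 0)
  · exact ⟨2, Nat.prime_two, h2⟩

/-- The roots of the characteristic polynomial are roots of any polynomial killing the endomorphism. -/
theorem aeval_root_eq_zero {K L : Type*} [Field K] [Field L] [Algebra K L] {κ : Type*} [Fintype κ] [DecidableEq κ]
    (W : Matrix κ κ K) (F : Polynomial K) (hF : Polynomial.aeval W F = 0) (x : L) (hx : x ∈ W.charpoly.aroots L) :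
    Polynomial.aeval x F = 0 := by
  rw [Polynomial.aroots_def, ← Matrix.charpoly_map, Polynomial.mem_roots (Matrix.charpoly_monic _).ne_zero] at hx
  have hs := spectrum.subset_polynomial_aeval (W.map (algebraMap K L)) (F.map (algebraMap K L))
    ⟨x, Matrix.mem_spectrum_iff_isRoot_charpoly.2 hx, rfl⟩
  rw [Polynomial.aeval_map_algebraMap, show W.map (algebraMap K L) = (Algebra.ofId K L).mapMatrix W from rfl,
    Polynomial.aeval_algHom_apply, hF, map_zero] at hs
  rcases isEmpty_or_nonempty κ with hκ | hκ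
  · simp [Matrix.charpoly, Polynomial.IsRoot] at hx
  · rw [spectrum.zero_eq, Set.mem_singleton_iff] at hs
    simpa [Polynomial.eval_map, ← Polynomial.aeval_def] using hs

/-- The degree polynomial is integral and is the characteristic polynomial on every Tate module. -/
theorem exists_int_charpoly {r : ℕ} (hr : topologicalKrullDim A.left = r) (φ : EndAV.End A) :
    ∃ P : Polynomial ℤ, P.Monic ∧ P.natDegree = 2 * r ∧
      (∀ n : ℤ, degQ (φ - (n : EndAV.End A)).toHom = ((P.eval n : ℤ) : ℚ)) ∧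
      ∀ (l : ℕ) [Fact l.Prime], (l : k) ≠ 0 →
        ∀ [Module.Free ℤ_[l] (AbDual.TateMod A l 𝕆)] [Module.Finite ℤ_[l] (AbDual.TateMod A l 𝕆)],
          (EndAV.End.tateRep l 𝕆 φ).charpoly = P.map (Int.castRingHom ℤ_[l]) := by
  obtain ⟨P₀, hP₀, hP₀d, hval₀⟩ := exists_degQ_add_poly hr φ
  let P := P₀.comp (-Polynomial.X)
  have hval : ∀ n : ℤ, degQ (φ - (n : EndAV.End A)).toHom = P.eval (n : ℚ) := fun n => by
    rw [Polynomial.eval_comp, Polynomial.eval_neg, Polynomial.eval_X, ← Int.cast_neg, ← hval₀ (-n), Int.cast_neg,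
      sub_eq_add_neg]
  have hPd : P.natDegree = 2 * r := by
    rw [Polynomial.natDegree_comp, Polynomial.natDegree_neg, Polynomial.natDegree_X, _root_.mul_one, hP₀d]
  have hPm : P.Monic := by
    rw [Polynomial.Monic, Polynomial.leadingCoeff_comp (by simp), hP₀.leadingCoeff, hP₀d,
      Polynomial.leadingCoeff_neg, Polynomial.leadingCoeff_X, _root_.one_mul, pow_mul, neg_one_sq, one_pow]
  have key : ∀ (l : ℕ) [Fact l.Prime], (l : k) ≠ 0 → ∀ b : Module.Basis (Fin (2 * r)) ℤ_[l] (AbDual.TateMod A l 𝕆),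
      P.map (algebraMap ℚ ℚ_[l]) =
        ((LinearMap.toMatrixAlgEquiv b (EndAV.End.tateRep l 𝕆 φ)).map (algebraMap ℤ_[l] ℚ_[l])).charpoly :=
    fun l _ hl b => charpoly_map_eq hl hr (Fintype.card_fin _) b φ P hPm hPd hval
  obtain ⟨P', hP'm, hP'⟩ : ∃ P' : Polynomial ℤ, P'.Monic ∧ P'.map (Int.castRingHom ℚ) = P := by
    obtain ⟨l, hlp, hl⟩ := exists_prime_ne_zero (k := k)
    haveI : Fact l.Prime := ⟨hlp⟩
    obtain ⟨b⟩ := exists_tate_basis_unit hr hl
    haveI : Module.Finite ℤ (EndAV.End A) := (hom_free_finite (A := A) (B := A) hr hr).2.1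
    obtain ⟨F, hFm, hF⟩ := IsIntegral.of_finite ℤ φ
    refine exists_map_eq_of_roots_isIntegral (L := AlgebraicClosure ℚ_[l]) P hPm fun x hx => ⟨F, hFm, ?_⟩
    rw [Polynomial.aroots_def, IsScalarTower.algebraMap_eq ℚ ℚ_[l], ← Polynomial.map_map, key l hl b,
      ← Polynomial.aroots_def] at hx
    have hz := aeval_root_eq_zero _ (F.map (Int.castRingHom ℚ_[l])) ?_ x hx
    · rwa [← algebraMap_int_eq, Polynomial.aeval_map_algebraMap, Polynomial.aeval_def] at hz
    · let ψ : EndAV.End A →+* Matrix (Fin (2 * r)) (Fin (2 * r)) ℚ_[l] :=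
        (algebraMap ℤ_[l] ℚ_[l]).mapMatrix.comp ((LinearMap.toMatrixAlgEquiv b :
          Module.End ℤ_[l] (AbDual.TateMod A l 𝕆) ≃ₐ[ℤ_[l]] _).toRingEquiv.toRingHom.comp (EndAV.End.tateRep l 𝕆))
      have h2 := congrArg ψ hF
      rw [map_zero, Polynomial.hom_eval₂] at h2
      rw [Polynomial.aeval_def, Polynomial.eval₂_map]
      exact (congrArg (fun f => Polynomial.eval₂ f _ F) (RingHom.ext_int _ _)).trans h2
  refine ⟨P', hP'm, ?_, fun n => ?_, fun l _ hl => ?_⟩
  · rw [← hPd, ← hP', hP'm.natDegree_map]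
  · rw [hval, ← hP', Polynomial.eval_intCast_map]
    simp
  · intro _ _
    obtain ⟨b⟩ := exists_tate_basis_unit hr hl
    refine Polynomial.map_injective (algebraMap ℤ_[l] ℚ_[l]) (IsFractionRing.injective ℤ_[l] ℚ_[l]) ?_
    rw [← LinearMap.charpoly_toMatrix _ b, ← Matrix.charpoly_map, Polynomial.map_map]
    refine ((key l hl b).symm.trans ?_)
    rw [← hP', Polynomial.map_map]
    exact congrArg (fun f => P'.map f) (RingHom.ext_int _ _)

end Groth.Agent.AbCubeLib
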