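import Groth.Agent.AbCubeLib.HomTate
import Mathlib.RingTheory.PowerBasis
import Mathlib.LinearAlgebra.FreeModule.Finite.Matrix

/-!
# The rank of the group of homomorphisms of abelian varieties
-/

set_option autoImplicit false
set_option backward.isDefEq.respectTransparency.types false

universe u

open CategoryTheory CategoryTheory.Limits MonoidalCategory CartesianMonoidalCategory AlgebraicGeometry MonObj

namespace Groth.Agent.AbCubeLib

variable {k : Type u} [Field k] {A B : Over (Spec (CommRingCat.of k))}

/-- The Tate module over an algebraically closed extension has a basis of `2 g` elements. -/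
theorem exists_tate_basis_of_algClosed [GrpObj A] [IsCommMonObj A] [IsProper A.hom] [GeometricallyIntegral A.hom]
    (K : Type u) [Field K] [IsAlgClosed K] [Algebra k K] {g : ℕ} (hg : topologicalKrullDim A.left = g)
    {l : ℕ} [Fact l.Prime] (hl : (l : k) ≠ 0) :
    Nonempty (Module.Basis (Fin (2 * g)) ℤ_[l]
      (AbDual.TateMod A l (Over.mk (Spec.map (CommRingCat.ofHom (algebraMap k K)))))) := by
  let j := Spec.map (CommRingCat.ofHom (algebraMap k K))
  let A' := (Over.pullback j).obj A
  letI : GrpObj A' := Functor.grpObjObj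
  haveI : IsProper A'.hom := inferInstanceAs (IsProper (pullback.snd A.hom j))
  haveI : GeometricallyIntegral A'.hom := inferInstanceAs (GeometricallyIntegral (pullback.snd A.hom j))
  haveI : IsCommMonObj A' := isCommMonObj_of_isProper_of_geometricallyIntegral A'
  have hdim : topologicalKrullDim A'.left = g := (DimLib.topologicalKrullDim_bc A.hom K).trans hg
  let e := MulEquiv.ofBijective (bcPts j A) (bcPts_bijective j A)
  refine exists_tate_basis fun n => ?_
  have hl' : ((l ^ n : ℕ) : K) ≠ 0 := by
    rw [Nat.cast_pow, ← map_natCast (algebraMap k K)]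
    exact pow_ne_zero _ ((_root_.map_ne_zero _).2 hl)
  rw [pow_mul, ← pow_mul, Nat.mul_comm, pow_mul, ← natCard_torsPts_eq hdim hl']
  refine Nat.card_congr (e.toEquiv.subtypeEquiv fun a => ?_)
  rw [AbDual.mem_torsPts, AbDual.mem_torsPts]
  show _ ↔ e a ^ (l ^ n) = 1
  rw [← map_pow, map_eq_one_iff e e.injective]

/-- Independent homomorphisms are at most `4 g h` in number. -/
theorem card_le_of_linearIndependent [GrpObj A] [IsCommMonObj A] [IsProper A.hom] [GeometricallyIntegral A.hom]
    [GrpObj B] [IsCommMonObj B] [IsProper B.hom] [GeometricallyIntegral B.hom] {g h : ℕ}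
    (hg : topologicalKrullDim A.left = g) (hh : topologicalKrullDim B.left = h) {n : ℕ}
    (e : Fin n → EndAV.Hom A B) (he : LinearIndependent ℤ e) : n ≤ 4 * g * h := by
  obtain ⟨l, hl, hlk⟩ : ∃ l : ℕ, l.Prime ∧ (l : k) ≠ 0 := by
    by_cases h2 : ((2 : ℕ) : k) = 0
    · refine ⟨3, Nat.prime_three, fun h3 => ?_⟩
      rw [Nat.cast_ofNat] at h2 h3
      exact one_ne_zero (by linear_combination h3 - h2 : (1 : k) = 0)
    · exact ⟨2, Nat.prime_two, h2⟩
  haveI : Fact l.Prime := ⟨hl⟩
  let K := AlgebraicClosure k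
  obtain ⟨bA⟩ := exists_tate_basis_of_algClosed (A := A) K hg hlk
  obtain ⟨bB⟩ := exists_tate_basis_of_algClosed (A := B) K hh hlk
  have hli := linearIndependent_tateMap (Spec.map (CommRingCat.ofHom (algebraMap k K))) hlk e he
  haveI := Module.Finite.of_basis bA
  haveI := Module.Finite.of_basis bB
  haveI := Module.Free.of_basis bA
  haveI := Module.Free.of_basis bB
  refine ((Fintype.card_fin n).ge.trans hli.fintype_card_le_finrank).trans ?_
  rw [Module.finrank_linearMap, Module.finrank_eq_card_basis bA, Module.finrank_eq_card_basis bB,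
    Fintype.card_fin, Fintype.card_fin]
  exact le_of_eq (by ring)

/-- The homomorphisms form a free group of rank at most `4 g h`. -/
theorem hom_free_finite [GrpObj A] [IsCommMonObj A] [IsProper A.hom] [GeometricallyIntegral A.hom]
    [GrpObj B] [IsCommMonObj B] [IsProper B.hom] [GeometricallyIntegral B.hom] {g h : ℕ}
    (hg : topologicalKrullDim A.left = g) (hh : topologicalKrullDim B.left = h) :
    Module.Free ℤ (EndAV.Hom A B) ∧ Module.Finite ℤ (EndAV.Hom A B) ∧
      Module.finrank ℤ (EndAV.Hom A B) ≤ 4 * g * h := by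
  obtain ⟨b, hsymm, hb⟩ := exists_hom_form (A := A) (B := B)
  exact free_finite_of_form b hsymm (fun x hx => (hb x hx).ne') _
    fun n e he => card_le_of_linearIndependent hg hh e he

/-- Independence in `Additive (A ⟶ B)` passes to the group of homomorphisms. -/
theorem linearIndependent_of [GrpObj A] [IsCommMonObj A] [GrpObj B] [IsCommMonObj B] {n : ℕ} (e : Fin n → (A ⟶ B))
    [∀ i, IsMonHom (e i)] (he : LinearIndependent ℤ fun i => Additive.ofMul (e i)) :
    LinearIndependent ℤ fun i => EndAV.Hom.of (e i) :=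
  LinearIndependent.of_comp
    (AddMonoidHom.mk' (fun φ : EndAV.Hom A B => Additive.ofMul φ.toHom) fun φ ψ => rfl).toIntLinearMap he

/-- The homomorphisms are finitely generated. -/
theorem exists_hom_generators [GrpObj A] [IsCommMonObj A] [IsProper A.hom] [GeometricallyIntegral A.hom]
    [GrpObj B] [IsCommMonObj B] [IsProper B.hom] [GeometricallyIntegral B.hom] :
    ∃ (n : ℕ) (e : Fin n → (A ⟶ B)), (∀ i, IsMonHom (e i)) ∧
      ∀ f : A ⟶ B, IsMonHom f → ∃ a : Fin n → ℤ, f = ∏ i, e i ^ a i := by
  obtain ⟨g, hg⟩ := exists_dim_eq A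
  obtain ⟨h, hh⟩ := exists_dim_eq B
  obtain ⟨hfree, hfin, -⟩ := hom_free_finite hg hh
  obtain ⟨n, e, he⟩ := Module.Finite.exists_fin (R := ℤ) (M := EndAV.Hom A B)
  refine ⟨n, fun i => (e i).toHom, fun i => inferInstance, fun f hf => ?_⟩
  obtain ⟨a, ha⟩ := (Submodule.mem_span_range_iff_exists_fun ℤ).1 (he.ge (Submodule.mem_top (x := EndAV.Hom.of f)))
  refine ⟨a, ?_⟩
  let F : EndAV.Hom A B →+ Additive (A ⟶ B) := AddMonoidHom.mk' (fun φ => Additive.ofMul φ.toHom) fun φ ψ => rfl
  have := congrArg F ha
  rw [map_sum] at this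
  simp only [map_zsmul] at this
  exact (congrArg Additive.toMul this).symm

end Groth.Agent.AbCubeLib
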