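import Mathlib.Analysis.Complex.Basic
import Mathlib.Analysis.Matrix.Order
import Mathlib.LinearAlgebra.Matrix.Charpoly.Minpoly
import Mathlib.LinearAlgebra.Matrix.ToLinearEquiv
import Mathlib.Topology.Instances.Matrix
import Mathlib.FieldTheory.Perfect
import Groth.Agent.AbVarLib.PositiveInvolution

/-!
# Minimal polynomials of similitudes of positive definite forms
-/

set_option autoImplicit false

open Matrix Polynomial

namespace Groth.Agent.AbCubeLib

variable {n : ℕ} (G W : Matrix (Fin n) (Fin n) ℤ)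

/-- The form over the rationals. -/
theorem rat_pos (hpos : ∀ x, x ≠ 0 → 0 < x ⬝ᵥ (G *ᵥ x)) (x : Fin n → ℚ) (hx : x ≠ 0) :
    0 < x ⬝ᵥ ((G.map (Int.castRingHom ℚ)) *ᵥ x) := by
  obtain ⟨N, hN⟩ := IsLocalization.exist_integer_multiples_of_finite (nonZeroDivisors ℤ) x
  choose y hy using hN
  have hN0 : ((N : ℤ) : ℚ) ≠ 0 := by exact_mod_cast nonZeroDivisors.coe_ne_zero N
  have hyx : (Int.castRingHom ℚ) ∘ y = ((N : ℤ) : ℚ) • x := _root_.funext fun i => by
    simpa [Algebra.smul_def] using hy i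
  have hy0 : y ≠ 0 := fun h => hx (smul_right_injective _ hN0 (show ((N : ℤ) : ℚ) • x = ((N : ℤ) : ℚ) • (0 : Fin n → ℚ) by
    rw [← hyx, h, smul_zero]; ext i; simp))
  have h := (Int.cast_pos (R := ℚ)).2 (hpos y hy0)
  have e : ((y ⬝ᵥ (G *ᵥ y) : ℤ) : ℚ) = ((N : ℤ) : ℚ) ^ 2 * (x ⬝ᵥ ((G.map (Int.castRingHom ℚ)) *ᵥ x)) := by
    rw [← eq_intCast (Int.castRingHom ℚ), RingHom.map_dotProduct,
      show (Int.castRingHom ℚ) ∘ (G *ᵥ y) = G.map (Int.castRingHom ℚ) *ᵥ ((Int.castRingHom ℚ) ∘ y) from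
        _root_.funext (RingHom.map_mulVec _ G y),
      hyx, mulVec_smul, smul_dotProduct, dotProduct_smul, smul_eq_mul, smul_eq_mul]
    ring
  rw [e] at h
  exact pos_of_mul_pos_right h (sq_nonneg _)

theorem det_rat_ne_zero (hpos : ∀ x, x ≠ 0 → 0 < x ⬝ᵥ (G *ᵥ x)) : (G.map (Int.castRingHom ℚ)).det ≠ 0 := by
  intro h
  obtain ⟨v, hv, hv0⟩ := exists_mulVec_eq_zero_iff.2 h
  have := rat_pos G hpos v hv
  rw [hv0, dotProduct_zero] at this
  exact lt_irrefl _ this

/-- The form over the reals is positive definite. -/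
theorem real_posDef (hsymm : G.transpose = G) (hpos : ∀ x, x ≠ 0 → 0 < x ⬝ᵥ (G *ᵥ x)) :
    (G.map (Int.castRingHom ℝ)).PosDef := by
  have hsemi : (G.map (Int.castRingHom ℝ)).PosSemidef := by
    refine PosSemidef.of_dotProduct_mulVec_nonneg ?_ fun x => ?_
    · exact Matrix.ext fun i j => by
        rw [conjTranspose_apply, star_trivial, Matrix.map_apply, Matrix.map_apply, show G j i = G i j from congrFun (congrFun hsymm i) j]
    · rw [star_trivial]
      have hden : DenseRange (fun q : Fin n → ℚ => fun i => ((q i : ℚ) : ℝ)) :=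
        DenseRange.piMap fun _ => Rat.denseRange_cast
      have hclosed : IsClosed {x : Fin n → ℝ | 0 ≤ x ⬝ᵥ ((G.map (Int.castRingHom ℝ)) *ᵥ x)} :=
        isClosed_le continuous_const
          (continuous_id.dotProduct (continuous_const.matrix_mulVec continuous_id))
      refine hclosed.closure_subset_iff.2 ?_ (hden x)
      rintro _ ⟨q, rfl⟩
      show (0 : ℝ) ≤ (fun i => ((q i : ℚ) : ℝ)) ⬝ᵥ ((G.map (Int.castRingHom ℝ)) *ᵥ fun i => ((q i : ℚ) : ℝ))
      have e : (fun i => ((q i : ℚ) : ℝ)) = (Rat.castHom ℝ) ∘ q := rfl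
      rw [e, ← RingHom.ext_int ((Rat.castHom ℝ).comp (Int.castRingHom ℚ)) (Int.castRingHom ℝ),
        show G.map ((Rat.castHom ℝ).comp (Int.castRingHom ℚ)) = (G.map (Int.castRingHom ℚ)).map (Rat.castHom ℝ) by
          rw [Matrix.map_map]; rfl,
        show (G.map (Int.castRingHom ℚ)).map (Rat.castHom ℝ) *ᵥ ((Rat.castHom ℝ) ∘ q) =
          (Rat.castHom ℝ) ∘ (G.map (Int.castRingHom ℚ) *ᵥ q) from (_root_.funext (RingHom.map_mulVec _ _ q)).symm,
        ← RingHom.map_dotProduct]
      by_cases hq : q = 0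
      · simp [hq]
      · exact (Rat.cast_pos.2 (rat_pos G hpos q hq)).le
  refine hsemi.posDef_iff_isUnit.2 ((isUnit_iff_isUnit_det _).2 (isUnit_iff_ne_zero.2 ?_))
  rw [← RingHom.mapMatrix_apply, ← RingHom.map_det, eq_intCast]
  have h := det_rat_ne_zero G hpos
  rw [← RingHom.mapMatrix_apply, ← RingHom.map_det, eq_intCast] at h
  exact_mod_cast h

variable {G W}

/-- The complex eigenvalues of a similitude. -/
theorem normSq_eigen (hsymm : G.transpose = G) (hpos : ∀ x, x ≠ 0 → 0 < x ⬝ᵥ (G *ᵥ x)) {q : ℕ}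
    (hW : W.transpose * G * W = (q : ℤ) • G) {ω : ℂ} {v : Fin n → ℂ} (hv : v ≠ 0)
    (hev : (W.map (Int.castRingHom ℂ)) *ᵥ v = ω • v) : Complex.normSq ω = q := by
  set Gc := G.map (Int.castRingHom ℂ) with hGc
  set Wc := W.map (Int.castRingHom ℂ) with hWc
  have hWt : Wcᴴ = (W.transpose).map (Int.castRingHom ℂ) := by
    ext i j; simp [hWc]
  have hH : star (Wc *ᵥ v) ⬝ᵥ (Gc *ᵥ (Wc *ᵥ v)) = (q : ℂ) * (star v ⬝ᵥ (Gc *ᵥ v)) := by
    rw [star_mulVec, mulVec_mulVec, ← dotProduct_mulVec, mulVec_mulVec, ← Matrix.mul_assoc, hWt, hWc, hGc,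
      ← Matrix.map_mul, ← Matrix.map_mul, hW,
      show ((q : ℤ) • G).map (Int.castRingHom ℂ) = (q : ℂ) • G.map (Int.castRingHom ℂ) by
        ext i j; simp only [Matrix.map_apply, Matrix.smul_apply, smul_eq_mul, map_mul, map_natCast],
      smul_mulVec, dotProduct_smul, smul_eq_mul]
  rw [hev, star_smul, smul_dotProduct, mulVec_smul, dotProduct_smul, smul_eq_mul, smul_eq_mul, ← mul_assoc] at hH
  let a : Fin n → ℝ := fun i => (v i).re
  let b : Fin n → ℝ := fun i => (v i).im
  have hne : star v ⬝ᵥ (Gc *ᵥ v) ≠ 0 := by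
    have hR := real_posDef G hsymm hpos
    have hre : (star v ⬝ᵥ (Gc *ᵥ v)).re =
        star a ⬝ᵥ ((G.map (Int.castRingHom ℝ)) *ᵥ a) + star b ⬝ᵥ ((G.map (Int.castRingHom ℝ)) *ᵥ b) := by
      simp only [dotProduct, mulVec, Finset.mul_sum, ← Finset.sum_add_distrib, Complex.re_sum, hGc, Matrix.map_apply,
        Pi.star_apply, star_trivial, a, b]
      refine Finset.sum_congr rfl fun i _ => Finset.sum_congr rfl fun j _ => ?_
      simp [Complex.mul_re, Complex.mul_im]
    intro h0
    rw [h0, Complex.zero_re] at hre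
    have ha := hR.posSemidef.dotProduct_mulVec_nonneg a
    have hb := hR.posSemidef.dotProduct_mulVec_nonneg b
    refine hv (_root_.funext fun i => Complex.ext ?_ ?_)
    · by_contra hi
      have := hR.dotProduct_mulVec_pos (x := a) (fun h => hi (congrFun h i))
      linarith
    · by_contra hi
      have := hR.dotProduct_mulVec_pos (x := b) (fun h => hi (congrFun h i))
      linarith
  have h := mul_right_cancel₀ hne hH
  rw [Complex.star_def, ← Complex.normSq_eq_conj_mul_self] at h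
  exact_mod_cast h

/-- The minimal polynomial of a similitude is squarefree, with roots of the same absolute value. -/
theorem squarefree_minpoly_similitude (hsymm : G.transpose = G) (hpos : ∀ x, x ≠ 0 → 0 < x ⬝ᵥ (G *ᵥ x)) {q : ℕ}
    (hq : q ≠ 0) (hW : W.transpose * G * W = (q : ℤ) • G) :
    Squarefree (minpoly ℚ (W.map (Int.castRingHom ℚ))) ∧
      ∀ ω ∈ ((minpoly ℚ (W.map (Int.castRingHom ℚ))).map (algebraMap ℚ ℂ)).roots, ‖ω‖ = Real.sqrt q := by
  set Gq := G.map (Int.castRingHom ℚ) with hGq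
  set Wq := W.map (Int.castRingHom ℚ) with hWq
  have hint : IsIntegral ℚ Wq := Algebra.IsIntegral.isIntegral Wq
  refine ⟨?_, fun ω hω => ?_⟩
  · have hGs : Gqᵀ = Gq := by rw [hGq, ← transpose_map, hsymm]
    have hWq2 : Wqᵀ * Gq * Wq = (q : ℚ) • Gq := by
      rw [hWq, hGq, ← transpose_map, ← Matrix.map_mul, ← Matrix.map_mul, hW]
      ext i j; simp only [Matrix.map_apply, Matrix.smul_apply, smul_eq_mul, map_mul, map_natCast]
    have hWu : IsUnit Wq.det := by
      refine isUnit_iff_ne_zero.2 fun h0 => ?_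
      have hd := congrArg Matrix.det hWq2
      rw [det_mul, det_mul, h0, mul_zero, det_smul] at hd
      exact mul_ne_zero (pow_ne_zero _ (Nat.cast_ne_zero.2 hq)) (det_rat_ne_zero G hpos) hd.symm
    -- the adjoint
    let Ws := (q : ℚ) • Wq⁻¹
    have hadj : Gq * Ws = Wqᵀ * Gq := by
      simp only [Ws, Matrix.mul_smul]
      rw [← Matrix.smul_mul, ← hWq2, mul_nonsing_inv_cancel_right _ _ hWu]
    have hcomm : Commute Ws Wq := by
      simp only [Ws]
      refine Commute.smul_left ?_ _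
      rw [Commute, SemiconjBy, nonsing_inv_mul _ hWu, mul_nonsing_inv _ hWu]
    have hp : ∀ p : ℚ[X], Gq * aeval Ws p = (aeval Wq p)ᵀ * Gq := by
      intro p
      induction p using Polynomial.induction_on' with
      | add p p' h1 h2 => rw [map_add, map_add, Matrix.mul_add, transpose_add, Matrix.add_mul, h1, h2]
      | monomial k c =>
        have hk : ∀ k, Gq * Ws ^ k = (Wq ^ k)ᵀ * Gq := by
          intro k
          induction k with
          | zero => simp
          | succ k ih =>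
            rw [pow_succ, ← Matrix.mul_assoc, ih, Matrix.mul_assoc, hadj, pow_succ', transpose_mul, Matrix.mul_assoc]
        rw [aeval_monomial, aeval_monomial, ← Algebra.smul_def, ← Algebra.smul_def, Matrix.mul_smul, transpose_smul,
          Matrix.smul_mul, hk]
    have hnz : ∀ x : Fin n → ℚ, x ≠ 0 → x ⬝ᵥ (Gq *ᵥ x) ≠ 0 := fun x hx => (rat_pos G hpos x hx).ne'
    have hcomm' : ∀ p : ℚ[X], Commute (aeval Ws p) (aeval Wq p) := fun p => by
      have h1 : Commute Ws (aeval Wq p) := by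
        induction p using Polynomial.induction_on' with
        | add p p' h1 h2 => rw [map_add]; exact h1.add_right h2
        | monomial k c => rw [aeval_monomial, ← Algebra.smul_def]; exact (hcomm.pow_right k).smul_right c
      generalize aeval Wq p = M at h1
      induction p using Polynomial.induction_on' with
      | add p p' h1 h2 => rw [map_add]; exact h1.add_left h2
      | monomial k c => rw [aeval_monomial, ← Algebra.smul_def]; exact (h1.pow_left k).smul_left c
    rw [squarefree_iff_no_irreducibles]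
    · intro a ha hdvd
      obtain ⟨c, hc⟩ := hdvd
      refine absurd (minpoly.degree_le_of_ne_zero ℚ Wq (p := a * c) ?_ ?_) (not_le.2 ?_)
      · intro h0
        exact minpoly.ne_zero hint (by rw [hc, mul_assoc, h0, mul_zero])
      · refine ext_of_mulVec_single fun i => ?_
        rw [zero_mulVec]
        generalize hu : (Pi.single i 1 : Fin n → ℚ) = u
        set x := aeval Wq (a * c) *ᵥ u with hxdef
        by_contra hx0
        have hax : aeval Wq a *ᵥ x = 0 := by
          rw [hxdef, mulVec_mulVec, ← map_mul, ← mul_assoc, ← hc, minpoly.aeval, zero_mulVec]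
        have hsx : aeval Ws a *ᵥ x = 0 := by
          by_contra hne
          refine hnz _ hne ?_
          calc (aeval Ws a *ᵥ x) ⬝ᵥ (Gq *ᵥ (aeval Ws a *ᵥ x))
              = (aeval Ws a *ᵥ x) ⬝ᵥ ((aeval Wq a)ᵀ *ᵥ (Gq *ᵥ x)) := by
                rw [mulVec_mulVec x Gq, hp a, ← mulVec_mulVec]
            _ = (aeval Wq a *ᵥ (aeval Ws a *ᵥ x)) ⬝ᵥ (Gq *ᵥ x) := by
                rw [dotProduct_mulVec, vecMul_transpose]
            _ = (aeval Ws a *ᵥ (aeval Wq a *ᵥ x)) ⬝ᵥ (Gq *ᵥ x) := by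
                rw [mulVec_mulVec x (aeval Wq a), mulVec_mulVec x (aeval Ws a), (hcomm' a).eq]
            _ = 0 := by rw [hax, mulVec_zero, zero_dotProduct]
        refine hnz x hx0 ?_
        have hxa : x = aeval Wq a *ᵥ (aeval Wq c *ᵥ u) := by rw [hxdef, mulVec_mulVec, map_mul]
        calc x ⬝ᵥ (Gq *ᵥ x) = (aeval Wq a *ᵥ (aeval Wq c *ᵥ u)) ⬝ᵥ (Gq *ᵥ x) := by rw [← hxa]
          _ = (aeval Wq c *ᵥ u) ⬝ᵥ ((aeval Wq a)ᵀ *ᵥ (Gq *ᵥ x)) := by
            rw [← vecMul_transpose, ← dotProduct_mulVec]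
          _ = (aeval Wq c *ᵥ u) ⬝ᵥ (Gq *ᵥ (aeval Ws a *ᵥ x)) := by rw [mulVec_mulVec, ← hp a, ← mulVec_mulVec]
          _ = 0 := by rw [hsx, mulVec_zero, dotProduct_zero]
      · rw [hc, mul_assoc a a c, degree_mul (p := a) (q := a * c)]
        have h1 : a * c ≠ 0 := fun h0 => minpoly.ne_zero hint (by rw [hc, mul_assoc, h0, mul_zero])
        rw [degree_eq_natDegree h1, degree_eq_natDegree ha.ne_zero, ← Nat.cast_add]
        exact_mod_cast Nat.lt_add_of_pos_left ha.natDegree_pos
    · exact minpoly.ne_zero hint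
  · rw [mem_roots ((minpoly.monic hint).map _).ne_zero, IsRoot, eval_map] at hω
    obtain ⟨v, hv, hev⟩ := AbVarLib.exists_eigenvector (algebraMap ℚ ℂ) Wq ω hω
    rw [hWq, Matrix.map_map, show (algebraMap ℚ ℂ) ∘ (Int.castRingHom ℚ) = (Int.castRingHom ℂ) from
      _root_.funext fun z => by simp] at hev
    rw [Complex.norm_def, normSq_eigen hsymm hpos hW hv hev]

end Groth.Agent.AbCubeLib
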