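import Groth.Agent.AbCubeLib.FrobPull
import Groth.Agent.AbCubeLib.Similitude
import Groth.Agent.AbCubeLib.HomRank
import Mathlib.LinearAlgebra.Matrix.ToLin
import Mathlib.RingTheory.Localization.Integral

/-!
# The Riemann hypothesis: the Frobenius acts as a similitude
-/

set_option autoImplicit false
set_option backward.isDefEq.respectTransparency.types false

universe u

open CategoryTheory CategoryTheory.Limits MonoidalCategory CartesianMonoidalCategory AlgebraicGeometry MonObj
open Groth.Agent.PicLib Matrix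

namespace Groth.Agent.AbCubeLib

/-- A bilinear form in coordinates. -/
theorem form_eq_dotProduct {M : Type*} [AddCommGroup M] {κ : Type} [Fintype κ] (b : M →+ M →+ ℤ)
    (e : Module.Basis κ ℤ M) (x y : M) :
    b x y = (fun i => e.repr x i) ⬝ᵥ (Matrix.of (fun i j => b (e i) (e j)) *ᵥ fun i => e.repr y i) := by
  conv_lhs => rw [← e.sum_repr x, ← e.sum_repr y]
  simp only [map_sum, map_zsmul, AddMonoidHom.finsetSum_apply, AddMonoidHom.zsmul_apply, smul_eq_mul, dotProduct,
    mulVec, Matrix.of_apply, Finset.mul_sum]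
  first
    | (rw [Finset.sum_comm]; refine Finset.sum_congr rfl fun i _ => Finset.sum_congr rfl fun j _ => ?_; ring)
    | (refine Finset.sum_congr rfl fun i _ => Finset.sum_congr rfl fun j _ => ?_; ring)

variable {k : Type u} [Field k] {A : Over (Spec (CommRingCat.of k))} [GrpObj A] [IsCommMonObj A]
  [IsProper A.hom] [GeometricallyIntegral A.hom]

/-- An endomorphism pulling classes back to their `q`-th powers is semisimple, with eigenvalues of absolute value
`√q`. -/
theorem exists_squarefree_of_pull_pow (π : EndAV.End A) {q : ℕ} (hq : q ≠ 0)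
    (hπ : ∀ a : PicM A.left, PicM.pull π.toHom.left a = a ^ q) :
    ∃ F : Polynomial ℚ, F.Monic ∧ Squarefree F ∧
      (∀ ω ∈ (F.map (algebraMap ℚ ℂ)).roots, ‖ω‖ = Real.sqrt q) ∧ Polynomial.aeval (EndAV.toEnd0 π) F = 0 := by
  obtain ⟨g, hg⟩ := exists_dim_eq A
  obtain ⟨hfree, hfin, -⟩ := hom_free_finite (A := A) (B := A) hg hg
  obtain ⟨b, hsymm, hpos, hscale⟩ := exists_hom_form_scaling (A := A) (B := A)
  let R : Module.End ℤ (EndAV.Hom A A) :=
    (AddMonoidHom.mk' (fun x : EndAV.Hom A A => EndAV.Hom.of (π.toHom ≫ x.toHom)) fun x y => by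
      refine EndAV.Hom.ext ?_
      simp [EndAV.Hom.toHom_add, MonObj.comp_mul]).toIntLinearMap
  let e : Module.Basis (Fin (Module.finrank ℤ (EndAV.Hom A A))) ℤ (EndAV.Hom A A) := Module.finBasis ℤ _
  let G : Matrix _ _ ℤ := Matrix.of fun i j => b (e i) (e j)
  let W := LinearMap.toMatrix e e R
  have hcoord : ∀ c : Fin (Module.finrank ℤ (EndAV.Hom A A)) → ℤ, b (e.equivFun.symm c) (e.equivFun.symm c) = c ⬝ᵥ (G *ᵥ c) := fun c => by
    rw [form_eq_dotProduct b e]
    have hc : (fun i => e.repr (e.equivFun.symm c) i) = c := e.equivFun.apply_symm_apply c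
    rw [hc]
  obtain ⟨hsq, hroots⟩ := squarefree_minpoly_similitude (G := G) (W := W)
    (Matrix.ext fun i j => hsymm _ _)
    (fun c hc => by rw [← hcoord]; exact hpos _ fun h => hc (e.equivFun.symm.map_eq_zero_iff.1 h))
    hq (Matrix.ext fun i j => by
      have h := hscale π.toHom q hπ (e i) (e j)
      rw [show EndAV.Hom.of (π.toHom ≫ (e i).toHom) = R (e i) from rfl,
        show EndAV.Hom.of (π.toHom ≫ (e j).toHom) = R (e j) from rfl, form_eq_dotProduct b e] at h
      rw [Matrix.smul_apply, smul_eq_mul, Matrix.mul_assoc, Matrix.mul_apply]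
      refine Eq.trans ?_ h
      simp only [dotProduct, Matrix.transpose_apply, Matrix.mul_apply, mulVec, W, LinearMap.toMatrix_apply, G,
        Matrix.of_apply])
  refine ⟨minpoly ℚ (W.map (Int.castRingHom ℚ)), minpoly.monic (Algebra.IsIntegral.isIntegral _), hsq, hroots, ?_⟩
  set F := minpoly ℚ (W.map (Int.castRingHom ℚ)) with hF
  obtain ⟨⟨N, hN⟩, hFN⟩ := IsLocalization.integerNormalization_map_to_map (nonZeroDivisors ℤ) F
  set F' := IsLocalization.integerNormalization (nonZeroDivisors ℤ) F
  rw [Algebra.smul_def, algebraMap_int_eq] at hFN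
  have h1 : Polynomial.aeval W F' = 0 := by
    refine Matrix.map_injective (RingHom.injective_int (Int.castRingHom ℚ)) ?_
    show (Int.castRingHom ℚ).mapMatrix (Polynomial.aeval W F') = (Int.castRingHom ℚ).mapMatrix 0
    rw [map_zero, Polynomial.aeval_def, Polynomial.hom_eval₂,
      RingHom.ext_int (RingHom.comp _ _) ((algebraMap ℚ _).comp (Int.castRingHom ℚ)), ← Polynomial.eval₂_map,
      ← Polynomial.aeval_def, hFN, map_mul]
    rw [show Polynomial.aeval ((Int.castRingHom ℚ).mapMatrix W) F = 0 from minpoly.aeval ℚ _, mul_zero]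
  have h2 : ∀ x : EndAV.End A, (Polynomial.aeval R F') (EndAV.Hom.of x.toHom) =
      EndAV.Hom.of (x * Polynomial.aeval π F').toHom := by
    intro x
    induction F' using Polynomial.induction_on' with
    | add p p' hp hp' =>
      rw [map_add, map_add, LinearMap.add_apply, hp, hp', mul_add]
      exact EndAV.Hom.ext rfl
    | monomial d c =>
      have hk : ∀ d : ℕ, (R ^ d) (EndAV.Hom.of x.toHom) = EndAV.Hom.of (x * π ^ d).toHom := by
        intro d
        induction d with
        | zero => rw [pow_zero, pow_zero, _root_.mul_one]; rfl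
        | succ d ih =>
          rw [pow_succ', Module.End.mul_apply, ih, pow_succ, ← _root_.mul_assoc]
          refine EndAV.Hom.ext ?_
          show π.toHom ≫ (x * π ^ d).toHom = _
          exact (EndAV.End.toHom_mul (x * π ^ d) π).symm
      rw [Polynomial.aeval_monomial, Polynomial.aeval_monomial, ← Algebra.smul_def, ← Algebra.smul_def,
        LinearMap.smul_apply, hk, mul_smul_comm]
      let toH : EndAV.End A →+ EndAV.Hom A A :=
        AddMonoidHom.mk' (fun y => EndAV.Hom.of y.toHom) fun y z => EndAV.Hom.ext rfl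
      exact (map_zsmul toH c (x * π ^ d)).symm
  have h3 : Polynomial.aeval π F' = 0 := by
    have hR : Polynomial.aeval R F' = 0 := by
      refine (LinearMap.toMatrixAlgEquiv e).injective ?_
      rw [map_zero, ← h1]
      exact (Polynomial.aeval_algHom_apply (LinearMap.toMatrixAlgEquiv e).toAlgHom R F').symm
    have h4 := h2 1
    rw [hR, LinearMap.zero_apply, _root_.one_mul] at h4
    exact h4.symm
  have h5 : Polynomial.aeval (EndAV.toEnd0 π) (F'.map (Int.castRingHom ℚ)) = 0 := by
    have := congrArg EndAV.toEnd0 h3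
    rw [map_zero] at this
    rw [← this]
    show _ = (EndAV.toEnd0 (A := A)).toRingHom _
    rw [Polynomial.aeval_def, Polynomial.aeval_def, Polynomial.eval₂_map, Polynomial.hom_eval₂]
    exact congrArg (fun f => Polynomial.eval₂ f _ F') (RingHom.ext_int _ _)
  rw [hFN, map_mul] at h5
  have hu : IsUnit (Polynomial.aeval (EndAV.toEnd0 π) ((Int.castRingHom ℚ) N • (1 : Polynomial ℚ))) := by
    rw [Algebra.smul_def, _root_.mul_one, Polynomial.algebraMap_eq, Polynomial.aeval_C]
    exact (isUnit_iff_ne_zero.2 (Int.cast_ne_zero.2 (nonZeroDivisors.ne_zero hN))).map _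
  rw [Algebra.smul_def, _root_.mul_one] at hu
  exact hu.mul_right_eq_zero.1 h5

end Groth.Agent.AbCubeLib
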