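import Groth.Agent.AbCubeLib.EndBC
import Groth.Agent.AbCubeLib.FrobSimilitude
import Mathlib.FieldTheory.IsAlgClosed.AlgebraicClosure
import Mathlib.LinearAlgebra.TensorProduct.Basis

/-!
# The roots of the characteristic polynomial are roots of every polynomial killing the endomorphism
-/

set_option autoImplicit false
set_option backward.isDefEq.respectTransparency.types false

universe u

open CategoryTheory CategoryTheory.Limits MonoidalCategory CartesianMonoidalCategory AlgebraicGeometry MonObj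

namespace Groth.Agent.AbCubeLib

variable {k : Type u} [Field k] {A : Over (Spec (CommRingCat.of k))} [GrpObj A] [IsCommMonObj A]
  [IsProper A.hom] [GeometricallyIntegral A.hom]

/-- The endomorphisms embed in those up to isogeny. -/
theorem toEnd0_injective : Function.Injective (EndAV.toEnd0 (A := A)) := by
  obtain ⟨g, hg⟩ := exists_dim_eq A
  haveI : Module.Free ℤ (EndAV.End A) := (hom_free_finite (A := A) (B := A) hg hg).1
  exact Algebra.TensorProduct.includeRight_injective (IsFractionRing.injective ℤ ℚ)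

/-- Integral form of a polynomial killing an endomorphism. -/
theorem exists_int_aeval_eq_zero {φ : EndAV.End A} {F : Polynomial ℚ} (hF : Polynomial.aeval (EndAV.toEnd0 φ) F = 0) :
    ∃ (F' : Polynomial ℤ) (N : ℤ), N ≠ 0 ∧ F'.map (Int.castRingHom ℚ) = Polynomial.C (N : ℚ) * F ∧
      Polynomial.aeval φ F' = 0 := by
  obtain ⟨⟨N, hN⟩, hFN⟩ := IsLocalization.integerNormalization_map_to_map (nonZeroDivisors ℤ) F
  refine ⟨IsLocalization.integerNormalization (nonZeroDivisors ℤ) F, N, nonZeroDivisors.ne_zero hN, ?_,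
    toEnd0_injective ?_⟩
  · rw [← algebraMap_int_eq, hFN, Algebra.smul_def]
    simp
  · rw [map_zero]
    show (EndAV.toEnd0 (A := A)).toRingHom _ = 0
    rw [Polynomial.aeval_def, Polynomial.hom_eval₂,
      RingHom.ext_int (RingHom.comp _ _) ((algebraMap ℚ (EndAV.End0 A)).comp (Int.castRingHom ℚ)),
      ← Polynomial.eval₂_map, ← Polynomial.aeval_def, ← algebraMap_int_eq, hFN, Algebra.smul_def, map_mul]
    exact (congrArg _ hF).trans (mul_zero _)

theorem aeval_int_eq {R : Type*} [CommRing R] [Algebra ℚ R] (x : R) (F : Polynomial ℤ) :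
    Polynomial.aeval x F = Polynomial.aeval x (F.map (Int.castRingHom ℚ)) := by
  rw [← algebraMap_int_eq, Polynomial.aeval_map_algebraMap]

/-- The complex roots of a characteristic polynomial over `ℤ_l` with integral coefficients. -/
theorem root_of_matrix {l : ℕ} [Fact l.Prime] {κ : Type*} [Fintype κ] [DecidableEq κ] (M : Matrix κ κ ℤ_[l])
    (P F' : Polynomial ℤ) (hP : M.charpoly = P.map (Int.castRingHom ℤ_[l]))
    (hF : Polynomial.aeval M F' = 0) (ω : ℂ) (hω : ω ∈ (P.map (Int.castRingHom ℂ)).roots) :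
    Polynomial.aeval ω F' = 0 := by
  let L := AlgebraicClosure ℚ_[l]
  haveI : CharZero L := charZero_of_injective_algebraMap (algebraMap ℚ_[l] L).injective
  let f : ℤ_[l] →+* L := (algebraMap ℚ_[l] L).comp (algebraMap ℤ_[l] ℚ_[l])
  have hchar : (M.map f).charpoly = P.map (Int.castRingHom L) := by
    rw [Matrix.charpoly_map, hP, Polynomial.map_map, RingHom.ext_int (RingHom.comp _ _) (Int.castRingHom L)]
  have hker : Polynomial.aeval (M.map f) (F'.map (Int.castRingHom L)) = 0 := by
    rw [Polynomial.aeval_def, Polynomial.eval₂_map]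
    have h2 := congrArg f.mapMatrix hF
    rw [map_zero, Polynomial.aeval_def, Polynomial.hom_eval₂] at h2
    exact (congrArg (fun g => Polynomial.eval₂ g _ F') (RingHom.ext_int _ _)).trans h2
  have hm : (P.map (Int.castRingHom ℂ)) ≠ 0 ∧ (P.map (Int.castRingHom ℂ)).eval ω = 0 := Polynomial.mem_roots'.1 hω
  have hPω : Polynomial.aeval ω (P.map (Int.castRingHom ℚ)) = 0 := by
    rw [← aeval_int_eq, Polynomial.aeval_def, algebraMap_int_eq, ← Polynomial.eval_map]
    exact hm.2
  have hP0 : P.map (Int.castRingHom ℚ) ≠ 0 := fun h => by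
    rw [Polynomial.map_eq_zero_iff (RingHom.injective_int _)] at h
    exact hm.1 (by rw [h, Polynomial.map_zero])
  have hint : IsIntegral ℚ ω := (IsAlgebraic.isIntegral ⟨_, hP0, hPω⟩)
  obtain ⟨x, hx⟩ := IsAlgClosed.exists_aeval_eq_zero (k := L) (minpoly ℚ ω) (minpoly.degree_pos hint).ne'
  have hxP : x ∈ (M.map f).charpoly.aroots L := by
    rw [Polynomial.aroots_def, Algebra.algebraMap_self, Polynomial.map_id,
      Polynomial.mem_roots (Matrix.charpoly_monic _).ne_zero, Polynomial.IsRoot, hchar, Polynomial.eval_map,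
      ← algebraMap_int_eq, ← Polynomial.aeval_def, aeval_int_eq]
    exact Polynomial.aeval_eq_zero_of_dvd_aeval_eq_zero (minpoly.dvd ℚ ω hPω) hx
  have hxF := aeval_root_eq_zero (M.map f) _ hker x hxP
  rw [Polynomial.coe_aeval_eq_eval, Polynomial.eval_map, ← algebraMap_int_eq, ← Polynomial.aeval_def, aeval_int_eq]
    at hxF
  have hdvd : minpoly ℚ ω ∣ F'.map (Int.castRingHom ℚ) := by
    rw [minpoly.eq_of_irreducible_of_monic (minpoly.irreducible hint) hx (minpoly.monic hint)]
    exact minpoly.dvd ℚ x hxF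
  rw [aeval_int_eq]
  exact Polynomial.aeval_eq_zero_of_dvd_aeval_eq_zero hdvd (minpoly.aeval ℚ ω)

/-- The complex roots of the characteristic polynomial are roots of every polynomial killing the endomorphism. -/
theorem root_of_aeval_eq_zero {K : Type u} [Field K]
    (j : Spec (CommRingCat.of K) ⟶ Spec (CommRingCat.of k)) {l : ℕ} [Fact l.Prime]
    [Module.Free ℤ_[l] (AbDual.TateMod A l (Over.mk j))] [Module.Finite ℤ_[l] (AbDual.TateMod A l (Over.mk j))]
    (φ : EndAV.End A) (P : Polynomial ℤ)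
    (hP : (EndAV.End.tateRep l (Over.mk j) φ).charpoly = P.map (Int.castRingHom ℤ_[l]))
    {F : Polynomial ℚ} (hF : Polynomial.aeval (EndAV.toEnd0 φ) F = 0)
    (ω : ℂ) (hω : ω ∈ (P.map (Int.castRingHom ℂ)).roots) : Polynomial.aeval ω F = 0 := by
  obtain ⟨F', N, hN, hFF, hF'⟩ := exists_int_aeval_eq_zero hF
  classical
  let b := Module.Free.chooseBasis ℤ_[l] (AbDual.TateMod A l (Over.mk j))
  let Ψ : EndAV.End A →+* Matrix _ _ ℤ_[l] :=
    (LinearMap.toMatrixAlgEquiv b : Module.End ℤ_[l] (AbDual.TateMod A l (Over.mk j)) ≃ₐ[ℤ_[l]] _).toRingEquiv.toRingHom.comp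
      (EndAV.End.tateRep l (Over.mk j))
  have hM : Polynomial.aeval (Ψ φ) F' = 0 := by
    have h2 := congrArg Ψ hF'
    rw [map_zero, Polynomial.aeval_def, Polynomial.hom_eval₂] at h2
    rw [Polynomial.aeval_def]
    exact (congrArg (fun g => Polynomial.eval₂ g _ F') (RingHom.ext_int _ _)).trans h2
  have h := root_of_matrix (Ψ φ) P F' ((LinearMap.charpoly_toMatrix _ b).trans hP) hM ω hω
  rw [aeval_int_eq, hFF, map_mul, Polynomial.aeval_C, mul_eq_zero,
    or_iff_right ((_root_.map_ne_zero _).2 (Int.cast_ne_zero.2 hN))] at h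
  exact h

/-- Hence the Riemann hypothesis for such endomorphisms. -/
theorem norm_root_eq_sqrt {K : Type u} [Field K] [IsAlgClosed K]
    (j : Spec (CommRingCat.of K) ⟶ Spec (CommRingCat.of k)) {l : ℕ} [Fact l.Prime]
    [Module.Free ℤ_[l] (AbDual.TateMod A l (Over.mk j))] [Module.Finite ℤ_[l] (AbDual.TateMod A l (Over.mk j))]
    (π : EndAV.End A) {q : ℕ} (hq : q ≠ 0) (hπ : ∀ a : PicLib.PicM A.left, PicLib.PicM.pull π.toHom.left a = a ^ q)
    (P : Polynomial ℤ) (hP : (EndAV.End.tateRep l (Over.mk j) π).charpoly = P.map (Int.castRingHom ℤ_[l]))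
    (ω : ℂ) (hω : ω ∈ (P.map (Int.castRingHom ℂ)).roots) : ‖ω‖ = Real.sqrt q := by
  obtain ⟨F, hFm, -, hroots, hF⟩ := exists_squarefree_of_pull_pow π hq hπ
  refine hroots ω ?_
  rw [Polynomial.mem_roots (hFm.map _).ne_zero, Polynomial.IsRoot, Polynomial.eval_map, ← Polynomial.aeval_def]
  exact root_of_aeval_eq_zero j π P hP hF ω hω

/-- A squarefree annihilating polynomial makes the action on the Tate module semisimple. -/
theorem isSemisimple_baseChange {K : Type u} [Field K]
    (j : Spec (CommRingCat.of K) ⟶ Spec (CommRingCat.of k)) {l : ℕ} [Fact l.Prime] (φ : EndAV.End A)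
    {F : Polynomial ℚ} (hFm : F.Monic) (hsq : Squarefree F) (hF : Polynomial.aeval (EndAV.toEnd0 φ) F = 0) :
    Module.End.IsSemisimple ((EndAV.End.tateRep l (Over.mk j) φ).baseChange ℚ_[l]) := by
  obtain ⟨F', N, hN, hFF, hF'⟩ := exists_int_aeval_eq_zero hF
  have hsep : (F.map (algebraMap ℚ ℚ_[l])).Separable :=
    (PerfectField.separable_iff_squarefree.2 hsq).map
  refine Module.End.isSemisimple_of_squarefree_aeval_eq_zero hsep.squarefree ?_
  let Φ : EndAV.End A →+* Module.End ℚ_[l] (TensorProduct ℤ_[l] ℚ_[l] (AbDual.TateMod A l (Over.mk j))) :=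
    (Module.End.baseChangeHom ℤ_[l] ℚ_[l] _).toRingHom.comp (EndAV.End.tateRep l (Over.mk j))
  show Polynomial.aeval (Φ φ) _ = 0
  have h2 := congrArg Φ hF'
  rw [map_zero, Polynomial.aeval_def, Polynomial.hom_eval₂,
    RingHom.ext_int (RingHom.comp _ _)
      (((algebraMap ℚ_[l] (Module.End ℚ_[l] (TensorProduct ℤ_[l] ℚ_[l] (AbDual.TateMod A l (Over.mk j))))).comp
        (algebraMap ℚ ℚ_[l])).comp (Int.castRingHom ℚ)),
    ← Polynomial.eval₂_map, hFF, ← Polynomial.eval₂_map, ← Polynomial.aeval_def, Polynomial.map_mul,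
    Polynomial.map_C, map_mul, Polynomial.aeval_C] at h2
  have hu : IsUnit (algebraMap ℚ_[l] (Module.End ℚ_[l] (TensorProduct ℤ_[l] ℚ_[l] (AbDual.TateMod A l (Over.mk j))))
      (algebraMap ℚ ℚ_[l] (N : ℚ))) :=
    (isUnit_iff_ne_zero.2 ((_root_.map_ne_zero _).2 (Int.cast_ne_zero.2 hN))).map _
  exact hu.mul_right_eq_zero.1 h2

end Groth.Agent.AbCubeLib
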