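import Groth.Agent.AbCubeLib.CharpolyFrob
import Groth.Agent.AbCubeLib.MinpolyTate

/-!
# Characteristic polynomials of endomorphisms generating a field
-/

set_option autoImplicit false
set_option backward.isDefEq.respectTransparency.types false

universe u

open CategoryTheory CategoryTheory.Limits MonoidalCategory CartesianMonoidalCategory AlgebraicGeometry MonObj

namespace Groth.Agent.AbCubeLib

/-- A monic rational polynomial whose roots are roots of an irreducible `h` is a power of `h`. -/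
theorem eq_pow_of_roots {L : Type*} [Field L] [IsAlgClosed L] [Algebra ℚ L] {h : Polynomial ℚ} (hi : Irreducible h) (hm : h.Monic) :
    ∀ (n : ℕ) (P : Polynomial ℚ), P.natDegree = n → P.Monic →
      (∀ ω : L, ω ∈ (P.map (algebraMap ℚ L)).roots → Polynomial.aeval ω h = 0) →
      P = h ^ (n / h.natDegree) := by
  intro n
  induction n using Nat.strong_induction_on with
  | _ n ih =>
    intro P hd hP hroot
    have hh0 : 0 < h.natDegree := hi.natDegree_pos
    rcases Nat.eq_zero_or_pos n with rfl | hn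
    · rw [Nat.zero_div, pow_zero]
      exact hP.natDegree_eq_zero.1 hd
    have hdeg : (P.map (algebraMap ℚ L)).degree ≠ 0 := by
      rw [Polynomial.degree_map, Polynomial.degree_eq_natDegree hP.ne_zero, hd]
      exact_mod_cast hn.ne'
    obtain ⟨ω, hω⟩ := IsAlgClosed.exists_root _ hdeg
    have hmem : ω ∈ (P.map (algebraMap ℚ L)).roots := Polynomial.mem_roots'.2 ⟨(hP.map _).ne_zero, hω⟩
    have hmin : h = minpoly ℚ ω := minpoly.eq_of_irreducible_of_monic hi (hroot ω hmem) hm
    obtain ⟨P₁, hP₁⟩ : h ∣ P := hmin ▸ minpoly.dvd ℚ ω (by rwa [Polynomial.IsRoot, Polynomial.eval_map_algebraMap] at hω)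
    have hP₁m : P₁.Monic := hm.of_mul_monic_left (hP₁ ▸ hP)
    have hdd : n = h.natDegree + P₁.natDegree := by rw [← hd, hP₁, hm.natDegree_mul hP₁m]
    have hrec := ih P₁.natDegree (by omega) P₁ rfl hP₁m fun x hx => hroot x (by
      rw [hP₁, Polynomial.map_mul, Polynomial.roots_mul (mul_ne_zero (hm.map _).ne_zero (hP₁m.map _).ne_zero)]
      exact Multiset.mem_add.2 (Or.inr hx))
    rw [hP₁, hdd, Nat.add_div_left _ hh0, pow_succ']
    exact congrArg (h * ·) hrec

theorem irreducible_minpoly_of_isField_adjoin {R : Type*} [Ring R] [Algebra ℚ R] {x : R} (hint : IsIntegral ℚ x)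
    (h : IsField (Algebra.adjoin ℚ ({x} : Set R))) : Irreducible (minpoly ℚ x) := by
  letI : CommRing (Algebra.adjoin ℚ ({x} : Set R)) := Algebra.adjoinCommRingOfComm ℚ (by simp)
  haveI : IsDomain (Algebra.adjoin ℚ ({x} : Set R)) := h.isDomain
  have hv : Function.Injective (Algebra.adjoin ℚ ({x} : Set R)).val := Subtype.val_injective
  rw [show x = (Algebra.adjoin ℚ ({x} : Set R)).val ⟨x, Algebra.subset_adjoin rfl⟩ from rfl, minpoly.algHom_eq _ hv]
  exact minpoly.irreducible ((isIntegral_algHom_iff _ hv).1 hint)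

theorem isField_adjoin_of_irreducible {R : Type*} [Ring R] [Algebra ℚ R] {x : R} (hint : IsIntegral ℚ x)
    (h : Irreducible (minpoly ℚ x)) : IsField (Algebra.adjoin ℚ ({x} : Set R)) := by
  haveI : Module.Finite ℚ (Algebra.adjoin ℚ ({x} : Set R)) := Module.Finite.iff_fg.2 hint.fg_adjoin_singleton
  letI : CommRing (Algebra.adjoin ℚ ({x} : Set R)) := Algebra.adjoinCommRingOfComm ℚ (by simp)
  haveI : Nontrivial R := by
    by_contra hn
    rw [not_nontrivial_iff_subsingleton] at hn
    exact h.not_isUnit (by rw [minpoly.subsingleton]; exact isUnit_one)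
  haveI : IsDomain (Algebra.adjoin ℚ ({x} : Set R)) := by
    have : NoZeroDivisors (Algebra.adjoin ℚ ({x} : Set R)) := ⟨fun {a b} hab => by
      obtain ⟨p, hp⟩ : ∃ p : Polynomial ℚ, Polynomial.aeval x p = (a : R) :=
        (Algebra.adjoin_singleton_eq_range_aeval ℚ x).le a.2
      obtain ⟨q, hq⟩ : ∃ q : Polynomial ℚ, Polynomial.aeval x q = (b : R) :=
        (Algebra.adjoin_singleton_eq_range_aeval ℚ x).le b.2
      have hdvd : minpoly ℚ x ∣ p * q := minpoly.dvd ℚ x (by
        rw [map_mul, hp, hq]; exact congrArg Subtype.val hab)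
      rcases h.prime.dvd_mul.1 hdvd with ⟨c, hc⟩ | ⟨c, hc⟩
      · exact Or.inl (Subtype.ext (by rw [← hp, hc, map_mul, minpoly.aeval, zero_mul]; rfl))
      · exact Or.inr (Subtype.ext (by rw [← hq, hc, map_mul, minpoly.aeval, zero_mul]; rfl))⟩
    exact NoZeroDivisors.to_isDomain _
  haveI : Algebra.IsIntegral ℚ (Algebra.adjoin ℚ ({x} : Set R)) := Algebra.IsIntegral.of_finite ℚ _
  exact isField_of_isIntegral_of_isField' (R := ℚ) (Field.toIsField ℚ)

variable {k : Type u} [Field k] {A : Over (Spec (CommRingCat.of k))}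
  [GrpObj A] [IsCommMonObj A] [IsProper A.hom] [GeometricallyIntegral A.hom]
  {K : Type u} [Field K] [IsAlgClosed K]
  (j : Spec (CommRingCat.of K) ⟶ Spec (CommRingCat.of k)) {l : ℕ} [Fact l.Prime]
  [Module.Free ℤ_[l] (AbDual.TateMod A l (Over.mk j))] [Module.Finite ℤ_[l] (AbDual.TateMod A l (Over.mk j))]

/-- An irreducible polynomial killing `φ` has the characteristic polynomial as a power. -/
theorem exists_charpoly_eq_pow (hl : (l : k) ≠ 0) {r : ℕ} (hr : topologicalKrullDim A.left = r) (φ : EndAV.End A)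
    {h : Polynomial ℚ} (hi : Irreducible h) (hm : h.Monic) (hh : Polynomial.aeval (EndAV.toEnd0 φ) h = 0) :
    ∃ P : Polynomial ℤ, P.Monic ∧ P.natDegree = 2 * r ∧
      (EndAV.End.tateRep l (Over.mk j) φ).charpoly = P.map (Int.castRingHom ℤ_[l]) ∧
      P.map (Int.castRingHom ℚ) = h ^ (2 * r / h.natDegree) := by
  obtain ⟨P, hPm, hPd, -, hc⟩ := exists_int_charpoly_bc j hr φ
  refine ⟨P, hPm, hPd, hc l hl, eq_pow_of_roots (L := ℂ) hi hm _ _ ((hPm.natDegree_map _).trans hPd) (hPm.map _) fun ω hω => ?_⟩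
  refine root_of_aeval_eq_zero j φ P (hc l hl) hh ω ?_
  rwa [Polynomial.map_map, RingHom.ext_int ((algebraMap ℚ ℂ).comp (Int.castRingHom ℚ)) (Int.castRingHom ℂ)] at hω

include j in
/-- Cayley–Hamilton in the endomorphism algebra. -/
theorem aeval_charpoly_toEnd0 (hl : (l : k) ≠ 0) (φ : EndAV.End A) (P : Polynomial ℤ)
    (hP : (EndAV.End.tateRep l (Over.mk j) φ).charpoly = P.map (Int.castRingHom ℤ_[l])) :
    Polynomial.aeval (EndAV.toEnd0 φ) (P.map (Int.castRingHom ℚ)) = 0 := by
  have h : Polynomial.aeval φ P = 0 := tateRep_injective j hl (by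
    rw [map_zero, tateRep_aeval, ← hP, LinearMap.aeval_self_charpoly])
  rw [← algebraMap_int_eq, Polynomial.aeval_map_algebraMap, Polynomial.aeval_algHom_apply, h, map_zero]

include j in
/-- In positive dimension the endomorphism algebra is nontrivial. -/
theorem nontrivial_end0 (hl : (l : k) ≠ 0) {r : ℕ} (hr : topologicalKrullDim A.left = r) (hr0 : r ≠ 0) :
    Nontrivial (EndAV.End0 A) := by
  refine ⟨⟨EndAV.toEnd0 1, EndAV.toEnd0 0, fun h => hr0 ?_⟩⟩
  obtain ⟨P, hPm, hPd, -, hc⟩ := exists_int_charpoly_bc j hr (1 : EndAV.End A)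
  haveI : Subsingleton (AbDual.TateMod A l (Over.mk j)) := ⟨fun x y => by
    have e : (1 : Module.End ℤ_[l] (AbDual.TateMod A l (Over.mk j))) = 0 := by
      rw [← map_one (EndAV.End.tateRep l (Over.mk j) (A := A)), toEnd0_injective h, map_zero]
    calc x = (1 : Module.End ℤ_[l] (AbDual.TateMod A l (Over.mk j))) x := rfl
      _ = (1 : Module.End ℤ_[l] (AbDual.TateMod A l (Over.mk j))) y := by rw [e]; rfl
      _ = y := rfl⟩
  have hd := LinearMap.charpoly_natDegree (EndAV.End.tateRep l (Over.mk j) (1 : EndAV.End A))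
  rw [hc l hl, hPm.natDegree_map, hPd, Module.finrank_zero_of_subsingleton] at hd
  omega

end Groth.Agent.AbCubeLib
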