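import Groth.Agent.AbCubeLib.DegreeForm

/-!
# The degree polynomial of an endomorphism
-/

set_option autoImplicit false
set_option backward.isDefEq.respectTransparency.types false

universe u

open CategoryTheory CategoryTheory.Limits MonoidalCategory CartesianMonoidalCategory AlgebraicGeometry MonObj

namespace Groth.Agent.AbCubeLib

/-- Dehomogenisation of a binary form. -/
theorem dehomogenize_spec {n : ℕ} (Q : MvPolynomial (Fin 2) ℚ) (hQ : Q.IsHomogeneous n) :
    (MvPolynomial.aeval ![1, Polynomial.X] Q : Polynomial ℚ).natDegree ≤ n ∧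
      (MvPolynomial.aeval ![1, Polynomial.X] Q : Polynomial ℚ).coeff n = MvPolynomial.eval ![0, 1] Q := by
  have hterm : ∀ d ∈ Q.support, d 0 + d 1 = n := fun d hd => by
    have := hQ (MvPolynomial.mem_support_iff.1 hd)
    simp [Finsupp.weight_apply, Finsupp.sum_fintype, Fin.sum_univ_two] at this
    omega
  have hexp : (MvPolynomial.aeval ![1, Polynomial.X] Q : Polynomial ℚ) =
      ∑ d ∈ Q.support, Polynomial.C (Q.coeff d) * Polynomial.X ^ d 1 := by
    conv_lhs => rw [Q.as_sum]
    rw [map_sum]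
    refine Finset.sum_congr rfl fun d _ => ?_
    rw [MvPolynomial.aeval_monomial, Finsupp.prod_fintype _ _ (fun i => pow_zero _), Fin.prod_univ_two]
    simp
  refine ⟨?_, ?_⟩
  · rw [hexp]
    refine Polynomial.natDegree_sum_le_of_forall_le _ _ fun d hd => ?_
    exact (Polynomial.natDegree_C_mul_X_pow_le _ _).trans (by have := hterm d hd; omega)
  · rw [hexp, Polynomial.finsetSum_coeff, MvPolynomial.eval_eq']
    refine Finset.sum_congr rfl fun d hd => ?_
    have := hterm d hd
    simp only [Fin.prod_univ_two, Matrix.cons_val_zero, Matrix.cons_val_one, one_pow, mul_one,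
      Polynomial.coeff_C_mul_X_pow]
    by_cases h : d 1 = n
    · simp [h, show d 0 = 0 by omega]
    · simp [Ne.symm h, zero_pow (by omega : d 0 ≠ 0)]

variable {k : Type u} [Field k] {A B : Over (Spec (CommRingCat.of k))}

/-- The underlying morphism of a combination. -/
theorem toHom_sum [GrpObj A] [IsCommMonObj A] [GrpObj B] [IsCommMonObj B] {κ : Type} (s : Finset κ)
    (a : κ → ℤ) (e : κ → EndAV.Hom A B) : (∑ i ∈ s, a i • e i).toHom = ∏ i ∈ s, (e i).toHom ^ a i := by
  classical
  induction s using Finset.induction with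
  | empty => rw [Finset.sum_empty, Finset.prod_empty]; rfl
  | insert i s hi ih =>
    rw [Finset.sum_insert hi, Finset.prod_insert hi, EndAV.Hom.toHom_add, EndAV.Hom.toHom_zsmul, ih]

variable [GrpObj A] [IsProper A.hom] [GeometricallyIntegral A.hom]

/-- The degree of `α + n` is a monic polynomial of degree `2 r` in `n`. -/
theorem exists_monic_degree_poly {r : ℕ} (hr : topologicalKrullDim A.left = r) (α : A ⟶ A) [IsMonHom α] :
    ∃ P : Polynomial ℚ, P.Monic ∧ P.natDegree = 2 * r ∧
      ∀ n : ℤ, (IsFinite (α * 𝟙 A ^ n).left → ∀ a : A.left,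
          (Scheme.Hom.finrank (α * 𝟙 A ^ n).left a : ℚ) = P.eval (n : ℚ)) ∧
        (¬ IsFinite (α * 𝟙 A ^ n).left → P.eval (n : ℚ) = 0) := by
  haveI : IsCommMonObj A := isCommMonObj_of_isProper_of_geometricallyIntegral A
  let e : Fin 2 → EndAV.Hom A A := ![EndAV.Hom.of α, EndAV.Hom.of (𝟙 A)]
  obtain ⟨Q, hQ, hval⟩ := exists_degree_poly hr hr e
  obtain ⟨hdeg, hcoeff⟩ := dehomogenize_spec Q hQ
  have hh : ∀ a : Fin 2 → ℤ, (∑ i, a i • e i).toHom = α ^ a 0 * 𝟙 A ^ a 1 := fun a => by
    rw [toHom_sum, Fin.prod_univ_two]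
    rfl
  have hid : MvPolynomial.eval ![0, 1] Q = 1 := by
    have h := hval ![0, 1]
    rw [hh] at h
    simp only [Matrix.cons_val_zero, Matrix.cons_val_one, zpow_zero, zpow_one, _root_.one_mul] at h
    haveI : IsFinite (𝟙 A : A ⟶ A).left := inferInstanceAs (IsFinite (𝟙 A.left))
    haveI : IsIntegral A.left := GeometricallyIntegral.isIntegral_of_subsingleton A.hom
    have h' := h.1 inferInstance (genericPoint A.left)
    have h1 : Scheme.Hom.finrank (𝟙 A : A ⟶ A).left (genericPoint A.left) = 1 := by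
      show Scheme.Hom.finrank (𝟙 A.left) _ = 1
      rw [Scheme.Hom.finrank_eq_one_of_isIso]
      rfl
    rw [h1, Nat.cast_one] at h'
    refine Eq.trans ?_ h'.symm
    congr 2
    funext i
    fin_cases i <;> simp
  have hmon : (MvPolynomial.aeval ![1, Polynomial.X] Q : Polynomial ℚ).Monic ∧
      (MvPolynomial.aeval ![1, Polynomial.X] Q : Polynomial ℚ).natDegree = 2 * r := by
    have h1 := hcoeff.trans hid
    have hd : (MvPolynomial.aeval ![1, Polynomial.X] Q : Polynomial ℚ).natDegree = 2 * r :=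
      le_antisymm hdeg (Polynomial.le_natDegree_of_ne_zero (by rw [h1]; exact one_ne_zero))
    exact ⟨by rw [Polynomial.Monic, Polynomial.leadingCoeff, hd, h1], hd⟩
  refine ⟨_, hmon.1, hmon.2, fun n => ?_⟩
  have h := hval ![1, n]
  rw [hh] at h
  simp only [Matrix.cons_val_zero, Matrix.cons_val_one, zpow_one] at h
  have he : (MvPolynomial.aeval ![1, Polynomial.X] Q : Polynomial ℚ).eval (n : ℚ) =
      MvPolynomial.eval (fun i => ((![1, n] : Fin 2 → ℤ) i : ℚ)) Q := by
    rw [← Polynomial.coe_evalRingHom]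
    change ((Polynomial.evalRingHom (n : ℚ)).comp (MvPolynomial.aeval ![1, Polynomial.X]).toRingHom) Q = _
    refine RingHom.congr_fun (MvPolynomial.ringHom_ext (fun c => ?_) fun i => ?_) Q
    · simp
    · fin_cases i <;> simp
  rw [he]
  exact h

end Groth.Agent.AbCubeLib
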