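import Groth.Agent.AbCubeLib.PolyNormPadic
import Groth.Agent.AbCubeLib.DegreePoly
import Groth.Agent.AbCubeLib.KerValuation
import Groth.Agent.AbCubeLib.HomRank
import Mathlib.FieldTheory.IsAlgClosed.AlgebraicClosure
import Mathlib.Algebra.MvPolynomial.Funext
import Mathlib.LinearAlgebra.Matrix.ToLin
import Mathlib.RingTheory.IntegralClosure.IntegrallyClosed

/-!
# The characteristic polynomial on the Tate module is the degree polynomial
-/

set_option autoImplicit false
set_option backward.isDefEq.respectTransparency.types false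

universe u

open CategoryTheory CategoryTheory.Limits MonoidalCategory CartesianMonoidalCategory AlgebraicGeometry MonObj
open Groth.Agent.PicLib Groth.Agent.EulerLib Groth.Agent.AssSch12 Groth.Agent.Coherent Groth.Agent.AmpleLib

namespace Groth.Agent.AbCubeLib

open scoped Classical

variable {k : Type u} [Field k] {A : Over (Spec (CommRingCat.of k))} [GrpObj A] [IsCommMonObj A]
  [IsProper A.hom] [GeometricallyIntegral A.hom]

/-- The degree, zero when the morphism is not finite. -/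
noncomputable def degQ (f : A ⟶ A) : ℚ :=
  if IsFinite f.left then
    (Scheme.Hom.finrank f.left ((1 : 𝟙_ (Over (Spec (CommRingCat.of k))) ⟶ A).left (IsLocalRing.closedPoint k)) : ℚ)
  else 0

theorem degQ_eq {r : ℕ} (hr : topologicalKrullDim A.left = r) (f : A ⟶ A) [IsMonHom f] [IsFinite f.left] (y : A.left) :
    degQ f = Scheme.Hom.finrank f.left y := by
  haveI : IsIntegral A.left := GeometricallyIntegral.isIntegral_of_subsingleton A.hom
  haveI : IsLocallyNoetherian A.left := LocallyOfFiniteType.isLocallyNoetherian A.hom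
  obtain ⟨-, hflat⟩ := AbVarLib.surjective_and_flat_of_isFinite f rfl
  rw [degQ, if_pos ‹IsFinite f.left›, finrank_eq_genRank f.left, finrank_eq_genRank f.left y]

theorem exists_degQ_form {r : ℕ} (hr : topologicalKrullDim A.left = r) {κ : Type} [Fintype κ]
    (e : κ → EndAV.End A) :
    ∃ Q : MvPolynomial κ ℚ, Q.IsHomogeneous (2 * r) ∧
      ∀ a : κ → ℤ, degQ (∑ i, a i • e i).toHom = MvPolynomial.eval (fun i => (a i : ℚ)) Q := by
  obtain ⟨Q, hQ, hval⟩ := exists_degree_poly hr hr (A := A) (B := A) e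
  refine ⟨Q, hQ, fun a => ?_⟩
  by_cases hf : IsFinite (∑ i, a i • e i).toHom.left
  · exact (degQ_eq hr _ ((1 : 𝟙_ (Over (Spec (CommRingCat.of k))) ⟶ A).left (IsLocalRing.closedPoint k))).trans
      ((hval a).1 hf _)
  · exact (if_neg hf).trans ((hval a).2 hf).symm

/-- The degree is multiplicative. -/
theorem degQ_mul {r : ℕ} (hr : topologicalKrullDim A.left = r) (φ ψ : EndAV.End A) :
    degQ (φ * ψ).toHom = degQ φ.toHom * degQ ψ.toHom := by
  rw [EndAV.End.toHom_mul]
  have hsurj : ∀ f : A ⟶ A, IsMonHom f → (IsFinite f.left ↔ Surjective f.left) := fun f hf =>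
    ⟨fun h => (AbVarLib.surjective_and_flat_of_isFinite f rfl).1,
      fun h => (AbVarLib.isFinite_and_flat_of_surjective f rfl).1⟩
  by_cases h : IsFinite φ.toHom.left ∧ IsFinite ψ.toHom.left
  · haveI := h.1
    haveI := h.2
    haveI : IsFinite (ψ.toHom ≫ φ.toHom).left := by rw [Over.comp_left]; infer_instance
    letI : A.left.Over (Spec (CommRingCat.of k)) := ⟨A.hom⟩
    haveI : IsProper (A.left ↘ Spec (CommRingCat.of k)) := ‹IsProper A.hom›
    haveI : IsIntegral A.left := GeometricallyIntegral.isIntegral_of_subsingleton A.hom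
    obtain ⟨M, hM, hamp⟩ := exists_ample A
    let N : ℤ := interDeg (fun _ : Fin r => invOf (PicM.of hM)) (chiCl k (clM (genericPoint A.left)))
    have hN : 0 < N := by
      have hNe : N = interDeg (fun _ : Fin r => InvCl.mk M hamp.1) (chiCl k (clM (genericPoint A.left))) := by
        simp only [N, invOf_of]
      haveI := isNoetherian_of_proper (X := A.left) k
      rw [hNe]
      refine interDeg_pos k r (fun _ => M) (fun _ => hamp) _ (isCoh_clM _) ?_
      rw [support_clM, genericPoint_closure, ← hr]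
      exact IsHomeomorph.topologicalKrullDim_eq _ (Homeomorph.Set.univ A.left).isHomeomorph
    let y : A.left := (1 : 𝟙_ (Over (Spec (CommRingCat.of k))) ⟶ A).left (IsLocalRing.closedPoint k)
    have key : ∀ (f : A ⟶ A) [IsMonHom f] [IsFinite f.left] (a : PicM A.left),
        interDeg (fun _ : Fin r => invOf (PicM.pull f.left a)) (chiCl k (clM (genericPoint A.left))) =
          Scheme.Hom.finrank f.left y * interDeg (fun _ : Fin r => invOf a)
            (chiCl k (clM (genericPoint A.left))) := fun f _ _ a => by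
      obtain ⟨-, hflat⟩ := AbVarLib.surjective_and_flat_of_isFinite f rfl
      exact interDeg_pull_of_finite k f.left (Over.w f) hr.le hr.le (fun _ => a) y
    rw [degQ_eq hr _ y, degQ_eq hr _ y, degQ_eq hr _ y]
    have h3 := key (ψ.toHom ≫ φ.toHom) (PicM.of hM)
    rw [Over.comp_left, ← PicM.pull_pull, key ψ.toHom, key φ.toHom, ← _root_.mul_assoc] at h3
    have h4 := mul_right_cancel₀ hN.ne' h3
    rw [Over.comp_left, _root_.mul_comm]
    exact_mod_cast h4.symm
  · have hnf : ¬ IsFinite (ψ.toHom ≫ φ.toHom).left := by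
      intro hc
      haveI : Surjective (ψ.toHom.left ≫ φ.toHom.left) := (hsurj _ inferInstance).1 hc
      have h1 : IsFinite φ.toHom.left := (hsurj _ inferInstance).2 (Surjective.of_comp ψ.toHom.left φ.toHom.left)
      haveI : IsFinite (ψ.toHom.left ≫ φ.toHom.left) := hc
      haveI : A.left.IsSeparated := Serre.isSeparated_of_isProper A.hom
      haveI := h1
      exact h ⟨h1, IsFinite.of_comp ψ.toHom.left φ.toHom.left⟩
    rw [degQ, if_neg hnf]
    rcases not_and_or.1 h with h' | h' <;> simp [degQ, h']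

/-- The norm form of an endomorphism. -/
theorem exists_degForm {r : ℕ} (hr : topologicalKrullDim A.left = r) (φ : EndAV.End A) :
    ∃ Q : ∀ d : ℕ, MvPolynomial (Fin (d + 1)) ℚ, (∀ d, (Q d).IsHomogeneous (2 * r)) ∧
      ∀ (d : ℕ) (a : Fin (d + 1) → ℤ), degQ (∑ i, a i • φ ^ (i : ℕ)).toHom =
        MvPolynomial.eval (fun i => (a i : ℚ)) (Q d) := by
  choose Q hQ hval using fun d : ℕ => exists_degQ_form hr (fun i : Fin (d + 1) => φ ^ (i : ℕ))
  exact ⟨Q, hQ, hval⟩

theorem degQ_one {r : ℕ} (hr : topologicalKrullDim A.left = r) : degQ (1 : EndAV.End A).toHom = 1 := by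
  rw [EndAV.End.toHom_one]
  haveI : IsFinite (𝟙 A : A ⟶ A).left := inferInstanceAs (IsFinite (𝟙 A.left))
  haveI : IsIntegral A.left := GeometricallyIntegral.isIntegral_of_subsingleton A.hom
  rw [degQ_eq hr _ (genericPoint A.left),
    show Scheme.Hom.finrank (𝟙 A : A ⟶ A).left (genericPoint A.left) = 1 by
      show Scheme.Hom.finrank (𝟙 A.left) _ = 1
      rw [Scheme.Hom.finrank_eq_one_of_isIso]
      rfl, Nat.cast_one]

/-- The degree of `φ + n` is polynomial in `n`. -/
theorem exists_degQ_add_poly {r : ℕ} (hr : topologicalKrullDim A.left = r) (φ : EndAV.End A) :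
    ∃ P : Polynomial ℚ, P.Monic ∧ P.natDegree = 2 * r ∧
      ∀ n : ℤ, degQ (φ + (n : EndAV.End A)).toHom = P.eval (n : ℚ) := by
  obtain ⟨P, hP, hPd, hval⟩ := exists_monic_degree_poly hr φ.toHom
  refine ⟨P, hP, hPd, fun n => ?_⟩
  have hh : (φ + (n : EndAV.End A)).toHom = φ.toHom * 𝟙 A ^ n := by
    rw [EndAV.End.toHom_add, EndAV.End.toHom_intCast]
  have key : ∀ (f : A ⟶ A) [IsMonHom f], f = φ.toHom * 𝟙 A ^ n → degQ f = P.eval (n : ℚ) := by
    intro f _ e
    by_cases hf : IsFinite f.left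
    · rw [degQ_eq hr f ((1 : 𝟙_ (Over (Spec (CommRingCat.of k))) ⟶ A).left (IsLocalRing.closedPoint k))]
      subst e
      exact (hval n).1 hf _
    · rw [degQ, if_neg hf]
      subst e
      exact ((hval n).2 hf).symm
  exact key _ hh

variable [IsAlgClosed k] {l : ℕ} [Fact l.Prime]

local notation "𝕆" => 𝟙_ (Over (Spec (CommRingCat.of k)))

/-- For an isogeny the absolute value of the degree is that of the determinant. -/
theorem norm_degQ_eq_of_isFinite (hl : (l : k) ≠ 0) {r : ℕ} (hr : topologicalKrullDim A.left = r) {κ : Type}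
    [Fintype κ] [DecidableEq κ] (b : Module.Basis κ ℤ_[l] (AbDual.TateMod A l 𝕆)) (ψ : EndAV.End A)
    (hψ : IsFinite ψ.toHom.left) :
    ‖((degQ ψ.toHom : ℚ) : ℚ_[l])‖ = ‖(LinearMap.toMatrixAlgEquiv b (EndAV.End.tateRep l 𝕆 ψ)).det‖ := by
  haveI := hψ
  let y : A.left := (1 : 𝕆 ⟶ A).left (IsLocalRing.closedPoint k)
  obtain ⟨hdet, hv⟩ := padicValNat_degree hl hr hr ψ.toHom b b y
  rw [degQ_eq hr _ y, Rat.cast_natCast]
  haveI : IsIntegral A.left := GeometricallyIntegral.isIntegral_of_subsingleton A.hom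
  obtain ⟨hs, hfl⟩ := AbVarLib.surjective_and_flat_of_isFinite ψ.toHom rfl
  have hpos : Scheme.Hom.finrank ψ.toHom.left y ≠ 0 := by
    haveI : IsLocallyNoetherian A.left := LocallyOfFiniteType.isLocallyNoetherian A.hom
    obtain ⟨j, hj⟩ := exists_finrank_eq_natCard_ker_mul ψ.toHom
    haveI := finite_ker ψ.toHom
    haveI : Nonempty {a : 𝕆 ⟶ A // a ≫ ψ.toHom = 1} := ⟨⟨1, MonObj.one_comp _⟩⟩
    rw [hj]
    exact mul_ne_zero Nat.card_pos.ne' (pow_ne_zero _ (expChar_pos k (ringExpChar k)).ne')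
  have hne : ((Scheme.Hom.finrank ψ.toHom.left y : ℕ) : ℚ_[l]) ≠ 0 := by exact_mod_cast hpos
  rw [Padic.norm_eq_zpow_neg_valuation hne, Padic.valuation_natCast, hv]
  exact (PadicInt.norm_eq_zpow_neg_valuation hdet).symm

/-- The absolute value of the degree is that of the determinant. -/
theorem norm_degQ_eq (hl : (l : k) ≠ 0) {r : ℕ} (hr : topologicalKrullDim A.left = r) {κ : Type} [Fintype κ]
    [DecidableEq κ] (b : Module.Basis κ ℤ_[l] (AbDual.TateMod A l 𝕆)) (φ : EndAV.End A) :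
    ‖((degQ φ.toHom : ℚ) : ℚ_[l])‖ = ‖(LinearMap.toMatrixAlgEquiv b (EndAV.End.tateRep l 𝕆 φ)).det‖ := by
  by_cases hφ : IsFinite φ.toHom.left
  · exact norm_degQ_eq_of_isFinite hl hr b φ hφ
  -- a limit of finite endomorphisms
  have h0 : degQ φ.toHom = 0 := if_neg hφ
  rw [h0, Rat.cast_zero, norm_zero]
  obtain ⟨P, hP, -, hdeg⟩ := exists_degQ_add_poly hr φ
  have hP0 : P.eval 0 = 0 := by
    have := hdeg 0
    rw [Int.cast_zero, add_zero, h0, Int.cast_zero] at this
    exact this.symm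
  rw [det_eq_zero_of_norm_eq _ P hP0 ?_, norm_zero]
  have hroots : {j : ℕ | P.eval (((l ^ j : ℕ) : ℤ) : ℚ) = 0}.Finite := by
    refine ((P.roots.toFinset.finite_toSet).preimage ?_).subset fun j hj =>
      show (((l ^ j : ℕ) : ℤ) : ℚ) ∈ ↑P.roots.toFinset by
        simpa [Polynomial.mem_roots hP.ne_zero] using hj
    intro i _ j _ hij
    have h' : l ^ i = l ^ j := by simpa only [Int.cast_natCast, Nat.cast_inj] using hij
    exact Nat.pow_right_injective (Fact.out : l.Prime).two_le h'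
  filter_upwards [hroots.eventually_cofinite_notMem.filter_mono Nat.cofinite_eq_atTop.ge] with j hj
  have h1 := norm_degQ_eq_of_isFinite hl hr b (φ + (((l ^ j : ℕ) : ℤ) : EndAV.End A))
    (by by_contra hf; exact hj ((hdeg _).symm.trans (if_neg hf)))
  rw [hdeg, map_add, map_intCast, map_add, map_intCast] at h1
  rw [show ((l : ℚ) ^ j) = (((l ^ j : ℕ) : ℤ) : ℚ) by simp, h1]
  simp [-Matrix.scalar_apply, map_pow, map_natCast]

/-- The degree of `∑ aᵢ φⁱ` is the degree of the monic polynomial at `φ`. -/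
theorem toHom_snoc_eq (φ : EndAV.End A) {d : ℕ} (c : Fin d → ℤ) :
    (∑ i, (Fin.snoc c 1 : Fin (d + 1) → ℤ) i • φ ^ (i : ℕ)) = Polynomial.aeval φ (monicOf c) := by
  rw [Fin.sum_univ_castSucc, monicOf, map_add, map_pow, Polynomial.aeval_X, map_sum]
  simp [add_comm, Algebra.smul_def]

/-- The norm form of the degree, at monic polynomials. -/
theorem exists_monicDegForm {r : ℕ} (hr : topologicalKrullDim A.left = r) (φ : EndAV.End A) :
    ∃ Nq : ∀ d : ℕ, MvPolynomial (Fin d) ℚ, ∀ (d : ℕ) (c : Fin d → ℤ),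
      MvPolynomial.eval (fun i => (c i : ℚ)) (Nq d) = degQ (Polynomial.aeval φ (monicOf c)).toHom := by
  obtain ⟨Q, -, hQ⟩ := exists_degForm hr φ
  refine ⟨fun d => MvPolynomial.aeval (Fin.snoc (fun i => MvPolynomial.X i) 1 : Fin (d + 1) → MvPolynomial (Fin d) ℚ) (Q d),
    fun d c => ?_⟩
  rw [← MvPolynomial.aeval_eq_eval, ← AlgHom.comp_apply, MvPolynomial.comp_aeval, MvPolynomial.aeval_eq_eval,
    ← toHom_snoc_eq φ c, hQ]
  refine congrArg (fun x => MvPolynomial.eval x (Q d)) (funext fun i => ?_)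
  induction i using Fin.lastCases <;> simp

/-- Absolute values of the forms. -/
theorem norm_monicDegForm_eq (hl : (l : k) ≠ 0) {r : ℕ} (hr : topologicalKrullDim A.left = r) {κ : Type}
    [Fintype κ] [DecidableEq κ] (hκ : Fintype.card κ = 2 * r) (b : Module.Basis κ ℤ_[l] (AbDual.TateMod A l 𝕆))
    (φ : EndAV.End A) (Nq : ∀ d : ℕ, MvPolynomial (Fin d) ℚ) (hNq : ∀ (d : ℕ) (c : Fin d → ℤ),
      MvPolynomial.eval (fun i => (c i : ℚ)) (Nq d) = degQ (Polynomial.aeval φ (monicOf c)).toHom)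
    (d : ℕ) (c : Fin d → ℚ_[l]) :
    ‖MvPolynomial.aeval c (Nq d)‖ = ‖(Polynomial.aeval
      ((LinearMap.toMatrixAlgEquiv b (EndAV.End.tateRep l 𝕆 φ)).map (algebraMap ℤ_[l] ℚ_[l])) (monicOf c)).det‖ := by
  obtain ⟨Q, hQh, hQ⟩ := exists_degForm hr φ
  set WQ := (LinearMap.toMatrixAlgEquiv b (EndAV.End.tateRep l 𝕆 φ)).map (algebraMap ℤ_[l] ℚ_[l])
  have hid : Nq d = MvPolynomial.aeval (Fin.snoc (fun i => MvPolynomial.X i) 1 : Fin (d + 1) → MvPolynomial (Fin d) ℚ) (Q d) := by
    refine MvPolynomial.funext_set (fun _ => Set.range (Int.cast : ℤ → ℚ))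
      (fun _ => Set.infinite_range_of_injective Int.cast_injective) fun v hv => ?_
    choose w hw using fun i => hv i (Set.mem_univ i)
    obtain rfl : v = fun i => (w i : ℚ) := funext fun i => (hw i).symm
    rw [hNq, ← toHom_snoc_eq φ w, hQ, ← MvPolynomial.aeval_eq_eval, ← MvPolynomial.aeval_eq_eval,
      ← AlgHom.comp_apply, MvPolynomial.comp_aeval]
    refine congrArg (fun x => MvPolynomial.aeval x (Q d)) (funext fun i => ?_)
    induction i using Fin.lastCases <;> simp
  have e1 : MvPolynomial.aeval c (Nq d) = MvPolynomial.aeval (Fin.snoc c 1 : Fin (d + 1) → ℚ_[l]) (Q d) := by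
    rw [hid, ← AlgHom.comp_apply, MvPolynomial.comp_aeval]
    refine congrArg (fun x => MvPolynomial.aeval x (Q d)) (funext fun i => ?_)
    induction i using Fin.lastCases <;> simp
  rw [e1, norm_eq_of_norm_eq_int (Q d) (hQh d) hκ (fun i : Fin (d + 1) => WQ ^ (i : ℕ)) (fun a => ?_) _]
  · refine congrArg (fun x : Matrix κ κ ℚ_[l] => ‖x.det‖) ?_
    rw [Fin.sum_univ_castSucc, monicOf, map_add, map_pow, Polynomial.aeval_X, map_sum, add_comm]
    simp [Algebra.smul_def]
  · rw [← hQ, norm_degQ_eq hl hr b, PadicInt.norm_def, ← PadicInt.algebraMap_apply, RingHom.map_det]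
    refine congrArg (fun x : Matrix κ κ ℚ_[l] => ‖x.det‖) ?_
    rw [map_sum, map_sum, map_sum]
    refine Finset.sum_congr rfl fun i _ => ?_
    rw [map_zsmul, map_zsmul, map_zsmul, map_pow, map_pow, map_pow, Int.cast_smul_eq_zsmul]
    rfl

/-- The characteristic polynomial on the Tate module, over `ℚ_l`, is the degree polynomial. -/
theorem charpoly_map_eq (hl : (l : k) ≠ 0) {r : ℕ} (hr : topologicalKrullDim A.left = r) {κ : Type} [Fintype κ]
    [DecidableEq κ] (hκ : Fintype.card κ = 2 * r) (b : Module.Basis κ ℤ_[l] (AbDual.TateMod A l 𝕆))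
    (φ : EndAV.End A) (P : Polynomial ℚ) (hP : P.Monic) (hPd : P.natDegree = 2 * r)
    (hval : ∀ n : ℤ, degQ (φ - (n : EndAV.End A)).toHom = P.eval (n : ℚ)) :
    P.map (algebraMap ℚ ℚ_[l]) =
      ((LinearMap.toMatrixAlgEquiv b (EndAV.End.tateRep l 𝕆 φ)).map (algebraMap ℤ_[l] ℚ_[l])).charpoly := by
  obtain ⟨Nq, hNq⟩ := exists_monicDegForm hr φ
  set WQ := (LinearMap.toMatrixAlgEquiv b (EndAV.End.tateRep l 𝕆 φ)).map (algebraMap ℤ_[l] ℚ_[l])
  have hN := isNormForm_of_values (K := ℚ_[l]) (L := AlgebraicClosure ℚ_[l]) P hP hPd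
    (fun F => degQ (Polynomial.aeval φ F).toHom) (by rw [map_one]; exact degQ_one hr)
    (fun F G => by rw [map_mul, degQ_mul hr])
    (fun n => by rw [← hval n, map_sub, Polynomial.aeval_X, Polynomial.aeval_C, (eq_intCast (algebraMap ℤ (EndAV.End A)) n : _)])
    Nq hNq
  refine eq_of_norm_eq (L := AlgebraicClosure ℚ_[l]) _ _ (hP.map _) (Matrix.charpoly_monic WQ) _ (matForm WQ) hN
    (isNormForm_matForm WQ) fun d c => ?_
  rw [← MvPolynomial.aeval_eq_eval, MvPolynomial.aeval_map_algebraMap, norm_monicDegForm_eq hl hr hκ b φ Nq hNq,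
    map_matForm]
  simp [WQ, Matrix.algebraMap_eq_diagonal]

end Groth.Agent.AbCubeLib
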