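import Groth.Agent.AbCubeLib.InterDegPullback
import Groth.Agent.PicLib.PicGroup
import Groth.Agent.AbVarLib.HomDim
import Mathlib.RingTheory.MvPolynomial.Homogeneous
import Mathlib.LinearAlgebra.Multilinear.Basic

/-!
# The degree of a homomorphism of abelian varieties is a polynomial function
-/

set_option autoImplicit false
set_option linter.style.haveILetI false
set_option backward.isDefEq.respectTransparency.types false

universe u

open CategoryTheory CategoryTheory.Limits MonoidalCategory CartesianMonoidalCategory AlgebraicGeometry MonObj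
  TopologicalSpace
open Groth.Agent.PicLib Groth.Agent.CubeLib Groth.Agent.AmpleLib Groth.Agent.Coherent Groth.Agent.EulerLib
  Groth.Agent.DimLib Groth.Agent.AssSch12

namespace Groth.Agent.AbCubeLib

section Quadratic

variable {M G : Type*} [AddCommGroup M] [AddCommGroup G]

/-- A function with the cubical identity comes from a bilinear map. -/
theorem exists_bilin_of_cube (h : M → G) (h0 : h 0 = 0) (hneg : ∀ x, h (-x) = h x)
    (hc : ∀ x y z, h (x + y + z) + h x + h y + h z = h (x + y) + h (x + z) + h (y + z)) :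
    ∃ β : M →+ M →+ G, ∀ x, β x x = (2 : ℤ) • h x := by
  have hl : ∀ x y z, h (x + y + z) - h (x + y) - h z = (h (x + z) - h x - h z) + (h (y + z) - h y - h z) := by
    intro x y z
    have e := hc x y z
    rw [eq_sub_of_add_eq (eq_sub_of_add_eq (eq_sub_of_add_eq e))]
    abel
  refine ⟨AddMonoidHom.mk' (fun x => AddMonoidHom.mk' (fun y => h (x + y) - h x - h y) fun y z => ?_)
    fun x y => AddMonoidHom.ext fun z => hl x y z, fun x => ?_⟩
  · have := hl y z x
    rw [add_comm x (y + z), add_comm x y, add_comm x z, sub_right_comm, this]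
    abel
  · show h (x + x) - h x - h x = _
    have e := hc x x (-x)
    rw [add_neg_cancel_right, add_neg_cancel, h0, hneg, add_zero, add_zero] at e
    rw [two_zsmul, ← e]
    abel

/-- The diagonal of a bilinear map on a combination. -/
theorem bilin_sum_sum (β : M →+ M →+ G) {κ : Type*} [Fintype κ] (a : κ → ℤ) (e : κ → M) :
    β (∑ i, a i • e i) (∑ i, a i • e i) = ∑ p : κ × κ, (a p.1 * a p.2) • β (e p.1) (e p.2) := by
  conv_rhs => rw [Fintype.sum_prod_type, Finset.sum_comm]
  simp only [map_sum, AddMonoidHom.finsetSum_apply, map_zsmul, AddMonoidHom.zsmul_apply, Finset.smul_sum, smul_smul]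
  refine Finset.sum_congr rfl fun i _ => Finset.sum_congr rfl fun j _ => ?_
  rw [mul_comm (a j) (a i)]

end Quadratic

section Multi

variable {X : Scheme.{u}}

/-- The class of a unit. -/
noncomputable def clU (x : Additive (PicM X)ˣ) : InvCl X := invOf ((Additive.toMul x : (PicM X)ˣ) : PicM X)

theorem clU_add (x y : Additive (PicM X)ˣ) : clU (x + y) = clU x * clU y := map_mul invOf _ _

/-- The intersection degree as a multilinear map. -/
theorem exists_interDeg_multilinear {r : ℕ} (φ : InvCl X → ℤ) (hφ : ClDeg (r + 1) φ) :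
    ∃ F : MultilinearMap ℤ (fun _ : Fin r => Additive (PicM X)ˣ) ℤ, ∀ x, F x = interDeg (fun i => clU (x i)) φ := by
  let F₀ : (Fin r → Additive (PicM X)ˣ) → ℤ := fun x => interDeg (fun i => clU (x i)) φ
  have hadd : ∀ [DecidableEq (Fin r)] (x : Fin r → Additive (PicM X)ˣ) (i : Fin r) (u v : Additive (PicM X)ˣ),
      F₀ (Function.update x i (u + v)) = F₀ (Function.update x i u) + F₀ (Function.update x i v) := by
    intro _ x i u v
    rcases r with _ | n
    · exact i.elim0
    let σ := Equiv.swap (0 : Fin (n + 1)) i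
    let tail : Fin n → InvCl X := fun j => clU (x (σ j.succ))
    have hne : ∀ j : Fin n, σ j.succ ≠ i := fun j e => by
      have e0 : σ j.succ = σ 0 := e.trans (Equiv.swap_apply_left 0 i).symm
      exact Fin.succ_ne_zero j (σ.injective e0)
    have key : ∀ w, F₀ (Function.update x i w) = interDeg (Fin.cons (clU w) tail) φ := fun w => by
      show interDeg _ φ = _
      rw [← interDeg_comp_perm _ σ]
      refine congrArg (fun c => interDeg c φ) (funext fun j => ?_)
      induction j using Fin.cases with
      | zero =>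
        rw [Fin.cons_zero, Function.comp_apply, show σ 0 = i from Equiv.swap_apply_left 0 i, Function.update_self]
      | succ j => rw [Fin.cons_succ, Function.comp_apply, Function.update_of_ne (hne j)]
    rw [key, key, key, clU_add, interDeg_mul _ _ _ hφ]
  refine ⟨{ toFun := F₀, map_update_add' := fun x i u v => hadd x i u v,
            map_update_smul' := fun x i c u => ?_ }, fun x => rfl⟩
  exact map_zsmul (AddMonoidHom.mk' (fun w => F₀ (Function.update x i w)) (hadd x i)) c u

end Multi

variable {k : Type u} [Field k] {A B : Over (Spec (CommRingCat.of k))} [GrpObj A] [IsCommMonObj A] [GrpObj B]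
  [IsCommMonObj B] [IsProper A.hom] [GeometricallyIntegral A.hom] [IsProper B.hom] [GeometricallyIntegral B.hom]

/-- The degree of the combinations of homomorphisms is a homogeneous polynomial. -/
theorem exists_degree_poly {r : ℕ} (hrA : topologicalKrullDim A.left = r) (hrB : topologicalKrullDim B.left = r)
    {κ : Type} [Fintype κ] (e : κ → EndAV.Hom A B) :
    ∃ P : MvPolynomial κ ℚ, P.IsHomogeneous (2 * r) ∧ ∀ a : κ → ℤ,
      (IsFinite (∑ i, a i • e i).toHom.left → ∀ y : B.left,
        (Scheme.Hom.finrank (∑ i, a i • e i).toHom.left y : ℚ) = MvPolynomial.eval (fun i => (a i : ℚ)) P) ∧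
      (¬ IsFinite (∑ i, a i • e i).toHom.left → MvPolynomial.eval (fun i => (a i : ℚ)) P = 0) := by
  classical
  letI : A.left.Over (Spec (CommRingCat.of k)) := ⟨A.hom⟩
  letI : B.left.Over (Spec (CommRingCat.of k)) := ⟨B.hom⟩
  haveI : IsProper (A.left ↘ Spec (CommRingCat.of k)) := ‹IsProper A.hom›
  haveI : IsProper (B.left ↘ Spec (CommRingCat.of k)) := ‹IsProper B.hom›
  haveI : IsIntegral A.left := GeometricallyIntegral.isIntegral_of_subsingleton A.hom
  haveI : IsIntegral B.left := GeometricallyIntegral.isIntegral_of_subsingleton B.hom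
  haveI := isNoetherian_of_proper (X := A.left) k
  haveI := isNoetherian_of_proper (X := B.left) k
  obtain ⟨M, hM, hMamp, hMsym⟩ := exists_symmetric_ample_class (A := B)
  -- the top self intersection of the ample class
  let N : ℤ := interDeg (fun _ : Fin r => InvCl.mk M hMamp.1) (chiCl k (clM (genericPoint B.left)))
  have hN : 0 < N := by
    refine interDeg_pos k r (fun _ => M) (fun _ => hMamp) _ (isCoh_clM _) ?_
    rw [support_clM, genericPoint_closure, ← hrB]
    exact IsHomeomorph.topologicalKrullDim_eq _ (Homeomorph.Set.univ B.left).isHomeomorph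
  let h : EndAV.Hom A B → Additive (PicM A.left)ˣ := fun φ =>
    Additive.ofMul (PicM.isUnit (pb φ.toHom (PicM.of hM))).unit
  have hclh : ∀ φ, clU (h φ) = invOf (PicM.pull φ.toHom.left (PicM.of hM)) := fun φ =>
    congrArg invOf (IsUnit.unit_spec _)
  obtain ⟨β, hβ⟩ := exists_bilin_of_cube h
    (Units.ext (by
      show ((PicM.isUnit (pb (0 : EndAV.Hom A B).toHom (PicM.of hM))).unit : PicM A.left) = 1
      rw [IsUnit.unit_spec, EndAV.Hom.toHom_zero, pb_one]))
    (fun φ => Units.ext (by
      show ((PicM.isUnit (pb (-φ).toHom (PicM.of hM))).unit : PicM A.left) = (PicM.isUnit (pb φ.toHom (PicM.of hM))).unit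
      rw [IsUnit.unit_spec, IsUnit.unit_spec, EndAV.Hom.toHom_neg,
        show φ.toHom⁻¹ = φ.toHom ≫ (𝟙 B)⁻¹ by rw [GrpObj.comp_inv, Category.comp_id], ← pb_pb, hMsym]))
    (fun x y z => Units.ext (by
      show ((PicM.isUnit (pb (x + y + z).toHom (PicM.of hM))).unit : PicM A.left) *
          (PicM.isUnit (pb x.toHom (PicM.of hM))).unit * (PicM.isUnit (pb y.toHom (PicM.of hM))).unit *
          (PicM.isUnit (pb z.toHom (PicM.of hM))).unit =
        ((PicM.isUnit (pb (x + y).toHom (PicM.of hM))).unit : PicM A.left) *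
          (PicM.isUnit (pb (x + z).toHom (PicM.of hM))).unit * (PicM.isUnit (pb (y + z).toHom (PicM.of hM))).unit
      simp only [IsUnit.unit_spec, EndAV.Hom.toHom_add]
      exact cube_relation _ _ _ _))
  have hdimA : topologicalKrullDim (CohB1.support (clM (genericPoint A.left))) ≤ (r : ℕ) :=
    (dim_mono (Set.subset_univ _)).trans
      ((IsHomeomorph.topologicalKrullDim_eq _ (Homeomorph.Set.univ A.left).isHomeomorph).trans hrA).le
  obtain ⟨F, hF⟩ := exists_interDeg_multilinear (chiCl k (clM (genericPoint A.left)))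
    (clDeg_chiCl k (isCoh_clM _) (r := r) hdimA)
  -- the value on a homomorphism
  have hval : ∀ φ : EndAV.Hom A B, (IsFinite φ.toHom.left → ∀ y : B.left,
      F (fun _ => h φ) = Scheme.Hom.finrank φ.toHom.left y * N) ∧ (¬ IsFinite φ.toHom.left → F (fun _ => h φ) = 0) := by
    intro φ
    rw [hF]
    simp only [hclh]
    refine ⟨fun hfin y => ?_, fun hnf => ?_⟩
    · obtain ⟨-, hflat⟩ := AbVarLib.surjective_and_flat_of_isFinite φ.toHom (hrA.trans hrB.symm)
      rw [interDeg_pull_of_finite k φ.toHom.left (Over.w φ.toHom) hrA.le hrB.le (fun _ => PicM.of hM) y]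
      simp only [invOf_of]
      rfl
    · refine interDeg_pull_eq_zero k φ.toHom.left hMamp r _ (isCoh_clM _) hdimA fun z _ => ?_
      have hgen := topologicalKrullDim_eq_ptDim_genericPoint B.hom
      rw [hrB] at hgen
      have hg' : ptDim B.hom (genericPoint B.left) = r := by exact_mod_cast hgen.symm
      show ptDim B.hom (φ.toHom.left z) < r
      rw [← hg']
      refine ptDim_lt_of_specializes B.hom (genericPoint_specializes _) fun e => hnf ?_
      haveI : B.left.IsSeparated := EulerLib.isSeparated_of_proper (X := B.left) k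
      haveI : IsProper (φ.toHom.left ≫ B.hom) := by rw [Over.w]; infer_instance
      haveI : IsProper φ.toHom.left := IsProper.of_comp _ B.hom
      haveI : Surjective φ.toHom.left := ⟨Set.range_eq_univ.1 (Set.univ_subset_iff.1 (by
        rw [← genericPoint_closure B.left]
        exact φ.toHom.left.isClosedMap.isClosed_range.closure_subset_iff.2
          (Set.singleton_subset_iff.2 ⟨z, e.symm⟩)))⟩
      exact (AbVarLib.isFinite_and_flat_of_surjective φ.toHom (hrA.trans hrB.symm)).1
  let cF : ℚ := ((2 : ℚ) ^ r * N)⁻¹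
  refine ⟨MvPolynomial.C cF * ∑ s : Fin r → κ × κ,
    MvPolynomial.C (F (fun j => β (e (s j).1) (e (s j).2)) : ℚ) *
      ∏ j, (MvPolynomial.X (s j).1 * MvPolynomial.X (s j).2), ?_, fun a => ?_⟩
  · refine (MvPolynomial.IsHomogeneous.sum _ _ _ fun s _ => ?_).C_mul cF
    have hp : (∏ j, (MvPolynomial.X (R := ℚ) (s j).1 * MvPolynomial.X (s j).2)).IsHomogeneous (∑ _j : Fin r, (1 + 1)) :=
      MvPolynomial.IsHomogeneous.prod _ _ _ fun j _ =>
        (MvPolynomial.isHomogeneous_X ℚ _).mul (MvPolynomial.isHomogeneous_X ℚ _)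
    simpa [mul_comm] using hp.C_mul (F (fun j => β (e (s j).1) (e (s j).2)) : ℚ)
  · set φ := ∑ i, a i • e i with hφ
    have h2 : ∑ s : Fin r → κ × κ, (∏ j, (a (s j).1 * a (s j).2)) * F (fun j => β (e (s j).1) (e (s j).2)) =
        (2 : ℤ) ^ r * F (fun _ => h φ) := by
      have hs : F (fun _ => (2 : ℤ) • h φ) = (∏ _i : Fin r, (2 : ℤ)) • F (fun _ => h φ) :=
        F.map_smul_univ (fun _ => (2 : ℤ)) _
      rw [Finset.prod_const, Finset.card_univ, Fintype.card_fin, smul_eq_mul] at hs
      rw [← hs, ← hβ φ, hφ, bilin_sum_sum]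
      rw [F.map_sum]
      refine Finset.sum_congr rfl fun s _ => ?_
      rw [F.map_smul_univ (fun j => a (s j).1 * a (s j).2) fun j => β (e (s j).1) (e (s j).2), smul_eq_mul]
    have heval : MvPolynomial.eval (fun i => (a i : ℚ)) (MvPolynomial.C cF * ∑ s : Fin r → κ × κ,
        MvPolynomial.C (F (fun j => β (e (s j).1) (e (s j).2)) : ℚ) *
          ∏ j, (MvPolynomial.X (s j).1 * MvPolynomial.X (s j).2)) = (F (fun _ => h φ) : ℚ) / N := by
      simp only [map_mul, map_sum, map_prod, MvPolynomial.eval_C, MvPolynomial.eval_X]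
      have h3 := congrArg (fun x : ℤ => (x : ℚ)) h2
      simp only [Int.cast_sum, Int.cast_mul, Int.cast_prod, Int.cast_pow, Int.cast_ofNat] at h3
      have hN0 : (N : ℚ) ≠ 0 := by exact_mod_cast hN.ne'
      rw [show ∑ x : Fin r → κ × κ, (F (fun j => β (e (x j).1) (e (x j).2)) : ℚ) *
          ∏ j, ((a (x j).1 : ℚ) * (a (x j).2 : ℚ)) = (2 : ℚ) ^ r * F (fun _ => h φ) from
        (Finset.sum_congr rfl fun s _ => mul_comm _ _).trans h3]
      simp only [cF]
      field_simp
    rw [heval]
    refine ⟨fun hfin y => ?_, fun hnf => ?_⟩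
    · rw [(hval φ).1 hfin y]
      push_cast
      exact (mul_div_cancel_right₀ _ (by exact_mod_cast hN.ne')).symm
    · rw [(hval φ).2 hnf]
      simp

end Groth.Agent.AbCubeLib
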