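import Groth.Agent.AbCubeLib.DegreeForm
import Groth.Agent.AbCubeLib.KernelPhi

/-!
# The next to leading coefficient of the degree polynomial

It is linear in the pairing of the endomorphism with the identity, so relations of Rosati type between endomorphisms
give relations between these coefficients.
-/

set_option autoImplicit false
set_option linter.style.haveILetI false
set_option backward.isDefEq.respectTransparency.types false

universe u

open CategoryTheory CategoryTheory.Limits MonoidalCategory CartesianMonoidalCategory AlgebraicGeometry MonObj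
  TopologicalSpace
open Groth.Agent.PicLib Groth.Agent.CubeLib Groth.Agent.AmpleLib Groth.Agent.Coherent Groth.Agent.EulerLib
  Groth.Agent.DimLib Groth.Agent.AssSch12

namespace Groth.Agent.AbCubeLib

section Algebra

variable {V : Type*} [AddCommGroup V]

/-- The polynomial `j ↦ F (a + j b + j² c, …)`. -/
noncomputable def quadPoly {r : ℕ} (F : MultilinearMap ℤ (fun _ : Fin r => V) ℤ) (v : Fin 3 → V) : Polynomial ℚ :=
  ∑ s : Fin r → Fin 3, Polynomial.C ((F (fun i => v (s i)) : ℤ) : ℚ) * Polynomial.X ^ (∑ i, (s i : ℕ))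

theorem quadPoly_eval {r : ℕ} (F : MultilinearMap ℤ (fun _ : Fin r => V) ℤ) (a b c : V) (j : ℤ) :
    (quadPoly F ![a, b, c]).eval (j : ℚ) = ((F fun _ => a + j • b + (j * j) • c : ℤ) : ℚ) := by
  classical
  have h : (fun _ : Fin r => a + j • b + (j * j) • c) = fun _ => ∑ t : Fin 3, (j ^ (t : ℕ)) • (![a, b, c] t) := by
    funext i
    simp [Fin.sum_univ_three, sq]
  rw [h, F.map_sum, quadPoly, Polynomial.eval_finsetSum, Int.cast_sum]
  refine Finset.sum_congr rfl fun s _ => ?_
  rw [F.map_smul_univ (fun i => j ^ (s i : ℕ)) fun i => ![a, b, c] (s i), Finset.prod_pow_eq_pow_sum, smul_eq_mul]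
  simp only [Polynomial.eval_mul, Polynomial.eval_C, Polynomial.eval_pow, Polynomial.eval_X, Int.cast_mul, Int.cast_pow]
  exact _root_.mul_comm _ _

/-- The next to leading coefficient is linear in the middle vector and does not see the first one. -/
theorem quadPoly_coeff {r : ℕ} (hr : 1 ≤ r) (F : MultilinearMap ℤ (fun _ : Fin r => V) ℤ) (a a' b b' c : V)
    (m n : ℤ) (h : m • b' = n • b) :
    (m : ℚ) * (quadPoly F ![a', b', c]).coeff (2 * r - 1) = (n : ℚ) * (quadPoly F ![a, b, c]).coeff (2 * r - 1) := by
  classical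
  simp only [quadPoly, Polynomial.finsetSum_coeff, Polynomial.coeff_C_mul_X_pow, Finset.mul_sum]
  refine Finset.sum_congr rfl fun s _ => ?_
  split_ifs with hs
  swap
  · simp
  have hle : ∀ i, (s i : ℕ) ≤ 2 := fun i => by have := (s i).2; omega
  have hsum : ∑ i, (2 - (s i : ℕ)) = 1 := by
    have := Finset.sum_add_distrib (s := Finset.univ) (f := fun i => 2 - (s i : ℕ)) (g := fun i => (s i : ℕ))
    simp only [fun i => Nat.sub_add_cancel (hle i), Finset.sum_const, Finset.card_univ, Fintype.card_fin,
      smul_eq_mul] at this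
    omega
  have key : ∀ (k : ℤ) (v : Fin 3 → V), k * F (fun i => v (s i)) = F fun i => k ^ (2 - (s i : ℕ)) • v (s i) :=
    fun k v => by
      rw [F.map_smul_univ (fun i => k ^ (2 - (s i : ℕ))) fun i => v (s i), Finset.prod_pow_eq_pow_sum, hsum, pow_one,
        smul_eq_mul]
  rw [← Int.cast_mul, ← Int.cast_mul, key, key]
  congr 2
  funext i
  have hi : s i ≠ 0 := fun e => by
    have h1 := Finset.single_le_sum (fun j _ => Nat.zero_le (2 - (s j : ℕ))) (Finset.mem_univ i)
    simp only [hsum] at h1
    rw [e] at h1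
    simp at h1
  generalize s i = t at hi
  fin_cases t
  · exact absurd rfl hi
  · simpa using h
  · simp

end Algebra

variable {k : Type u} [Field k] {A : Over (Spec (CommRingCat.of k))} [GrpObj A] [IsCommMonObj A] [IsProper A.hom]
  [GeometricallyIntegral A.hom]

/-- The inverse image of a class under an endomorphism, additively. -/
noncomputable def pbU (a : PicM A.left) (φ : EndAV.End A) : Additive (PicM A.left)ˣ :=
  Additive.ofMul (PicM.isUnit (pb φ.toHom a)).unit

theorem pbU_val (a : PicM A.left) (φ : EndAV.End A) :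
    ((Additive.toMul (pbU a φ) : (PicM A.left)ˣ) : PicM A.left) = pb φ.toHom a :=
  IsUnit.unit_spec _

theorem pbU_zero (a : PicM A.left) : pbU a (0 : EndAV.End A) = 0 := by
  refine Units.ext ((pbU_val a 0).trans ?_)
  rw [EndAV.End.toHom_zero, pb_one]
  rfl

theorem pbU_cube (a : PicM A.left) (x y z : EndAV.End A) :
    pbU a (x + y + z) + pbU a x + pbU a y + pbU a z = pbU a (x + y) + pbU a (x + z) + pbU a (y + z) := by
  apply Additive.toMul.injective
  refine Units.ext ?_
  simp only [toMul_add, Units.val_mul, pbU_val, EndAV.End.toHom_add]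
  exact cube_relation _ _ _ _

/-- The pairing attached to a class. -/
noncomputable def pairing (a : PicM A.left) (x y : EndAV.End A) : Additive (PicM A.left)ˣ :=
  pbU a (x + y) - pbU a x - pbU a y

theorem pairing_comm (a : PicM A.left) (x y : EndAV.End A) : pairing a x y = pairing a y x := by
  rw [pairing, pairing, _root_.add_comm x y]
  abel

theorem pairing_add_left (a : PicM A.left) (x y z : EndAV.End A) :
    pairing a (x + y) z = pairing a x z + pairing a y z := by
  rw [pairing, pairing, pairing, eq_sub_of_add_eq (eq_sub_of_add_eq (eq_sub_of_add_eq (pbU_cube a x y z)))]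
  abel

theorem pairing_neg_left (a : PicM A.left) (x z : EndAV.End A) : pairing a (-x) z = -pairing a x z := by
  have h0 : pairing a 0 z = 0 := by rw [pairing, _root_.zero_add, pbU_zero]; abel
  have h := pairing_add_left a x (-x) z
  rw [add_neg_cancel, h0] at h
  exact eq_neg_of_add_eq_zero_right h.symm

theorem pairing_neg_neg (a : PicM A.left) (x y : EndAV.End A) : pairing a (-x) (-y) = pairing a x y := by
  rw [pairing_neg_left, pairing_comm, pairing_neg_left, neg_neg, pairing_comm]

/-- The symmetrised inverse image. -/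
noncomputable def symU (a : PicM A.left) (φ : EndAV.End A) : Additive (PicM A.left)ˣ := pbU a φ + pbU a (-φ)

theorem symU_add (a : PicM A.left) (x y : EndAV.End A) :
    symU a (x + y) = symU a x + symU a y + (2 : ℤ) • pairing a x y := by
  have h := pairing_neg_neg a x y
  rw [pairing, pairing] at h
  simp only [symU, pairing, two_zsmul, neg_add]
  nth_rewrite 2 [← h]
  abel

theorem symU_add_int (a : PicM A.left) (x : EndAV.End A) (j : ℤ) :
    symU a (x + (j : EndAV.End A)) = symU a x + j • ((2 : ℤ) • pairing a x 1) + (j * j) • symU a 1 := by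
  have h1 : (2 : ℤ) • pairing a 1 1 = (2 : ℤ) • symU a 1 := by
    have h := symU_add a 1 (-1)
    rw [add_neg_cancel, pairing_comm a 1 (-1), pairing_neg_left, smul_neg] at h
    have h0 : symU a (0 : EndAV.End A) = 0 := by rw [symU, neg_zero, pbU_zero, _root_.add_zero]
    have hn : symU a (-1 : EndAV.End A) = symU a 1 := by rw [symU, symU, neg_neg, _root_.add_comm]
    rw [h0, hn, eq_comm, add_neg_eq_zero] at h
    rw [← h, two_zsmul]
  have hlin : ∀ i : ℤ, pairing a (i : EndAV.End A) 1 = i • pairing a 1 1 := by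
    intro i
    induction i using Int.induction_on with
    | zero => rw [Int.cast_zero, zero_zsmul, pairing, _root_.zero_add, pbU_zero]; abel
    | succ i ih => rw [Int.cast_add, Int.cast_one, pairing_add_left, ih, add_zsmul, one_zsmul]
    | pred i ih =>
      rw [Int.cast_sub, Int.cast_one, sub_eq_add_neg, pairing_add_left, ih, pairing_neg_left, sub_zsmul, one_zsmul]
  induction j using Int.induction_on with
  | zero => simp
  | succ j ih =>
    rw [Int.cast_add, Int.cast_one, ← _root_.add_assoc, symU_add, ih, pairing_add_left, hlin, smul_add,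
      smul_comm (2 : ℤ) ((j : ℕ) : ℤ) (pairing a 1 1), h1]
    module
  | pred j ih =>
    have hr : ∀ y z : EndAV.End A, pairing a y (-z) = -pairing a y z := fun y z => by
      rw [pairing_comm, pairing_neg_left, pairing_comm]
    rw [Int.cast_sub, Int.cast_one, sub_eq_add_neg _ (1 : EndAV.End A), ← _root_.add_assoc, symU_add, ih,
      hr, pairing_add_left, hlin, smul_neg, smul_add, smul_comm (2 : ℤ) (-((j : ℕ) : ℤ)) (pairing a 1 1), h1,
      show symU a (-1 : EndAV.End A) = symU a 1 by rw [symU, symU, neg_neg, _root_.add_comm]]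
    module

/-- The data of a polynomial giving the degrees of `α + j`. -/
def IsDegPoly (α : EndAV.End A) (P : Polynomial ℚ) : Prop :=
  ∀ j : ℤ, (IsFinite (EndAV.End.toHom (α + (j : EndAV.End A))).left →
      ∀ a : A.left, (Scheme.Hom.finrank (EndAV.End.toHom (α + (j : EndAV.End A))).left a : ℚ) = P.eval (j : ℚ)) ∧
    (¬ IsFinite (EndAV.End.toHom (α + (j : EndAV.End A))).left → P.eval (j : ℚ) = 0)

/-- The degree polynomials are the quadratic polynomials of the symmetrised classes, up to a positive factor. -/
theorem exists_degPoly_eq [A.left.Over (Spec (CommRingCat.of k))] [IsProper (A.left ↘ Spec (CommRingCat.of k))]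
    (hover : A.left ↘ Spec (CommRingCat.of k) = A.hom) {r : ℕ} (hr : topologicalKrullDim A.left = r)
    [IsIntegral A.left] {L : A.left.Modules} (hL : CohB1.IsAmple L) :
    ∃ (F : MultilinearMap ℤ (fun _ : Fin r => Additive (PicM A.left)ˣ) ℤ) (N : ℤ), 0 < N ∧
      (∀ x, F x = interDeg (fun i => clU (x i)) (chiCl k (clM (genericPoint A.left)))) ∧
      ∀ (φ : EndAV.End A) (R : Polynomial ℚ), IsDegPoly φ R →
        R * Polynomial.C (N : ℚ) = quadPoly F ![symU (PicM.of hL.1) φ, (2 : ℤ) • pairing (PicM.of hL.1) φ 1,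
          symU (PicM.of hL.1) 1] := by
  classical
  haveI := isNoetherian_of_proper (X := A.left) k
  haveI : IsIso ((𝟙 A)⁻¹).left := inferInstanceAs (IsIso ((Over.forget _).map (ι[A])))
  have hL' := isAmple_pullback_of_isEmbedding ((𝟙 A)⁻¹).left ((𝟙 A)⁻¹).left.homeomorph.isEmbedding hL
  have hM := isAmple_tensorMod hL hL'
  let a := PicM.of hL.1
  have hMval : ∀ φ : EndAV.End A, clU (symU a φ) = invOf (PicM.pull φ.toHom.left (PicM.of hM.1)) := fun φ => by
    refine congrArg invOf ?_
    rw [symU, toMul_add, Units.val_mul, pbU_val, pbU_val, EndAV.End.toHom_neg,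
      show φ.toHom⁻¹ = φ.toHom ≫ (𝟙 A)⁻¹ by rw [GrpObj.comp_inv, Category.comp_id], ← pb_pb]
    show _ = pb φ.toHom (PicM.of hM.1)
    have hmul : PicM.of hM.1 = a * pb (𝟙 A)⁻¹ a :=
      (PicM.of_mul hL.1 hL'.1).symm.trans (congrArg (PicM.of hL.1 * ·) (PicM.pull_of ((𝟙 A)⁻¹).left hL.1).symm)
    rw [hmul]
    exact (map_mul _ _ _).symm
  let N : ℤ := interDeg (fun _ : Fin r => InvCl.mk _ hM.1) (chiCl k (clM (genericPoint A.left)))
  have hN : 0 < N := by
    refine interDeg_pos k r (fun _ => _) (fun _ => hM) _ (isCoh_clM _) ?_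
    rw [support_clM, genericPoint_closure, ← hr]
    exact IsHomeomorph.topologicalKrullDim_eq _ (Homeomorph.Set.univ A.left).isHomeomorph
  have hdimA : topologicalKrullDim (CohB1.support (clM (genericPoint A.left))) ≤ (r : ℕ) :=
    (dim_mono (Set.subset_univ _)).trans
      ((IsHomeomorph.topologicalKrullDim_eq _ (Homeomorph.Set.univ A.left).isHomeomorph).trans hr).le
  obtain ⟨F, hF⟩ := exists_interDeg_multilinear (chiCl k (clM (genericPoint A.left)))
    (clDeg_chiCl k (isCoh_clM _) (r := r) hdimA)
  have hval : ∀ φ : EndAV.End A, (IsFinite φ.toHom.left → ∀ y : A.left,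
      F (fun _ => symU a φ) = Scheme.Hom.finrank φ.toHom.left y * N) ∧
      (¬ IsFinite φ.toHom.left → F (fun _ => symU a φ) = 0) := by
    intro φ
    rw [hF]
    simp only [hMval]
    refine ⟨fun hfin y => ?_, fun hnf => ?_⟩
    · obtain ⟨-, hflat⟩ := AbVarLib.surjective_and_flat_of_isFinite φ.toHom rfl
      rw [interDeg_pull_of_finite k φ.toHom.left ((congrArg (φ.toHom.left ≫ ·) hover).trans ((Over.w φ.toHom).trans hover.symm)) hr.le hr.le (fun _ => PicM.of hM.1) y]
      simp only [invOf_of]
      rfl
    · refine interDeg_pull_eq_zero k φ.toHom.left hM r _ (isCoh_clM _) hdimA fun z _ => ?_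
      have hgen := topologicalKrullDim_eq_ptDim_genericPoint A.hom
      rw [hr] at hgen
      have hg' : ptDim A.hom (genericPoint A.left) = r := by exact_mod_cast hgen.symm
      have hpt : ∀ (q : A.left ⟶ Spec (CommRingCat.of k)) (_ : q = A.hom) (w : A.left), ptDim q w = ptDim A.hom w := by
        rintro q rfl w; rfl
      rw [hpt _ hover]
      rw [← hg']
      refine ptDim_lt_of_specializes A.hom (genericPoint_specializes _) fun e => hnf ?_
      haveI : A.left.IsSeparated := EulerLib.isSeparated_of_proper (X := A.left) k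
      haveI : IsProper (φ.toHom.left ≫ A.hom) := by rw [Over.w]; infer_instance
      haveI : IsProper φ.toHom.left := IsProper.of_comp _ A.hom
      haveI : Surjective φ.toHom.left := ⟨Set.range_eq_univ.1 (Set.univ_subset_iff.1 (by
        rw [← genericPoint_closure A.left]
        exact φ.toHom.left.isClosedMap.isClosed_range.closure_subset_iff.2
          (Set.singleton_subset_iff.2 ⟨z, e.symm⟩)))⟩
      exact (AbVarLib.isFinite_and_flat_of_surjective φ.toHom rfl).1
  have hpoly : ∀ (φ : EndAV.End A) (R : Polynomial ℚ), IsDegPoly φ R →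
      R * Polynomial.C (N : ℚ) = quadPoly F ![symU a φ, (2 : ℤ) • pairing a φ 1, symU a 1] := by
    intro φ R hR
    refine Polynomial.eq_of_infinite_eval_eq _ _ ((Set.infinite_range_of_injective
      (Int.cast_injective (α := ℚ))).mono ?_)
    rintro _ ⟨j, rfl⟩
    show Polynomial.eval (j : ℚ) _ = _
    rw [Polynomial.eval_mul, Polynomial.eval_C, quadPoly_eval, ← symU_add_int]
    by_cases hfin : IsFinite (φ + (j : EndAV.End A)).toHom.left
    · rw [(hval _).1 hfin (genericPoint A.left), ← (hR j).1 hfin (genericPoint A.left)]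
      push_cast
      ring
    · rw [(hval _).2 hfin, (hR j).2 hfin]
      simp
  exact ⟨F, N, hN, hF, hpoly⟩

/-- The next to leading coefficient of the degree polynomial is linear in the pairing with the identity. -/
theorem degPoly_coeff_scaling {r : ℕ} (hr : topologicalKrullDim A.left = r) (hr1 : 1 ≤ r) {L : A.left.Modules}
    (hL : CohB1.IsAmple L) (α α' : EndAV.End A) (m n : ℤ)
    (hrel : m • pairing (PicM.of hL.1) α' 1 = n • pairing (PicM.of hL.1) α 1) {P P' : Polynomial ℚ}
    (hP : IsDegPoly α P) (hP' : IsDegPoly α' P') :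
    (m : ℚ) * P'.coeff (2 * r - 1) = (n : ℚ) * P.coeff (2 * r - 1) := by
  letI : A.left.Over (Spec (CommRingCat.of k)) := ⟨A.hom⟩
  haveI : IsProper (A.left ↘ Spec (CommRingCat.of k)) := ‹IsProper A.hom›
  haveI : IsIntegral A.left := GeometricallyIntegral.isIntegral_of_subsingleton A.hom
  obtain ⟨F, N, hN, -, hpoly⟩ := exists_degPoly_eq rfl hr hL
  let a := PicM.of hL.1
  have h := quadPoly_coeff hr1 F (symU a α) (symU a α') ((2 : ℤ) • pairing a α 1) ((2 : ℤ) • pairing a α' 1)
    (symU a 1) m n (by rw [smul_comm m, hrel, smul_comm n])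
  rw [← hpoly α P hP, ← hpoly α' P' hP', Polynomial.coeff_mul_C, Polynomial.coeff_mul_C, ← _root_.mul_assoc,
    ← _root_.mul_assoc] at h
  exact mul_right_cancel₀ (by exact_mod_cast hN.ne') h

end Groth.Agent.AbCubeLib
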