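import Groth.Agent.OT.Deligne
import Groth.Agent.UnipStruct.Group
import Mathlib.AlgebraicGeometry.Group.Affine
import Mathlib.AlgebraicGeometry.Morphisms.FlatRank

/-!
# Deligne's theorem for commutative finite locally free group schemes

A commutative finite locally free group scheme of constant rank `n` over any base is killed by `n`.
-/

universe u

open CategoryTheory CategoryTheory.Limits MonoidalCategory CartesianMonoidalCategory MonObj AlgebraicGeometry Opposite
open scoped TensorProduct
open WithConv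

noncomputable section

namespace Groth.Agent.AbCubeLib

set_option backward.isDefEq.respectTransparency.types false

section Transfer

variable {R : CommRingCat.{u}} (P : (CommAlgCat R)ᵒᵖ) [GrpObj ((algSpec R).obj P)]

/-- The monoid object on an algebra whose spectrum is a group scheme. -/
abbrev algGrpObj : GrpObj P := algSpec.fullyFaithful.grpObj P

theorem map_mul_algGrpObj {T : (CommAlgCat R)ᵒᵖ} (a b : T ⟶ P) :
    (algSpec R).map (letI := algGrpObj P; a * b) = (algSpec R).map a * (algSpec R).map b := by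
  show (algSpec R).map (lift a b ≫ algSpec.fullyFaithful.preimage
    (Functor.OplaxMonoidal.δ (algSpec R) P P ≫ μ[(algSpec R).obj P])) = lift _ _ ≫ μ[(algSpec R).obj P]
  rw [Functor.map_comp, Functor.FullyFaithful.map_preimage, ← Category.assoc, Functor.OplaxMonoidal.lift_δ]

theorem map_one_algGrpObj {T : (CommAlgCat R)ᵒᵖ} :
    (algSpec R).map (letI := algGrpObj P; (1 : T ⟶ P)) = 1 := by
  show (algSpec R).map (toUnit T ≫ algSpec.fullyFaithful.preimage
    (Functor.OplaxMonoidal.η (algSpec R) ≫ η[(algSpec R).obj P])) = toUnit _ ≫ η[(algSpec R).obj P]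
  rw [Functor.map_comp, Functor.FullyFaithful.map_preimage, ← Category.assoc]
  congr 1

/-- Applying `Spec` to points is a monoid homomorphism. -/
def algSpecHom (T : (CommAlgCat R)ᵒᵖ) :
    letI := algGrpObj P
    (T ⟶ P) →* ((algSpec R).obj T ⟶ (algSpec R).obj P) :=
  letI := algGrpObj P
  { toFun := (algSpec R).map
    map_one' := map_one_algGrpObj P
    map_mul' := map_mul_algGrpObj P }

end Transfer

section Points

variable {R : Type u} [CommRing R] (P : (CommAlgCat R)ᵒᵖ) [GrpObj P]

/-- Points of an affine group scheme as points of its Hopf algebra. -/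
def ptHom (B : Type u) [CommRing B] [Algebra R B] :
    (op (CommAlgCat.of R B) ⟶ P) →* WithConv ((P.unop : Type u) →ₐ[R] B) where
  toFun f := toConv f.unop.hom
  map_one' := by
    apply WithConv.ext
    apply AlgHom.ext
    intro x
    rw [AlgHom.convOne_apply]
    rfl
  map_mul' f g := by
    apply WithConv.ext
    apply AlgHom.ext
    intro x
    rw [AlgHom.convMul_apply]
    show ((lift f g).unop.hom.comp μ[P].unop.hom) x = _
    rw [CommAlgCat.lift_unop_hom, AlgHom.comp_apply]
    show _ = Algebra.TensorProduct.lift f.unop.hom g.unop.hom _ (μ[P].unop.hom x)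
    rfl

theorem isCocomm_of_comm (h : ∀ {T : (CommAlgCat R)ᵒᵖ} (a b : T ⟶ P), a * b = b * a) :
    Coalgebra.IsCocomm R (P.unop : Type u) := by
  refine ⟨LinearMap.ext fun x => ?_⟩
  have h1 : (β_ P P).hom ≫ μ[P] = μ[P] := by
    calc (β_ P P).hom ≫ μ[P] = snd P P * fst P P := by
          rw [MonObj.mul_eq_mul, MonObj.comp_mul, braiding_hom_fst, braiding_hom_snd]
      _ = fst P P * snd P P := h _ _
      _ = μ[P] := (MonObj.mul_eq_mul (M := P)).symm
  exact congr($(h1).unop.hom x)

theorem pow_eq_one_of_basis (h : ∀ {T : (CommAlgCat R)ᵒᵖ} (a b : T ⟶ P), a * b = b * a) {n : ℕ}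
    (b : Module.Basis (Fin n) R (P.unop : Type u)) (y : op (CommAlgCat.of R R) ⟶ P) : y ^ n = 1 := by
  have : Coalgebra.IsCocomm R (P.unop : Type u) := isCocomm_of_comm P h
  have h1 : Function.Injective (ptHom P R) := fun f g hfg =>
    Quiver.Hom.unop_inj (CommAlgCat.hom_ext (WithConv.toConv_injective hfg))
  refine h1 ?_
  rw [map_pow, map_one]
  exact Groth.Agent.OT.point_pow_rank_eq_one b _

end Points

section Local

variable {R : CommRingCat.{u}} [IsLocalRing R]
  (G : Over (Spec R)) [GrpObj G] [IsCommMonObj G] [IsFinite G.hom] [Flat G.hom]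

/-- A point of a commutative finite flat group scheme of rank `n` over a local ring is killed by `n`. -/
theorem pow_eq_one_of_isLocalRing (n : ℕ) (hn : Scheme.Hom.finrank G.hom (IsLocalRing.closedPoint R) = n)
    (x : 𝟙_ (Over (Spec R)) ⟶ G) : x ^ n = 1 := by
  have : IsAffine G.left := isAffine_of_isAffineHom G.hom
  let φ : R ⟶ Γ(G.left, ⊤) := (Scheme.ΓSpecIso R).inv ≫ G.hom.appTop
  have hφ : G.left.isoSpec.inv ≫ G.hom = Spec.map φ := by
    rw [Iso.inv_comp_eq]
    simp only [φ, Spec.map_comp, ← Category.assoc, Scheme.isoSpec_hom_naturality]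
    simp [Scheme.isoSpec_Spec_hom]
  letI : Algebra R Γ(G.left, ⊤) := φ.hom.toAlgebra
  let A : Type u := Γ(G.left, ⊤)
  have hflat' : Flat (Spec.map φ) := by rw [← hφ]; infer_instance
  have hfin' : IsFinite (Spec.map φ) := by rw [← hφ]; infer_instance
  have : Module.Finite R A := (IsFinite.SpecMap_iff φ).1 hfin'
  have : Module.Flat R A := Flat.SpecMap_iff.1 hflat'
  have : Module.Free R A := Module.free_of_flat_of_isLocalRing
  have hrank : Module.finrank R A = n := by
    have h1 := congrFun (Scheme.Hom.finrank_comp_left_of_isIso G.left.isoSpec.inv G.hom) (IsLocalRing.closedPoint R)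
    rw [hφ, hn] at h1
    have h2 := Scheme.Hom.finrank_SpecMap_algebraMap R A (IsLocalRing.closedPoint R)
    have h3 : Module.rankAtStalk (R := R) A (IsLocalRing.closedPoint R) = n := h2.symm.trans h1
    simpa [Module.rankAtStalk_eq_finrank_of_free] using h3
  let P : (CommAlgCat R)ᵒᵖ := op (CommAlgCat.of R A)
  let e : G ≅ (algSpec R).obj P := Over.isoMk G.left.isoSpec (by
    show G.left.isoSpec.hom ≫ Spec.map φ = G.hom
    rw [← hφ, Iso.hom_inv_id_assoc])
  letI : GrpObj ((algSpec R).obj P) := GrpObj.ofIso e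
  have : IsMonHom e.hom := isMonHom_ofIso e
  have : IsMonHom e.inv := inferInstance
  letI : GrpObj P := algGrpObj P
  have hinj : ∀ T, Function.Injective (algSpecHom P T) := fun T a b hab =>
    algSpec.fullyFaithful.map_injective hab
  have hcomm : ∀ {T : (CommAlgCat R)ᵒᵖ} (a b : T ⟶ P), a * b = b * a := fun {T} a b => by
    refine hinj T ?_
    rw [map_mul, map_mul]
    refine (cancel_mono e.inv).1 ?_
    rw [MonObj.mul_comp, MonObj.mul_comp, mul_comm]
  let b : Module.Basis (Fin n) R A := Module.finBasisOfFinrankEq R A hrank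
  let y : 𝟙_ (CommAlgCat R)ᵒᵖ ⟶ P :=
    algSpec.fullyFaithful.preimage (Functor.OplaxMonoidal.η (algSpec R) ≫ x ≫ e.hom)
  have hy : y ^ n = 1 := pow_eq_one_of_basis P hcomm b y
  have h2 := congrArg (algSpecHom P _) hy
  rw [map_pow, map_one] at h2
  have h3 : (Functor.OplaxMonoidal.η (algSpec R) ≫ x ≫ e.hom) ^ n = 1 := by
    rw [← h2]
    congr 1
    exact (algSpec.fullyFaithful.map_preimage _).symm
  rw [← MonObj.comp_pow, ← MonObj.pow_comp, ← MonObj.comp_one (Functor.OplaxMonoidal.η (algSpec R)),
    cancel_epi, ← MonObj.one_comp e.hom, cancel_mono] at h3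
  exact h3

end Local

section Global

variable {S : Scheme.{u}} (N : Over S) [GrpObj N]

/-- A point is killed by `n` as soon as every section of the base change is. -/
theorem pow_eq_one_of_pullback {W : Scheme.{u}} (g : W ⟶ S) (y : Over.mk g ⟶ N) (n : ℕ)
    (h : letI : GrpObj ((Over.pullback g).obj N) := Functor.grpObjObj
      ∀ z : 𝟙_ (Over W) ⟶ (Over.pullback g).obj N, z ^ n = 1) : y ^ n = 1 := by
  let F := Over.pullback g
  letI : GrpObj (F.obj N) := Functor.grpObjObj
  let d : 𝟙_ (Over W) ⟶ F.obj (Over.mk g) := Over.homMk (pullback.lift (𝟙 W) (𝟙 W) rfl) (pullback.lift_snd _ _ _)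
  have h1 : (d ≫ F.map y) ^ n = 1 := h _
  rw [← MonObj.comp_pow, ← MonObj.comp_one d] at h1
  have h2 : d ≫ F.map (y ^ n) = d ≫ F.map (1 : Over.mk g ⟶ N) := by
    have e1 : F.map (y ^ n) = F.map y ^ n := map_pow F.homMonoidHom y n
    have e2 : F.map (1 : Over.mk g ⟶ N) = 1 := map_one F.homMonoidHom
    rw [e1, e2, h1]
  have h3 := congrArg (fun m : 𝟙_ (Over W) ⟶ F.obj N => m.left ≫ pullback.fst N.hom g) h2
  have key : ∀ m : Over.mk g ⟶ N, (d ≫ F.map m).left ≫ pullback.fst N.hom g = m.left := fun m => by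
    simp [d, F, Over.comp_left]
    erw [pullback.lift_fst, pullback.lift_fst_assoc, Category.id_comp]
  simp only [key] at h3
  exact Over.OverMorphism.ext h3

theorem pow_eq_one_of_specPoints {R : CommRingCat.{u}} (G : Over (Spec R)) [GrpObj G] [IsCommMonObj G]
    [IsFinite G.hom] [Flat G.hom] (n : ℕ) (hn : ∀ s, Scheme.Hom.finrank G.hom s = n)
    (x : 𝟙_ (Over (Spec R)) ⟶ G) : x ^ n = 1 := by
  have : IsAffine G.left := isAffine_of_isAffineHom G.hom
  have hloc : ∀ (J : Ideal R) (hJ : J.IsMaximal),
      Spec.map (CommRingCat.ofHom (algebraMap R (Localization.AtPrime J))) ≫ (x ^ n).left =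
        Spec.map (CommRingCat.ofHom (algebraMap R (Localization.AtPrime J))) ≫ (1 : 𝟙_ (Over (Spec R)) ⟶ G).left := by
    intro J hJ
    let j : Spec (CommRingCat.of (Localization.AtPrime J)) ⟶ Spec R :=
      Spec.map (CommRingCat.ofHom (algebraMap R (Localization.AtPrime J)))
    let a : Over.mk j ⟶ 𝟙_ (Over (Spec R)) := Over.homMk j (Category.comp_id _)
    have hk : (a ≫ x) ^ n = 1 := pow_eq_one_of_pullback G j (a ≫ x) n (by
      letI : GrpObj ((Over.pullback j).obj G) := Functor.grpObjObj
      intro z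
      have : IsFinite ((Over.pullback j).obj G).hom := inferInstanceAs (IsFinite (pullback.snd G.hom j))
      have : Flat ((Over.pullback j).obj G).hom := inferInstanceAs (Flat (pullback.snd G.hom j))
      refine pow_eq_one_of_isLocalRing ((Over.pullback j).obj G) n ?_ z
      show Scheme.Hom.finrank (pullback.snd G.hom j) _ = n
      rw [Scheme.Hom.finrank_pullback_snd, hn])
    rw [← MonObj.comp_pow, ← MonObj.comp_one a] at hk
    exact congrArg CommaMorphism.left hk
  refine Over.OverMorphism.ext ((cancel_mono G.left.isoSpec.hom).1 ?_)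
  obtain ⟨α, hα⟩ := Spec.map_surjective ((x ^ n).left ≫ G.left.isoSpec.hom)
  obtain ⟨β, hβ⟩ := Spec.map_surjective ((1 : 𝟙_ (Over (Spec R)) ⟶ G).left ≫ G.left.isoSpec.hom)
  refine hα.symm.trans (Eq.trans ?_ hβ)
  refine congrArg Spec.map (CommRingCat.hom_ext (RingHom.ext fun a => ?_))
  rw [← sub_eq_zero]
  refine eq_zero_of_localization _ fun J hJ => ?_
  rw [map_sub, sub_eq_zero]
  have h1 : Spec.map (α ≫ CommRingCat.ofHom (algebraMap R (Localization.AtPrime J))) =
      Spec.map (β ≫ CommRingCat.ofHom (algebraMap R (Localization.AtPrime J))) := by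
    rw [Spec.map_comp, Spec.map_comp, hα, hβ, ← Category.assoc, hloc J hJ, Category.assoc]
  exact congr($(Spec.map_injective h1).hom a)

theorem pow_eq_one_of_finrank [IsCommMonObj N] [IsFinite N.hom] [Flat N.hom] (n : ℕ)
    (hn : ∀ s, Scheme.Hom.finrank N.hom s = n) {T : Over S} (y : T ⟶ N) : y ^ n = 1 := by
  refine Over.OverMorphism.ext (T.left.affineOpenCover.openCover.hom_ext _ _ fun i => ?_)
  let j : Spec (T.left.affineOpenCover.X i) ⟶ T.left := T.left.affineOpenCover.f i
  let a : Over.mk (j ≫ T.hom) ⟶ T := Over.homMk j rfl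
  have hk : (a ≫ y) ^ n = 1 := pow_eq_one_of_pullback N (j ≫ T.hom) (a ≫ y) n (by
    letI : GrpObj ((Over.pullback (j ≫ T.hom)).obj N) := Functor.grpObjObj
    intro z
    have : IsFinite ((Over.pullback (j ≫ T.hom)).obj N).hom := inferInstanceAs (IsFinite (pullback.snd N.hom _))
    have : Flat ((Over.pullback (j ≫ T.hom)).obj N).hom := inferInstanceAs (Flat (pullback.snd N.hom _))
    refine pow_eq_one_of_specPoints ((Over.pullback (j ≫ T.hom)).obj N) n (fun s => ?_) z
    show Scheme.Hom.finrank (pullback.snd N.hom _) _ = n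
    rw [Scheme.Hom.finrank_pullback_snd, hn])
  rw [← MonObj.comp_pow, ← MonObj.comp_one a] at hk
  exact congrArg CommaMorphism.left hk

/-- Deligne: whatever a finite locally free homomorphism of rank `n` at the unit kills is killed by `n`. -/
theorem pow_eq_one_of_comp_eq_one {X Y : Over S} [GrpObj X] [IsCommMonObj X] [GrpObj Y] (f : X ⟶ Y) [IsMonHom f]
    [IsFinite f.left] [Flat f.left] (n : ℕ) (hn : ∀ s : S, Scheme.Hom.finrank f.left (η[Y].left s) = n)
    {T : Over S} (x : T ⟶ X) (hx : x ≫ f = 1) : x ^ n = 1 := by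
  have hK := UnipStruct.isKernel_kerι f
  haveI := AlgGrpLib.kernel_mono hK
  obtain ⟨y, rfl⟩ := AlgGrpLib.exists_lift_kernel hK hx
  have : IsCommMonObj (UnipStruct.kerObj f) := by
    refine ⟨(cancel_mono (UnipStruct.kerι f)).1 ?_⟩
    rw [MonObj.mul_eq_mul, MonObj.comp_mul, braiding_hom_fst, braiding_hom_snd, UnipStruct.kerι_mul,
      UnipStruct.kerι_mul, mul_comm]
  have hsq := hK.map (Over.forget S)
  have hsnd : (toUnit (UnipStruct.kerObj f)).left = (UnipStruct.kerObj f).hom := by
    exact (Category.comp_id _).symm.trans (Over.w (toUnit (UnipStruct.kerObj f)))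
  have hsq' : IsPullback (UnipStruct.kerι f).left (UnipStruct.kerObj f).hom f.left η[Y].left := by
    rw [← hsnd]; exact hsq
  have : IsFinite (UnipStruct.kerObj f).hom := MorphismProperty.of_isPullback hsq' inferInstance
  have : Flat (UnipStruct.kerObj f).hom := MorphismProperty.of_isPullback hsq' inferInstance
  have hk := pow_eq_one_of_finrank (UnipStruct.kerObj f) n
    (fun s => (Scheme.Hom.finrank_of_isPullback _ _ _ _ hsq' s).trans (hn s)) y
  rw [← MonObj.pow_comp, hk, MonObj.one_comp]

end Global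

end Groth.Agent.AbCubeLib
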