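import Groth.Agent.AbCubeLib.CharpolyMinpoly

/-!
# A matrix representation of `End⁰` with rational characteristic polynomials
-/

set_option autoImplicit false
set_option backward.isDefEq.respectTransparency.types false

universe u

open CategoryTheory CategoryTheory.Limits MonoidalCategory CartesianMonoidalCategory AlgebraicGeometry MonObj

namespace Groth.Agent.AbCubeLib

/-- Characteristic polynomial of a scalar multiple. -/
theorem charpoly_smul_eq {R : Type*} [CommRing R] {n : ℕ} (M : Matrix (Fin n) (Fin n) R) {c d : R} (hcd : c * d = 1) :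
    (c • M).charpoly = Polynomial.C (c ^ n) * M.charpoly.comp (Polynomial.C d * Polynomial.X) := by
  rw [Matrix.charpoly, Matrix.charpoly, ← Polynomial.coe_compRingHom_apply, RingHom.map_det]
  have h : Matrix.charmatrix (c • M) = Polynomial.C c •
      (Polynomial.compRingHom (Polynomial.C d * Polynomial.X)).mapMatrix (Matrix.charmatrix M) := by
    refine Matrix.ext fun i j => ?_
    by_cases hij : i = j
    · subst hij
      simp only [Matrix.smul_apply, RingHom.mapMatrix_apply, Matrix.map_apply, Polynomial.coe_compRingHom_apply,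
        Matrix.charmatrix_apply_eq, smul_eq_mul]
      simp only [Polynomial.comp, Polynomial.eval₂_sub, Polynomial.eval₂_X, Polynomial.eval₂_C]
      rw [mul_sub, ← _root_.mul_assoc, ← map_mul, hcd, map_one, _root_.one_mul]
      simp only [map_mul]
    · simp only [Matrix.smul_apply, RingHom.mapMatrix_apply, Matrix.map_apply, Polynomial.coe_compRingHom_apply,
        Matrix.charmatrix_apply_ne _ _ _ hij, smul_eq_mul]
      simp only [Polynomial.comp, Polynomial.eval₂_neg, Polynomial.eval₂_C]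
      simp only [mul_neg, map_mul]
  rw [h, Matrix.det_smul, Fintype.card_fin, map_pow]

variable {k : Type u} [Field k] {A : Over (Spec (CommRingCat.of k))} [GrpObj A] [IsCommMonObj A]

/-- Every element of `End⁰` is a rational multiple of an endomorphism. -/
theorem exists_smul_toEnd0 (x : EndAV.End0 A) :
    ∃ (n : ℤ) (φ : EndAV.End A), n ≠ 0 ∧ x = (n : ℚ)⁻¹ • EndAV.toEnd0 φ := by
  induction x using TensorProduct.induction_on with
  | zero => exact ⟨1, 0, one_ne_zero, by simp⟩
  | tmul q φ =>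
    refine ⟨q.den, q.num • φ, by simp, ?_⟩
    rw [EndAV.toEnd0_apply, TensorProduct.smul_tmul', TensorProduct.tmul_smul, TensorProduct.smul_tmul', zsmul_eq_mul,
      smul_eq_mul, _root_.mul_one, Int.cast_natCast, ← div_eq_mul_inv, Rat.num_div_den]
  | add a b ha hb =>
    obtain ⟨n, φ, hn, rfl⟩ := ha
    obtain ⟨m, ψ, hm, rfl⟩ := hb
    refine ⟨n * m, m • φ + n • ψ, mul_ne_zero hn hm, ?_⟩
    have hn' : (n : ℚ) ≠ 0 := Int.cast_ne_zero.2 hn
    have hm' : (m : ℚ) ≠ 0 := Int.cast_ne_zero.2 hm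
    rw [map_add, map_zsmul, map_zsmul, ← Int.cast_smul_eq_zsmul ℚ, ← Int.cast_smul_eq_zsmul ℚ, smul_add, smul_smul,
      smul_smul, Int.cast_mul]
    congr 2 <;> field_simp

variable [IsProper A.hom] [GeometricallyIntegral A.hom] {K : Type u} [Field K] [IsAlgClosed K]
  (j : Spec (CommRingCat.of K) ⟶ Spec (CommRingCat.of k)) {l : ℕ} [Fact l.Prime]
  [Module.Free ℤ_[l] (AbDual.TateMod A l (Over.mk j))] [Module.Finite ℤ_[l] (AbDual.TateMod A l (Over.mk j))]

include j in
/-- `End⁰` acts on `L ^ 2g` with rational characteristic polynomials, extending the action on the Tate module. -/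
theorem exists_end0_rep (hl : (l : k) ≠ 0) {r : ℕ} (hr : topologicalKrullDim A.left = r)
    (L : Type*) [Field L] [Algebra ℚ L] (f : ℤ_[l] →+* L) :
    ∃ ρ : EndAV.End0 A →ₐ[ℚ] Matrix (Fin (2 * r)) (Fin (2 * r)) L,
      (∀ φ, (ρ (EndAV.toEnd0 φ)).charpoly = (EndAV.End.tateRep l (Over.mk j) φ).charpoly.map f) ∧
      ∀ x, ∃ P : Polynomial ℚ, (ρ x).charpoly = P.map (algebraMap ℚ L) := by
  obtain ⟨P₁, hP₁, hd₁, -, hc₁⟩ := exists_int_charpoly_bc j hr (1 : EndAV.End A)
  have hrk : Module.finrank ℤ_[l] (AbDual.TateMod A l (Over.mk j)) = 2 * r := by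
    rw [← LinearMap.charpoly_natDegree (EndAV.End.tateRep l (Over.mk j) (1 : EndAV.End A)), hc₁ l hl,
      hP₁.natDegree_map, hd₁]
  let b := Module.finBasisOfFinrankEq ℤ_[l] (AbDual.TateMod A l (Over.mk j)) hrk
  let ψ : EndAV.End A →+* Matrix (Fin (2 * r)) (Fin (2 * r)) L :=
    f.mapMatrix.comp ((LinearMap.toMatrixAlgEquiv b :
      Module.End ℤ_[l] (AbDual.TateMod A l (Over.mk j)) ≃ₐ[ℤ_[l]] _).toRingEquiv.toRingHom.comp
        (EndAV.End.tateRep l (Over.mk j)))
  let ψ' : EndAV.End A →ₐ[ℤ] Matrix (Fin (2 * r)) (Fin (2 * r)) L :=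
    { ψ with
      commutes' := fun z => (congrArg ψ (eq_intCast (algebraMap ℤ (EndAV.End A)) z)).trans
        ((map_intCast ψ z).trans (eq_intCast (algebraMap ℤ (Matrix (Fin (2 * r)) (Fin (2 * r)) L)) z).symm) }
  let ρ : EndAV.End0 A →ₐ[ℚ] Matrix (Fin (2 * r)) (Fin (2 * r)) L :=
    Algebra.TensorProduct.lift (Algebra.ofId ℚ _) ψ' (fun q φ => Algebra.commutes q (ψ φ))
  have hρ : ∀ φ, ρ (EndAV.toEnd0 φ) = ψ φ := fun φ => by
    refine (Algebra.TensorProduct.lift_tmul _ _ _ (1 : ℚ) φ).trans ?_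
    rw [map_one, _root_.one_mul]
    rfl
  have hchar : ∀ φ, (ρ (EndAV.toEnd0 φ)).charpoly = (EndAV.End.tateRep l (Over.mk j) φ).charpoly.map f := by
    intro φ
    rw [hρ, ← LinearMap.charpoly_toMatrix (EndAV.End.tateRep l (Over.mk j) φ) b, ← Matrix.charpoly_map]
    rfl
  refine ⟨ρ, hchar, fun x => ?_⟩
  obtain ⟨n, φ, hn, rfl⟩ := exists_smul_toEnd0 x
  obtain ⟨P, -, -, -, hPc⟩ := exists_int_charpoly_bc j hr φ
  refine ⟨Polynomial.C ((n : ℚ)⁻¹ ^ (2 * r)) * (P.map (Int.castRingHom ℚ)).comp (Polynomial.C (n : ℚ) * Polynomial.X), ?_⟩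
  rw [map_smul, ← IsScalarTower.algebraMap_smul L ((n : ℚ)⁻¹) (ρ (EndAV.toEnd0 φ)),
    charpoly_smul_eq (d := algebraMap ℚ L n) _ (by rw [← map_mul, inv_mul_cancel₀ (Int.cast_ne_zero.2 hn), map_one]),
    hchar, hPc l hl, Polynomial.map_map, RingHom.ext_int (f.comp _) (Int.castRingHom L), Polynomial.map_mul,
    Polynomial.map_C, Polynomial.map_comp, Polynomial.map_mul, Polynomial.map_C, Polynomial.map_X, map_pow,
    Polynomial.map_map, RingHom.ext_int ((algebraMap ℚ L).comp _) (Int.castRingHom L), map_pow, map_pow]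

end Groth.Agent.AbCubeLib
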