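import Groth.Agent.AbCubeLib.KernelSubvariety
import Groth.Agent.AbCubeLib.EndRep
import Groth.Agent.AbCubeLib.HomRank
import Mathlib.RingTheory.Artinian.Module
import Mathlib.RingTheory.Artinian.Algebra
import Mathlib.Tactic.NoncommRing

/-!
# The rational endomorphism algebra of an abelian variety is semisimple
-/

set_option autoImplicit false
set_option backward.isDefEq.respectTransparency.types false

universe u

open CategoryTheory CategoryTheory.Limits MonoidalCategory CartesianMonoidalCategory AlgebraicGeometry MonObj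

namespace Groth.Agent.AbCubeLib

variable {k : Type u} [Field k] {A : Over (Spec (CommRingCat.of k))} [GrpObj A] [IsCommMonObj A]
  [IsProper A.hom] [GeometricallyIntegral A.hom]

/-- The rational endomorphism algebra is finite over `ℚ`. -/
theorem finite_end0 : Module.Finite ℚ (EndAV.End0 A) := by
  obtain ⟨g, hg⟩ := exists_dim_eq A
  obtain ⟨-, hfin, -⟩ := hom_free_finite (A := A) (B := A) hg hg
  haveI : Module.Finite ℤ (EndAV.End A) := hfin
  exact Module.Finite.base_change ℤ ℚ (EndAV.End A)

/-- The rational endomorphism algebra is von Neumann regular. -/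
theorem exists_mul_mul_eq (x : EndAV.End0 A) : ∃ y, x * y * x = x := by
  obtain ⟨c, φ, hc, rfl⟩ := exists_smul_toEnd0 x
  obtain ⟨m, ψ, hm, hψ, h⟩ := exists_regular φ.toHom
  have e : φ * EndAV.End.of ψ * φ = m • φ := EndAV.End.ext (by
    rw [EndAV.End.toHom_mul, EndAV.End.toHom_mul, EndAV.End.toHom_of, EndAV.End.toHom_nsmul]
    exact h)
  refine ⟨((c : ℚ) * (m : ℚ)⁻¹) • EndAV.toEnd0 (EndAV.End.of ψ), ?_⟩
  have hc' : (c : ℚ) ≠ 0 := Int.cast_ne_zero.2 hc
  have hm' : (m : ℚ) ≠ 0 := Nat.cast_ne_zero.2 hm.ne'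
  rw [smul_mul_smul_comm, smul_mul_smul_comm, ← map_mul, ← map_mul, e, map_nsmul, ← Nat.cast_smul_eq_nsmul ℚ,
    smul_smul]
  congr 1
  field_simp

theorem isSemisimpleRing_of_regular {R : Type*} [Ring R] [IsArtinianRing R] (h : ∀ x : R, ∃ y, x * y * x = x) :
    IsSemisimpleRing R := by
  rw [IsArtinianRing.isSemisimpleRing_iff_jacobson, eq_bot_iff]
  intro x hx
  obtain ⟨y, hy⟩ := h x
  rw [← Ideal.jacobson_bot] at hx
  obtain ⟨z, hz⟩ := Ideal.mem_jacobson_iff.1 hx (-y)
  rw [Ideal.mem_bot, sub_eq_zero] at hz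
  have hi : (y * x) * (y * x) = y * x := by rw [_root_.mul_assoc, ← _root_.mul_assoc x, hy]
  have h1 : z * (1 - y * x) = 1 := by
    refine Eq.trans ?_ hz
    noncomm_ring
  have h0 : y * x = 0 := by
    rw [← _root_.one_mul (y * x), ← h1, _root_.mul_assoc, sub_mul, hi, _root_.one_mul, sub_self, MulZeroClass.mul_zero]
  rw [Ideal.mem_bot, ← hy, _root_.mul_assoc, h0, MulZeroClass.mul_zero]

/-- **The rational endomorphism algebra is semisimple.** -/
theorem isSemisimpleRing_end0 : IsSemisimpleRing (EndAV.End0 A) := by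
  haveI := finite_end0 (A := A)
  haveI : IsArtinianRing (EndAV.End0 A) := IsArtinianRing.of_finite ℚ _
  exact isSemisimpleRing_of_regular exists_mul_mul_eq

end Groth.Agent.AbCubeLib
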