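import Groth.Agent.AbCubeLib.EndSemisimple
import Groth.Agent.AbSchLib.SmoothReduced

/-!
# Endomorphisms of simple abelian varieties
-/

set_option autoImplicit false
set_option backward.isDefEq.respectTransparency.types false

universe u

open CategoryTheory CategoryTheory.Limits MonoidalCategory CartesianMonoidalCategory AlgebraicGeometry MonObj

namespace Groth.Agent.AbCubeLib

variable {k : Type u} [Field k]

/-- A one-point abelian variety is trivial. -/
theorem eq_one_of_subsingleton {T B : Over (Spec (CommRingCat.of k))} [GrpObj B] [IsProper B.hom]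
    [GeometricallyIntegral B.hom] [Subsingleton B.left] (f : T ⟶ B) : f = 1 := by
  haveI : IsIntegral B.left := GeometricallyIntegral.isIntegral_of_subsingleton B.hom
  haveI : IsClosedImmersion (η[B].left ≫ B.hom) := by
    rw [Over.w]; exact (inferInstance : IsClosedImmersion (𝟙 (Spec (CommRingCat.of k))))
  haveI : IsClosedImmersion η[B].left := IsClosedImmersion.of_comp η[B].left B.hom
  haveI : Surjective η[B].left := ⟨fun b => ⟨IsLocalRing.closedPoint k, Subsingleton.elim _ _⟩⟩
  haveI : IsIso η[B].left := isIso_of_isClosedImmersion_of_surjective _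
  have h1 : toUnit B ≫ η[B] = 𝟙 B := by
    refine Over.OverMorphism.ext ?_
    rw [Over.comp_left, Over.toUnit_left, ← cancel_epi η[B].left, ← Category.assoc, Over.w]
    exact (Category.id_comp _).trans (Category.comp_id _).symm
  rw [← Category.comp_id f, ← h1, ← Category.assoc, toUnit_unique (f ≫ toUnit B) (toUnit T), Hom.one_def]

variable {A : Over (Spec (CommRingCat.of k))} [GrpObj A] [IsCommMonObj A] [IsProper A.hom]
  [GeometricallyIntegral A.hom]

/-- The rational endomorphism algebra of a simple abelian variety is a division algebra. -/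
theorem isUnit_of_ne_zero_of_simple
    (hsimple : ∀ (B : Over (Spec (CommRingCat.of k))) [GrpObj B] [GeometricallyIntegral B.hom] (i : B ⟶ A) [IsMonHom i]
      [IsClosedImmersion i.left], Subsingleton B.left ∨ IsIso i) :
    ∀ x : EndAV.End0 A, x ≠ 0 → IsUnit x := by
  intro x hx
  obtain ⟨c, φ, hc, rfl⟩ := exists_smul_toEnd0 x
  have hφ : φ ≠ 0 := fun h => hx (by rw [h, map_zero, smul_zero])
  obtain ⟨B, _, iB, qB, hBp, hBg, hiB, hiBc, -, hqBs, hfac, -⟩ := exists_image_subvariety φ.toHom
  rcases hsimple B iB with hs | hiso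
  · exact absurd (EndAV.End.ext (by rw [← hfac, eq_one_of_subsingleton qB, MonObj.one_comp, EndAV.End.toHom_zero])) hφ
  haveI : Surjective iB.left := by
    haveI : IsIso iB.left := inferInstanceAs (IsIso ((Over.forget _).map iB))
    infer_instance
  haveI : Surjective φ.toHom.left := by rw [← hfac, Over.comp_left]; infer_instance
  obtain ⟨Z, _, j, hZp, hZg, hjG, hjc, hj1, d, hd, hdZ⟩ := exists_kernel_subvariety φ.toHom
  rcases hsimple Z j with hs | hiso'
  swap
  · exact absurd (EndAV.End.ext (by rw [← cancel_epi j, hj1, EndAV.End.toHom_zero, MonObj.comp_one])) hφ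
  haveI : IsFinite φ.toHom.left := by
    refine isFinite_of_finite_geom_ker φ.toHom ?_
    let g := Spec.map (CommRingCat.ofHom (algebraMap k (AlgebraicClosure k)))
    letI : GrpObj ((Over.pullback g).obj A) := Functor.grpObjObj
    haveI : IsProper ((Over.pullback g).obj A).hom := inferInstanceAs (IsProper (pullback.snd A.hom g))
    haveI : GeometricallyIntegral ((Over.pullback g).obj A).hom :=
      inferInstanceAs (GeometricallyIntegral (pullback.snd A.hom g))
    haveI : IsCommMonObj ((Over.pullback g).obj A) := isCommMonObj_of_isProper_of_geometricallyIntegral _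
    have := finite_torsPts (A := (Over.pullback g).obj A) hd
    refine Set.Finite.of_finite_image (f := bcPts g A) ((Set.finite_coe_iff.1 this).subset ?_)
      (bcPts_bijective g A).1.injOn
    rintro _ ⟨x, hx, rfl⟩
    show bcPts g A x ∈ AbDual.torsPts _ d _
    obtain ⟨z, hz⟩ := hdZ x hx
    rw [AbDual.mem_torsPts, ← map_pow, ← hz, eq_one_of_subsingleton z, MonObj.one_comp, map_one]
  obtain ⟨m, s, hm, hs, h1, h2⟩ := exists_isogeny_inverse φ.toHom
  have e1 : φ * EndAV.End.of s = (m : EndAV.End A) := EndAV.End.ext (by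
    rw [EndAV.End.toHom_mul, EndAV.End.toHom_of, EndAV.End.toHom_natCast]; exact h2)
  have e2 : EndAV.End.of s * φ = (m : EndAV.End A) := EndAV.End.ext (by
    rw [EndAV.End.toHom_mul, EndAV.End.toHom_of, EndAV.End.toHom_natCast]; exact h1)
  have hc' : (c : ℚ) ≠ 0 := Int.cast_ne_zero.2 hc
  have hm' : (m : ℚ) ≠ 0 := Nat.cast_ne_zero.2 hm.ne'
  refine isUnit_iff_exists.2 ⟨((c : ℚ) * (m : ℚ)⁻¹) • EndAV.toEnd0 (EndAV.End.of s), ?_, ?_⟩
  · rw [smul_mul_smul_comm, ← map_mul, e1, map_natCast]
    rw [show ((m : ℕ) : EndAV.End0 A) = m • (1 : EndAV.End0 A) from (nsmul_one _).symm,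
      ← Nat.cast_smul_eq_nsmul ℚ m (1 : EndAV.End0 A), smul_smul,
      show (c : ℚ)⁻¹ * ((c : ℚ) * (m : ℚ)⁻¹) * (m : ℚ) = 1 by field_simp, one_smul]
  · rw [smul_mul_smul_comm, ← map_mul, e2, map_natCast]
    rw [show ((m : ℕ) : EndAV.End0 A) = m • (1 : EndAV.End0 A) from (nsmul_one _).symm,
      ← Nat.cast_smul_eq_nsmul ℚ m (1 : EndAV.End0 A), smul_smul,
      show (c : ℚ) * (m : ℚ)⁻¹ * (c : ℚ)⁻¹ * (m : ℚ) = 1 by field_simp, one_smul]

end Groth.Agent.AbCubeLib
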