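import Groth.Agent.AmpleLib.Power
import Groth.Agent.PicLib.PullbackGen
import Groth.Agent.PicLib.PicMonoid

/-!
# Pullback of invertible modules along a power endomorphism
-/

set_option autoImplicit false
set_option backward.isDefEq.respectTransparency.types false

universe u

open CategoryTheory CategoryTheory.Limits AlgebraicGeometry Opposite TopologicalSpace
open Groth.Agent.Coherent Groth.Agent.PicLib Groth.Agent.AmpleLib

namespace Groth.Agent.AbCubeLib

variable {X : Scheme.{u}}

/-- An endomorphism which is the identity on points and the `q`-th power on functions pulls `L` back to `L^q`. -/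
theorem pull_eq_pow_of_powerMap (σ : X ⟶ X) (q : ℕ) (hle : ∀ U : X.Opens, U ≤ σ ⁻¹ᵁ U)
    (happ : ∀ (U : X.Opens) (s : Γ(X, U)), (σ.appLE U U (hle U)).hom s = s ^ q) (a : PicM X) :
    PicM.pull σ a = a ^ q := by
  obtain ⟨L, hL, rfl⟩ := PicM.exists_eq_of a
  rw [PicM.pull_of, ← PicM.of_tensorPow hL, PicM.of_eq_iff]
  obtain ⟨W, g, hmem, hg⟩ := exists_cover hL
  have hW : iSup W = ⊤ := top_le_iff.1 fun y _ => Opens.mem_iSup.2 ⟨y, hmem y⟩
  let P := (Scheme.Modules.pullback σ).obj L
  let t : ∀ i, Γ(P, W i) := fun i => resM P (hle (W i)) (pullSec σ (g i))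
  obtain ⟨e, -⟩ := exists_iso_of_gens W hW (fun i => powSec (g i) q) (fun i => isGen_powSec (hg i) q) t
    (fun i => (isGen_pullSec σ (hg i) hL).restrict (hle (W i))) (by
      intro i j V hi hj c hc
      obtain ⟨d, hd⟩ : ∃ d : Γ(X, V), d • resM L hj (g j) = resM L hi (g i) := (hg j V hj).2 _
      have hc' : c = d ^ q := by
        rw [resM_powSec, resM_powSec, ← hd, powSec_smul] at hc
        have hj' := isGen_powSec ((hg j).restrict hj) q
        exact ((hj' V le_rfl).1 (a₁ := d ^ q) (a₂ := c) (by simpa only [resM_self] using hc)).symm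
      subst hc'
      have key : ∀ (U : X.Opens) (h : V ≤ U) (s : Γ(L, U)),
          resM P h (resM P (hle U) (pullSec σ s)) = resM P (hle V) (pullSec σ (resM L h s)) := fun U h s => by
        rw [← resM_pullSec σ h s, resM_resM, resM_resM]
      show resM P hi (resM P (hle (W i)) (pullSec σ (g i))) = d ^ q • resM P hj (resM P (hle (W j)) (pullSec σ (g j)))
      rw [key _ hi, key _ hj, ← hd, pullSec_smul, resM_smul]
      refine congrArg (· • _) ?_
      exact happ V d)
  exact ⟨e.symm⟩

end Groth.Agent.AbCubeLib
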