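import Groth.Agent.AbCubeLib.KernelOrder
import Groth.Agent.AbVarLib.PerfectReduced
import Groth.Agent.WeilLib.ZetaFormula
import Groth.Agent.AbCubeLib.FrobPull

/-!
# Points over finite fields as fixed points of powers of the Frobenius
-/

set_option autoImplicit false
set_option backward.isDefEq.respectTransparency.types false

universe u

open CategoryTheory CategoryTheory.Limits MonoidalCategory CartesianMonoidalCategory AlgebraicGeometry MonObj
open scoped TensorProduct

namespace Groth.Agent.AbCubeLib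

/-- The points of a reduced finite algebra over a perfect field in an algebraically closed field. -/
theorem natCard_algHom_of_isReduced {k Ω O : Type u} [Field k] [PerfectField k] [Field Ω] [Algebra k Ω] [IsAlgClosed Ω]
    [CommRing O] [Algebra k O] [Module.Finite k O] [_root_.IsReduced O] :
    Nat.card (O →ₐ[k] Ω) = Module.finrank k O := by
  haveI : _root_.IsReduced (Ω ⊗[k] O) := AbVarLib.isReduced_field_tensor_perfect k Ω O
  rw [Nat.card_congr (Algebra.TensorProduct.liftEquivRight k Ω O Ω), natCard_algHom_eq_of_isReduced,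
    Module.finrank_baseChange]

variable {k : Type u} [Field k] {X Y : Over (Spec (CommRingCat.of k))} [GrpObj Y]

/-- The geometric points of a reduced kernel are as many as the degree. -/
theorem natCard_kerPts_eq_finrank [PerfectField k] (f : X ⟶ Y) [IsFinite f.left] [Flat f.left]
    [AlgebraicGeometry.IsReduced (pullback f.left (1 : 𝟙_ (Over (Spec (CommRingCat.of k))) ⟶ Y).left)]
    (Ω : Type u) [Field Ω] [Algebra k Ω] [IsAlgClosed Ω] :
    Nat.card {a : Over.mk (Spec.map (CommRingCat.ofHom (algebraMap k Ω))) ⟶ X // a ≫ f = 1} =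
      Scheme.Hom.finrank f.left ((1 : 𝟙_ (Over (Spec (CommRingCat.of k))) ⟶ Y).left (IsLocalRing.closedPoint k)) := by
  rw [Nat.card_congr (kerPtsEquiv f _)]
  refine Eq.trans ?_ (Scheme.Hom.finrank_pullback_snd f.left
    (1 : 𝟙_ (Over (Spec (CommRingCat.of k))) ⟶ Y).left (IsLocalRing.closedPoint k))
  let π : pullback f.left (1 : 𝟙_ (Over (Spec (CommRingCat.of k))) ⟶ Y).left ⟶ Spec (CommRingCat.of k) :=
    pullback.snd f.left (1 : 𝟙_ (Over (Spec (CommRingCat.of k))) ⟶ Y).left
  haveI : IsFinite π := MorphismProperty.pullback_snd (P := @IsFinite) _ _ inferInstance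
  haveI : Flat π := MorphismProperty.pullback_snd (P := @Flat) _ _ inferInstance
  obtain ⟨O, _, _, _, e, he⟩ := exists_algebra π
  haveI : AlgebraicGeometry.IsReduced (Spec (CommRingCat.of O)) := isReduced_of_isOpenImmersion e.hom
  haveI : _root_.IsReduced O := (affine_isReduced_iff (CommRingCat.of O)).1 inferInstance
  refine (Nat.card_congr (algHomEquivPts (C := Ω) e he).symm).trans ?_
  rw [natCard_algHom_of_isReduced]
  exact (finrank_eq_of_algebra e he (IsLocalRing.closedPoint k)).symm

omit [GrpObj Y] in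
/-- A scheme with a closed immersion into another, fixed by a power map, is reduced. -/
theorem isReduced_of_fixed {N S : Scheme.{u}} (i : N ⟶ S) [IsClosedImmersion i] (σ : S ⟶ S) {Q : ℕ} (hQ : 1 < Q)
    (hle : ∀ U : S.Opens, U ≤ σ ⁻¹ᵁ U) (happ : ∀ (U : S.Opens) (s : Γ(S, U)), (σ.appLE U U (hle U)).hom s = s ^ Q)
    (hfix : i ≫ σ = i) : AlgebraicGeometry.IsReduced N := by
  have hcov : ∀ x : N, ∃ U : S.Opens, IsAffineOpen U ∧ i x ∈ U := fun x => by
    obtain ⟨U, hU, hx, -⟩ := exists_isAffineOpen_mem_and_subset (X := S) (U := ⊤) (x := i x) trivial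
    exact ⟨U, hU, hx⟩
  choose U hU hxU using hcov
  suffices h : ∀ x, _root_.IsReduced (N.presheaf.stalk x) by
    haveI := h
    exact isReduced_of_isReduced_stalk N
  refine fun x => ⟨fun a ha => ?_⟩
  have hW : IsAffineOpen (i ⁻¹ᵁ U x) := (hU x).preimage i
  have hred : _root_.IsReduced Γ(N, i ⁻¹ᵁ U x) := ⟨fun b ⟨m, hm⟩ => by
    obtain ⟨s, rfl⟩ := Scheme.Hom.app_surjective i (U x) (hU x) b
    have hb : i.app (U x) s ^ Q = i.app (U x) s := by
      rw [← map_pow, ← happ (U x) s]
      have h1 := Scheme.Hom.appLE_comp_appLE i σ (U x) (U x) (i ⁻¹ᵁ U x) (hle (U x)) le_rfl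
      have h2 : σ.appLE (U x) (U x) (hle (U x)) ≫ i.app (U x) = i.app (U x) := by
        rw [Scheme.Hom.app_eq_appLE]
        refine h1.trans ?_
        simp only [hfix]
      exact ConcreteCategory.congr_hom h2 s
    have hpow : ∀ t : ℕ, i.app (U x) s ^ Q ^ t = i.app (U x) s := by
      intro t
      induction t with
      | zero => rw [pow_zero, pow_one]
      | succ t ih => rw [pow_succ, pow_mul, ih, hb]
    rw [← hpow m]
    exact pow_eq_zero_of_le (Nat.lt_pow_self hQ).le hm⟩
  letI := TopCat.Presheaf.algebra_section_stalk N.presheaf (⟨x, hxU x⟩ : ↥(i ⁻¹ᵁ U x))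
  haveI := hW.isLocalization_stalk ⟨x, hxU x⟩
  haveI : _root_.IsReduced (N.presheaf.stalk x) :=
    isReduced_localizationPreserves (hW.primeIdealOf ⟨x, hxU x⟩).asIdeal.primeCompl _ hred
  exact ha.eq_zero

omit [GrpObj Y] in
/-- Fixed points of the `Q`-th power map are the points in the field with `Q` elements. -/
theorem natCard_fixedPts [Finite k] (σ : X.left ⟶ X.left) (hle : ∀ U : X.left.Opens, U ≤ σ ⁻¹ᵁ U) {n : ℕ}
    (happ : ∀ (U : X.left.Opens) (s : Γ(X.left, U)), (σ.appLE U U (hle U)).hom s = s ^ (Nat.card k ^ n))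
    (k' : Type u) [Field k'] [Algebra k k'] [Finite k'] (hn : Module.finrank k k' = n)
    (Ω : Type u) [Field Ω] [Algebra k Ω] [IsAlgClosed Ω] :
    Nat.card (Over.mk (Spec.map (CommRingCat.ofHom (algebraMap k k'))) ⟶ X) =
      Nat.card {a : Over.mk (Spec.map (CommRingCat.ofHom (algebraMap k Ω))) ⟶ X // a.left ≫ σ = a.left} := by
  classical
  haveI : Module.Finite k k' := Module.Finite.of_finite
  let emb : k' →ₐ[k] Ω := IsAlgClosed.lift
  have hcard : Nat.card k' = Nat.card k ^ n := by rw [← hn]; exact Module.natCard_eq_pow_finrank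
  obtain ⟨φ, hφ⟩ := WeilLib.hasPower (k₀ := k) (k := Ω) n Ω (RingHom.id Ω)
  have hfixk : ∀ y : k', φ (emb y) = emb y := fun y => by
    rw [hφ, ← map_pow, ← hcard]
    haveI := Fintype.ofFinite k'
    rw [Nat.card_eq_fintype_card, FiniteField.pow_card]
  have hrange : ∀ z : Ω, φ z = z → ∃ y : k', emb y = z := by
    intro z hz
    rw [hφ, ← hcard] at hz
    haveI := Fintype.ofFinite k'
    rw [Nat.card_eq_fintype_card] at hz
    let F : Polynomial Ω := Polynomial.X ^ Fintype.card k' - Polynomial.X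
    have hF : F ≠ 0 := FiniteField.X_pow_card_sub_X_ne_zero Ω Fintype.one_lt_card
    have hsub : Finset.univ.image emb ⊆ F.roots.toFinset := fun w hw => by
      obtain ⟨y, -, rfl⟩ := Finset.mem_image.1 hw
      rw [Multiset.mem_toFinset, Polynomial.mem_roots hF]
      simp [F, ← map_pow, FiniteField.pow_card]
    have heq := Finset.eq_of_subset_of_card_le hsub (by
      refine le_trans ?_ (Finset.card_image_of_injective _ (RingHom.injective emb.toRingHom)).ge
      rw [Finset.card_univ]
      refine (Multiset.toFinset_card_le _).trans ((Polynomial.card_roots' F).trans ?_)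
      show (Polynomial.X ^ Fintype.card k' - Polynomial.X : Polynomial Ω).natDegree ≤ _
      rw [FiniteField.X_pow_card_sub_X_natDegree_eq Ω Fintype.one_lt_card])
    have hz' : z ∈ Finset.univ.image emb := by
      rw [heq, Multiset.mem_toFinset, Polynomial.mem_roots hF]
      simp [F, hz]
    obtain ⟨y, -, hy⟩ := Finset.mem_image.1 hz'
    exact ⟨y, hy⟩
  have hemb : Spec.map (CommRingCat.ofHom emb.toRingHom) ≫ Spec.map (CommRingCat.ofHom (algebraMap k k')) =
      Spec.map (CommRingCat.ofHom (algebraMap k Ω)) := by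
    rw [← Spec.map_comp, ← CommRingCat.ofHom_comp]
    exact congrArg (fun g => Spec.map (CommRingCat.ofHom g)) emb.comp_algebraMap
  have hfix : ∀ g : Spec (CommRingCat.of Ω) ⟶ X.left, g ≫ σ = Spec.map (CommRingCat.ofHom φ) ≫ g := fun g =>
    WeilLib.comp_FX_of_isLocalRing σ hle (Nat.card k ^ n) happ φ hφ g
  have hemb2 : Spec.map (CommRingCat.ofHom φ) ≫ Spec.map (CommRingCat.ofHom emb.toRingHom) =
      Spec.map (CommRingCat.ofHom emb.toRingHom) := by
    rw [← Spec.map_comp, ← CommRingCat.ofHom_comp]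
    exact congrArg (fun g => Spec.map (CommRingCat.ofHom g)) (RingHom.ext hfixk)
  let toP : (Over.mk (Spec.map (CommRingCat.ofHom (algebraMap k k'))) ⟶ X) →
      {a : Over.mk (Spec.map (CommRingCat.ofHom (algebraMap k Ω))) ⟶ X // a.left ≫ σ = a.left} := fun b =>
    ⟨Over.homMk (Spec.map (CommRingCat.ofHom emb.toRingHom) ≫ b.left) (by rw [Category.assoc, Over.w b]; exact hemb), by
      show (Spec.map (CommRingCat.ofHom emb.toRingHom) ≫ b.left) ≫ σ = _
      rw [hfix, ← Category.assoc, hemb2]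
      rfl⟩
  refine Nat.card_eq_of_bijective toP ⟨fun b₁ b₂ h => ?_, fun a => ?_⟩
  · have h1 : Spec.map (CommRingCat.ofHom emb.toRingHom) ≫ b₁.left = Spec.map (CommRingCat.ofHom emb.toRingHom) ≫ b₂.left :=
      congrArg (fun a => a.1.left) h
    refine Over.OverMorphism.ext ?_
    haveI : Flat (Spec.map (CommRingCat.ofHom emb.toRingHom)) := by
      rw [Flat.SpecMap_iff, CommRingCat.hom_ofHom]
      letI := emb.toRingHom.toAlgebra
      exact RingHom.flat_algebraMap_iff.2 inferInstance
    haveI : Surjective (Spec.map (CommRingCat.ofHom emb.toRingHom)) :=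
      ⟨fun x => ⟨IsLocalRing.closedPoint Ω, Subsingleton.elim _ _⟩⟩
    haveI : Epi (Spec.map (CommRingCat.ofHom emb.toRingHom)) :=
      Flat.epi_of_flat_of_surjective (Spec.map (CommRingCat.ofHom emb.toRingHom))
    exact (cancel_epi (Spec.map (CommRingCat.ofHom emb.toRingHom))).1 h1
  · obtain ⟨x, ψ, hψ⟩ : ∃ (x : X.left) (ψ : X.left.residueField x →+* Ω),
        Spec.map (CommRingCat.ofHom ψ) ≫ X.left.fromSpecResidueField x = a.1.left :=
      ⟨_, (X.left.descResidueField (Scheme.stalkClosedPointTo a.1.left)).hom,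
        Scheme.descResidueField_stalkClosedPointTo_fromSpecResidueField Ω X.left a.1.left⟩
    have hψfix : ∀ c, φ (ψ c) = ψ c := fun c => by
      have h : CommRingCat.ofHom ψ ≫ CommRingCat.ofHom φ = CommRingCat.ofHom ψ := by
        refine WeilLib.residue_hom_ext ?_
        rw [Spec.map_comp, Category.assoc, hψ]
        exact (hfix a.1.left).symm.trans a.2
      exact RingHom.congr_fun (congrArg CommRingCat.Hom.hom h) c
    choose ψ' hψ' using fun c => hrange (ψ c) (hψfix c)
    have hinj := emb.toRingHom.injective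
    let ψr : X.left.residueField x →+* k' :=
      { toFun := ψ'
        map_one' := hinj (by show emb (ψ' 1) = emb 1; rw [hψ', map_one, map_one])
        map_mul' := fun c d => hinj (by show emb (ψ' (c * d)) = emb (ψ' c * ψ' d); rw [map_mul, hψ', hψ', hψ', map_mul])
        map_zero' := hinj (by show emb (ψ' 0) = emb 0; rw [hψ', map_zero, map_zero])
        map_add' := fun c d => hinj (by show emb (ψ' (c + d)) = emb (ψ' c + ψ' d); rw [map_add, hψ', hψ', hψ', map_add]) }
    have hcomp : Spec.map (CommRingCat.ofHom emb.toRingHom) ≫ Spec.map (CommRingCat.ofHom ψr) =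
        Spec.map (CommRingCat.ofHom ψ) := by
      rw [← Spec.map_comp, ← CommRingCat.ofHom_comp]
      exact congrArg (fun g => Spec.map (CommRingCat.ofHom g)) (RingHom.ext hψ')
    refine ⟨Over.homMk (Spec.map (CommRingCat.ofHom ψr) ≫ X.left.fromSpecResidueField x) ?_,
      Subtype.ext (Over.OverMorphism.ext ?_)⟩
    · obtain ⟨g, hg⟩ := Spec.map_surjective ((Spec.map (CommRingCat.ofHom ψr) ≫ X.left.fromSpecResidueField x) ≫ X.hom)
      show _ = Spec.map (CommRingCat.ofHom (algebraMap k k'))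
      rw [← hg]
      refine congrArg Spec.map ?_
      have h : g ≫ CommRingCat.ofHom emb.toRingHom = CommRingCat.ofHom (algebraMap k Ω) := by
        apply Spec.map_injective
        rw [Spec.map_comp, hg, ← Category.assoc, ← Category.assoc, hcomp, hψ]
        exact Over.w a.1
      refine CommRingCat.hom_ext (RingHom.ext fun c => hinj ?_)
      exact (RingHom.congr_fun (congrArg CommRingCat.Hom.hom h) c).trans (emb.commutes c).symm
    · show Spec.map (CommRingCat.ofHom emb.toRingHom) ≫ Spec.map (CommRingCat.ofHom ψr) ≫ X.left.fromSpecResidueField x = _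
      rw [← Category.assoc, hcomp, hψ]

/-- Composites of power maps. -/
theorem appLE_comp_powerMap {S : Scheme.{u}} (σ τ : S ⟶ S) {Q R : ℕ} (hσ : ∀ U : S.Opens, U ≤ σ ⁻¹ᵁ U)
    (hτ : ∀ U : S.Opens, U ≤ τ ⁻¹ᵁ U) (ha : ∀ (U : S.Opens) (s : Γ(S, U)), (σ.appLE U U (hσ U)).hom s = s ^ Q)
    (hb : ∀ (U : S.Opens) (s : Γ(S, U)), (τ.appLE U U (hτ U)).hom s = s ^ R) :
    ∃ h : ∀ U : S.Opens, U ≤ (σ ≫ τ) ⁻¹ᵁ U,
      ∀ (U : S.Opens) (s : Γ(S, U)), ((σ ≫ τ).appLE U U (h U)).hom s = s ^ (Q * R) := by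
  have h : ∀ U : S.Opens, U ≤ (σ ≫ τ) ⁻¹ᵁ U := fun U x hx => hτ U (hσ U hx)
  refine ⟨h, fun U s => ?_⟩
  have h1 : τ.appLE U U (hτ U) ≫ σ.appLE U U (hσ U) = (σ ≫ τ).appLE U U (h U) :=
    Scheme.Hom.appLE_comp_appLE σ τ U U U (hτ U) (hσ U)
  rw [← h1, CommRingCat.hom_comp, RingHom.comp_apply, hb, ha, ← pow_mul, _root_.mul_comm]

end Groth.Agent.AbCubeLib
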