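import Groth.Prelude.Def_W4c3convisocdirimgFrobIter
import Groth.Agent.AbCubeLib.FrobPoints

/-!
# The Frobenius endomorphism of a group scheme over a finite field
-/

set_option autoImplicit false
set_option backward.isDefEq.respectTransparency.types false

universe u

open CategoryTheory CategoryTheory.Limits MonoidalCategory CartesianMonoidalCategory AlgebraicGeometry MonObj

namespace Groth.Agent.AbCubeLib

theorem frobIter_powerMap (X : Scheme.{u}) (p : ℕ) [Fact p.Prime] [FrobSch.IsCharP X p] (n : ℕ) :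
    ∃ h : ∀ U : X.Opens, U ≤ FrobSch.frobIter X p n ⁻¹ᵁ U,
      ∀ (U : X.Opens) (s : Γ(X, U)), ((FrobSch.frobIter X p n).appLE U U (h U)).hom s = s ^ (p ^ n) := by
  induction n with
  | zero =>
    refine ⟨fun U => le_rfl, fun U s => ?_⟩
    rw [pow_zero, pow_one]
    show (X.presheaf.map _).hom s = s
    exact ConcreteCategory.congr_hom (X.presheaf.map_id (Opposite.op U)) s
  | succ n ih =>
    obtain ⟨h, hh⟩ := ih
    have h1 : ∀ (U : X.Opens) (s : Γ(X, U)), ((FrobSch.frob X p).appLE U U le_rfl).hom s = s ^ p := fun U s => by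
      show (X.presheaf.map _).hom ((FrobSch.frob X p).app U s) = s ^ p
      rw [FrobSch.frob_app]
      exact ConcreteCategory.congr_hom (X.presheaf.map_id (Opposite.op U)) (s ^ p)
    obtain ⟨h', hh'⟩ := appLE_comp_powerMap (FrobSch.frob X p) (FrobSch.frobIter X p n) (fun _ => le_rfl) h h1 hh
    exact ⟨h', fun U s => (hh' U s).trans (by rw [pow_succ'])⟩

theorem frobIter_comp {X Y : Scheme.{u}} (p : ℕ) [Fact p.Prime] [FrobSch.IsCharP X p] [FrobSch.IsCharP Y p]
    (f : X ⟶ Y) (n : ℕ) : FrobSch.frobIter X p n ≫ f = f ≫ FrobSch.frobIter Y p n := by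
  induction n with
  | zero => rw [FrobSch.frobIter_zero, FrobSch.frobIter_zero, Category.id_comp, Category.comp_id]
  | succ n ih =>
    rw [FrobSch.frobIter_succ, FrobSch.frobIter_succ, Category.assoc, ih, ← Category.assoc, FrobSch.frob_comp,
      Category.assoc]

theorem appTop_apply_of_powerMap {X : Scheme.{u}} (σ : X ⟶ X) {Q : ℕ} (hle : ∀ U : X.Opens, U ≤ σ ⁻¹ᵁ U)
    (happ : ∀ (U : X.Opens) (s : Γ(X, U)), (σ.appLE U U (hle U)).hom s = s ^ Q) (s : Γ(X, ⊤)) :
    σ.appTop s = s ^ Q := by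
  rw [← happ ⊤ s, Scheme.Hom.appTop, Scheme.Hom.app_eq_appLE]
  rfl

/-- Over a finite field with `q` elements, every group object has an endomorphism which is the identity on points
and the `q`-th power map on sections. -/
theorem exists_frobenius_end {K : Type u} [Field K] [Finite K] (A : Over (Spec (CommRingCat.of K))) [GrpObj A] :
    ∃ (π : A ⟶ A) (_ : IsMonHom π) (hle : ∀ U : A.left.Opens, U ≤ π.left ⁻¹ᵁ U),
      ∀ (U : A.left.Opens) (s : Γ(A.left, U)), (π.left.appLE U U (hle U)).hom s = s ^ Nat.card K := by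
  cases nonempty_fintype K
  obtain ⟨p, hp, m, hpp, hcard⟩ := FiniteField.card' K
  haveI : Fact p.Prime := ⟨hpp⟩
  have hq : Nat.card K = p ^ (m : ℕ) := by rw [Nat.card_eq_fintype_card, hcard]
  haveI hC : FrobSch.IsCharP (Spec (CommRingCat.of K)) p := FrobSch.isCharP_Spec K p
  have hB : ∀ B : Over (Spec (CommRingCat.of K)), FrobSch.IsCharP B.left p := fun B => FrobSch.IsCharP.of_hom B.hom p
  have hbase : FrobSch.frobIter (Spec (CommRingCat.of K)) p m = 𝟙 _ := by
    obtain ⟨h, hh⟩ := frobIter_powerMap (Spec (CommRingCat.of K)) p m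
    refine ext_of_isAffine (CommRingCat.hom_ext (RingHom.ext fun s => ?_))
    refine (appTop_apply_of_powerMap _ h hh s).trans ?_
    show s ^ (p ^ (m : ℕ)) = s
    apply (Scheme.ΓSpecIso (CommRingCat.of K)).commRingCatIsoToRingEquiv.injective
    rw [map_pow, ← hcard]
    exact FiniteField.pow_card _
  let F : ∀ B : Over (Spec (CommRingCat.of K)), B ⟶ B := fun B =>
    Over.homMk (haveI := hB B; FrobSch.frobIter B.left p m)
      (haveI := hB B; (frobIter_comp p B.hom m).trans (by rw [hbase, Category.comp_id]))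
  have hnat : ∀ {B C : Over (Spec (CommRingCat.of K))} (f : B ⟶ C), F B ≫ f = f ≫ F C := fun {B C} f =>
    Over.OverMorphism.ext (haveI := hB B; haveI := hB C; frobIter_comp p f.left m)
  have hAA : F (A ⊗ A) = F A ⊗ₘ F A := by
    refine CartesianMonoidalCategory.hom_ext _ _ ?_ ?_
    · rw [tensorHom_fst]; exact hnat _
    · rw [tensorHom_snd]; exact hnat _
  haveI := hB A
  obtain ⟨h, hh⟩ := frobIter_powerMap A.left p m
  refine ⟨F A, ⟨?_, ?_⟩, h, fun U s => by rw [hq]; exact hh U s⟩
  · rw [← hnat, toUnit_unique (F (𝟙_ _)) (𝟙 _), Category.id_comp]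
  · rw [← hnat, hAA]

end Groth.Agent.AbCubeLib
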