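import Groth.Agent.AbCubeLib.SubvarietyDescend

/-!
# Kernels, isogeny complements and sections up to isogeny
-/

set_option autoImplicit false
set_option backward.isDefEq.respectTransparency.types false

universe u

open CategoryTheory CategoryTheory.Limits MonoidalCategory CartesianMonoidalCategory AlgebraicGeometry MonObj
  TopologicalSpace
open Groth.Agent.PicLib Groth.Agent.Coherent Groth.Agent.CubeLib Groth.Agent.AmpleLib

namespace Groth.Agent.AbCubeLib

variable {K : Type u} [Field K] {A A' : Over (Spec (CommRingCat.of K))} [GrpObj A] [IsProper A.hom]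
  [GeometricallyIntegral A.hom] [GrpObj A'] [IsProper A'.hom] [GeometricallyIntegral A'.hom]

local notation "gL" => Spec.map (CommRingCat.ofHom (algebraMap K (AlgebraicClosure K)))

noncomputable local instance (X : Over (Spec (CommRingCat.of K))) [GrpObj X] : GrpObj ((Over.pullback gL).obj X) :=
  Functor.grpObjObj

local instance (X : Over (Spec (CommRingCat.of K))) [IsProper X.hom] : IsProper ((Over.pullback gL).obj X).hom :=
  inferInstanceAs (IsProper (pullback.snd X.hom gL))

local instance (X : Over (Spec (CommRingCat.of K))) [GeometricallyIntegral X.hom] :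
    GeometricallyIntegral ((Over.pullback gL).obj X).hom :=
  inferInstanceAs (GeometricallyIntegral (pullback.snd X.hom gL))

omit [IsProper A.hom] [GeometricallyIntegral A.hom] [IsProper A'.hom] [GeometricallyIntegral A'.hom] in
theorem isMonHom_gL_map (φ : A ⟶ A') [IsMonHom φ] : IsMonHom ((Over.pullback gL).map φ) :=
  inferInstanceAs (IsMonHom ((Over.pullback gL).map φ))

/-- The connected component of a kernel: an abelian subvariety killed by the homomorphism, containing a power of
every geometric kernel point. -/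
theorem exists_kernel_subvariety (φ : A ⟶ A') [IsMonHom φ] :
    ∃ (Z : Over (Spec (CommRingCat.of K))) (_ : GrpObj Z) (j : Z ⟶ A), IsProper Z.hom ∧ GeometricallyIntegral Z.hom ∧
      IsMonHom j ∧ IsClosedImmersion j.left ∧ j ≫ φ = 1 ∧
      ∃ d : ℕ, 0 < d ∧ ∀ x : extPt (AlgebraicClosure K) ⟶ A, x ≫ φ = 1 →
        ∃ z : extPt (AlgebraicClosure K) ⟶ Z, z ≫ j = x ^ d := by
  classical
  let L := AlgebraicClosure K
  haveI : IsCommMonObj A := isCommMonObj_of_isProper_of_geometricallyIntegral A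
  haveI : IsCommMonObj ((Over.pullback gL).obj A) := isCommMonObj_of_isProper_of_geometricallyIntegral _
  let φL := (Over.pullback gL).map φ
  haveI : IsMonHom φL := isMonHom_gL_map φ
  let H : Subgroup (𝟙_ (Over (Spec (CommRingCat.of L))) ⟶ (Over.pullback gL).obj A) := (postHom φL _).ker
  obtain ⟨C, _, i', H₁, hiG, hci, hgi, hp, hH₁, hind, hrg⟩ := exists_subvariety_of_subgroup H
  haveI := Over.mono_of_mono_left i'
  set d := (H₁.subgroupOf H).index with hd
  have hCker : ∀ y : 𝟙_ (Over (Spec (CommRingCat.of L))) ⟶ C, (y ≫ i') ≫ φL = 1 := by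
    intro y
    refine point_ext (show ptOf ((y ≫ i') ≫ φL) =
      ptOf (1 : 𝟙_ (Over (Spec (CommRingCat.of L))) ⟶ (Over.pullback gL).obj A') from ?_)
    have h1 : ptOf (y ≫ i') ∈ φL.left ⁻¹' {ptOf (1 : 𝟙_ (Over (Spec (CommRingCat.of L))) ⟶ (Over.pullback gL).obj A')} := by
      refine (hrg.le.trans (closure_minimal ?_ ((isClosed_point _).preimage φL.left.continuous)))
        (by rw [ptOf_comp]; exact ⟨_, rfl⟩)
      rintro _ ⟨x, hx, rfl⟩
      show φL.left (ptOf x) = _
      rw [← ptOf_comp, show x ≫ φL = 1 from hH₁ hx]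
    rw [ptOf_comp]
    exact h1
  have hlift : ∀ x : 𝟙_ (Over (Spec (CommRingCat.of L))) ⟶ (Over.pullback gL).obj A, x ≫ φL = 1 → ∃ z, z ≫ i' = x ^ d := by
    intro x hx
    obtain ⟨c, hc⟩ := hrg.ge (subset_closure ⟨_, (H₁.subgroupOf H).pow_index_mem ⟨x, hx⟩, rfl⟩)
    have hcc : IsClosed ({c} : Set C.left) := by
      rw [← Set.preimage_image_eq {c} i'.left.isClosedEmbedding.injective, Set.image_singleton, hc]
      exact (isClosed_point (x ^ d)).preimage i'.left.continuous
    obtain ⟨z, rfl⟩ := exists_ptOf hcc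
    exact ⟨z, point_ext (show ptOf (z ≫ i') = ptOf (x ^ d) by rw [ptOf_comp]; exact hc)⟩
  obtain ⟨Z, hZ, j, hZp, hZg, hjG, hjc, hr1, hr2⟩ := exists_descend_subvariety i' (fun σ => ⟨d,
    Nat.pos_of_ne_zero hind, fun y => by
      refine hlift _ ?_
      rw [actPt_map, hCker, map_one]⟩)
  have hjpt : ∀ z : extPt L ⟶ Z, z ≫ j ≫ φ = 1 := by
    intro z
    refine (bcPts_bijective gL A').1 ?_
    rw [map_one, ← Category.assoc, bcPts_comp]
    have hm : ptOf (bcPts gL A (z ≫ j)) ∈ Set.range i'.left := by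
      rw [hr1, Set.mem_preimage]
      show (pullback.fst A.hom gL) ((bcPts gL A (z ≫ j)).left _) ∈ _
      rw [← Scheme.Hom.comp_apply]
      refine ⟨z.left (IsLocalRing.closedPoint L), ?_⟩
      rw [← Scheme.Hom.comp_apply, ← Over.comp_left]
      exact congrArg (fun f => f (IsLocalRing.closedPoint L)) (tautPt_map_left gL (z ≫ j)).symm
    obtain ⟨c, hc⟩ := hm
    have hcc : IsClosed ({c} : Set C.left) := by
      rw [← Set.preimage_image_eq {c} i'.left.isClosedEmbedding.injective, Set.image_singleton, hc]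
      exact (isClosed_point _).preimage i'.left.continuous
    obtain ⟨y, rfl⟩ := exists_ptOf hcc
    rw [show bcPts gL A (z ≫ j) = y ≫ i' from point_ext (show _ = ptOf (y ≫ i') by rw [ptOf_comp]; exact hc.symm)]
    exact hCker y
  refine ⟨Z, hZ, j, hZp, hZg, hjG, hjc, ?_, d, Nat.pos_of_ne_zero hind, fun x hx => ?_⟩
  · refine eq_of_map_eq (L := L) (hom_ext_pts fun a => ?_)
    obtain ⟨z, rfl⟩ := (bcPts_bijective gL Z).2 a
    rw [← bcPts_comp, ← bcPts_comp, hjpt, MonObj.comp_one]
  · obtain ⟨y, hy⟩ := hlift (bcPts gL A x) (by rw [← bcPts_comp, hx, map_one])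
    have hm : (pullback.fst A.hom gL) (ptOf (y ≫ i')) ∈ Set.range j.left := by
      rw [hr2, ptOf_comp]; exact ⟨_, ⟨_, rfl⟩, rfl⟩
    have e : (pullback.fst A.hom gL) (ptOf (y ≫ i')) = (x ^ d).left (IsLocalRing.closedPoint L) := by
      rw [hy, ← map_pow]
      show (pullback.fst A.hom gL) ((bcPts gL A (x ^ d)).left _) = _
      rw [← Scheme.Hom.comp_apply]
      exact congrArg (fun f => f (IsLocalRing.closedPoint L)) (tautPt_map_left gL (x ^ d))
    haveI : IsReduced (extPt (K := K) L).left := inferInstanceAs (IsReduced (Spec (CommRingCat.of L)))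
    obtain ⟨w, hw⟩ := RedSepLib.exists_lift_of_range_subset (x ^ d).left j.left (by
      rintro _ ⟨t, rfl⟩
      rw [Subsingleton.elim (α := PrimeSpectrum L) t (IsLocalRing.closedPoint L), ← e]
      exact hm)
    exact ⟨Over.homMk w (by rw [← Over.w j, reassoc_of% hw]; exact Over.w _), Over.OverMorphism.ext hw⟩

/-- A homomorphism with finitely many geometric kernel points is finite. -/
theorem isFinite_of_finite_geom_ker (φ : A ⟶ A') [IsMonHom φ]
    (h : Set.Finite {x : extPt (AlgebraicClosure K) ⟶ A | x ≫ φ = 1}) : IsFinite φ.left := by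
  let L := AlgebraicClosure K
  haveI : IsCommMonObj A := isCommMonObj_of_isProper_of_geometricallyIntegral A
  haveI : IsCommMonObj ((Over.pullback gL).obj A) := isCommMonObj_of_isProper_of_geometricallyIntegral _
  let φL := (Over.pullback gL).map φ
  haveI : IsMonHom φL := isMonHom_gL_map φ
  have hfin : IsFinite φL.left := by
    refine isFinite_of_finite_ker φL ((h.image (bcPts gL A)).subset fun a (ha : a ≫ φL = 1) => ?_)
    obtain ⟨x, rfl⟩ := (bcPts_bijective gL A).2 a
    exact ⟨x, (bcPts_bijective gL A').1 (by rw [bcPts_comp, ha, map_one]), rfl⟩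
  haveI : Surjective gL := ⟨fun x => ⟨IsLocalRing.closedPoint L, Subsingleton.elim (α := PrimeSpectrum K) _ _⟩⟩
  haveI := AbVarLib.isProper_left φ
  have hsq := AbVarLib.isPullback_map gL φ
  let e0 : A'.left := η[A'].left (IsLocalRing.closedPoint K)
  have hpre : (φ.left ⁻¹' {e0}).Finite := by
    let t : ((Over.pullback gL).obj A').left := ptOf (1 : 𝟙_ _ ⟶ (Over.pullback gL).obj A')
    have hsub : φ.left ⁻¹' {e0} ⊆ pullback.fst A.hom gL '' (φL.left ⁻¹' {t}) := by
      intro a ha
      have h1 : φ.left a = (pullback.fst A'.hom gL) t := by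
        rw [show φ.left a = e0 from ha]
        show e0 = (pullback.fst A'.hom gL) ((1 : 𝟙_ _ ⟶ (Over.pullback gL).obj A').left _)
        rw [← map_one (bcPts gL A'), ← Scheme.Hom.comp_apply]
        refine Eq.trans ?_ (congrArg (fun f => f (IsLocalRing.closedPoint L))
          (tautPt_map_left gL (1 : extPt (K := K) L ⟶ A'))).symm
        show e0 = (toUnit (extPt (K := K) L) ≫ η[A']).left (IsLocalRing.closedPoint L)
        rw [Over.comp_left, Scheme.Hom.comp_apply]
        exact congrArg _ (Subsingleton.elim (α := PrimeSpectrum K) _ _)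
      obtain ⟨v, hv1, hv2⟩ := Scheme.exists_preimage_of_isPullback hsq a t h1
      exact ⟨v, hv2, hv1⟩
    exact ((φL.left.finite_preimage_singleton t).image _).subset hsub
  haveI : LocallyQuasiFinite φ.left := AbVarLib.locallyQuasiFinite_of_finite_preimage φ e0
    ⟨η[A].left (IsLocalRing.closedPoint K), by rw [← Scheme.Hom.comp_apply, ← Over.comp_left, IsMonHom.one_hom]⟩ hpre
  exact IsFinite.of_isProper_of_locallyQuasiFinite _

/-- A finite surjective homomorphism of abelian varieties has an inverse up to a positive integer. -/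
theorem exists_isogeny_inverse (f : A ⟶ A') [IsMonHom f] [IsFinite f.left] [Surjective f.left] :
    ∃ (m : ℕ) (s : A' ⟶ A), 0 < m ∧ IsMonHom s ∧ f ≫ s = (𝟙 A) ^ m ∧ s ≫ f = (𝟙 A') ^ m := by
  haveI : IsCommMonObj A := isCommMonObj_of_isProper_of_geometricallyIntegral A
  haveI : IsCommMonObj A' := isCommMonObj_of_isProper_of_geometricallyIntegral A'
  haveI : Flat f.left := AbVarLib.flat_of_surjective f
  haveI : IsFinite (UnipStruct.kerObj f).hom := by
    have := MorphismProperty.of_isPullback (P := @IsFinite)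
      (IsPullback.map (Over.forget _) (UnipStruct.isKernel_kerι f)) ‹IsFinite f.left›
    simpa [Over.toUnit_left] using this
  obtain ⟨n, hn, hkill⟩ := exists_pow_eq_one_of_isFinite (UnipStruct.kerObj f)
  haveI : IsMonHom ((𝟙 A) ^ n) := isMonHom_npow (𝟙 _) n
  have hker : UnipStruct.kerι f ≫ (𝟙 A) ^ n = 1 := by
    rw [MonObj.comp_pow, Category.comp_id, ← Category.id_comp (UnipStruct.kerι f), ← MonObj.pow_comp, hkill,
      MonObj.one_comp]
  obtain ⟨τ, ⟨hτ, hστ⟩, -⟩ := AbVarLib.existsUnique_lift_of_kernel f (UnipStruct.kerι f)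
    (UnipStruct.isKernel_kerι f) ((𝟙 A) ^ n) hker
  refine ⟨n, τ, hn, hτ, hστ, ?_⟩
  haveI : Epi f := Over.epi_of_epi_left _
  rw [← cancel_epi f, ← Category.assoc, hστ, MonObj.pow_comp, Category.id_comp, MonObj.comp_pow, Category.comp_id]

/-- Every endomorphism is regular up to a positive integer. -/
theorem exists_regular (φ : A ⟶ A) [IsMonHom φ] :
    ∃ (m : ℕ) (ψ : A ⟶ A), 0 < m ∧ IsMonHom ψ ∧ φ ≫ ψ ≫ φ = φ ^ m := by
  let L := AlgebraicClosure K
  haveI : IsCommMonObj A := isCommMonObj_of_isProper_of_geometricallyIntegral A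
  obtain ⟨B, _, iB, qB, hBp, hBg, hiB, hiBc, hqB, hqBs, hfac, -⟩ := exists_image_subvariety φ
  haveI : IsCommMonObj B := isCommMonObj_of_isProper_of_geometricallyIntegral B
  obtain ⟨n, pB, hn, hpB, hip⟩ := exists_projection_descended iB
  obtain ⟨Z, _, j, hZp, hZg, hjG, hjc, hjq, d, hd, hdZ⟩ := exists_kernel_subvariety qB
  obtain ⟨C, _, jC, hCp, hCg, hjCG, hjCc, hσs, hσf⟩ := exists_complement_of_field j
  haveI : IsCommMonObj Z := isCommMonObj_of_isProper_of_geometricallyIntegral Z
  haveI : IsCommMonObj C := isCommMonObj_of_isProper_of_geometricallyIntegral C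
  let σ : Z ⊗ C ⟶ A := (fst Z C ≫ j) * (snd Z C ≫ jC)
  haveI : IsMonHom σ := inferInstanceAs (IsMonHom (lift _ _ ≫ μ[A]))
  let f := jC ≫ qB
  haveI : IsMonHom f := inferInstanceAs (IsMonHom (jC ≫ qB))
  haveI : Surjective f.left := by
    refine ⟨fun b => ?_⟩
    obtain ⟨a, rfl⟩ := qB.left.surjective b
    obtain ⟨w, rfl⟩ := hσs.surj a
    refine ⟨(snd Z C).left w, ?_⟩
    rw [← Scheme.Hom.comp_apply, ← Scheme.Hom.comp_apply, ← Over.comp_left, ← Over.comp_left, MonObj.mul_comp,
      Category.assoc (fst Z C), hjq, MonObj.comp_one, _root_.one_mul, Category.assoc]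
  haveI : IsFinite f.left := by
    refine isFinite_of_finite_geom_ker f ?_
    let S : Set (extPt L ⟶ Z ⊗ C) := {w | w ≫ σ = 1}
    have hS : S.Finite := by
      haveI : IsFinite ((Over.pullback gL).map σ).left :=
        MorphismProperty.of_isPullback (P := @IsFinite) (AbVarLib.isPullback_map gL σ) hσf
      have := finite_ker ((Over.pullback gL).map σ)
      refine Set.Finite.of_finite_image (f := bcPts gL (Z ⊗ C))
        ((Set.finite_coe_iff.1 this).subset ?_) ((bcPts_bijective gL _).1.injOn)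
      rintro _ ⟨w, hw, rfl⟩
      show bcPts gL (Z ⊗ C) w ≫ (Over.pullback gL).map σ = 1
      rw [← bcPts_comp, show w ≫ σ = 1 from hw, map_one]
    have hpow : ∀ x : extPt L ⟶ C, x ≫ f = 1 → x ^ d ∈ (fun w => w ≫ snd Z C) '' S := fun x hx => by
      obtain ⟨z, hz⟩ := hdZ (x ≫ jC) (by rw [Category.assoc]; exact hx)
      refine ⟨lift z⁻¹ (x ^ d), ?_, lift_snd _ _⟩
      show lift z⁻¹ (x ^ d) ≫ σ = 1
      rw [MonObj.comp_mul, lift_fst_assoc, lift_snd_assoc, GrpObj.inv_comp, hz, MonObj.pow_comp, inv_mul_cancel]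
    have htors : Set.Finite {x : extPt L ⟶ C | x ^ d = 1} := by
      haveI : IsCommMonObj ((Over.pullback gL).obj C) := isCommMonObj_of_isProper_of_geometricallyIntegral _
      have := finite_torsPts (A := (Over.pullback gL).obj C) hd
      refine Set.Finite.of_finite_image (f := bcPts gL C) ((Set.finite_coe_iff.1 this).subset ?_)
        (bcPts_bijective gL C).1.injOn
      rintro _ ⟨x, hx, rfl⟩
      show bcPts gL C x ∈ AbDual.torsPts _ d _
      rw [AbDual.mem_torsPts, ← map_pow, show x ^ d = 1 from hx, map_one]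
    refine Set.Finite.of_finite_fibers (s := {x : extPt L ⟶ C | x ≫ f = 1}) (fun x => x ^ d)
      ((hS.image (fun w => w ≫ snd Z C)).subset ?_) fun c _ => ?_
    · rintro _ ⟨x, hx, rfl⟩
      exact hpow x hx
    · rcases Set.eq_empty_or_nonempty ({x | x ≫ f = 1} ∩ (fun x : extPt L ⟶ C => x ^ d) ⁻¹' {c}) with he | ⟨x₀, -, hx₀⟩
      · rw [he]; exact Set.finite_empty
      · refine (htors.image fun t => x₀ * t).subset fun x hx => ⟨x₀⁻¹ * x, ?_, mul_inv_cancel_left _ _⟩
        show (x₀⁻¹ * x) ^ d = 1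
        rw [mul_pow, inv_pow, show x₀ ^ d = c from hx₀, show x ^ d = c from hx.2, inv_mul_cancel]
  obtain ⟨m, s, hm, hs, -, hsf⟩ := exists_isogeny_inverse f
  refine ⟨n * m, pB ≫ s ≫ jC, Nat.mul_pos hn hm, inferInstanceAs (IsMonHom (pB ≫ s ≫ jC)), ?_⟩
  calc φ ≫ (pB ≫ s ≫ jC) ≫ φ = qB ≫ (iB ≫ pB) ≫ (s ≫ f) ≫ iB := by
        simp only [f, ← hfac, Category.assoc]
    _ = φ ^ (n * m) := by
        have e1 : ((𝟙 B) ^ m) ≫ iB = iB ^ m := by rw [MonObj.pow_comp, Category.id_comp]
        have e2 : ((𝟙 B) ^ n) ≫ iB = iB ^ n := by rw [MonObj.pow_comp, Category.id_comp]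
        rw [hip, hsf, ← hfac, e1, MonObj.comp_pow, MonObj.comp_pow, e2, MonObj.comp_pow, ← pow_mul]

end Groth.Agent.AbCubeLib
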