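import Groth.Agent.AbCubeLib.Projection
import Groth.Agent.AbCubeLib.HomDescend
import Groth.Agent.AbCubeLib.PointsBC
import Groth.Agent.AlgGrpLib.OrbitSmooth
import Groth.Agent.FBaseLib.Geom
import Groth.Agent.RedSepLib.Immersion
import Groth.Agent.AbVarLib.ChowFormal
import Mathlib.AlgebraicGeometry.ZariskisMainTheorem
import Mathlib.AlgebraicGeometry.AlgClosed.Basic

/-!
# Poincaré complete reducibility over an arbitrary field
-/

set_option autoImplicit false
set_option backward.isDefEq.respectTransparency.types false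

universe u

open CategoryTheory CategoryTheory.Limits MonoidalCategory CartesianMonoidalCategory AlgebraicGeometry MonObj
  TopologicalSpace
open Groth.Agent.PicLib Groth.Agent.Coherent Groth.Agent.CubeLib Groth.Agent.AmpleLib

namespace Groth.Agent.AbCubeLib

section BaseChange

variable {K L : Type u} [Field K] [Field L] [Algebra K L]

local notation "gL" => Spec.map (CommRingCat.ofHom (algebraMap K L))

noncomputable local instance (X : Over (Spec (CommRingCat.of K))) [GrpObj X] : GrpObj ((Over.pullback gL).obj X) :=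
  Functor.grpObjObj

/-- A scheme over the extension field, pulled back as a scheme over the ground field. -/
noncomputable def selfPt (B : Over (Spec (CommRingCat.of K))) :
    (Over.pullback gL).obj B ⟶ (Over.pullback gL).obj (B ⊗ extPt L) :=
  Over.homMk (pullback.lift (𝟙 (B ⊗ extPt (K := K) L).left) (pullback.snd B.hom gL)
    ((Category.id_comp _).trans pullback.condition)) (pullback.lift_snd _ _ _)

theorem selfPt_map_left {B A : Over (Spec (CommRingCat.of K))} (f : B ⊗ extPt L ⟶ A) :
    (selfPt B ≫ (Over.pullback gL).map f).left ≫ pullback.fst A.hom gL = f.left := by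
  rw [Over.comp_left, Category.assoc]
  rw [show ((Over.pullback gL).map f).left ≫ pullback.fst A.hom gL = pullback.fst (B ⊗ extPt (K := K) L).hom gL ≫ f.left from
    pullback.lift_fst _ _ _, ← Category.assoc]
  refine (congrArg (· ≫ f.left) (pullback.lift_fst _ _ _)).trans ?_
  exact Category.id_comp _

theorem selfPt_map_fst {B A : Over (Spec (CommRingCat.of K))} (i : B ⟶ A) :
    selfPt (L := L) B ≫ (Over.pullback gL).map (fst B (extPt L) ≫ i) = (Over.pullback gL).map i := by
  refine Over.OverMorphism.ext (pullback.hom_ext ?_ ?_)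
  · rw [selfPt_map_left]
    exact (pullback.lift_fst _ _ _).symm
  · exact (Over.w _).trans (Over.w _).symm

theorem selfPt_map_snd {B A : Over (Spec (CommRingCat.of K))} [GrpObj A] (x : extPt L ⟶ A) :
    selfPt (L := L) B ≫ (Over.pullback gL).map (snd B (extPt L) ≫ x) =
      toUnit ((Over.pullback gL).obj B) ≫ bcPts gL A x := by
  refine Over.OverMorphism.ext (pullback.hom_ext ?_ ?_)
  · rw [selfPt_map_left, Over.comp_left, Over.comp_left, Over.toUnit_left, Category.assoc]
    exact congrArg (((Over.pullback gL).obj B).hom ≫ ·) (tautPt_map_left gL x).symm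
  · exact (Over.w _).trans (Over.w _).symm

theorem lift_id_left {A : Over (Spec (CommRingCat.of K))} [GrpObj A] (x : extPt L ⟶ A) :
    (lift x (𝟙 (extPt (K := K) L))).left = (bcPts gL A x).left := by
  refine pullback.hom_ext ?_ ?_
  · exact (congrArg Over.Hom.left (lift_fst x (𝟙 _))).trans (tautPt_map_left gL x).symm
  · exact (congrArg Over.Hom.left (lift_snd x (𝟙 _))).trans (Over.w (bcPts gL A x)).symm

end BaseChange

variable {K : Type u} [Field K] {A B : Over (Spec (CommRingCat.of K))}
  [GrpObj A] [IsProper A.hom] [GeometricallyIntegral A.hom] [GrpObj B] [IsProper B.hom] [GeometricallyIntegral B.hom]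

/-- An abelian subvariety has a projection up to an integer, over the ground field. -/
theorem exists_projection_descended (i : B ⟶ A) [IsMonHom i] [IsClosedImmersion i.left] :
    ∃ (n : ℕ) (p : A ⟶ B), 0 < n ∧ IsMonHom p ∧ i ≫ p = (𝟙 B) ^ n := by
  classical
  let L := AlgebraicClosure K
  let g := Spec.map (CommRingCat.ofHom (algebraMap K L))
  letI : GrpObj ((Over.pullback g).obj A) := Functor.grpObjObj
  letI : GrpObj ((Over.pullback g).obj B) := Functor.grpObjObj
  haveI : IsProper ((Over.pullback g).obj A).hom := inferInstanceAs (IsProper (pullback.snd A.hom g))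
  haveI : IsProper ((Over.pullback g).obj B).hom := inferInstanceAs (IsProper (pullback.snd B.hom g))
  haveI : GeometricallyIntegral ((Over.pullback g).obj A).hom :=
    inferInstanceAs (GeometricallyIntegral (pullback.snd A.hom g))
  haveI : GeometricallyIntegral ((Over.pullback g).obj B).hom :=
    inferInstanceAs (GeometricallyIntegral (pullback.snd B.hom g))
  haveI : IsCommMonObj A := isCommMonObj_of_isProper_of_geometricallyIntegral A
  haveI : IsCommMonObj B := isCommMonObj_of_isProper_of_geometricallyIntegral B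
  haveI : IsCommMonObj ((Over.pullback g).obj A) := isCommMonObj_of_isProper_of_geometricallyIntegral _
  haveI : IsCommMonObj ((Over.pullback g).obj B) := isCommMonObj_of_isProper_of_geometricallyIntegral _
  let iL := (Over.pullback g).map i
  haveI : IsMonHom iL := inferInstanceAs (IsMonHom ((Over.pullback g).map i))
  haveI : IsClosedImmersion iL.left := AbVarLib.prop_map @IsClosedImmersion g i inferInstance
  obtain ⟨L₀, hL₀, hamp⟩ := exists_ample A
  let ℓ := PicM.of hL₀
  let qA : ((Over.pullback g).obj A).left ⟶ A.left := pullback.fst A.hom g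
  haveI : IsAffineHom g := inferInstance
  haveI : IsAffineHom qA := MorphismProperty.pullback_fst (P := @IsAffineHom) _ _ (inferInstanceAs (IsAffineHom g))
  have hampL := AmpleLib.isAmple_pullback_of_isAffineHom qA hamp
  obtain ⟨C, _, j, hjp, hjgi, hjG, hjc, ⟨hsurj, hfin, hflat⟩, hCcond, d, hd, hHC⟩ :=
    exists_complement_of_class iL hampL
  haveI : IsCommMonObj C := isCommMonObj_of_isProper_of_geometricallyIntegral C
  obtain ⟨n, p, hn, hp, hip, hjpr⟩ := exists_projection iL j hfin hsurj
  let U := extPt (K := K) L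
  let Φ : A ⊗ U ⟶ B := Over.homMk (p.left ≫ pullback.fst B.hom g) (by
    show (p.left ≫ pullback.fst B.hom g) ≫ B.hom = (A ⊗ U).hom
    rw [Category.assoc, pullback.condition, ← Category.assoc]
    exact (congrArg (· ≫ g) (Over.w p)).trans pullback.condition.symm)
  let eA := MulEquiv.ofBijective (bcPts g A) (bcPts_bijective g A)
  let eB := MulEquiv.ofBijective (bcPts g B) (bcPts_bijective g B)
  let P : (U ⟶ A) →* (U ⟶ B) := eB.symm.toMonoidHom.comp ((postHom p _).comp eA.toMonoidHom)
  have hPbc : ∀ x, bcPts g B (P x) = bcPts g A x ≫ p := fun x => eB.apply_symm_apply _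
  have hP : ∀ x : U ⟶ A, lift x (𝟙 U) ≫ Φ = P x := fun x => by
    refine Over.OverMorphism.ext ?_
    rw [Over.comp_left, lift_id_left]
    refine Eq.trans ?_ (tautPt_map_left g (P x))
    show (bcPts g A x).left ≫ p.left ≫ pullback.fst B.hom g = (bcPts g B (P x)).left ≫ pullback.fst B.hom g
    rw [hPbc, Over.comp_left, Category.assoc]
  -- the condition cutting out the complement is defined over the ground field
  let G : (U ⟶ A) → (B ⊗ U ⟶ A) := fun x => (fst B U ≫ i) * (snd B U ≫ x)
  let cond : (U ⟶ A) → Prop := fun x => PicM.pull (G x).left ℓ = PicM.pull (fst B U ≫ i).left ℓ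
  have hcond : ∀ x, cond x ↔
      pb (iL * (toUnit _ ≫ bcPts g A x)) (PicM.of hampL.1) = pb iL (PicM.of hampL.1) := fun x => by
    have e0 : PicM.of hampL.1 = PicM.pull qA ℓ := (PicM.pull_of _ _).symm
    have e1 : iL * (toUnit _ ≫ bcPts g A x) = selfPt B ≫ (Over.pullback g).map (G x) := by
      rw [show (Over.pullback g).map (G x) = (Over.pullback g).map (fst B U ≫ i) * (Over.pullback g).map (snd B U ≫ x)
        from map_mul ((Over.pullback g).homMonoidHom) _ _, MonObj.comp_mul, selfPt_map_fst, selfPt_map_snd]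
    rw [e1, e0]
    show _ ↔ PicM.pull _ (PicM.pull qA ℓ) = PicM.pull _ (PicM.pull qA ℓ)
    rw [PicM.pull_pull, PicM.pull_pull, selfPt_map_left]
    rw [show iL.left ≫ qA = (fst B U ≫ i).left from pullback.lift_fst _ _ _]
  have hPC : ∀ z, P (eA.symm (z ≫ j)) = 1 := fun z => eB.injective (by
    rw [map_one]
    refine (hPbc _).trans ?_
    rw [show bcPts g A (eA.symm (z ≫ j)) = z ≫ j from eA.apply_symm_apply _, Category.assoc, hjpr, MonObj.comp_one])
  have hPi : ∀ y : U ⟶ B, P (y ≫ i) = y ^ n := fun y => eB.injective (by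
    refine (hPbc _).trans ?_
    rw [bcPts_comp, Category.assoc, hip, MonObj.comp_pow, Category.comp_id]
    exact (map_pow (bcPts g B) y n).symm)
  have hCx : ∀ x, cond x → P x ^ d = 1 := fun x hx => by
    obtain ⟨z, hz⟩ := hHC _ ((hcond x).1 hx)
    rw [← map_pow, show x ^ d = eA.symm (z ≫ j) from eA.injective (by
      rw [eA.apply_symm_apply, hz]; exact map_pow (bcPts g A) x d), hPC]
  -- invariance
  have hinv : ∀ σ : L →ₐ[K] L, (A ◁ extPtMap L σ) ≫ Φ = Φ := by
    intro σ
    let e := AlgEquiv.ofBijective σ (Algebra.IsAlgebraic.algHom_bijective σ)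
    let s := extPtMap (K := K) L σ
    let s' := extPtMap (K := K) L e.symm.toAlgHom
    have hss' : s ≫ s' = 𝟙 U := Over.OverMorphism.ext (by
      show Spec.map _ ≫ Spec.map _ = 𝟙 _
      rw [← Spec.map_comp, ← Spec.map_id]
      congr 1
      ext x
      exact e.apply_symm_apply x)
    have hs's : s' ≫ s = 𝟙 U := Over.OverMorphism.ext (by
      show Spec.map _ ≫ Spec.map _ = 𝟙 _
      rw [← Spec.map_comp, ← Spec.map_id]
      congr 1
      ext x
      exact e.symm_apply_apply x)
    let P' : (U ⟶ A) →* (U ⟶ B) := MonoidHom.mk' (fun x => s ≫ P (s' ≫ x)) fun a b => by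
      rw [MonObj.comp_mul, map_mul, MonObj.comp_mul]
    have hP' : ∀ x : U ⟶ A, lift x (𝟙 U) ≫ (A ◁ s) ≫ Φ = P' x := fun x => by
      show _ = s ≫ P (s' ≫ x)
      rw [← hP, ← Category.assoc, ← Category.assoc]
      congr 1
      apply CartesianMonoidalCategory.hom_ext
      · simp only [U, Category.assoc, whiskerLeft_fst, lift_fst]
        rw [← Category.assoc, hss', Category.id_comp]
      · simp only [U, Category.assoc, whiskerLeft_snd, lift_snd]
        simp [s, U]
    have hcs : ∀ x, cond x → cond (s' ≫ x) := fun x hx => by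
      have e1 : G (s' ≫ x) = (B ◁ s') ≫ G x := by
        simp only [U, G, MonObj.comp_mul, whiskerLeft_fst_assoc, whiskerLeft_snd_assoc]
      show PicM.pull _ ℓ = PicM.pull _ ℓ
      rw [e1, Over.comp_left, ← PicM.pull_pull, show PicM.pull (G x).left ℓ = _ from hx, PicM.pull_pull,
        ← Over.comp_left, whiskerLeft_fst_assoc]
    have hagree : ∀ x, P' x ^ d = P x ^ d := by
      intro x
      obtain ⟨w, hw⟩ : ∃ w : 𝟙_ _ ⟶ (Over.pullback g).obj B ⊗ C,
          w ≫ ((fst _ C ≫ iL) * (snd _ C ≫ j)) = bcPts g A x := by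
        let τ := (fst ((Over.pullback g).obj B) C ≫ iL) * (snd _ C ≫ j)
        haveI : IsProper ((Over.pullback g).obj B ⊗ C).hom :=
          inferInstanceAs (IsProper (pullback.fst ((Over.pullback g).obj B).hom C.hom ≫ ((Over.pullback g).obj B).hom))
        haveI : JacobsonSpace ((Over.pullback g).obj B ⊗ C).left :=
          LocallyOfFiniteType.jacobsonSpace ((Over.pullback g).obj B ⊗ C).hom
        obtain ⟨c, hc⟩ := hsurj.surj (ptOf (bcPts g A x))
        obtain ⟨v, hv, hvc⟩ := nonempty_inter_closedPoints (Z := τ.left ⁻¹' {ptOf (bcPts g A x)}) ⟨c, hc⟩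
          (((isClosed_point (bcPts g A x)).preimage τ.left.continuous).isLocallyClosed)
        obtain ⟨w, rfl⟩ := exists_ptOf (mem_closedPoints_iff.1 hvc)
        exact ⟨w, point_ext ((ptOf_comp w τ).trans hv)⟩
      have hx : x = (eB.symm (w ≫ fst _ C) ≫ i) * eA.symm ((w ≫ snd _ C) ≫ j) := eA.injective (by
        rw [map_mul, eA.apply_symm_apply]
        refine hw.symm.trans ?_
        rw [MonObj.comp_mul, Category.assoc]
        congr 1
        show w ≫ fst _ C ≫ iL = bcPts g A _
        rw [bcPts_comp, show bcPts g B (eB.symm (w ≫ fst _ C)) = w ≫ fst _ C from eB.apply_symm_apply _,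
          Category.assoc])
      have hC' : P' (eA.symm ((w ≫ snd _ C) ≫ j)) ^ d = 1 := by
        show (s ≫ P (s' ≫ _)) ^ d = 1
        rw [← MonObj.comp_pow, hCx _ (hcs _ ((hcond _).2 ?_)), MonObj.comp_one]
        rw [show bcPts g A (eA.symm ((w ≫ snd _ C) ≫ j)) = (w ≫ snd _ C) ≫ j from eA.apply_symm_apply _]
        exact hCcond _
      rw [hx, map_mul, map_mul, mul_pow, mul_pow, hC', hPC, one_pow]
      congr 2
      show s ≫ P (s' ≫ _ ≫ i) = P (_ ≫ i)
      rw [← Category.assoc, hPi, hPi, MonObj.comp_pow, ← Category.assoc, hss', Category.id_comp]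
    haveI : Smooth ((Over.pullback g).obj A).hom := AbVarLib.smooth_of_geometricallyReduced _
    have heq : ∀ x, P' x = P x := by
      intro x
      obtain ⟨y, hy⟩ := exists_pow_eq (A := (Over.pullback g).obj A) hd (bcPts g A x)
      have hx : x = eA.symm y ^ d := eA.injective (by
        rw [map_pow, eA.apply_symm_apply]; exact hy.symm)
      rw [hx, map_pow, map_pow, hagree]
    let f₁ : ((Over.pullback g).obj A).left ⟶ ((Over.pullback g).obj B).left :=
      pullback.lift ((A ◁ s) ≫ Φ).left (pullback.snd A.hom g) (((Over.w ((A ◁ s) ≫ Φ))).trans pullback.condition)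
    let f₂ : ((Over.pullback g).obj A).left ⟶ ((Over.pullback g).obj B).left :=
      pullback.lift Φ.left (pullback.snd A.hom g) ((Over.w Φ).trans pullback.condition)
    haveI : IsIntegral ((Over.pullback g).obj A).left := GeometricallyIntegral.isIntegral_of_subsingleton
      ((Over.pullback g).obj A).hom
    have h1' : f₁ ≫ ((Over.pullback g).obj B).hom = ((Over.pullback g).obj A).hom := pullback.lift_snd _ _ _
    have h2' : f₂ ≫ ((Over.pullback g).obj B).hom = ((Over.pullback g).obj A).hom := pullback.lift_snd _ _ _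
    haveI : LocallyOfFiniteType (f₁ ≫ ((Over.pullback g).obj B).hom) := h1' ▸ inferInstance
    have hf : f₁ = f₂ := by
      refine ext_of_apply_eq ((Over.pullback g).obj B).hom Set.univ isClosed_univ.isLocallyClosed dense_univ
        (fun c _ hc => ?_) (h1'.trans h2'.symm)
      obtain ⟨t, rfl⟩ := exists_ptOf hc
      obtain ⟨x, rfl⟩ := (bcPts_bijective g A).2 t
      have hleft : (bcPts g A x).left ≫ f₁ = (bcPts g A x).left ≫ f₂ := by
        refine pullback.hom_ext ?_ ?_
        · rw [Category.assoc, Category.assoc, pullback.lift_fst, pullback.lift_fst, ← lift_id_left, ← Over.comp_left,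
            ← Over.comp_left, hP', hP, heq]
        · rw [Category.assoc, Category.assoc, pullback.lift_snd, pullback.lift_snd]
      exact congrArg (fun f => f (IsLocalRing.closedPoint L)) hleft
    refine Over.OverMorphism.ext ?_
    have := congrArg (· ≫ pullback.fst B.hom g) hf
    simpa only [f₁, f₂, pullback.lift_fst] using this
  obtain ⟨ψ, hψ, hΦ⟩ := exists_descend_hom L Φ (by
    rw [hP, show toUnit U ≫ η[A] = (1 : U ⟶ A) from (Hom.one_def).symm, map_one]) hinv
  refine ⟨n, ψ, hn, hψ, ?_⟩
  haveI : Surjective U.hom := ⟨fun x => ⟨IsLocalRing.closedPoint L, Subsingleton.elim (α := PrimeSpectrum K) _ _⟩⟩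
  haveI : Flat U.hom := flat_of_field _
  haveI : IsAffineHom U.hom := inferInstanceAs (IsAffineHom g)
  haveI : Surjective (fst B U).left := MorphismProperty.pullback_fst (P := @Surjective) B.hom U.hom inferInstance
  haveI : Flat (fst B U).left := inferInstanceAs (Flat (pullback.fst B.hom U.hom))
  haveI : QuasiCompact (fst B U).left := inferInstanceAs (QuasiCompact (pullback.fst B.hom U.hom))
  haveI : Epi (fst B U) := Over.epi_of_epi_left _
  rw [← cancel_epi (fst B U), ← whiskerRight_fst_assoc, hΦ]
  refine Over.OverMorphism.ext ?_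
  have h1 : (i ▷ U).left = iL.left := by
    refine pullback.hom_ext ?_ ?_
    · exact (congrArg Over.Hom.left (whiskerRight_fst i U)).trans (pullback.lift_fst _ _ _).symm
    · exact (congrArg Over.Hom.left (whiskerRight_snd i U)).trans (Over.w iL).symm
  show (i ▷ U).left ≫ p.left ≫ pullback.fst B.hom g = (fst B U).left ≫ ((𝟙 B) ^ n).left
  rw [h1, ← Category.assoc, ← Over.comp_left, hip, show (𝟙 ((Over.pullback g).obj B)) ^ n =
    (Over.pullback g).map ((𝟙 B) ^ n) by
      rw [show (Over.pullback g).map ((𝟙 B) ^ n) = ((Over.pullback g).homMonoidHom (𝟙 B)) ^ n from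
        map_pow ((Over.pullback g).homMonoidHom) _ _]
      exact congrArg (· ^ n) ((Over.pullback g).map_id B).symm]
  exact pullback.lift_fst _ _ _

/-- **Poincaré complete reducibility.** -/
theorem exists_complement_of_field (i : B ⟶ A) [IsMonHom i] [IsClosedImmersion i.left] :
    ∃ (C : Over (Spec (CommRingCat.of K))) (_ : GrpObj C) (j : C ⟶ A), IsProper C.hom ∧ GeometricallyIntegral C.hom ∧
      IsMonHom j ∧ IsClosedImmersion j.left ∧
      Surjective ((fst B C ≫ i) * (snd B C ≫ j)).left ∧ IsFinite ((fst B C ≫ i) * (snd B C ≫ j)).left := by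
  haveI : IsCommMonObj A := isCommMonObj_of_isProper_of_geometricallyIntegral A
  haveI : IsCommMonObj B := isCommMonObj_of_isProper_of_geometricallyIntegral B
  obtain ⟨n, p, hn, hp, hip⟩ := exists_projection_descended i
  have hnA : IsMonHom ((𝟙 A) ^ n) := isMonHom_npow (𝟙 A) n
  let q : A ⟶ A := (𝟙 A) ^ n * (p ≫ i)⁻¹
  haveI : IsMonHom q := inferInstanceAs (IsMonHom (lift _ _ ≫ μ[A]))
  have hqp : q ≫ p = 1 := by
    rw [MonObj.mul_comp, GrpObj.inv_comp, Category.assoc, hip, MonObj.comp_pow, Category.comp_id, MonObj.pow_comp,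
      Category.id_comp, mul_inv_cancel]
  have hqdef : q * (p ≫ i) = (𝟙 A) ^ n := inv_mul_cancel_right _ _
  clear_value q
  -- the image of `q`
  haveI := AbVarLib.isProper_left q
  let Z : Closeds A.left := ⟨Set.range q.left, q.left.isClosedMap.isClosed_range⟩
  let I := Scheme.IdealSheafData.vanishingIdeal Z
  let C : Over (Spec (CommRingCat.of K)) := Over.mk (I.subschemeι ≫ A.hom)
  haveI : IsReduced C.left := Props12.isReduced_subscheme_vanishingIdeal Z
  let j : C ⟶ A := Over.homMk I.subschemeι rfl
  haveI : IsClosedImmersion j.left := inferInstanceAs (IsClosedImmersion I.subschemeι)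
  haveI : IsProper C.hom := inferInstanceAs (IsProper (I.subschemeι ≫ A.hom))
  have hrg : Set.range j.left = Set.range q.left := by
    show Set.range I.subschemeι = _
    rw [Scheme.IdealSheafData.range_subschemeι]; rfl
  haveI : Mono j := Over.mono_of_mono_left j
  haveI : IsIntegral A.left := GeometricallyIntegral.isIntegral_of_subsingleton A.hom
  haveI : Smooth A.hom := by
    haveI := AbSchLib.geometricallyConnected_of_irreducible A.hom
    exact AbVarLib.smooth_of_geometricallyReduced A
  haveI : Smooth C.hom := by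
    let act : AlgGrp.Action A A :=
      { act := (fst A A ≫ q) * snd A A
        one_act := by
          rw [MonObj.comp_mul, whiskerRight_fst_assoc, whiskerRight_snd, IsMonHom.one_hom,
            toUnit_unique (fst (𝟙_ _) A) (toUnit _), ← Hom.one_def, _root_.one_mul, leftUnitor_hom]
        mul_act := by
          rw [MonObj.comp_mul, whiskerRight_fst_assoc, whiskerRight_snd, IsMonHom.mul_hom]
          simp only [MonObj.comp_mul, whiskerLeft_fst_assoc, whiskerLeft_snd, associator_hom_fst_assoc,
            associator_hom_snd_fst_assoc, associator_hom_snd_snd]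
          rw [← _root_.mul_assoc]
          congr 1
          simp only [MonoidalCategory.tensorHom_def, Hom.mul_def, ← Category.assoc]
          congr 1
          apply CartesianMonoidalCategory.hom_ext <;> simp }
    refine AlgGrpLib.OrbitSmooth.smooth_orbit act 1 j ?_
    rw [show act.orbitMap 1 = q from ?_]
    · exact hrg
    · show lift (𝟙 A) (toUnit A ≫ 1) ≫ ((fst A A ≫ q) * snd A A) = q
      rw [MonObj.comp_mul, lift_fst_assoc, lift_snd, MonObj.comp_one, Category.id_comp, _root_.mul_one]
  obtain ⟨q', hq'⟩ := RedSepLib.exists_lift_of_range_subset q.left j.left hrg.ge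
  let qC : A ⟶ C := Over.homMk q' (by rw [← Over.w j, ← Category.assoc, hq', Over.w])
  have hqC : qC ≫ j = q := Over.OverMorphism.ext hq'
  haveI : Surjective qC.left := ⟨fun c => by
    obtain ⟨a, ha⟩ : j.left c ∈ Set.range q.left := hrg ▸ ⟨c, rfl⟩
    refine ⟨a, j.left.isEmbedding.injective ?_⟩
    rw [← ha, ← hqC]; rfl⟩
  haveI : GeometricallyIrreducible C.hom := by
    refine ⟨FBaseLib.geometrically_of_surjective_source (fun X Y h _ hX => ?_) C.hom qC.left
      ((Over.w qC).symm ▸ GeometricallyIrreducible.geometrically_irreducibleSpace (f := A.hom))⟩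
    haveI : IrreducibleSpace X := hX
    have hu := (IrreducibleSpace.isIrreducible_univ (X := X)).image h h.continuous.continuousOn
    rw [Set.image_univ, Set.range_eq_univ.2 h.surjective] at hu
    exact (irreducibleSpace_def Y).2 hu
  haveI : GeometricallyReduced C.hom := AbSchLib.geometricallyReduced_of_smooth C.hom
  haveI : GeometricallyIntegral C.hom := .of_geometricallyReduced_of_geometricallyIrreducible _
  -- the group structure
  have hlift : ∀ (T : Over (Spec (CommRingCat.of K))) [IsReduced T.left] (f : T ⟶ A),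
      Set.range f.left ⊆ Set.range q.left → ∃ z : T ⟶ C, z ≫ j = f := by
    intro T _ f hf
    obtain ⟨z, hz⟩ := RedSepLib.exists_lift_of_range_subset f.left j.left (hrg ▸ hf)
    exact ⟨Over.homMk z (by rw [← Over.w j, reassoc_of% hz]; exact Over.w f), Over.OverMorphism.ext hz⟩
  haveI : Smooth (C ⊗ C).hom := inferInstanceAs (Smooth (pullback.fst C.hom C.hom ≫ C.hom))
  haveI : IsReduced (C ⊗ C).left := AbSchLib.isReduced_of_smooth (C ⊗ C).hom
  haveI : Surjective (qC ⊗ₘ qC).left := by
    rw [Over.tensorHom_left]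
    exact MorphismProperty.pullbackMap (P := @Surjective) inferInstance inferInstance (Over.w qC).symm (Over.w qC).symm
  obtain ⟨m, hm⟩ := hlift (C ⊗ C) ((fst C C ≫ j) * (snd C C ≫ j)) (by
    rintro _ ⟨v, rfl⟩
    obtain ⟨v', rfl⟩ := (qC ⊗ₘ qC).left.surjective v
    refine ⟨((fst A A * snd A A)).left v', ?_⟩
    rw [← Scheme.Hom.comp_apply, ← Scheme.Hom.comp_apply, ← Over.comp_left, ← Over.comp_left, MonObj.mul_comp _ _ q,
      MonObj.comp_mul, tensorHom_fst_assoc, tensorHom_snd_assoc, hqC])
  haveI : IsReduced (𝟙_ (Over (Spec (CommRingCat.of K)))).left := inferInstanceAs (IsReduced (Spec (CommRingCat.of K)))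
  obtain ⟨e, he⟩ := hlift (𝟙_ _) 1 (by
    rintro _ ⟨v, rfl⟩
    refine ⟨(1 : 𝟙_ _ ⟶ A).left v, ?_⟩
    rw [← Scheme.Hom.comp_apply, ← Over.comp_left, MonObj.one_comp])
  obtain ⟨ii, hii⟩ := hlift C j⁻¹ (by
    rintro _ ⟨v, rfl⟩
    obtain ⟨a, rfl⟩ := qC.left.surjective v
    refine ⟨((𝟙 A)⁻¹).left a, ?_⟩
    rw [← Scheme.Hom.comp_apply, ← Scheme.Hom.comp_apply, ← Over.comp_left, ← Over.comp_left, GrpObj.inv_comp,
      Category.id_comp, GrpObj.comp_inv, hqC])
  obtain ⟨hG, hjG⟩ := SGA3cLib.exists_grpObj_of_subgroup j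
    (fun T => ⟨toUnit T ≫ e, by rw [Category.assoc, he, MonObj.comp_one]⟩)
    (fun T a b => ⟨lift a b ≫ m, by rw [Category.assoc, hm, MonObj.comp_mul, lift_fst_assoc, lift_snd_assoc]⟩)
    (fun T a => ⟨a ≫ ii, by rw [Category.assoc, hii, GrpObj.comp_inv]⟩)
  refine ⟨C, hG, j, inferInstance, inferInstance, hjG, inferInstance, ?_⟩
  let σ : B ⊗ C ⟶ A := (fst B C ≫ i) * (snd B C ≫ j)
  constructor
  · haveI : Surjective ((𝟙 A) ^ n).left := surjective_pow hn
    have hfac : lift p qC ≫ σ = (𝟙 A) ^ n := by
      rw [MonObj.comp_mul, lift_fst_assoc, lift_snd_assoc, hqC, _root_.mul_comm, hqdef]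
    exact ⟨fun a => by
      obtain ⟨a', rfl⟩ := ((𝟙 A) ^ n).left.surjective a
      exact ⟨(lift p qC).left a', by rw [← Scheme.Hom.comp_apply, ← Over.comp_left, hfac]⟩⟩
  · haveI : IsDominant qC.left := ⟨qC.left.surjective.denseRange⟩
    have hjp : j ≫ p = 1 := Over.OverMorphism.ext (ext_of_isDominant_of_isSeparated B.hom
      ((Over.w (j ≫ p)).trans (Over.w (1 : C ⟶ B)).symm) qC.left (by
        rw [← Over.comp_left, ← Over.comp_left, ← Category.assoc, hqC, hqp, MonObj.comp_one]))
    have hnB : IsMonHom ((𝟙 B) ^ n) := isMonHom_npow (𝟙 B) n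
    haveI := isFinite_pow (A := B) hn
    let E := pullback p.left ((𝟙 B) ^ n).left
    let Ψ : (B ⊗ C).left ⟶ E := pullback.lift σ.left (fst B C).left (by
      rw [← Over.comp_left, ← Over.comp_left, MonObj.mul_comp, Category.assoc, Category.assoc, hip, hjp,
        MonObj.comp_one, _root_.mul_one])
    haveI : Mono Ψ := by
      refine ⟨fun {W} a b h => ?_⟩
      have h1 : a ≫ σ.left = b ≫ σ.left := by
        simpa only [Ψ, Category.assoc, pullback.lift_fst] using congrArg (· ≫ pullback.fst _ _) h
      have h2 : a ≫ (fst B C).left = b ≫ (fst B C).left := by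
        simpa only [Ψ, Category.assoc, pullback.lift_snd] using congrArg (· ≫ pullback.snd _ _) h
      let W' : Over (Spec (CommRingCat.of K)) := Over.mk (a ≫ (B ⊗ C).hom)
      let a' : W' ⟶ B ⊗ C := Over.homMk a rfl
      let b' : W' ⟶ B ⊗ C := Over.homMk b (by
        show b ≫ (B ⊗ C).hom = a ≫ (B ⊗ C).hom
        rw [← Over.w (fst B C), reassoc_of% h2])
      have e1 : a' ≫ fst B C = b' ≫ fst B C := Over.OverMorphism.ext h2
      have e2 : a' ≫ σ = b' ≫ σ := Over.OverMorphism.ext h1
      rw [MonObj.comp_mul, MonObj.comp_mul, reassoc_of% e1, mul_left_cancel_iff, ← Category.assoc,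
        ← Category.assoc, cancel_mono] at e2
      exact congrArg Over.Hom.left (CartesianMonoidalCategory.hom_ext a' b' e1 e2)
    haveI : IsProper (B ⊗ C).hom := inferInstanceAs (IsProper (pullback.fst B.hom C.hom ≫ B.hom))
    haveI := AbVarLib.isProper_left σ
    haveI : IsProper (Ψ ≫ pullback.fst _ _) := by rw [pullback.lift_fst]; infer_instance
    haveI : IsProper Ψ := IsProper.of_comp Ψ (pullback.fst _ _)
    haveI : IsClosedImmersion Ψ := (IsClosedImmersion.iff_isProper_and_mono _).2 ⟨inferInstance, inferInstance⟩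
    haveI : IsFinite (pullback.fst p.left ((𝟙 B) ^ n).left) := inferInstance
    have hσ : Ψ ≫ pullback.fst p.left ((𝟙 B) ^ n).left = σ.left := pullback.lift_fst _ _ _
    show IsFinite σ.left
    rw [← hσ]
    infer_instance

end Groth.Agent.AbCubeLib
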