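import Groth.Agent.AbCubeLib.GaloisSubgroup
import Groth.Agent.AbCubeLib.HomRank
import Groth.Agent.AbSchLib.RigidityOver
import Groth.Agent.AbSchLib.SmoothReduced
import Mathlib.NumberTheory.Padics.ProperSpace
import Mathlib.RingTheory.AdicCompletion.Noetherian

/-!
# Galois stable submodules of the Tate module as images of endomorphisms, under finiteness
-/

set_option autoImplicit false
set_option backward.isDefEq.respectTransparency.types false
set_option maxHeartbeats 1600000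

universe u

open CategoryTheory CategoryTheory.Limits MonoidalCategory CartesianMonoidalCategory AlgebraicGeometry MonObj
  TopologicalSpace

namespace Groth.Agent.AbCubeLib

section Compact

variable {l : ℕ} [Fact l.Prime] {I : Type*} [Finite I]

/-- Every submodule of `ℤ_l^n` is closed. -/
theorem isClosed_submodule_pi (S : Submodule ℤ_[l] (I → ℤ_[l])) : IsClosed (S : Set (I → ℤ_[l])) := by
  classical
  haveI := Fintype.ofFinite I
  obtain ⟨q, g, hg⟩ := Submodule.fg_iff_exists_fin_generating_family.1 (IsNoetherian.noetherian S)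
  have h : (S : Set (I → ℤ_[l])) = Set.range fun c : Fin q → ℤ_[l] => ∑ i, c i • g i := by
    ext x
    rw [SetLike.mem_coe, ← hg, Submodule.mem_span_range_iff_exists_fun]
    rfl
  rw [h]
  refine (isCompact_range ?_).isClosed
  fun_prop

/-- A point in all `S + l ^ n V` is in `S`. -/
theorem mem_of_forall_mem_sup_pow {V : Type*} [AddCommGroup V] [Module ℤ_[l] V] [Module.Finite ℤ_[l] V]
    (S : Submodule ℤ_[l] V) (x : V) (h : ∀ n : ℕ, ∃ s ∈ S, ∃ t, x = s + ((l : ℤ_[l]) ^ n) • t) : x ∈ S := by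
  rw [← Submodule.Quotient.mk_eq_zero]
  refine IsHausdorff.haus (inferInstance : IsHausdorff (IsLocalRing.maximalIdeal ℤ_[l]) (V ⧸ S)) _ fun n => ?_
  obtain ⟨s, hs, t, rfl⟩ := h n
  rw [SModEq.zero, Submodule.Quotient.mk_add, (Submodule.Quotient.mk_eq_zero S).2 hs, zero_add,
    Submodule.Quotient.mk_smul]
  refine Submodule.smul_mem_smul (Ideal.pow_mem_pow ?_ n) trivial
  rw [PadicInt.maximalIdeal_eq_span_p]
  exact Ideal.mem_span_singleton_self _

/-- **Compactness:** if some element of a finitely generated family of maps sends `V` into `S + l ^ n V` with image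
containing `c S`, for arbitrarily large `n`, then some element sends `V` into `S` with image containing `c S`. -/
theorem exists_limit_map {V : Type*} [AddCommGroup V] [Module ℤ_[l] V] [Module.Finite ℤ_[l] V]
    [Module.Free ℤ_[l] V] (E : Submodule ℤ_[l] (Module.End ℤ_[l] V)) (S : Submodule ℤ_[l] V) (c : ℤ_[l])
    (h : ∀ m : ℕ, ∃ n, m ≤ n ∧ ∃ u ∈ E, (∀ t, ∃ s ∈ S, ∃ t', u t = s + ((l : ℤ_[l]) ^ n) • t') ∧
      ∀ x ∈ S, ∃ t, u t = c • x) :
    ∃ u ∈ E, (∀ t, u t ∈ S) ∧ ∀ x ∈ S, ∃ t, u t = c • x := by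
  classical
  obtain ⟨q, g, hg⟩ := Submodule.fg_iff_exists_fin_generating_family.1 (IsNoetherian.noetherian E)
  let b := Module.Free.chooseBasis ℤ_[l] V
  let r := Module.Free.ChooseBasisIndex ℤ_[l] V
  let e : V ≃ₗ[ℤ_[l]] (r → ℤ_[l]) := b.equivFun
  let U : (Fin q → ℤ_[l]) → Module.End ℤ_[l] V := fun a => ∑ i, a i • g i
  have hU : ∀ u ∈ E, ∃ a, U a = u := fun u hu => by
    rw [← hg, Submodule.mem_span_range_iff_exists_fun] at hu
    exact hu
  have hUE : ∀ a, U a ∈ E := fun a => by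
    rw [← hg, Submodule.mem_span_range_iff_exists_fun]
    exact ⟨a, rfl⟩
  have hcont : Continuous fun p : (Fin q → ℤ_[l]) × (r → ℤ_[l]) => e (U p.1 (e.symm p.2)) := by
    have : ∀ p : (Fin q → ℤ_[l]) × (r → ℤ_[l]), e (U p.1 (e.symm p.2)) =
        ∑ i, p.1 i • ∑ j, p.2 j • e (g i (b j)) := by
      intro p
      show e ((∑ i, p.1 i • g i) (b.equivFun.symm p.2)) = _
      simp only [LinearMap.coe_sum, Finset.sum_apply, LinearMap.smul_apply, map_sum, map_smul,
        Module.Basis.equivFun_symm_apply]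
      simp only [Finset.smul_sum]
      rw [Finset.sum_comm]
      exact Finset.sum_congr rfl fun i _ => Finset.sum_congr rfl fun j _ => smul_comm _ _ _
    simp only [this]
    fun_prop
  -- the closed conditions
  let Sn : ℕ → Submodule ℤ_[l] V := fun n => S ⊔ LinearMap.range (((l : ℤ_[l]) ^ n) • (LinearMap.id : V →ₗ[ℤ_[l]] V))
  have hSn : ∀ n x, x ∈ Sn n ↔ ∃ s ∈ S, ∃ t, x = s + ((l : ℤ_[l]) ^ n) • t := by
    intro n x
    rw [Submodule.mem_sup]
    exact ⟨fun ⟨s, hs, _, ⟨t, rfl⟩, h⟩ => ⟨s, hs, t, h.symm⟩, fun ⟨s, hs, t, h⟩ => ⟨s, hs, _, ⟨t, rfl⟩, h.symm⟩⟩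
  have hclose : ∀ N : Submodule ℤ_[l] V, IsClosed ((e.symm : (r → ℤ_[l]) → V) ⁻¹' (N : Set V)) := fun N =>
    isClosed_submodule_pi (N.comap e.symm.toLinearMap)
  let A : ℕ → Set (Fin q → ℤ_[l]) := fun n =>
    {a | ∀ v : r → ℤ_[l], U a (e.symm v) ∈ Sn n} ∩ {a | ∀ x ∈ S, ∃ v : r → ℤ_[l], U a (e.symm v) = c • x}
  have hAclosed : ∀ n, IsClosed (A n) := by
    intro n
    refine IsClosed.inter ?_ ?_
    · have heq : {a | ∀ v : r → ℤ_[l], U a (e.symm v) ∈ Sn n} =
          ⋂ v : r → ℤ_[l], (fun a => e (U a (e.symm v))) ⁻¹' ((e.symm : (r → ℤ_[l]) → V) ⁻¹' (Sn n : Set V)) := by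
        ext a; simp
      rw [heq]
      exact isClosed_iInter fun v => (hclose _).preimage (hcont.comp (Continuous.prodMk_left v))
    · have heq : {a | ∀ x ∈ S, ∃ v : r → ℤ_[l], U a (e.symm v) = c • x} =
          ⋂ x : S, Prod.fst '' ((fun p : (Fin q → ℤ_[l]) × (r → ℤ_[l]) => e (U p.1 (e.symm p.2))) ⁻¹'
            {e (c • (x : V))}) := by
        ext a
        simp only [Set.mem_iInter, Set.mem_image, Set.mem_preimage, Set.mem_singleton_iff, Set.mem_ofPred_eq,
          EmbeddingLike.apply_eq_iff_eq, Prod.exists, exists_and_right, exists_eq_right, Subtype.forall]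
      rw [heq]
      exact isClosed_iInter fun x => ((isClosed_singleton.preimage hcont).isCompact.image continuous_fst).isClosed
  have hmono : ∀ n m, n ≤ m → A m ⊆ A n := by
    rintro n m hnm a ⟨h1, h2⟩
    refine ⟨fun v => ?_, h2⟩
    obtain ⟨s, hs, t, ht⟩ := (hSn m _).1 (h1 v)
    exact (hSn n _).2 ⟨s, hs, ((l : ℤ_[l]) ^ (m - n)) • t, by rw [ht, smul_smul, ← pow_add, Nat.add_sub_cancel' hnm]⟩
  have hne : ∀ n, (A n).Nonempty := by
    intro n
    obtain ⟨n', hn', u, hu, hu1, hu2⟩ := h n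
    obtain ⟨a, rfl⟩ := hU u hu
    refine ⟨a, hmono n n' hn' ⟨fun v => (hSn _ _).2 (hu1 _), fun x hx => ?_⟩⟩
    obtain ⟨t, ht⟩ := hu2 x hx
    exact ⟨e t, by rw [e.symm_apply_apply, ht]⟩
  obtain ⟨a, ha⟩ := IsCompact.nonempty_iInter_of_sequence_nonempty_isCompact_isClosed A
    (fun n => hmono n (n + 1) n.le_succ) hne (hAclosed 0).isCompact hAclosed
  rw [Set.mem_iInter] at ha
  refine ⟨U a, hUE a, fun t => mem_of_forall_mem_sup_pow S _ fun n => ?_, fun x hx => ?_⟩
  · have := (ha n).1 (e t)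
    rw [e.symm_apply_apply] at this
    exact (hSn n _).1 this
  · obtain ⟨v, hv⟩ := (ha 0).2 x hx
    exact ⟨e.symm v, hv⟩

end Compact

section Tate

variable {k : Type u} [Field k]

theorem tate_component_add {l : ℕ} {S : Scheme.{u}} {A T : Over S} [GrpObj A] [IsCommMonObj A]
    (x : AbDual.TateMod A l T) (m j : ℕ) :
    l ^ j • (x : ℕ → Additive (T ⟶ A)) (m + j) = (x : ℕ → Additive (T ⟶ A)) m := by
  induction j with
  | zero => simp
  | succ j ih =>
    rw [pow_succ, mul_nsmul', ← Nat.add_assoc, x.compat (m + j), ih]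

theorem tateMapₗ_comp {l : ℕ} [Fact l.Prime] {S : Scheme.{u}} {A B C T : Over S} [GrpObj A] [IsCommMonObj A]
    [GrpObj B] [IsCommMonObj B] [GrpObj C] [IsCommMonObj C] (f : A ⟶ B) [IsMonHom f] (g : B ⟶ C) [IsMonHom g]
    (x : AbDual.TateMod A l T) :
    AbDual.tateMapₗ (l := l) (T := T) g (AbDual.tateMapₗ (l := l) (T := T) f x) =
      AbDual.tateMapₗ (l := l) (T := T) (f ≫ g) x :=
  AbDual.TateMod.ext fun n =>
    congrArg Additive.ofMul (Category.assoc ((x : ℕ → Additive (T ⟶ A)) n).toMul f g)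

theorem tateMapₗ_congr {l : ℕ} [Fact l.Prime] {S : Scheme.{u}} {A B T : Over S} [GrpObj A] [IsCommMonObj A]
    [GrpObj B] [IsCommMonObj B] {f g : A ⟶ B} [IsMonHom f] [IsMonHom g] (h : f = g) (x : AbDual.TateMod A l T) :
    AbDual.tateMapₗ (l := l) (T := T) f x = AbDual.tateMapₗ (l := l) (T := T) g x := by
  subst h; rfl

theorem tateMapₗ_pow {l : ℕ} [Fact l.Prime] {S : Scheme.{u}} {A T : Over S} [GrpObj A] [IsCommMonObj A] (N : ℕ)
    {f : A ⟶ A} [IsMonHom f] (hf : f = (𝟙 A) ^ N) (x : AbDual.TateMod A l T) :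
    AbDual.tateMapₗ (l := l) (T := T) f x = N • x :=
  AbDual.TateMod.ext fun n => by
    show Additive.ofMul (((x : ℕ → Additive (T ⟶ A)) n).toMul ≫ f) = N • (x : ℕ → Additive (T ⟶ A)) n
    rw [hf, MonObj.comp_pow, Category.comp_id]
    rfl

variable {Ω : Type u} [Field Ω] [Algebra k Ω]

/-- An isomorphism of the underlying schemes of abelian varieties gives an isomorphism of abelian varieties. -/
theorem exists_monHom_iso {Y Z : Over (Spec (CommRingCat.of k))} [GrpObj Y] [IsProper Y.hom]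
    [GeometricallyIntegral Y.hom] [GrpObj Z] [IsProper Z.hom] [GeometricallyIntegral Z.hom] (e : Y ≅ Z) :
    ∃ f : Y ≅ Z, IsMonHom f.hom := by
  haveI : IsCommMonObj Z := isCommMonObj_of_isProper_of_geometricallyIntegral Z
  haveI : Flat Y.hom := CubeLib.flat_of_field _
  haveI : LocallyOfFinitePresentation Y.hom := locallyOfFinitePresentation_of_noetherian_base Y.hom
  haveI := AbSchLib.geometricallyConnected_of_irreducible Y.hom
  let a : 𝟙_ (Over (Spec (CommRingCat.of k))) ⟶ Z := η[Y] ≫ e.hom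
  let tr : Z ≅ Z :=
    { hom := 𝟙 Z * (toUnit Z ≫ a⁻¹)
      inv := 𝟙 Z * (toUnit Z ≫ a)
      hom_inv_id := by rw [translate_comp_translate', inv_mul_cancel, MonObj.comp_one, _root_.mul_one]
      inv_hom_id := by rw [translate_comp_translate', mul_inv_cancel, MonObj.comp_one, _root_.mul_one] }
  refine ⟨e ≪≫ tr, AbSchLib.isMonHom_of_one Y Z _ ?_⟩
  show η[Y] ≫ e.hom ≫ (𝟙 Z * (toUnit Z ≫ a⁻¹)) = η[Z]
  rw [← Category.assoc, MonObj.comp_mul, Category.comp_id, ← Category.assoc,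
    toUnit_unique ((η[Y] ≫ e.hom) ≫ toUnit Z) (𝟙 _), Category.id_comp, mul_inv_cancel, Hom.one_def,
    toUnit_unique (toUnit _) (𝟙 _), Category.id_comp]
where
  translate_comp_translate' {Z : Over (Spec (CommRingCat.of k))} [GrpObj Z]
      {a b : 𝟙_ (Over (Spec (CommRingCat.of k))) ⟶ Z} :
      (𝟙 Z * (toUnit Z ≫ a)) ≫ (𝟙 Z * (toUnit Z ≫ b)) = 𝟙 Z * (toUnit Z ≫ (a * b)) := by
    rw [MonObj.comp_mul, Category.comp_id, ← Category.assoc, toUnit_unique (_ ≫ toUnit Z) (toUnit Z),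
      MonObj.comp_mul, _root_.mul_assoc]

variable [IsAlgClosed Ω]

/-- A finite surjective morphism is surjective on points with values in an algebraically closed field. -/
theorem exists_pts_lift {Y Z : Over (Spec (CommRingCat.of k))} (q : Y ⟶ Z) [IsFinite q.left] [Surjective q.left]
    (z : SGA7.pt (K := k) Ω ⟶ Z) : ∃ y : SGA7.pt (K := k) Ω ⟶ Y, y ≫ q = z := by
  haveI : Surjective (pullback.snd q.left z.left) := MorphismProperty.pullback_snd (P := @Surjective) _ _ inferInstance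
  haveI : IsFinite (pullback.snd q.left z.left) := MorphismProperty.pullback_snd (P := @IsFinite) _ _ inferInstance
  obtain ⟨v, -⟩ := (pullback.snd q.left z.left).surjective (IsLocalRing.closedPoint Ω)
  haveI : Subsingleton ↥(SGA7.pt (K := k) Ω).left := inferInstanceAs (Subsingleton (PrimeSpectrum Ω))
  haveI : Finite ↥(pullback q.left z.left) := Set.finite_univ_iff.1
    (((pullback.snd q.left z.left).finite_preimage_singleton (IsLocalRing.closedPoint Ω)).subset fun _ _ => Subsingleton.elim _ _)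
  haveI : DiscreteTopology ↥(pullback q.left z.left) :=
    DimLib.discreteTopology_of_finite (k := Ω) (pullback.snd q.left z.left)
  refine ⟨Over.homMk (pointOfClosedPoint (pullback.snd q.left z.left) v (isClosed_discrete _) ≫
    pullback.fst q.left z.left) ?_, Over.OverMorphism.ext ?_⟩
  · rw [← Over.w q, Category.assoc, pullback.condition_assoc, pointOfClosedPoint_comp_assoc]
    exact Over.w z
  · show (_ ≫ pullback.fst q.left z.left) ≫ q.left = z.left
    rw [Category.assoc, pullback.condition, pointOfClosedPoint_comp_assoc]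

variable [Algebra.IsAlgebraic k Ω]

/-- **Tate's argument.** Under finiteness of the abelian varieties with `l`-power isogenies to `X`, a Galois stable
submodule `S` of the Tate module contains, with bounded index, the image of an element of the span of endomorphisms. -/
theorem exists_span_range {l : ℕ} [Fact l.Prime] (hl : (l : k) ≠ 0) (X : Over (Spec (CommRingCat.of k)))
    [GrpObj X] [IsCommMonObj X] [IsProper X.hom] [GeometricallyIntegral X.hom]
    (hFin : ∃ (J : Type u) (_ : Finite J) (F : J → Over (Spec (CommRingCat.of k))),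
      ∀ (Y : Over (Spec (CommRingCat.of k))) [GrpObj Y] [IsCommMonObj Y] [IsProper Y.hom] [GeometricallyIntegral Y.hom]
        (u : X ⟶ Y) [IsMonHom u] (v : Y ⟶ X) [IsMonHom v] (m : ℕ),
        u ≫ v = (𝟙 X) ^ (l ^ m) → v ≫ u = (𝟙 Y) ^ (l ^ m) → ∃ i, Nonempty (Y ≅ F i))
    (S : Submodule ℤ_[l] (AbDual.TateMod X l (SGA7.pt (K := k) Ω)))
    (hS : ∀ (σ : Ω ≃ₐ[k] Ω), ∀ s ∈ S, ∃ s' ∈ S, ∀ n,
      (AbDual.TateMod.component X l (SGA7.pt Ω) n s').toMul =
        SGA7.galAct σ (AbDual.TateMod.component X l (SGA7.pt Ω) n s).toMul) :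
    ∃ u ∈ Submodule.span ℤ_[l] {ψ : Module.End ℤ_[l] (AbDual.TateMod X l (SGA7.pt (K := k) Ω)) |
          ∃ (f : X ⟶ X) (_ : IsMonHom f), ψ = AbDual.tateMapₗ (l := l) (T := SGA7.pt Ω) f},
      (∀ t, u t ∈ S) ∧ ∃ c : ℕ, ∀ x ∈ S, ∃ t, u t = ((l : ℤ_[l]) ^ c) • x := by
  classical
  obtain ⟨J, _, F, hF⟩ := hFin
  let T := AbDual.TateMod X l (SGA7.pt (K := k) Ω)
  obtain ⟨g, hg⟩ := exists_dim_eq X
  obtain ⟨bas⟩ := exists_tate_basis_of_algClosed (A := X) Ω hg hl
  haveI : Module.Free ℤ_[l] T := Module.Free.of_basis bas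
  haveI : Module.Finite ℤ_[l] T := Module.Finite.of_basis bas
  have hlp : 0 < l := (Fact.out : l.Prime).pos
  let E := Submodule.span ℤ_[l] {ψ : Module.End ℤ_[l] T |
    ∃ (f : X ⟶ X) (_ : IsMonHom f), ψ = AbDual.tateMapₗ (l := l) (T := SGA7.pt Ω) f}
  -- for each level, an isogenous variety with the prescribed Tate module
  have key : ∀ n : ℕ, ∃ (Y : Over (Spec (CommRingCat.of k))) (_ : GrpObj Y) (_ : IsCommMonObj Y) (_ : IsProper Y.hom)
      (_ : GeometricallyIntegral Y.hom) (q : X ⟶ Y) (_ : IsMonHom q) (v : Y ⟶ X) (_ : IsMonHom v) (i : J),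
      Nonempty (Y ≅ F i) ∧ v ≫ q = (𝟙 Y) ^ (l ^ n) ∧
      (∀ y, ∃ s ∈ S, ∃ t : T, AbDual.tateMapₗ (l := l) (T := SGA7.pt Ω) v y = s + ((l : ℤ_[l]) ^ n) • t) ∧
      ∀ s ∈ S, ∃ y, AbDual.tateMapₗ (l := l) (T := SGA7.pt Ω) v y = s := by
    intro n
    let P : Subgroup (SGA7.pt (K := k) Ω ⟶ X) :=
      { carrier := {x | ∃ s ∈ S, (AbDual.TateMod.component X l (SGA7.pt Ω) n s).toMul = x}
        one_mem' := ⟨0, zero_mem _, by rw [map_zero]; rfl⟩
        mul_mem' := by
          rintro _ _ ⟨s, hs, rfl⟩ ⟨s', hs', rfl⟩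
          exact ⟨s + s', add_mem hs hs', by rw [map_add]; rfl⟩
        inv_mem' := by
          rintro _ ⟨s, hs, rfl⟩
          exact ⟨-s, neg_mem hs, by rw [map_neg]; rfl⟩ }
    have hn : ((l ^ n : ℕ) : k) ≠ 0 := by rw [Nat.cast_pow]; exact pow_ne_zero _ hl
    obtain ⟨H, _, i, _, _, _, hin, hHP⟩ := exists_subgroupScheme (Ω := Ω) X hn P
      (by rintro _ ⟨s, -, rfl⟩; exact AbDual.TateMod.component_mem s n)
      (by
        rintro σ _ ⟨s, hs, rfl⟩
        obtain ⟨s', hs', hc⟩ := hS σ s hs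
        exact ⟨s', hs', hc n⟩)
    haveI : Mono i := Over.mono_of_mono_left i
    obtain ⟨Y, _, q, _, _, _, _, _, _, hiq, hker⟩ := exists_quotient_finite_subgroup X H i
    haveI : IsCommMonObj Y := isCommMonObj_of_isProper_of_geometricallyIntegral Y
    haveI hpN : IsMonHom ((𝟙 X) ^ (l ^ n)) := by rw [← zpow_natCast]; exact isMonHom_zpow _
    obtain ⟨v, hv⟩ := exists_desc_fpqc q ((𝟙 X) ^ (l ^ n)) (fun a b hab => by
      obtain ⟨h, hh⟩ := hker _ (a / b) (by rw [GrpObj.div_comp, hab, div_self'])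
      have : (a / b) ^ (l ^ n) = 1 := by rw [← hh, ← MonObj.comp_pow, hin, MonObj.comp_one]
      rw [MonObj.comp_pow, Category.comp_id, MonObj.comp_pow, Category.comp_id, ← div_eq_one, ← div_pow, this])
    haveI : Epi q := (Over.forget _).epi_of_epi_map (f := q) (inferInstanceAs (Epi q.left))
    haveI : Epi (q ⊗ₘ q) := by
      let P' : MorphismProperty Scheme.{u} := @Flat ⊓ @Surjective ⊓ @QuasiCompact
      have h := prop_tensorHom P' q q ⟨⟨‹Flat q.left›, ‹Surjective q.left›⟩, inferInstance⟩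
        ⟨⟨‹Flat q.left›, ‹Surjective q.left›⟩, inferInstance⟩
      haveI := h.1.1; haveI := h.1.2; haveI := h.2
      exact (Over.forget _).epi_of_epi_map (f := q ⊗ₘ q) (inferInstanceAs (Epi (q ⊗ₘ q).left))
    haveI : IsMonHom v := by
      refine ⟨?_, (cancel_epi (q ⊗ₘ q)).1 ?_⟩
      · rw [← IsMonHom.one_hom q, Category.assoc, hv, IsMonHom.one_hom]
      · rw [← Category.assoc, ← IsMonHom.mul_hom, Category.assoc, hv, IsMonHom.mul_hom, tensorHom_comp_tensorHom_assoc,
          hv]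
    have hvq : v ≫ q = (𝟙 Y) ^ (l ^ n) := by
      rw [← cancel_epi q, ← Category.assoc, hv, MonObj.pow_comp, Category.id_comp, MonObj.comp_pow, Category.comp_id]
    obtain ⟨i₀, hi₀⟩ := hF Y q v n hv hvq
    refine ⟨Y, inferInstance, inferInstance, inferInstance, inferInstance, q, inferInstance, v, inferInstance, i₀, hi₀,
      hvq, fun y => ?_, fun s hs => ?_⟩
    · -- the image lies in `S + l ^ n T`
      obtain ⟨x, hx⟩ := exists_pts_lift q ((y : ℕ → Additive (SGA7.pt (K := k) Ω ⟶ Y)) n).toMul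
      have hxP : x ^ (l ^ n) ∈ P := by
        have h1 : (x ^ (l ^ n)) ≫ q = 1 := by
          rw [MonObj.pow_comp, hx]
          exact congrArg Additive.toMul (y.torsion n)
        obtain ⟨h, hh⟩ := hker _ _ h1
        exact (hHP _).1 ⟨h, hh⟩
      obtain ⟨s, hs, hsx⟩ := hxP
      let d := AbDual.tateMapₗ (l := l) (T := SGA7.pt Ω) v y - s
      have hd : (d : ℕ → Additive (SGA7.pt (K := k) Ω ⟶ X)) n = 0 := by
        show Additive.ofMul (((y : ℕ → Additive (SGA7.pt (K := k) Ω ⟶ Y)) n).toMul ≫ v) -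
          (s : ℕ → Additive (SGA7.pt (K := k) Ω ⟶ X)) n = 0
        rw [sub_eq_zero, ← hx, Category.assoc, hv, MonObj.comp_pow, Category.comp_id, ← hsx]
        rfl
      let t : T := ⟨fun m => (d : ℕ → Additive (SGA7.pt (K := k) Ω ⟶ X)) (m + n), fun m => ?_, fun m => ?_⟩
      · refine ⟨s, hs, t, ?_⟩
        rw [← Nat.cast_pow, Nat.cast_smul_eq_nsmul, ← sub_eq_iff_eq_add']
        refine AbDual.TateMod.ext fun m => ?_
        show (d : ℕ → Additive (SGA7.pt (K := k) Ω ⟶ X)) m = l ^ n • (d : ℕ → Additive (SGA7.pt (K := k) Ω ⟶ X)) (m + n)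
        rw [tate_component_add]
      · show l ^ m • (d : ℕ → Additive (SGA7.pt (K := k) Ω ⟶ X)) (m + n) = 0
        rw [Nat.add_comm m n, tate_component_add d n m, hd]
      · show l • (d : ℕ → Additive (SGA7.pt (K := k) Ω ⟶ X)) (m + 1 + n) = _
        rw [Nat.add_right_comm]; exact d.compat (m + n)
    · -- every element of `S` is in the image
      let f := fun m => Additive.ofMul (((s : ℕ → Additive (SGA7.pt (K := k) Ω ⟶ X)) (m + n)).toMul ≫ q)
      have hsn : Additive.ofMul (((s : ℕ → Additive (SGA7.pt (K := k) Ω ⟶ X)) n).toMul ≫ q) = 0 := by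
        obtain ⟨h, hh⟩ := (hHP ((s : ℕ → Additive (SGA7.pt (K := k) Ω ⟶ X)) n).toMul).2 ⟨s, hs, rfl⟩
        rw [← hh, Category.assoc, hiq, MonObj.comp_one]
        rfl
      let y : AbDual.TateMod Y l (SGA7.pt (K := k) Ω) := ⟨f, fun m => ?_, fun m => ?_⟩
      · refine ⟨y, AbDual.TateMod.ext fun m => ?_⟩
        show Additive.ofMul ((((s : ℕ → Additive (SGA7.pt (K := k) Ω ⟶ X)) (m + n)).toMul ≫ q) ≫ v) = _
        rw [Category.assoc, hv, MonObj.comp_pow, Category.comp_id]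
        exact tate_component_add s m n
      · show l ^ m • Additive.ofMul _ = 0
        rw [← AbDual.nsmul_comp, Nat.add_comm m n, tate_component_add s n m]
        exact hsn
      · show l • Additive.ofMul _ = Additive.ofMul _
        rw [← AbDual.nsmul_comp, Nat.add_right_comm, s.compat (m + n)]
  choose Y _ _ _ _ q _ v _ i hiso hvq hv1 hv2 using key
  obtain ⟨i₁, hi₁⟩ := Finite.exists_infinite_fiber i
  rw [Set.infinite_coe_iff] at hi₁
  obtain ⟨n₀, hn₀⟩ := hi₁.nonempty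
  obtain ⟨u, hu, hu1, hu2⟩ := exists_limit_map E S ((l : ℤ_[l]) ^ n₀) (fun m => by
    obtain ⟨n, hn, hmn⟩ := hi₁.exists_gt m
    refine ⟨n, hmn.le, ?_⟩
    obtain ⟨e₀⟩ := hiso n₀
    obtain ⟨e₁⟩ := hiso n
    obtain ⟨ψ, hψ⟩ := exists_monHom_iso (e₀ ≪≫ eqToIso (congrArg F ((show i n₀ = i₁ from hn₀).trans (show i n = i₁ from hn).symm)) ≪≫ e₁.symm)
    haveI : IsMonHom ψ.inv := inferInstance
    let w := q n₀ ≫ ψ.hom ≫ v n
    refine ⟨AbDual.tateMapₗ (l := l) (T := SGA7.pt Ω) w, Submodule.subset_span ⟨w, inferInstance, rfl⟩,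
      fun t => ?_, fun x hx => ?_⟩
    · obtain ⟨s, hs, t', ht'⟩ := hv1 n (AbDual.tateMapₗ (l := l) (T := SGA7.pt Ω) (q n₀ ≫ ψ.hom) t)
      refine ⟨s, hs, t', ?_⟩
      rw [← ht', tateMapₗ_comp]
      exact tateMapₗ_congr (Category.assoc _ _ _).symm t
    · obtain ⟨y, hy⟩ := hv2 n x hx
      let y' := AbDual.tateMapₗ (l := l) (T := SGA7.pt Ω) ψ.inv y
      refine ⟨AbDual.tateMapₗ (l := l) (T := SGA7.pt Ω) (v n₀) y', ?_⟩
      haveI hpN : IsMonHom (v n₀ ≫ q n₀) := inferInstance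
      have h1 : AbDual.tateMapₗ (l := l) (T := SGA7.pt Ω) (q n₀) (AbDual.tateMapₗ (l := l) (T := SGA7.pt Ω) (v n₀) y') =
          ((l : ℤ_[l]) ^ n₀) • y' := by
        rw [tateMapₗ_comp, ← Nat.cast_pow, Nat.cast_smul_eq_nsmul]
        exact tateMapₗ_pow _ (hvq n₀) y'
      rw [show AbDual.tateMapₗ (l := l) (T := SGA7.pt Ω) w (AbDual.tateMapₗ (l := l) (T := SGA7.pt Ω) (v n₀) y') =
        AbDual.tateMapₗ (l := l) (T := SGA7.pt Ω) (ψ.hom ≫ v n)
          (AbDual.tateMapₗ (l := l) (T := SGA7.pt Ω) (q n₀) (AbDual.tateMapₗ (l := l) (T := SGA7.pt Ω) (v n₀) y')) from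
        (tateMapₗ_comp (q n₀) (ψ.hom ≫ v n) _).symm, h1, map_smul, tateMapₗ_comp, ← hy]
      congr 1
      exact tateMapₗ_congr (Iso.inv_hom_id_assoc ψ (v n)) y)
  exact ⟨u, hu, hu1, n₀, hu2⟩

end Tate

end Groth.Agent.AbCubeLib
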