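import Groth.Agent.AbCubeLib.FiniteQuotient
import Groth.Agent.AbCubeLib.PoincareReducibility
import Groth.Agent.AbCubeLib.KernelSubvariety
import Groth.Agent.AbCubeLib.TateImage
import Groth.Agent.AbCubeLib.FiniteProduct

/-!
# The quotient of an abelian variety by an abelian subvariety
-/

set_option autoImplicit false
set_option backward.isDefEq.respectTransparency.types false
set_option maxHeartbeats 1600000

universe u

open CategoryTheory CategoryTheory.Limits MonoidalCategory CartesianMonoidalCategory AlgebraicGeometry MonObj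

namespace Groth.Agent.AbCubeLib

variable {K : Type u} [Field K]

/-- A homomorphism is determined by, and homomorphisms descend along, faithfully flat homomorphisms. -/
theorem isMonHom_of_comp_fpqc {X Y Z : Over (Spec (CommRingCat.of K))} [GrpObj X] [GrpObj Y] [GrpObj Z]
    (p : X ⟶ Y) [IsMonHom p] [Flat p.left] [Surjective p.left] [QuasiCompact p.left] (g : Y ⟶ Z)
    (h : IsMonHom (p ≫ g)) : IsMonHom g := by
  let P : MorphismProperty Scheme.{u} := @Flat ⊓ @Surjective ⊓ @QuasiCompact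
  have hp : P p.left := ⟨⟨inferInstance, inferInstance⟩, inferInstance⟩
  have hpp : P (p ⊗ₘ p).left := prop_tensorHom P p p hp hp
  haveI : Flat (p ⊗ₘ p).left := hpp.1.1
  haveI : Surjective (p ⊗ₘ p).left := hpp.1.2
  haveI : QuasiCompact (p ⊗ₘ p).left := hpp.2
  haveI : Epi (p ⊗ₘ p) := Over.epi_of_epi_left _
  refine ⟨?_, ?_⟩
  · rw [← IsMonHom.one_hom (f := p), Category.assoc, h.one_hom]
  · rw [← cancel_epi (p ⊗ₘ p), ← reassoc_of% IsMonHom.mul_hom (f := p), h.mul_hom, tensorHom_comp_tensorHom_assoc]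

variable {A : Over (Spec (CommRingCat.of K))} [GrpObj A] [IsProper A.hom] [GeometricallyIntegral A.hom]

/-- **The quotient of an abelian variety by an abelian subvariety.** -/
theorem exists_quotient_subvariety {Z : Over (Spec (CommRingCat.of K))} [GrpObj Z] [IsProper Z.hom]
    [GeometricallyIntegral Z.hom] (i : Z ⟶ A) [IsMonHom i] [IsClosedImmersion i.left] :
    ∃ (B : Over (Spec (CommRingCat.of K))) (_ : GrpObj B) (π : A ⟶ B), IsProper B.hom ∧ GeometricallyIntegral B.hom ∧
      IsMonHom π ∧ Flat π.left ∧ Surjective π.left ∧ QuasiCompact π.left ∧ i ≫ π = 1 ∧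
      (∀ (Y : Over (Spec (CommRingCat.of K))) [GrpObj Y] (φ : A ⟶ Y) [IsMonHom φ], i ≫ φ = 1 →
        ∃ f : B ⟶ Y, IsMonHom f ∧ π ≫ f = φ) ∧
      ∀ x : SGA7.pt (K := K) (AlgebraicClosure K) ⟶ A, x ≫ π = 1 → ∃ z, z ≫ i = x := by
  haveI : IsCommMonObj A := isCommMonObj_of_isProper_of_geometricallyIntegral A
  haveI : IsCommMonObj Z := isCommMonObj_of_isProper_of_geometricallyIntegral Z
  obtain ⟨C, _, j, hCp, hCg, hj, hjc, hσs, hσf⟩ := exists_complement_of_field i
  haveI : IsCommMonObj C := isCommMonObj_of_isProper_of_geometricallyIntegral C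
  let σ : Z ⊗ C ⟶ A := (fst Z C ≫ i) * (snd Z C ≫ j)
  haveI : IsProper (Z ⊗ C).hom := inferInstanceAs (IsProper (pullback.fst Z.hom C.hom ≫ Z.hom))
  haveI : GeometricallyIntegral (Z ⊗ C).hom := geometricallyIntegral_tensor' Z C
  haveI : IsMonHom σ := inferInstanceAs (IsMonHom (lift _ _ ≫ μ[A]))
  haveI : IsFinite σ.left := hσf
  haveI : Surjective σ.left := hσs
  haveI : Flat σ.left := AbVarLib.flat_of_surjective σ
  haveI : Mono i := Over.mono_of_mono_left i
  haveI : Mono j := Over.mono_of_mono_left j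
  let H := UnipStruct.kerObj σ
  let κ : H ⟶ Z ⊗ C := UnipStruct.kerι σ
  have hk : AlgGrp.IsKernel κ σ := UnipStruct.isKernel_kerι σ
  have hκσ : κ ≫ σ = 1 := AlgGrpLib.kernel_comp hk
  haveI : IsFinite H.hom := by
    have := MorphismProperty.of_isPullback (P := @IsFinite) (IsPullback.map (Over.forget _) hk) ‹IsFinite σ.left›
    simpa [Over.toUnit_left] using this
  haveI : Mono κ := AlgGrpLib.kernel_mono hk
  let iH : H ⟶ C := κ ≫ snd Z C
  have hκ : (κ ≫ fst Z C) ≫ i * iH ≫ j = 1 := by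
    rw [← hκσ, MonObj.comp_mul, Category.assoc, Category.assoc]
  haveI : Mono iH := by
    refine ⟨fun a b hab => (cancel_mono κ).1 (CartesianMonoidalCategory.hom_ext _ _ ?_ (by simpa [iH] using hab))⟩
    have e := congrArg (a ≫ ·) hκ
    have e' := congrArg (b ≫ ·) hκ
    simp only [MonObj.comp_mul, MonObj.comp_one, ← Category.assoc] at e e'
    rw [hab, ← e'] at e
    have := mul_right_cancel e
    rw [cancel_mono] at this
    exact this
  haveI : IsMonHom iH := inferInstanceAs (IsMonHom (κ ≫ snd Z C))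
  obtain ⟨B, _, q, hBp, hBg, hq, hqf, hqfl, hqs, hiq, hkerq⟩ := exists_quotient_finite_subgroup C H iH
  haveI : IsCommMonObj B := isCommMonObj_of_isProper_of_geometricallyIntegral B
  have hdesc : ∀ (Y : Over (Spec (CommRingCat.of K))) [GrpObj Y] (φ : C ⟶ Y) [IsMonHom φ], iH ≫ φ = 1 →
      ∀ {W : Over (Spec (CommRingCat.of K))} (a b : W ⟶ C), a ≫ q = b ≫ q → a ≫ φ = b ≫ φ := by
    intro Y _ φ _ hφ W a b hab
    obtain ⟨h, hh⟩ := hkerq W (a / b) (by rw [GrpObj.div_comp, hab, div_self'])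
    rw [← div_eq_one, ← GrpObj.div_comp, ← hh, Category.assoc, hφ, MonObj.comp_one]
  obtain ⟨π, hπ⟩ := exists_desc_fpqc σ (snd Z C ≫ q) (by
    intro W a b hab
    obtain ⟨h, hh⟩ := AlgGrpLib.exists_lift_kernel hk (g := a / b) (by rw [GrpObj.div_comp, hab, div_self'])
    rw [← div_eq_one, ← GrpObj.div_comp, ← hh, Category.assoc]
    show h ≫ κ ≫ snd Z C ≫ q = 1
    rw [← Category.assoc κ, hiq, MonObj.comp_one])
  have hπhom : IsMonHom π := isMonHom_of_comp_fpqc σ π (by rw [hπ]; infer_instance)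
  have hiπ : i ≫ π = 1 := by
    have e : lift (𝟙 Z) (1 : Z ⟶ C) ≫ σ = i := by
      rw [MonObj.comp_mul, lift_fst_assoc, lift_snd_assoc, Category.id_comp, MonObj.one_comp, _root_.mul_one]
    rw [← e, Category.assoc, hπ, lift_snd_assoc, MonObj.one_comp]
  have hjπ : j ≫ π = q := by
    have e : lift (1 : C ⟶ Z) (𝟙 C) ≫ σ = j := by
      rw [MonObj.comp_mul, lift_fst_assoc, lift_snd_assoc, Category.id_comp, MonObj.one_comp, _root_.one_mul]
    rw [← e, Category.assoc, hπ, lift_snd_assoc, Category.id_comp]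
  haveI : Surjective π.left := ⟨fun b => by
    obtain ⟨c, rfl⟩ := q.left.surjective b
    exact ⟨j.left c, by rw [← Scheme.Hom.comp_apply, ← Over.comp_left, hjπ]⟩⟩
  haveI : IsProper π.left := AbVarLib.isProper_left π
  refine ⟨B, inferInstance, π, hBp, hBg, hπhom, AbVarLib.flat_of_surjective π, inferInstance, inferInstance, hiπ,
    fun Y _ φ _ hφ => ?_, fun x hx => ?_⟩
  · have hjφ : iH ≫ j ≫ φ = 1 := by
      have := congrArg (· ≫ φ) hκ
      simp only [MonObj.mul_comp, MonObj.one_comp, Category.assoc, hφ, MonObj.comp_one, _root_.one_mul] at this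
      exact this
    obtain ⟨f, hf⟩ := exists_desc_fpqc q (j ≫ φ) (hdesc Y (j ≫ φ) hjφ)
    have hfhom : IsMonHom f := isMonHom_of_comp_fpqc q f (by rw [hf]; infer_instance)
    refine ⟨f, hfhom, ?_⟩
    haveI : Epi σ := Over.epi_of_epi_left _
    rw [← cancel_epi σ, ← Category.assoc, hπ, Category.assoc, hf, MonObj.mul_comp, Category.assoc, Category.assoc,
      hφ, MonObj.comp_one, _root_.one_mul]
  · obtain ⟨w, hw⟩ := exists_pts_lift (Ω := AlgebraicClosure K) σ x
    obtain ⟨h, hh⟩ := hkerq _ (w ≫ snd Z C) (by rw [Category.assoc, ← hπ, ← Category.assoc, hw, hx])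
    refine ⟨(w ≫ fst Z C) / (h ≫ κ ≫ fst Z C), ?_⟩
    have e := congrArg (h ≫ ·) hκ
    simp only [MonObj.comp_mul, MonObj.comp_one, ← Category.assoc, hh] at e
    rw [GrpObj.div_comp, ← hw, MonObj.comp_mul, div_eq_iff_eq_mul]
    simp only [Category.assoc] at e ⊢
    rw [_root_.mul_assoc, _root_.mul_comm _ (h ≫ κ ≫ fst Z C ≫ i), e, _root_.mul_one]

end Groth.Agent.AbCubeLib
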