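import Groth.Agent.AbCubeLib.FrobEnd
import Groth.Agent.AbCubeLib.SubvarietyQuotient
import Groth.Prelude.Def_EndRing

/-!
# The Frobenius endomorphism is natural; polynomial annihilators pass to subobjects and quotients
-/

set_option autoImplicit false
set_option backward.isDefEq.respectTransparency.types false
set_option maxHeartbeats 800000

universe u

open CategoryTheory CategoryTheory.Limits MonoidalCategory CartesianMonoidalCategory AlgebraicGeometry MonObj

namespace Groth.Agent.AbCubeLib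

/-- Power maps commute with every morphism. -/
theorem powerMap_natural {X Y : Scheme.{u}} (σ : X ⟶ X) (τ : Y ⟶ Y) (f : X ⟶ Y) {q : ℕ}
    (hσle : ∀ U : X.Opens, U ≤ σ ⁻¹ᵁ U) (hσ : ∀ (U : X.Opens) (s : Γ(X, U)), (σ.appLE U U (hσle U)).hom s = s ^ q)
    (hτle : ∀ U : Y.Opens, U ≤ τ ⁻¹ᵁ U) (hτ : ∀ (U : Y.Opens) (s : Γ(Y, U)), (τ.appLE U U (hτle U)).hom s = s ^ q) :
    σ ≫ f = f ≫ τ := by
  have hbasis : ∀ x : X, ∃ (U : Y.Opens) (_ : IsAffineOpen U) (V : X.Opens) (_ : IsAffineOpen V),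
      x ∈ V ∧ V ≤ f ⁻¹ᵁ U := by
    intro x
    obtain ⟨U, hU, hxU, -⟩ := exists_isAffineOpen_mem_and_subset (U := ⊤) (x := f x) trivial
    obtain ⟨V, hV, hxV, hVU⟩ := exists_isAffineOpen_mem_and_subset (U := f ⁻¹ᵁ U) (x := x) hxU
    exact ⟨U, hU, V, hV, hxV, hVU⟩
  choose U hU V hV hxV hVU using hbasis
  refine (X.openCoverOfIsOpenCover V (top_le_iff.1 fun x _ => TopologicalSpace.Opens.mem_iSup.2 ⟨x, hxV x⟩)).hom_ext _ _
    fun x => ?_
  have h1 : V x ≤ (σ ≫ f) ⁻¹ᵁ U x := (hσle _).trans (σ.preimage_mono (hVU x))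
  have h2 : V x ≤ (f ≫ τ) ⁻¹ᵁ U x := (hVU x).trans (f.preimage_mono (hτle _))
  have e : (σ ≫ f).appLE (U x) (V x) h1 = (f ≫ τ).appLE (U x) (V x) h2 := by
    rw [← Scheme.Hom.appLE_comp_appLE _ _ (U x) (V x) (V x) (hVU x) (hσle _),
      ← Scheme.Hom.appLE_comp_appLE _ _ (U x) (U x) (V x) (hτle _) (hVU x)]
    ext s
    show (σ.appLE (V x) (V x) (hσle _)).hom ((f.appLE (U x) (V x) (hVU x)).hom s) =
      (f.appLE (U x) (V x) (hVU x)).hom ((τ.appLE (U x) (U x) (hτle _)).hom s)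
    rw [hσ, hτ, map_pow]
  have e' : (hV x).fromSpec ≫ σ ≫ f = (hV x).fromSpec ≫ f ≫ τ := by
    rw [← IsAffineOpen.SpecMap_appLE_fromSpec _ (hU x) (hV x) h1,
      ← IsAffineOpen.SpecMap_appLE_fromSpec _ (hU x) (hV x) h2, e]
  show (V x).ι ≫ σ ≫ f = (V x).ι ≫ f ≫ τ
  rw [← (hV x).isoSpec_hom_fromSpec, Category.assoc, Category.assoc, e']

/-- A scheme over a finite field with its Frobenius endomorphism. -/
def IsFrob {K : Type u} [Field K] {X : Over (Spec (CommRingCat.of K))} (π : X ⟶ X) : Prop :=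
  π.left.base = 𝟙 _ ∧ ∃ hle : ∀ U : X.left.Opens, U ≤ π.left ⁻¹ᵁ U,
    ∀ (U : X.left.Opens) (s : Γ(X.left, U)), (π.left.appLE U U (hle U)).hom s = s ^ Nat.card K

variable {K : Type u} [Field K]

theorem IsFrob.natural {X Y : Over (Spec (CommRingCat.of K))} {π : X ⟶ X} {π' : Y ⟶ Y} (h : IsFrob π) (h' : IsFrob π')
    (f : X ⟶ Y) : π ≫ f = f ≫ π' := by
  obtain ⟨-, hle, happ⟩ := h
  obtain ⟨-, hle', happ'⟩ := h'
  exact Over.OverMorphism.ext (powerMap_natural _ _ f.left hle happ hle' happ')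

theorem frobIter_base (X : Scheme.{u}) (p : ℕ) [Fact p.Prime] [FrobSch.IsCharP X p] (n : ℕ) :
    (FrobSch.frobIter X p n).base = 𝟙 _ := by
  induction n with
  | zero => rfl
  | succ n ih => rw [FrobSch.frobIter_succ, Scheme.Hom.comp_base, FrobSch.frob_base, ih, Category.id_comp]

theorem exists_isFrob [Finite K] (X : Over (Spec (CommRingCat.of K))) [GrpObj X] :
    ∃ (π : X ⟶ X) (_ : IsMonHom π), IsFrob π := by
  obtain ⟨π, hπ, hle, happ⟩ := exists_frobenius_end X
  refine ⟨π, hπ, ?_, hle, happ⟩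
  cases nonempty_fintype K
  obtain ⟨p, hp, m, hpp, hcard⟩ := FiniteField.card' K
  haveI : Fact p.Prime := ⟨hpp⟩
  haveI : FrobSch.IsCharP (Spec (CommRingCat.of K)) p := FrobSch.isCharP_Spec K p
  haveI : FrobSch.IsCharP X.left p := FrobSch.IsCharP.of_hom X.hom p
  obtain ⟨h, hh⟩ := frobIter_powerMap X.left p m
  have e := powerMap_natural π.left (FrobSch.frobIter X.left p m) (𝟙 _) hle happ h (fun U s => by
    rw [hh, Nat.card_eq_fintype_card, hcard])
  rw [Category.comp_id, Category.id_comp] at e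
  rw [e]
  exact frobIter_base _ _ _

section Killed

variable {X Y : Over (Spec (CommRingCat.of K))} [GrpObj X] [IsCommMonObj X] [GrpObj Y] [IsCommMonObj Y]

theorem eval_comm (P : Polynomial ℤ) (a : EndAV.End X) (b : EndAV.End Y) (f : EndAV.Hom X Y)
    (h : a.toHom ≫ f.toHom = f.toHom ≫ b.toHom) :
    (Polynomial.eval₂ (Int.castRingHom (EndAV.End X)) a P).toHom ≫ f.toHom =
      f.toHom ≫ (Polynomial.eval₂ (Int.castRingHom (EndAV.End Y)) b P).toHom := by
  have hpow : ∀ n : ℕ, (a ^ n).toHom ≫ f.toHom = f.toHom ≫ (b ^ n).toHom := by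
    intro n
    induction n with
    | zero => rw [pow_zero, pow_zero, EndAV.End.toHom_one, EndAV.End.toHom_one, Category.id_comp, Category.comp_id]
    | succ n ih =>
      rw [EndAV.End.toHom_pow_succ, EndAV.End.toHom_pow_succ, Category.assoc, h, ← Category.assoc, ih, Category.assoc]
  induction P using Polynomial.induction_on' with
  | add p q hp hq =>
    rw [Polynomial.eval₂_add, Polynomial.eval₂_add, EndAV.End.toHom_add, EndAV.End.toHom_add, MonObj.mul_comp, hp, hq,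
      MonObj.comp_mul]
  | monomial n c =>
    rw [Polynomial.eval₂_monomial, Polynomial.eval₂_monomial, EndAV.End.toHom_mul, EndAV.End.toHom_mul,
      eq_intCast, eq_intCast, EndAV.End.toHom_intCast, EndAV.End.toHom_intCast, Category.assoc, GrpObj.zpow_comp,
      Category.id_comp]
    have e : f.toHom ≫ (b ^ n).toHom ≫ (𝟙 Y) ^ c = (f.toHom ≫ (b ^ n).toHom) ^ c := by
      rw [GrpObj.comp_zpow, GrpObj.comp_zpow, Category.comp_id]
    rw [e, ← hpow, GrpObj.comp_zpow]

/-- The annihilator of the Frobenius passes to subobjects. -/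
theorem killed_of_mono (P : Polynomial ℤ) (f : X ⟶ Y) [IsMonHom f] [Mono f] (πX : X ⟶ X) [IsMonHom πX] (hX : IsFrob πX)
    (πY : Y ⟶ Y) [IsMonHom πY] (hY : IsFrob πY)
    (h : Polynomial.eval₂ (Int.castRingHom (EndAV.End Y)) (EndAV.End.of πY) P = 0) :
    Polynomial.eval₂ (Int.castRingHom (EndAV.End X)) (EndAV.End.of πX) P = 0 := by
  apply EndAV.End.ext
  have e := eval_comm P (EndAV.End.of πX) (EndAV.End.of πY) (EndAV.Hom.of f) (hX.natural hY f)
  rw [h, EndAV.End.toHom_zero, MonObj.comp_one, EndAV.Hom.toHom_of] at e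
  rw [EndAV.End.toHom_zero, ← cancel_mono f, MonObj.one_comp]
  exact e

/-- The annihilator of the Frobenius passes to quotients. -/
theorem killed_of_epi (P : Polynomial ℤ) (f : X ⟶ Y) [IsMonHom f] [Epi f] (πX : X ⟶ X) [IsMonHom πX] (hX : IsFrob πX)
    (πY : Y ⟶ Y) [IsMonHom πY] (hY : IsFrob πY)
    (h : Polynomial.eval₂ (Int.castRingHom (EndAV.End X)) (EndAV.End.of πX) P = 0) :
    Polynomial.eval₂ (Int.castRingHom (EndAV.End Y)) (EndAV.End.of πY) P = 0 := by
  apply EndAV.End.ext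
  have e := eval_comm P (EndAV.End.of πX) (EndAV.End.of πY) (EndAV.Hom.of f) (hX.natural hY f)
  rw [h, EndAV.End.toHom_zero, MonObj.one_comp, EndAV.Hom.toHom_of] at e
  rw [EndAV.End.toHom_zero, ← cancel_epi f, MonObj.comp_one]
  exact e.symm

/-- The annihilator of the Frobenius passes to objects with a jointly monomorphic family of homomorphisms. -/
theorem killed_of_jointly_mono (P : Polynomial ℤ) {κ : Type*} (f : κ → (X ⟶ Y)) [∀ t, IsMonHom (f t)]
    (hf : ∀ a b : X ⟶ X, (∀ t, a ≫ f t = b ≫ f t) → a = b) (πX : X ⟶ X) [IsMonHom πX] (hX : IsFrob πX)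
    (πY : Y ⟶ Y) [IsMonHom πY] (hY : IsFrob πY)
    (h : Polynomial.eval₂ (Int.castRingHom (EndAV.End Y)) (EndAV.End.of πY) P = 0) :
    Polynomial.eval₂ (Int.castRingHom (EndAV.End X)) (EndAV.End.of πX) P = 0 := by
  apply EndAV.End.ext
  refine hf _ _ fun t => ?_
  have e := eval_comm P (EndAV.End.of πX) (EndAV.End.of πY) (EndAV.Hom.of (f t)) (hX.natural hY (f t))
  rw [h, EndAV.End.toHom_zero, MonObj.comp_one, EndAV.Hom.toHom_of] at e
  rw [EndAV.End.toHom_zero, MonObj.one_comp]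
  exact e

end Killed

end Groth.Agent.AbCubeLib
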