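import Groth.Agent.AbCubeLib.RootPow
import Groth.Agent.ZetaLib.Formal
import Groth.Agent.ZetaLib.NPts

/-!
# The zeta function from point counts `∏ (1 - α_i ^ m)`
-/

set_option autoImplicit false

universe u

open AlgebraicGeometry CategoryTheory

namespace Groth.Agent.AbCubeLib

/-- The exterior power factor. -/
theorem ode_powersetCard {d : ℕ} (r : Fin d → ℂ) (j : ℕ) :
    PowerSeries.derivative ℂ (((∏ I ∈ (Finset.univ : Finset (Fin d)).powersetCard j,
        ((1 : Polynomial ℂ) - Polynomial.C (∏ i ∈ I, r i) * Polynomial.X)) : Polynomial ℂ) : PowerSeries ℂ) =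
      -(∑ I ∈ (Finset.univ : Finset (Fin d)).powersetCard j, PowerSeries.mk fun m => (∏ i ∈ I, r i) ^ (m + 1)) *
        (((∏ I ∈ (Finset.univ : Finset (Fin d)).powersetCard j,
          ((1 : Polynomial ℂ) - Polynomial.C (∏ i ∈ I, r i) * Polynomial.X)) : Polynomial ℂ) : PowerSeries ℂ) := by
  rw [← Polynomial.coeToPowerSeries.ringHom_apply, map_prod]
  refine WeilLib.derivative_prod _ _ _ fun I _ => ?_
  rw [Polynomial.coeToPowerSeries.ringHom_apply, Polynomial.coe_sub, Polynomial.coe_one, Polynomial.coe_mul,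
    Polynomial.coe_C, Polynomial.coe_X]
  exact ZetaLib.ode_one_sub_C_mul_X _

theorem constantCoeff_powersetCard {d : ℕ} (r : Fin d → ℂ) (j : ℕ) :
    PowerSeries.constantCoeff (((∏ I ∈ (Finset.univ : Finset (Fin d)).powersetCard j,
        ((1 : Polynomial ℂ) - Polynomial.C (∏ i ∈ I, r i) * Polynomial.X)) : Polynomial ℂ) : PowerSeries ℂ) = 1 := by
  rw [← Polynomial.coeToPowerSeries.ringHom_apply, map_prod, map_prod]
  exact Finset.prod_eq_one fun I _ => by simp

theorem prod_one_sub_pow_eq {d : ℕ} (r : Fin d → ℂ) (n : ℕ) :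
    ∏ i, (1 - r i ^ n) = ∑ j ∈ Finset.range (d + 1),
      (-1 : ℂ) ^ j * ∑ I ∈ (Finset.univ : Finset (Fin d)).powersetCard j, (∏ i ∈ I, r i) ^ n := by
  simp_rw [sub_eq_add_neg]
  rw [Finset.prod_one_add, Finset.sum_powerset, Finset.card_univ, Fintype.card_fin]
  refine Finset.sum_congr rfl fun j _ => ?_
  rw [Finset.mul_sum]
  refine Finset.sum_congr rfl fun I hI => ?_
  rw [Finset.prod_neg, Finset.prod_pow, (Finset.mem_powersetCard.1 hI).2]

variable {k : Type u} [Field k] {X : Scheme.{u}} (f : X ⟶ Spec (CommRingCat.of k))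

/-- The zeta function determined by `N_m = ∏ (1 - α_i ^ m)`. -/
theorem zeta_mul_prod_even_eq {d : ℕ} (r : Fin d → ℂ)
    (h : ∀ m, (Zeta.nPts f (m + 1) : ℂ) = ∏ i, (1 - r i ^ (m + 1))) :
    (Zeta.zetaFun f).map (algebraMap ℚ ℂ) *
        ∏ j ∈ (Finset.range (d + 1)).filter (fun j => Even j),
          (((∏ I ∈ (Finset.univ : Finset (Fin d)).powersetCard j,
            ((1 : Polynomial ℂ) - Polynomial.C (∏ i ∈ I, r i) * Polynomial.X)) : Polynomial ℂ) : PowerSeries ℂ) =
      ∏ j ∈ (Finset.range (d + 1)).filter (fun j => Odd j),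
          (((∏ I ∈ (Finset.univ : Finset (Fin d)).powersetCard j,
            ((1 : Polynomial ℂ) - Polynomial.C (∏ i ∈ I, r i) * Polynomial.X)) : Polynomial ℂ) : PowerSeries ℂ) := by
  obtain ⟨hZ, hZ0⟩ := ZetaLib.zeta_ode f
  let t : ℕ → PowerSeries ℂ := fun j =>
    ∑ I ∈ (Finset.univ : Finset (Fin d)).powersetCard j, PowerSeries.mk fun m => (∏ i ∈ I, r i) ^ (m + 1)
  have hlam : PowerSeries.map (algebraMap ℚ ℂ) (ZetaLib.lam f) =
      (∑ j ∈ (Finset.range (d + 1)).filter (fun j => Even j), t j) -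
        ∑ j ∈ (Finset.range (d + 1)).filter (fun j => Odd j), t j := by
    refine PowerSeries.ext fun m => ?_
    rw [PowerSeries.coeff_map, ZetaLib.lam, PowerSeries.coeff_mk, map_natCast, h m, prod_one_sub_pow_eq, map_sub,
      map_sum, map_sum, ← Finset.sum_filter_add_sum_filter_not (Finset.range (d + 1)) (fun j => Even j),
      sub_eq_add_neg, ← Finset.sum_neg_distrib]
    simp only [t, map_sum, PowerSeries.coeff_mk, Nat.not_even_iff_odd]
    congr 1
    · exact Finset.sum_congr rfl fun j hj => by rw [(Finset.mem_filter.1 hj).2.neg_one_pow, one_mul]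
    · exact Finset.sum_congr rfl fun j hj => by rw [(Finset.mem_filter.1 hj).2.neg_one_pow, neg_one_mul]
  refine WeilLib.eq_of_derivative_eq (S := ∑ j ∈ (Finset.range (d + 1)).filter (fun j => Odd j), t j) ?_ ?_ ?_ ?_
  · rw [Derivation.leibniz, smul_eq_mul, smul_eq_mul, WeilLib.derivative_prod _ _ t fun j _ => ode_powersetCard r j,
      WeilLib.derivative_map, hZ, map_mul, map_neg, map_neg, hlam]
    ring
  · exact WeilLib.derivative_prod _ _ t fun j _ => ode_powersetCard r j
  · rw [map_mul, map_prod, Finset.prod_eq_one fun j _ => constantCoeff_powersetCard r j, mul_one,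
      ← PowerSeries.coeff_zero_eq_constantCoeff_apply, PowerSeries.coeff_map,
      PowerSeries.coeff_zero_eq_constantCoeff_apply, hZ0, map_one]
  · rw [map_prod]
    exact Finset.prod_eq_one fun j _ => constantCoeff_powersetCard r j

end Groth.Agent.AbCubeLib
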