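import Groth.Agent.SGA3cLib.DeligneField
import Mathlib.RingTheory.HopfAlgebra.Convolution
import Mathlib.RingTheory.Artinian.Module
import Mathlib.Algebra.CharP.Algebra

/-!
# The order of a finite group scheme is the number of its points times a power of the characteristic
-/

set_option autoImplicit false
set_option backward.isDefEq.respectTransparency.types false

universe u

open TensorProduct WithConv

namespace Groth.Agent.AbCubeLib

variable {k A : Type u} [Field k] [CommRing A] [HopfAlgebra k A] [Module.Finite k A]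

/-- Translation by a point. -/
noncomputable def translAlg (χ : A →ₐ[k] k) : A →ₐ[k] A :=
  (toConv (AlgHom.id k A) * toConv ((Algebra.ofId k A).comp χ)).ofConv

omit [Module.Finite k A] in
theorem translAlg_comp (χ ψ : A →ₐ[k] k) :
    (translAlg ψ).comp (translAlg χ) = translAlg (toConv ψ * toConv χ).ofConv := by
  have h1 : (translAlg ψ).comp ((Algebra.ofId k A).comp χ) = (Algebra.ofId k A).comp χ :=
    AlgHom.ext fun a => by simp
  conv_lhs => rw [translAlg.eq_def χ]
  rw [AlgHom.comp_convMul_distrib, ofConv_toConv, AlgHom.comp_id, ofConv_toConv, h1]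
  show (toConv (translAlg ψ) * toConv ((Algebra.ofId k A).comp χ)).ofConv = _
  unfold translAlg
  rw [toConv_ofConv, mul_assoc, AlgHom.comp_convMul_distrib (Algebra.ofId k A), toConv_ofConv]

omit [Module.Finite k A] in
theorem translAlg_one : translAlg (1 : WithConv (A →ₐ[k] k)).ofConv = AlgHom.id k A := by
  have h : toConv ((Algebra.ofId k A).comp (1 : WithConv (A →ₐ[k] k)).ofConv) = 1 := by
    refine congrArg toConv (AlgHom.ext fun a => ?_)
    simp
  rw [translAlg, h, mul_one, ofConv_toConv]

omit [Module.Finite k A] in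
theorem counit_comp_translAlg (χ : A →ₐ[k] k) : (Bialgebra.counitAlgHom k A).comp (translAlg χ) = χ := by
  have h1 : toConv ((Bialgebra.counitAlgHom k A).comp (AlgHom.id k A)) = 1 :=
    congrArg toConv (AlgHom.ext fun a => by simp)
  have h2 : (Bialgebra.counitAlgHom k A).comp ((Algebra.ofId k A).comp χ) = χ :=
    AlgHom.ext fun a => by simp
  rw [translAlg, AlgHom.comp_convMul_distrib, ofConv_toConv, h1, ofConv_toConv, h2, one_mul, ofConv_toConv]

/-- The order of a finite commutative Hopf algebra. -/
theorem exists_finrank_eq_card_mul [IsAlgClosed k] :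
    ∃ j : ℕ, Module.finrank k A = Nat.card (A →ₐ[k] k) * ringExpChar k ^ j := by
  classical
  haveI : IsArtinianRing A := IsArtinianRing.of_finite k A
  obtain ⟨N, hN⟩ := IsArtinianRing.isNilpotent_nilradical (R := A)
  -- maximal ideals are points
  let pt : (A →ₐ[k] k) → MaximalSpectrum A := fun χ =>
    ⟨RingHom.ker χ, RingHom.ker_isMaximal_of_surjective χ fun r => ⟨algebraMap k A r, χ.commutes r⟩⟩
  have hpt : Function.Bijective pt := by
    refine ⟨fun χ ψ h => AlgHom.ext fun a => ?_, fun m => ?_⟩
    · have hk : RingHom.ker χ = RingHom.ker ψ := congrArg MaximalSpectrum.asIdeal h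
      have : a - algebraMap k A (χ a) ∈ RingHom.ker ψ := by
        rw [← hk, RingHom.mem_ker, map_sub, AlgHom.commutes]
        exact sub_self _
      rw [RingHom.mem_ker, map_sub, AlgHom.commutes, sub_eq_zero] at this
      exact this.symm
    · haveI := m.isMaximal
      letI := Ideal.Quotient.field m.asIdeal
      let e : k ≃ₐ[k] A ⧸ m.asIdeal := AlgEquiv.ofBijective (Algebra.ofId k _)
        IsAlgClosed.algebraMap_bijective_of_isIntegral
      refine ⟨e.symm.toAlgHom.comp (Ideal.Quotient.mkₐ k m.asIdeal), MaximalSpectrum.ext (Ideal.ext fun a => ?_)⟩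
      simp [pt, Ideal.Quotient.eq_zero_iff_mem]
  let ε := Bialgebra.counitAlgHom k A
  let M := RingHom.ker ε
  -- translations
  have htr : ∀ χ : A →ₐ[k] k, Nonempty ((A ⧸ RingHom.ker χ ^ N) ≃ₐ[k] A ⧸ M ^ N) := by
    intro χ
    let ψ : A →ₐ[k] k := (toConv χ)⁻¹.ofConv
    let f : A ≃ₐ[k] A := AlgEquiv.ofAlgHom (translAlg χ) (translAlg ψ)
      (by rw [translAlg_comp, toConv_ofConv, mul_inv_cancel, translAlg_one])
      (by rw [translAlg_comp, toConv_ofConv, inv_mul_cancel, translAlg_one])
    refine ⟨Ideal.quotientEquivAlg _ _ f ?_⟩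
    rw [Ideal.map_pow]
    congr 1
    have hc : RingHom.ker χ = Ideal.comap (f : A →+* A) M := by
      ext a
      rw [Ideal.mem_comap, RingHom.mem_ker, RingHom.mem_ker]
      exact (AlgHom.congr_fun (counit_comp_translAlg χ) a).symm ▸ Iff.rfl
    rw [hc]
    exact (Ideal.map_comap_of_surjective _ f.surjective M).symm
  have hcount : Module.finrank k A = Nat.card (A →ₐ[k] k) * Module.finrank k (A ⧸ M ^ N) := by
    haveI : Fintype (MaximalSpectrum A) := Fintype.ofFinite _
    let e1 := ((IsArtinianRing.quotNilradicalPowEquivPi A N).restrictScalars k).toLinearEquiv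
    let e0 : (A ⧸ nilradical A ^ N) ≃ₗ[k] A :=
      ((Ideal.quotientEquivAlgOfEq k (hN.trans Ideal.zero_eq_bot)).trans (AlgEquiv.quotientBot k A)).toLinearEquiv
    rw [← LinearEquiv.finrank_eq (e0.symm.trans e1).symm, Module.finrank_pi_fintype]
    have hm : ∀ m : MaximalSpectrum A, Module.finrank k (A ⧸ m.asIdeal ^ N) = Module.finrank k (A ⧸ M ^ N) := by
      intro m
      obtain ⟨χ, rfl⟩ := hpt.2 m
      exact (htr χ).some.toLinearEquiv.finrank_eq
    rw [Finset.sum_congr rfl fun m _ => hm m, Finset.sum_const, smul_eq_mul, Finset.card_univ,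
      Nat.card_congr (Equiv.ofBijective pt hpt), Nat.card_eq_fintype_card]
  -- stabilised power at the origin
  have hstab : M ^ (N + N) = M ^ N := by
    refine le_antisymm (Ideal.pow_le_pow_right (Nat.le_add_right N N)) ?_
    -- the nilradical power vanishes, so the powers of `M` are stationary from `N` on
    haveI : Fintype (MaximalSpectrum A) := Fintype.ofFinite _
    let m₀ : MaximalSpectrum A := pt ε
    intro x hx
    have hco : IsCoprime (M ^ (N + N)) (∏ m ∈ Finset.univ.erase m₀, m.asIdeal ^ N) :=
      IsCoprime.prod_right fun m hm => IsCoprime.pow (m₀.isCoprime_of_ne (Finset.ne_of_mem_erase hm).symm)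
    obtain ⟨u, hu, v, hv, huv⟩ := Ideal.isCoprime_iff_exists.1 hco
    have hxv : x * v = 0 := by
      have : x * v ∈ M ^ N * ∏ m ∈ Finset.univ.erase m₀, m.asIdeal ^ N := Ideal.mul_mem_mul hx hv
      rw [show M ^ N = m₀.asIdeal ^ N from rfl,
        Finset.mul_prod_erase Finset.univ (fun m : MaximalSpectrum A => m.asIdeal ^ N) (Finset.mem_univ m₀),
        Ideal.prod_eq_iInf_of_pairwise_isCoprime (fun m _ m' _ h => IsCoprime.pow (m.isCoprime_of_ne h))] at this
      have hbot : (⨅ m ∈ (Finset.univ : Finset (MaximalSpectrum A)), m.asIdeal ^ N) = nilradical A ^ N := by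
        rw [IsArtinianRing.nilradical_pow_eq_iInf]
        simp
      rw [hbot, hN] at this
      exact (Submodule.mem_bot _).1 this
    rw [show x = x * u by rw [← add_zero (x * u), ← hxv, ← mul_add, huv, mul_one]]
    exact Ideal.mul_mem_left _ _ hu
  -- the connected part
  let F := A ⧸ M ^ N
  let π : A →ₐ[k] F := Ideal.Quotient.mkₐ k (M ^ N)
  have hM : ∀ a ∈ M ^ N, ε a = 0 ∨ N = 0 := fun a ha => by
    rcases Nat.eq_zero_or_pos N with h | h
    · exact Or.inr h
    · exact Or.inl (Ideal.pow_le_self h.ne' ha)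
  rcases Nat.eq_zero_or_pos N with hN0 | hN0
  · subst hN0
    exfalso
    haveI : Nontrivial A := ε.toRingHom.domain_nontrivial
    rw [pow_zero] at hN
    exact one_ne_zero (α := Ideal A) hN
  let εF : F →ₐ[k] k := Ideal.Quotient.liftₐ (M ^ N) ε fun a ha => Ideal.pow_le_self hN0.ne' ha
  let f₂ : A →ₐ[k] F ⊗[k] F := (Algebra.TensorProduct.map π π).comp (Bialgebra.comulAlgHom k A)
  let I₂ : Ideal (F ⊗[k] F) := Ideal.map (Algebra.TensorProduct.includeLeft : F →ₐ[k] F ⊗[k] F) (RingHom.ker εF) ⊔
    Ideal.map (Algebra.TensorProduct.includeRight : F →ₐ[k] F ⊗[k] F) (RingHom.ker εF)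
  have hεF : RingHom.ker εF ^ N = ⊥ := by
    refine le_bot_iff.1 ?_
    rw [show RingHom.ker εF = Ideal.map π M from ?_, ← Ideal.map_pow]
    · exact Ideal.map_le_iff_le_comap.2 fun a ha => Ideal.mem_comap.2 ((Submodule.mem_bot _).2 (Ideal.Quotient.eq_zero_iff_mem.2 ha))
    · refine le_antisymm (fun z hz => ?_) (Ideal.map_le_iff_le_comap.2 fun a ha => ?_)
      · obtain ⟨a, rfl⟩ := Ideal.Quotient.mk_surjective z
        exact Ideal.mem_map_of_mem π (show a ∈ M from hz)
      · exact (show ε a = 0 from ha)
  have hI₂ : I₂ ^ (N + N) = ⊥ := by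
    refine le_bot_iff.1 ((Ideal.sup_pow_add_le_pow_sup_pow).trans ?_)
    rw [← Ideal.map_pow, ← Ideal.map_pow, hεF, Ideal.map_bot, Ideal.map_bot, sup_bot_eq]
  have hcomul : Ideal.map f₂ (M ^ N) = ⊥ := by
    refine le_bot_iff.1 ?_
    refine le_trans (le_of_eq (congrArg (Ideal.map f₂) hstab.symm)) ?_
    rw [Ideal.map_pow, ← hI₂]
    refine Ideal.pow_right_mono (Ideal.map_le_iff_le_comap.2 fun a ha => ?_) _
    rw [Ideal.mem_comap]
    have key : ∀ z : A ⊗[k] A, Algebra.TensorProduct.map π π z -
        algebraMap k (F ⊗[k] F) (Algebra.TensorProduct.lift ε ε (fun _ _ => Commute.all _ _) z) ∈ I₂ := by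
      intro z
      induction z using TensorProduct.induction_on with
      | zero => simp
      | add x y hx hy => rw [map_add, map_add, map_add, add_sub_add_comm]; exact add_mem hx hy
      | tmul x y =>
        rw [Algebra.TensorProduct.map_tmul, Algebra.TensorProduct.lift_tmul]
        have e : π x ⊗ₜ[k] π y - algebraMap k (F ⊗[k] F) (ε x * ε y) =
            (Algebra.TensorProduct.includeLeft : F →ₐ[k] F ⊗[k] F) (π x - algebraMap k F (ε x)) *
              (1 ⊗ₜ[k] π y) +
            algebraMap k (F ⊗[k] F) (ε x) *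
              (Algebra.TensorProduct.includeRight : F →ₐ[k] F ⊗[k] F) (π y - algebraMap k F (ε y)) := by
          have h1 : (Algebra.TensorProduct.includeLeft : F →ₐ[k] F ⊗[k] F) (π x) * (1 ⊗ₜ[k] π y) = π x ⊗ₜ[k] π y := by
            rw [Algebra.TensorProduct.includeLeft_apply, Algebra.TensorProduct.tmul_mul_tmul, mul_one, one_mul]
          rw [map_sub, map_sub, sub_mul, h1, AlgHom.commutes, AlgHom.commutes, map_mul, mul_sub]
          show _ = _ + (algebraMap k (F ⊗[k] F) (ε x) * (1 ⊗ₜ[k] π y) - _)
          abel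
        rw [e]
        refine add_mem (Ideal.mul_mem_right _ _ (Ideal.mem_sup_left (Ideal.mem_map_of_mem _ ?_)))
          (Ideal.mul_mem_left _ _ (Ideal.mem_sup_right (Ideal.mem_map_of_mem _ ?_)))
        · rw [RingHom.mem_ker, map_sub, AlgHom.commutes]
          exact sub_self _
        · rw [RingHom.mem_ker, map_sub, AlgHom.commutes]
          exact sub_self _
    have h0 : Algebra.TensorProduct.lift ε ε (fun _ _ => Commute.all _ _) (Bialgebra.comulAlgHom k A a) = 0 := by
      have := AlgHom.congr_fun (congrArg ofConv (one_mul (1 : WithConv (A →ₐ[k] k)))) a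
      rw [AlgHom.convMul_apply] at this
      exact this.trans (show ε a = 0 from ha)
    have := key (Bialgebra.comulAlgHom k A a)
    rwa [h0, map_zero, sub_zero] at this
  let ΔF : F →ₐ[k] F ⊗[k] F := Ideal.Quotient.liftₐ (M ^ N) f₂ fun a ha =>
    (Submodule.mem_bot _).1 (hcomul ▸ Ideal.mem_map_of_mem f₂ ha)
  let c : Groth.Agent.SGA3cLib.CounitalMul k F :=
    { ε := εF
      Δ := ΔF
      counit_left := fun z => by
        obtain ⟨a, rfl⟩ := Ideal.Quotient.mk_surjective z
        show TensorProduct.lid k F (εF.toLinearMap.rTensor F (Algebra.TensorProduct.map π π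
          (Bialgebra.comulAlgHom k A a))) = π a
        have : ∀ w : A ⊗[k] A, TensorProduct.lid k F (εF.toLinearMap.rTensor F (Algebra.TensorProduct.map π π w)) =
            π (TensorProduct.lid k A ((Coalgebra.counit : A →ₗ[k] k).rTensor A w)) := by
          intro w
          induction w using TensorProduct.induction_on with
          | zero => simp
          | add x y hx hy => simp only [map_add, hx, hy]
          | tmul x y =>
            simp [εF, π, ε, Ideal.Quotient.mkₐ_eq_mk]
            rfl
        rw [this, Bialgebra.comulAlgHom_apply, Coalgebra.rTensor_counit_comul]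
        simp
      counit_right := fun z => by
        obtain ⟨a, rfl⟩ := Ideal.Quotient.mk_surjective z
        show TensorProduct.rid k F (εF.toLinearMap.lTensor F (Algebra.TensorProduct.map π π
          (Bialgebra.comulAlgHom k A a))) = π a
        have : ∀ w : A ⊗[k] A, TensorProduct.rid k F (εF.toLinearMap.lTensor F (Algebra.TensorProduct.map π π w)) =
            π (TensorProduct.rid k A ((Coalgebra.counit : A →ₗ[k] k).lTensor A w)) := by
          intro w
          induction w using TensorProduct.induction_on with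
          | zero => simp
          | add x y hx hy => simp only [map_add, hx, hy]
          | tmul x y =>
            simp [εF, π, ε, Ideal.Quotient.mkₐ_eq_mk]
            rfl
        rw [this, Bialgebra.comulAlgHom_apply, Coalgebra.lTensor_counit_comul]
        simp
      nilpotent := ⟨N, hεF⟩ }
  rw [hcount]
  rcases CharP.char_is_prime_or_zero k (ringChar k) with hp | h0
  · haveI : Fact (ringChar k).Prime := ⟨hp⟩
    obtain ⟨r, hr⟩ := c.exists_finrank_eq_pow (ringChar k)
    exact ⟨r, by rw [hr, ringExpChar.eq k (ringChar k)]⟩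
  · haveI : CharP k 0 := h0 ▸ ringChar.charP k
    haveI := CharP.charP_to_charZero k
    exact ⟨0, by rw [c.finrank_eq_one_of_charZero, pow_zero]⟩

end Groth.Agent.AbCubeLib
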