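import Groth.Agent.AbCubeLib.PoincareReducibility
import Groth.Agent.SGA3xLib.SepFibre

/-!
# Images of homomorphisms from abelian varieties to commutative groups
-/

set_option autoImplicit false
set_option backward.isDefEq.respectTransparency.types false

universe u

open CategoryTheory CategoryTheory.Limits MonoidalCategory CartesianMonoidalCategory AlgebraicGeometry MonObj
  TopologicalSpace
open Groth.Agent.PicLib Groth.Agent.Coherent Groth.Agent.CubeLib Groth.Agent.AmpleLib

namespace Groth.Agent.AbCubeLib

variable {K : Type u} [Field K] {A A' : Over (Spec (CommRingCat.of K))}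
  [GrpObj A] [IsProper A.hom] [GeometricallyIntegral A.hom] [GrpObj A'] [IsCommMonObj A']
  [LocallyOfFiniteType A'.hom]

/-- The image of a homomorphism from an abelian variety to a commutative group is an abelian variety. -/
theorem exists_image_in_group (q : A ⟶ A') [IsMonHom q] :
    ∃ (C : Over (Spec (CommRingCat.of K))) (_ : GrpObj C) (j : C ⟶ A') (qC : A ⟶ C), IsProper C.hom ∧
      GeometricallyIntegral C.hom ∧ IsMonHom j ∧ IsClosedImmersion j.left ∧ IsMonHom qC ∧ Surjective qC.left ∧
      qC ≫ j = q ∧ Set.range j.left = Set.range q.left := by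
  haveI : IsCommMonObj A := isCommMonObj_of_isProper_of_geometricallyIntegral A
  haveI : IsSeparated A'.hom := SGA3xLib.isSeparated_of_grpObj A'
  -- the image of `q`
  haveI : IsProper q.left := by
    have : IsProper (q.left ≫ A'.hom) := by rw [Over.w q]; infer_instance
    exact IsProper.of_comp q.left A'.hom
  let Z : Closeds A'.left := ⟨Set.range q.left, q.left.isClosedMap.isClosed_range⟩
  let I := Scheme.IdealSheafData.vanishingIdeal Z
  let C : Over (Spec (CommRingCat.of K)) := Over.mk (I.subschemeι ≫ A'.hom)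
  haveI : IsReduced C.left := Props12.isReduced_subscheme_vanishingIdeal Z
  let j : C ⟶ A' := Over.homMk I.subschemeι rfl
  haveI : IsClosedImmersion j.left := inferInstanceAs (IsClosedImmersion I.subschemeι)
  haveI : IsSeparated C.hom := inferInstanceAs (IsSeparated (I.subschemeι ≫ A'.hom))
  haveI : LocallyOfFiniteType C.hom := inferInstanceAs (LocallyOfFiniteType (I.subschemeι ≫ A'.hom))
  have hrg : Set.range j.left = Set.range q.left := by
    show Set.range I.subschemeι = _
    rw [Scheme.IdealSheafData.range_subschemeι]; rfl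
  haveI : Mono j := Over.mono_of_mono_left j
  haveI : IsIntegral A.left := GeometricallyIntegral.isIntegral_of_subsingleton A.hom
  haveI : Smooth A.hom := by
    haveI := AbSchLib.geometricallyConnected_of_irreducible A.hom
    exact AbVarLib.smooth_of_geometricallyReduced A
  haveI : Smooth C.hom := by
    let act : AlgGrp.Action A A' :=
      { act := (fst A A' ≫ q) * snd A A'
        one_act := by
          rw [MonObj.comp_mul, whiskerRight_fst_assoc, whiskerRight_snd, IsMonHom.one_hom,
            toUnit_unique (fst (𝟙_ _) _) (toUnit _), ← Hom.one_def, _root_.one_mul, leftUnitor_hom]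
        mul_act := by
          rw [MonObj.comp_mul, whiskerRight_fst_assoc, whiskerRight_snd, IsMonHom.mul_hom]
          simp only [MonObj.comp_mul, whiskerLeft_fst_assoc, whiskerLeft_snd, associator_hom_fst_assoc,
            associator_hom_snd_fst_assoc, associator_hom_snd_snd]
          rw [← _root_.mul_assoc]
          congr 1
          simp only [MonoidalCategory.tensorHom_def, Hom.mul_def, ← Category.assoc]
          congr 1
          apply CartesianMonoidalCategory.hom_ext <;> simp }
    refine AlgGrpLib.OrbitSmooth.smooth_orbit act 1 j ?_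
    rw [show act.orbitMap 1 = q from ?_]
    · exact hrg
    · show lift (𝟙 A) (toUnit A ≫ (1 : 𝟙_ _ ⟶ A')) ≫ ((fst A A' ≫ q) * snd A A') = q
      rw [MonObj.comp_mul, lift_fst_assoc, lift_snd, MonObj.comp_one, Category.id_comp, _root_.mul_one]
  obtain ⟨q', hq'⟩ := RedSepLib.exists_lift_of_range_subset q.left j.left hrg.ge
  let qC : A ⟶ C := Over.homMk q' (by rw [← Over.w j, ← Category.assoc, hq', Over.w])
  have hqC : qC ≫ j = q := Over.OverMorphism.ext hq'
  haveI : Surjective qC.left := ⟨fun c => by
    obtain ⟨a, ha⟩ : j.left c ∈ Set.range q.left := hrg ▸ ⟨c, rfl⟩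
    refine ⟨a, j.left.isEmbedding.injective ?_⟩
    rw [← ha, ← hqC]; rfl⟩
  haveI : IsProper C.hom := by
    have : UniversallyClosed (qC.left ≫ C.hom) := by rw [Over.w]; infer_instance
    have : UniversallyClosed C.hom := UniversallyClosed.of_comp_surjective qC.left C.hom
    exact ⟨⟩
  haveI : GeometricallyIrreducible C.hom := by
    refine ⟨FBaseLib.geometrically_of_surjective_source (fun X Y h _ hX => ?_) C.hom qC.left
      ((Over.w qC).symm ▸ GeometricallyIrreducible.geometrically_irreducibleSpace (f := A.hom))⟩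
    haveI : IrreducibleSpace X := hX
    have hu := (IrreducibleSpace.isIrreducible_univ (X := X)).image h h.continuous.continuousOn
    rw [Set.image_univ, Set.range_eq_univ.2 h.surjective] at hu
    exact (irreducibleSpace_def Y).2 hu
  haveI : GeometricallyReduced C.hom := AbSchLib.geometricallyReduced_of_smooth C.hom
  haveI : GeometricallyIntegral C.hom := .of_geometricallyReduced_of_geometricallyIrreducible _
  -- the group structure
  have hlift : ∀ (T : Over (Spec (CommRingCat.of K))) [IsReduced T.left] (f : T ⟶ A'),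
      Set.range f.left ⊆ Set.range q.left → ∃ z : T ⟶ C, z ≫ j = f := by
    intro T _ f hf
    obtain ⟨z, hz⟩ := RedSepLib.exists_lift_of_range_subset f.left j.left (hrg ▸ hf)
    exact ⟨Over.homMk z (by rw [← Over.w j, reassoc_of% hz]; exact Over.w f), Over.OverMorphism.ext hz⟩
  haveI : Smooth (C ⊗ C).hom := inferInstanceAs (Smooth (pullback.fst C.hom C.hom ≫ C.hom))
  haveI : IsReduced (C ⊗ C).left := AbSchLib.isReduced_of_smooth (C ⊗ C).hom
  haveI : Surjective (qC ⊗ₘ qC).left := by
    rw [Over.tensorHom_left]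
    exact MorphismProperty.pullbackMap (P := @Surjective) inferInstance inferInstance (Over.w qC).symm (Over.w qC).symm
  obtain ⟨m, hm⟩ := hlift (C ⊗ C) ((fst C C ≫ j) * (snd C C ≫ j)) (by
    rintro _ ⟨v, rfl⟩
    obtain ⟨v', rfl⟩ := (qC ⊗ₘ qC).left.surjective v
    refine ⟨((fst A A * snd A A)).left v', ?_⟩
    rw [← Scheme.Hom.comp_apply, ← Scheme.Hom.comp_apply, ← Over.comp_left, ← Over.comp_left, MonObj.mul_comp _ _ q,
      MonObj.comp_mul, tensorHom_fst_assoc, tensorHom_snd_assoc, hqC])
  haveI : IsReduced (𝟙_ (Over (Spec (CommRingCat.of K)))).left := inferInstanceAs (IsReduced (Spec (CommRingCat.of K)))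
  obtain ⟨e, he⟩ := hlift (𝟙_ _) 1 (by
    rintro _ ⟨v, rfl⟩
    refine ⟨(1 : 𝟙_ _ ⟶ A).left v, ?_⟩
    rw [← Scheme.Hom.comp_apply, ← Over.comp_left, MonObj.one_comp])
  obtain ⟨ii, hii⟩ := hlift C j⁻¹ (by
    rintro _ ⟨v, rfl⟩
    obtain ⟨a, rfl⟩ := qC.left.surjective v
    refine ⟨((𝟙 A)⁻¹).left a, ?_⟩
    rw [← Scheme.Hom.comp_apply, ← Scheme.Hom.comp_apply, ← Over.comp_left, ← Over.comp_left, GrpObj.inv_comp,
      Category.id_comp, GrpObj.comp_inv, hqC])
  obtain ⟨hG, hjG⟩ := SGA3cLib.exists_grpObj_of_subgroup j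
    (fun T => ⟨toUnit T ≫ e, by rw [Category.assoc, he, MonObj.comp_one]⟩)
    (fun T a b => ⟨lift a b ≫ m, by rw [Category.assoc, hm, MonObj.comp_mul, lift_fst_assoc, lift_snd_assoc]⟩)
    (fun T a => ⟨a ≫ ii, by rw [Category.assoc, hii, GrpObj.comp_inv]⟩)
  refine ⟨C, hG, j, qC, inferInstance, inferInstance, hjG, inferInstance, ?_, inferInstance, hqC, hrg⟩
  haveI := hjG
  exact {
    one_hom := by rw [← cancel_mono j, Category.assoc, hqC, IsMonHom.one_hom, IsMonHom.one_hom]
    mul_hom := by
      rw [← cancel_mono j, Category.assoc, hqC, IsMonHom.mul_hom, Category.assoc, IsMonHom.mul_hom,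
        tensorHom_comp_tensorHom_assoc, hqC] }

end Groth.Agent.AbCubeLib
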