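import Mathlib.RingTheory.Derivation.Basic
import Mathlib.RingTheory.Ideal.Maps
import Mathlib.RingTheory.Ideal.Quotient.Operations
import Mathlib.LinearAlgebra.Dimension.Constructions
import Mathlib.LinearAlgebra.FiniteDimensional.Basic

/-!
# Truncated monomials stay independent modulo an ideal stable under coordinate derivations
-/

set_option autoImplicit false

universe u

namespace Groth.Agent.AbCubeLib

variable {k O : Type u} [Field k] [CommRing O] [Algebra k O] {g : ℕ}

/-- A derivation lowers the adic order by one. -/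
theorem derivation_mem_pow (m : Ideal O) (D : Derivation k O O) :
    ∀ (s : ℕ), ∀ y ∈ m ^ (s + 1), D y ∈ m ^ s := by
  intro s
  induction s with
  | zero => intro y _; simp
  | succ s ih =>
    intro y hy
    rw [pow_succ] at hy
    refine Submodule.mul_induction_on hy (fun a ha b hb => ?_) (fun a b ha hb => by rw [map_add]; exact add_mem ha hb)
    rw [Derivation.leibniz, smul_eq_mul, smul_eq_mul]
    refine add_mem (Ideal.mul_mem_right _ _ ha) ?_
    rw [pow_succ, mul_comm b]
    exact Ideal.mul_mem_mul (ih a ha) hb

/-- The monomials. -/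
def mono (x : Fin g → O) (s : Finset (Fin g)) (e : Fin g → ℕ) : O := ∏ j ∈ s, x j ^ e j

theorem mono_mem {x : Fin g → O} {m : Ideal O} (hx : ∀ i, x i ∈ m) (s : Finset (Fin g)) (e : Fin g → ℕ) :
    mono x s e ∈ m ^ ∑ j ∈ s, e j := by
  rw [mono, ← Finset.prod_pow_eq_pow_sum]
  exact Ideal.prod_mem_prod fun i _ => Ideal.pow_mem_pow (hx i) _

/-- The partial derivative of a monomial to first order. -/
theorem derivation_mono {x : Fin g → O} {m : Ideal O} (hx : ∀ i, x i ∈ m) (D : Derivation k O O) (i : Fin g)
    (hD : ∀ j, D (x j) - (if i = j then 1 else 0) ∈ m) (e : Fin g → ℕ) (s : Finset (Fin g)) :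
    D (mono x s e) - (if i ∈ s then (e i : O) * mono x s (Function.update e i (e i - 1)) else 0) ∈
      m ^ ∑ j ∈ s, e j := by
  classical
  induction s using Finset.induction_on with
  | empty => simp [mono]
  | insert j s hj ih =>
    have hins : ∀ e' : Fin g → ℕ, mono x (insert j s) e' = x j ^ e' j * mono x s e' := fun e' =>
      Finset.prod_insert hj
    have hsame : i ∉ s → mono x s (Function.update e i (e i - 1)) = mono x s e := fun hi =>
      Finset.prod_congr rfl fun l hl => by rw [Function.update_of_ne (ne_of_mem_of_not_mem hl hi)]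
    rw [hins e, Derivation.leibniz, smul_eq_mul, smul_eq_mul, Derivation.leibniz_pow, Finset.sum_insert hj]
    simp only [Finset.mem_insert]
    -- the error from the power
    have hp : ∀ n : ℕ, (n • x j ^ (n - 1) • D (x j)) - (if i = j then (n : O) * x j ^ (n - 1) else 0) ∈ m ^ n := by
      intro n
      rcases Nat.eq_zero_or_pos n with rfl | hn
      · simp
      have e1 : (n • x j ^ (n - 1) • D (x j)) - (if i = j then (n : O) * x j ^ (n - 1) else 0) =
          (n : O) * (x j ^ (n - 1) * (D (x j) - if i = j then 1 else 0)) := by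
        rw [nsmul_eq_mul, smul_eq_mul]
        split_ifs <;> ring
      rw [e1]
      refine Ideal.mul_mem_left _ _ ?_
      have := Ideal.mul_mem_mul (Ideal.pow_mem_pow (hx j) (n - 1)) (hD j)
      rwa [← pow_succ, Nat.sub_add_cancel hn] at this
    have h1 := Ideal.mul_mem_mul (Ideal.pow_mem_pow (hx j) (e j)) ih
    have h2 := Ideal.mul_mem_mul (hp (e j)) (mono_mem hx s e)
    rw [← pow_add] at h1 h2
    have h3 := add_mem h1 h2
    convert h3 using 1
    by_cases hij : i = j
    · subst hij
      rw [if_pos (Or.inl rfl), if_neg hj, if_pos rfl, hins, Function.update_self, hsame hj]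
      ring
    · rw [if_neg hij]
      by_cases his : i ∈ s
      · rw [if_pos (Or.inr his), if_pos his, hins, Function.update_of_ne (Ne.symm hij)]
        ring
      · rw [if_neg (by tauto), if_neg his]
        ring

/-- The monomial of a bounded exponent. -/
def bmono {p : ℕ} (x : Fin g → O) (e : Fin g → Fin p) : O := mono x Finset.univ fun i => (e i : ℕ)

/-- The degree of a bounded exponent. -/
def bdeg {p : ℕ} (e : Fin g → Fin p) : ℕ := ∑ i, (e i : ℕ)

/-- No combination of monomials of one degree lies in a stable ideal plus higher order terms. -/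
theorem coeff_eq_zero_of_homogeneous {m : Ideal O} (hc : ∀ c : k, algebraMap k O c ∈ m → c = 0)
    {x : Fin g → O} (hx : ∀ i, x i ∈ m) (D : Fin g → Derivation k O O)
    (hD : ∀ i j, D i (x j) - (if i = j then 1 else 0) ∈ m)
    {P : Ideal O} (hP : P ≤ m) (hDP : ∀ i, ∀ y ∈ P, D i y ∈ P)
    {p : ℕ} (hp : ∀ n : ℕ, 0 < n → n < p → (n : k) ≠ 0) :
    ∀ (d : ℕ) (c : (Fin g → Fin p) → k),
      (∑ e ∈ Finset.univ.filter (fun e => bdeg e = d), algebraMap k O (c e) * bmono x e) ∈ P ⊔ m ^ (d + 1) →
      ∀ e, bdeg e = d → c e = 0 := by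
  classical
  intro d
  induction d with
  | zero =>
    intro c h e he
    have huniq : Finset.univ.filter (fun f : Fin g → Fin p => bdeg f = 0) = {e} := by
      ext f
      simp only [Finset.mem_filter, Finset.mem_univ, true_and, Finset.mem_singleton]
      refine ⟨fun hf => funext fun i => Fin.ext ?_, fun hf => hf ▸ he⟩
      have h1 := Finset.sum_eq_zero_iff.1 hf i (Finset.mem_univ i)
      have h2 := Finset.sum_eq_zero_iff.1 he i (Finset.mem_univ i)
      exact h1.trans h2.symm
    rw [huniq, Finset.sum_singleton] at h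
    have h1 : bmono x e = 1 := by
      unfold bmono mono
      refine Finset.prod_eq_one fun i _ => ?_
      show x i ^ (e i : ℕ) = 1
      rw [Finset.sum_eq_zero_iff.1 he i (Finset.mem_univ i), pow_zero]
    rw [h1, mul_one, zero_add, pow_one] at h
    exact hc _ (sup_le hP le_rfl h)
  | succ d ih =>
    intro c h e he
    obtain ⟨i, hi⟩ : ∃ i, 0 < (e i : ℕ) := by
      by_contra hne
      push Not at hne
      have : bdeg e = 0 := Finset.sum_eq_zero fun i _ => Nat.le_zero.1 (hne i)
      omega
    -- apply the derivation
    have hS : D i (∑ e ∈ Finset.univ.filter (fun e => bdeg e = d + 1), algebraMap k O (c e) * bmono x e) ∈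
        P ⊔ m ^ (d + 1) := by
      obtain ⟨y, hy, z, hz, hyz⟩ := Submodule.mem_sup.1 h
      rw [← hyz, map_add]
      exact Submodule.add_mem_sup (hDP i y hy) (derivation_mem_pow m (D i) (d + 1) z hz)
    have hS' : (∑ e ∈ Finset.univ.filter (fun e => bdeg e = d + 1),
        algebraMap k O (c e * ((e i : ℕ) : k)) *
          mono x Finset.univ (Function.update (fun l => (e l : ℕ)) i ((e i : ℕ) - 1))) ∈ P ⊔ m ^ (d + 1) := by
      rw [map_sum] at hS
      refine (Submodule.sub_mem_iff_left _ hS).1 ?_
      rw [← Finset.sum_sub_distrib]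
      refine Submodule.sum_mem _ fun f hf => ?_
      simp only [Finset.mem_filter, Finset.mem_univ, true_and] at hf
      have hm := derivation_mono hx (D i) i (hD i) (fun l => (f l : ℕ)) Finset.univ
      rw [if_pos (Finset.mem_univ i)] at hm
      rw [← hf]
      refine Submodule.mem_sup_right ?_
      have e1 : algebraMap k O (c f * ((f i : ℕ) : k)) *
          mono x Finset.univ (Function.update (fun l => (f l : ℕ)) i ((f i : ℕ) - 1)) -
          D i (algebraMap k O (c f) * bmono x f) =
          -(algebraMap k O (c f)) * (D i (bmono x f) - ((f i : ℕ) : O) *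
            mono x Finset.univ (Function.update (fun l => (f l : ℕ)) i ((f i : ℕ) - 1))) := by
        rw [Derivation.leibniz, Derivation.map_algebraMap, smul_zero, add_zero, smul_eq_mul, map_mul, map_natCast]
        ring
      rw [e1]
      exact Ideal.mul_mem_left _ _ hm
    -- reindex
    let c' : (Fin g → Fin p) → k := fun f =>
      if hf : (f i : ℕ) + 1 < p then
        c (Function.update f i ⟨(f i : ℕ) + 1, hf⟩) * (((f i : ℕ) + 1 : ℕ) : k) else 0
    have hdeg : ∀ (f : Fin g → Fin p) (v : Fin p), bdeg (Function.update f i v) + (f i : ℕ) = bdeg f + (v : ℕ) := by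
      intro f v
      have h1 : ∀ l, ((Function.update f i v l : Fin p) : ℕ) = Function.update (fun l => (f l : ℕ)) i (v : ℕ) l :=
        fun l => Function.apply_update (fun _ (a : Fin p) => (a : ℕ)) f i v l
      rw [bdeg, bdeg, Finset.sum_congr rfl fun l _ => h1 l, Finset.sum_update_of_mem (Finset.mem_univ i),
        Finset.sum_eq_add_sum_sdiff_singleton_of_mem (Finset.mem_univ i) (fun l => (f l : ℕ))]
      ring
    have hre : (∑ f ∈ Finset.univ.filter (fun f => bdeg f = d), algebraMap k O (c' f) * bmono x f) =
        ∑ f ∈ Finset.univ.filter (fun f => bdeg f = d + 1), algebraMap k O (c f * ((f i : ℕ) : k)) *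
          mono x Finset.univ (Function.update (fun l => (f l : ℕ)) i ((f i : ℕ) - 1)) := by
      rw [← Finset.sum_filter_of_ne (s := Finset.univ.filter (fun f : Fin g → Fin p => bdeg f = d))
        (p := fun f => (f i : ℕ) + 1 < p) (fun f _ hne => by
          by_contra hlt
          exact hne (by simp only [c']; rw [dif_neg hlt, map_zero, zero_mul])),
        ← Finset.sum_filter_of_ne (s := Finset.univ.filter (fun f : Fin g → Fin p => bdeg f = d + 1))
        (p := fun f => 0 < (f i : ℕ)) (fun f _ hne => by
          by_contra hlt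
          exact hne (by rw [Nat.le_zero.1 (not_lt.1 hlt), Nat.cast_zero, mul_zero, map_zero, zero_mul]))]
      refine Finset.sum_bij' (fun f hf => Function.update f i ⟨(f i : ℕ) + 1, (Finset.mem_filter.1 hf).2⟩)
        (fun f hf => Function.update f i ⟨(f i : ℕ) - 1, lt_of_le_of_lt (Nat.sub_le _ _) (f i).2⟩) ?_ ?_ ?_ ?_ ?_
      · intro f hf
        obtain ⟨h1, h2⟩ := Finset.mem_filter.1 hf
        have := hdeg f ⟨(f i : ℕ) + 1, h2⟩
        have h3 : bdeg f = d := (Finset.mem_filter.1 h1).2
        simp only [Finset.mem_filter, Finset.mem_univ, true_and, Function.update_self] at this ⊢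
        omega
      · intro f hf
        obtain ⟨h1, h2⟩ := Finset.mem_filter.1 hf
        have := hdeg f ⟨(f i : ℕ) - 1, lt_of_le_of_lt (Nat.sub_le _ _) (f i).2⟩
        have h3 : bdeg f = d + 1 := (Finset.mem_filter.1 h1).2
        have h4 := (f i).2
        simp only [Finset.mem_filter, Finset.mem_univ, true_and, Function.update_self] at this ⊢
        omega
      · intro f hf
        simp [Function.update_idem]
      · intro f hf
        obtain ⟨h1, h2⟩ := Finset.mem_filter.1 hf
        rw [Function.update_idem]
        refine (congrArg (Function.update f i) (Fin.ext ?_)).trans (Function.update_eq_self i f)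
        simp only [Function.update_self]
        omega
      · intro f hf
        obtain ⟨h1, h2⟩ := Finset.mem_filter.1 hf
        simp only [c', dif_pos h2, Function.update_self]
        congr 1
        unfold bmono mono
        refine Finset.prod_congr rfl fun l _ => ?_
        by_cases hl : l = i
        · subst hl; simp
        · simp [Function.update_of_ne hl]
    have hi1 : (e i : ℕ) - 1 < p := lt_of_le_of_lt (Nat.sub_le _ _) (e i).2
    have hz := ih c' (by rw [hre]; exact hS') (Function.update e i ⟨(e i : ℕ) - 1, hi1⟩) (by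
      have := hdeg e ⟨(e i : ℕ) - 1, hi1⟩
      simp only at this
      omega)
    have hlt : ((Function.update e i ⟨(e i : ℕ) - 1, hi1⟩ i : Fin p) : ℕ) + 1 < p := by
      simp only [Function.update_self]; have := (e i).2; omega
    simp only [c'] at hz
    rw [dif_pos hlt, Function.update_idem, mul_eq_zero] at hz
    have hne : ((((Function.update e i ⟨(e i : ℕ) - 1, hi1⟩ i : Fin p) : ℕ) + 1 : ℕ) : k) ≠ 0 :=
      hp _ (Nat.succ_pos _) hlt
    have hfix : Function.update e i ⟨((Function.update e i ⟨(e i : ℕ) - 1, hi1⟩ i : Fin p) : ℕ) + 1, hlt⟩ = e := by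
      refine (congrArg (Function.update e i) (Fin.ext ?_)).trans (Function.update_eq_self i e)
      simp only [Function.update_self]
      omega
    rw [hfix] at hz
    exact hz.resolve_right hne

/-- The quotient by a stable ideal and high order terms has rank at least `p ^ g`. -/
theorem pow_le_finrank_quotient {m : Ideal O} (hc : ∀ c : k, algebraMap k O c ∈ m → c = 0)
    {x : Fin g → O} (hx : ∀ i, x i ∈ m) (D : Fin g → Derivation k O O)
    (hD : ∀ i j, D i (x j) - (if i = j then 1 else 0) ∈ m)
    {P : Ideal O} (hP : P ≤ m) (hDP : ∀ i, ∀ y ∈ P, D i y ∈ P)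
    {p : ℕ} (hp : ∀ n : ℕ, 0 < n → n < p → (n : k) ≠ 0)
    [Module.Finite k (O ⧸ (P ⊔ m ^ (g * p + 1)))] :
    p ^ g ≤ Module.finrank k (O ⧸ (P ⊔ m ^ (g * p + 1))) := by
  classical
  set J := P ⊔ m ^ (g * p + 1)
  have hdeg : ∀ e : Fin g → Fin p, bdeg e ≤ g * p := fun e =>
    (Finset.sum_le_card_nsmul _ _ p fun i _ => (e i).2.le).trans (by simp)
  have hli : LinearIndependent k fun e : Fin g → Fin p => Ideal.Quotient.mk J (bmono x e) := by
    rw [Fintype.linearIndependent_iff]
    intro c hsum
    have h0 : (∑ e, algebraMap k O (c e) * bmono x e) ∈ J := by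
      rw [← Ideal.Quotient.eq_zero_iff_mem, map_sum, ← hsum]
      refine Finset.sum_congr rfl fun e _ => ?_
      rw [Algebra.smul_def, map_mul]
      rfl
    suffices ∀ d, ∀ e, bdeg e = d → c e = 0 from fun e => this _ e rfl
    intro d
    induction d using Nat.strong_induction_on with
    | _ d ih =>
      intro e he
      have hdN : d ≤ g * p := he ▸ hdeg e
      refine coeff_eq_zero_of_homogeneous hc hx D hD hP hDP hp d c ?_ e he
      have hrest : (∑ f ∈ Finset.univ.filter (fun f => ¬ bdeg f = d), algebraMap k O (c f) * bmono x f) ∈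
          P ⊔ m ^ (d + 1) := by
        refine Submodule.sum_mem _ fun f hf => ?_
        have hne : bdeg f ≠ d := (Finset.mem_filter.1 hf).2
        rcases lt_or_gt_of_ne hne with hlt | hgt
        · rw [ih _ hlt f rfl, map_zero, zero_mul]; exact zero_mem _
        · exact Submodule.mem_sup_right (Ideal.mul_mem_left _ _
            (Ideal.pow_le_pow_right (show d + 1 ≤ bdeg f by omega) (mono_mem hx _ _)))
      rw [← Finset.sum_filter_add_sum_filter_not Finset.univ (fun f => bdeg f = d)] at h0
      exact (Submodule.add_mem_iff_left _ hrest).1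
        (sup_le_sup_left (Ideal.pow_le_pow_right (by omega)) P h0)
  simpa using hli.fintype_card_le_finrank

end Groth.Agent.AbCubeLib
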