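import Mathlib
import Groth.Agent.IsocLib.BlockDiag

/-!
# The dimension of the space of intertwiners of two semisimple endomorphisms
-/

set_option autoImplicit false

universe u v w

open Polynomial UniqueFactorizationMonoid

noncomputable section

namespace Groth.Agent.AbCubeLib.Intertw

variable {K : Type u} [Field K]

theorem charpoly_piMap {o : Type*} [Fintype o] {W : o → Type*} [∀ i, AddCommGroup (W i)] [∀ i, Module K (W i)]
    [∀ i, FiniteDimensional K (W i)] (f : ∀ i, W i →ₗ[K] W i) :
    (LinearMap.piMap f).charpoly = ∏ i, (f i).charpoly := by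
  classical
  let b := fun i => Module.finBasis K (W i)
  rw [← LinearMap.charpoly_toMatrix _ (Pi.basis b)]
  rw [Finset.prod_congr rfl fun i _ => (LinearMap.charpoly_toMatrix (f i) (b i)).symm,
    ← IsocLib.charpoly_blockDiagonal']
  congr 1
  ext ⟨i, x⟩ ⟨j, y⟩
  rw [LinearMap.toMatrix_apply, Pi.basis_repr, Pi.basis_apply]
  by_cases h : i = j
  · subst h
    simp [LinearMap.toMatrix_apply, LinearMap.coe_piMap]
  · simp [Matrix.blockDiagonal'_apply_ne _ _ _ h, LinearMap.coe_piMap, Pi.single_eq_of_ne h]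

/-- The charpoly of multiplication by `X` on `K[X]/(P)`. -/
theorem charpoly_lmul_X {P : K[X]} (hP : P.Monic) :
    haveI := hP.finite_adjoinRoot
    (Algebra.lmul K (AdjoinRoot P) (AdjoinRoot.root P)).charpoly = P := by
  haveI := hP.finite_adjoinRoot
  let pb := AdjoinRoot.powerBasis' hP
  have h := charpoly_leftMulMatrix pb
  rw [Algebra.leftMulMatrix_apply, LinearMap.charpoly_toMatrix] at h
  rw [show AdjoinRoot.root P = pb.gen from rfl, h, show pb.gen = AdjoinRoot.root P from rfl,
    AdjoinRoot.minpoly_root hP.ne_zero, hP.leadingCoeff, inv_one, map_one, mul_one]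

variable {V : Type v} [AddCommGroup V] [Module K V] [FiniteDimensional K V]

/-- A semisimple endomorphism is a product of companion blocks with irreducible charpoly. -/
theorem exists_decomp (π : Module.End K V) (h : π.IsSemisimple) :
    ∃ (n : ℕ) (P : Fin n → K[X]), (∀ i, (P i).Monic ∧ Irreducible (P i)) ∧
      Nonempty (Module.AEval' π ≃ₗ[K[X]] Π i, K[X] ⧸ Ideal.span {P i}) := by
  classical
  haveI : IsSemisimpleModule K[X] (Module.AEval' π) := h
  obtain ⟨n, S, e, hS⟩ := IsSemisimpleModule.exists_linearEquiv_fin_dfinsupp K[X] (Module.AEval' π)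
  have key : ∀ i, ∃ P : K[X], P.Monic ∧ Irreducible P ∧
      Nonempty (S i ≃ₗ[K[X]] K[X] ⧸ Ideal.span {P}) := fun i => by
    obtain ⟨I, hI, ⟨g⟩⟩ := isSimpleModule_iff_quot_maximal.1 (hS i)
    obtain ⟨Q, rfl⟩ := (IsPrincipalIdealRing.principal I).principal
    change (Ideal.span {Q}).IsMaximal at hI
    have hQ0 : Q ≠ 0 := by
      rintro rfl
      exact Polynomial.not_isField K (Ring.isField_iff_maximal_bot.2 (by simpa using hI))
    have e' : Ideal.span {normalize Q} = Ideal.span {Q} :=
      Ideal.span_singleton_eq_span_singleton.2 (normalize_associated Q)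
    refine ⟨normalize Q, Polynomial.monic_normalize hQ0,
      ((Ideal.span_singleton_prime (normalize_eq_zero.not.2 hQ0)).1
        (e' ▸ hI.isPrime)).irreducible, ⟨g.trans (Submodule.quotEquivOfEq _ _ e'.symm)⟩⟩
  choose P hm hi g using key
  exact ⟨n, P, fun i => ⟨hm i, hi i⟩,
    ⟨e.trans (DFinsupp.linearEquivFunOnFintype.trans (LinearEquiv.piCongrRight fun i => (g i).some))⟩⟩

theorem charpoly_of_decomp {π : Module.End K V} {n : ℕ} {P : Fin n → K[X]} (hP : ∀ i, (P i).Monic)
    (e : Module.AEval' π ≃ₗ[K[X]] Π i, K[X] ⧸ Ideal.span {P i}) :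
    π.charpoly = ∏ i, P i := by
  classical
  haveI : ∀ i, Module.Finite K (AdjoinRoot (P i)) := fun i => (hP i).finite_adjoinRoot
  let e' : V ≃ₗ[K] Π i, AdjoinRoot (P i) :=
    (Module.AEval'.of π).trans (e.restrictScalars K)
  have he : e'.conj π = LinearMap.piMap fun i => Algebra.lmul K (AdjoinRoot (P i)) (AdjoinRoot.root (P i)) := by
    refine LinearMap.ext fun x => ?_
    obtain ⟨v, rfl⟩ := e'.surjective x
    rw [LinearEquiv.conj_apply_apply, e'.symm_apply_apply]
    show e (Module.AEval'.of π (π v)) = _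
    rw [← Module.AEval'.X_smul_of, map_smul]
    funext i
    show (X : K[X]) • (e (Module.AEval'.of π v) i) =
      Algebra.lmul K (AdjoinRoot (P i)) (AdjoinRoot.root (P i)) (e (Module.AEval'.of π v) i)
    obtain ⟨q, hq⟩ := Ideal.Quotient.mk_surjective (e (Module.AEval'.of π v) i)
    rw [← hq]
    exact map_mul (AdjoinRoot.mk (P i)) X q
  rw [← LinearEquiv.charpoly_conj e' π, he, charpoly_piMap]
  exact Finset.prod_congr rfl fun i _ => charpoly_lmul_X (hP i)

variable {W : Type w} [AddCommGroup W] [Module K W]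

/-- Intertwiners are the maps of `K[X]`-modules. -/
def intertwEquiv (π : Module.End K V) (ρ : Module.End K W) :
    LinearMap.ker (LinearMap.lcomp K W π - LinearMap.llcomp K V W W ρ : (V →ₗ[K] W) →ₗ[K] (V →ₗ[K] W)) ≃ₗ[K]
      (Module.AEval' π →ₗ[K[X]] Module.AEval' ρ) where
  toFun h :=
    { toFun := fun m => Module.AEval'.of ρ (h.1 ((Module.AEval'.of π).symm m))
      map_add' := fun a b => by simp
      map_smul' := fun q m => by
        have hc : ∀ v, h.1 (π v) = ρ (h.1 v) := fun v => by
          have := LinearMap.congr_fun h.2 v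
          exact sub_eq_zero.1 this
        induction q using Polynomial.induction_on generalizing m with
        | C a => simp [← Polynomial.algebraMap_eq, algebraMap_smul]
        | add a b ha hb => simp only [RingHom.id_apply] at ha hb ⊢; rw [add_smul, map_add, map_add, map_add, ha, hb, ← add_smul]
        | monomial j a hj =>
          obtain ⟨v, rfl⟩ := (Module.AEval'.of π).surjective m
          have e : ∀ q : K[X], C a * X ^ (j + 1) = C a * X ^ j * X := fun _ => by ring
          rw [e 0, mul_smul (C a * X ^ j) X, Module.AEval'.X_smul_of, hj, RingHom.id_apply, RingHom.id_apply,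
            mul_smul (C a * X ^ j) X]
          simp [Module.AEval'.X_smul_of, hc] }
  map_add' a b := by ext m; simp
  map_smul' c a := by ext m; simp
  invFun F := ⟨(Module.AEval'.of ρ).symm.toLinearMap ∘ₗ F.restrictScalars K ∘ₗ (Module.AEval'.of π).toLinearMap,
    by
      rw [LinearMap.mem_ker]
      refine LinearMap.ext fun v => sub_eq_zero.2 ?_
      show (Module.AEval'.of ρ).symm (F (Module.AEval'.of π (π v))) =
        ρ ((Module.AEval'.of ρ).symm (F (Module.AEval'.of π v)))
      apply (Module.AEval'.of ρ).injective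
      rw [LinearEquiv.apply_symm_apply, ← Module.AEval'.X_smul_of, map_smul, ← Module.AEval'.X_smul_of,
        LinearEquiv.apply_symm_apply]⟩
  left_inv h := by ext v; simp
  right_inv F := by ext m; simp

open scoped Classical in
/-- Maps between two of the blocks. -/
theorem finrank_block_hom {P Q : K[X]} (hP : P.Monic) (hQ : Q.Monic) (hPi : Irreducible P) (hQi : Irreducible Q) :
    Module.finrank K ((K[X] ⧸ Ideal.span {P}) →ₗ[K[X]] (K[X] ⧸ Ideal.span {Q})) =
      if P = Q then P.natDegree else 0 := by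
  let one : K[X] ⧸ Ideal.span {P} := Submodule.Quotient.mk 1
  have hgen : ∀ x : K[X] ⧸ Ideal.span {P}, ∃ q : K[X], x = q • one := fun x => by
    obtain ⟨q, rfl⟩ := Submodule.Quotient.mk_surjective _ x
    exact ⟨q, by rw [show q • one = Submodule.Quotient.mk (q • (1 : K[X])) from rfl, smul_eq_mul, mul_one]⟩
  split_ifs with h
  · subst h
    let ev : ((K[X] ⧸ Ideal.span {P}) →ₗ[K[X]] (K[X] ⧸ Ideal.span {P})) →ₗ[K] K[X] ⧸ Ideal.span {P} :=
      { toFun := fun f => f one
        map_add' := fun _ _ => rfl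
        map_smul' := fun _ _ => rfl }
    have hb : Function.Bijective ev := by
      refine ⟨fun f g hfg => LinearMap.ext fun x => ?_, fun y => ?_⟩
      · obtain ⟨q, rfl⟩ := hgen x
        rw [map_smul, map_smul]
        exact congrArg (q • ·) hfg
      · obtain ⟨q, rfl⟩ := hgen y
        exact ⟨q • LinearMap.id, rfl⟩
    rw [(LinearEquiv.ofBijective ev hb).finrank_eq]
    exact finrank_quotient_span_eq_natDegree
  · haveI : Subsingleton ((K[X] ⧸ Ideal.span {P}) →ₗ[K[X]] (K[X] ⧸ Ideal.span {Q})) := by
      refine subsingleton_of_forall_eq 0 fun f => LinearMap.ext fun x => ?_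
      obtain ⟨q, rfl⟩ := hgen x
      rw [map_smul, LinearMap.zero_apply]
      have h0 : P • f one = 0 := by
        rw [← map_smul, show P • one = 0 from (Submodule.Quotient.mk_eq_zero _).2
          (Ideal.mem_span_singleton.2 ⟨1, rfl⟩), map_zero]
      obtain ⟨r, hr⟩ := Submodule.Quotient.mk_surjective _ (f one)
      rw [← hr, ← Submodule.Quotient.mk_smul, Submodule.Quotient.mk_eq_zero, Ideal.mem_span_singleton,
        smul_eq_mul] at h0
      have hd : Q ∣ r := ((hQi.coprime_iff_not_dvd).2 fun hd =>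
        h (eq_of_monic_of_associated hP hQ (hQi.associated_of_dvd hPi hd).symm)).dvd_of_dvd_mul_left h0
      rw [← hr, (Submodule.Quotient.mk_eq_zero _).2 (Ideal.mem_span_singleton.2 hd), smul_zero]
    exact Module.finrank_zero_of_subsingleton

open scoped Classical in
theorem finrank_intertwiners [FiniteDimensional K W] (π : Module.End K V) (ρ : Module.End K W)
    (h₁ : π.IsSemisimple) (h₂ : ρ.IsSemisimple) :
    Module.finrank K (LinearMap.ker (LinearMap.lcomp K W π - LinearMap.llcomp K V W W ρ :
        (V →ₗ[K] W) →ₗ[K] (V →ₗ[K] W))) =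
      ∑ P ∈ (normalizedFactors π.charpoly).toFinset,
        (normalizedFactors π.charpoly).count P * (normalizedFactors ρ.charpoly).count P * P.natDegree := by
  classical
  obtain ⟨n, P, hP, ⟨e⟩⟩ := exists_decomp π h₁
  obtain ⟨m, Q, hQ, ⟨e'⟩⟩ := exists_decomp ρ h₂
  haveI : ∀ i, Module.Finite K (K[X] ⧸ Ideal.span {P i}) := fun i => (hP i).1.finite_adjoinRoot
  haveI : ∀ i, Module.Finite K (K[X] ⧸ Ideal.span {Q i}) := fun i => (hQ i).1.finite_adjoinRoot
  -- the normalized factors
  have hnf : ∀ {k : ℕ} (R : Fin k → K[X]), (∀ i, (R i).Monic ∧ Irreducible (R i)) →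
      normalizedFactors (∏ i, R i) = Finset.univ.val.map R := fun R hR => by
    rw [Finset.prod_eq_multiset_prod, normalizedFactors_prod_eq _
      (fun a ha => by obtain ⟨i, -, rfl⟩ := Multiset.mem_map.1 ha; exact (hR i).2), Multiset.map_map]
    exact Multiset.map_congr rfl fun i _ => (hR i).1.normalize_eq_self
  rw [charpoly_of_decomp (fun i => (hP i).1) e, charpoly_of_decomp (fun i => (hQ i).1) e', hnf P hP, hnf Q hQ]
  -- the dimension as a double sum
  let sp : ∀ i, ((K[X] ⧸ Ideal.span {P i}) →ₗ[K[X]] Π j, K[X] ⧸ Ideal.span {Q j}) ≃ₗ[K]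
      Π j, ((K[X] ⧸ Ideal.span {P i}) →ₗ[K[X]] (K[X] ⧸ Ideal.span {Q j})) := fun i =>
    { toFun := fun f j => LinearMap.proj j ∘ₗ f
      invFun := fun g => LinearMap.pi g
      map_add' := fun _ _ => rfl
      map_smul' := fun _ _ => rfl
      left_inv := fun _ => rfl
      right_inv := fun _ => rfl }
  let E : LinearMap.ker (LinearMap.lcomp K W π - LinearMap.llcomp K V W W ρ :
        (V →ₗ[K] W) →ₗ[K] (V →ₗ[K] W)) ≃ₗ[K]
      Π i, Π j, ((K[X] ⧸ Ideal.span {P i}) →ₗ[K[X]] (K[X] ⧸ Ideal.span {Q j})) :=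
    (intertwEquiv π ρ).trans (((LinearEquiv.arrowCongr e e').restrictScalars K).trans
      (((LinearMap.lsum K[X] (fun i => K[X] ⧸ Ideal.span {P i}) K).symm).trans (LinearEquiv.piCongrRight sp)))
  haveI : ∀ i j, Module.Finite K ((K[X] ⧸ Ideal.span {P i}) →ₗ[K[X]] (K[X] ⧸ Ideal.span {Q j})) := fun i j =>
    Module.Finite.of_injective (LinearMap.restrictScalarsₗ K K[X] _ _ K) (LinearMap.restrictScalars_injective K)
  haveI : ∀ i j, Module.Free K ((K[X] ⧸ Ideal.span {P i}) →ₗ[K[X]] (K[X] ⧸ Ideal.span {Q j})) := fun i j =>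
    Module.Free.of_divisionRing K _
  rw [E.finrank_eq, Module.finrank_pi_fintype]
  simp only [Module.finrank_pi_fintype, finrank_block_hom (hP _).1 (hQ _).1 (hP _).2 (hQ _).2]
  calc ∑ i, ∑ j, (if P i = Q j then (P i).natDegree else 0)
      = ∑ i, (Finset.univ.val.map Q).count (P i) * (P i).natDegree := by
        refine Finset.sum_congr rfl fun i _ => ?_
        rw [Multiset.count_map, ← Finset.filter_val, ← Finset.card_def, Finset.card_filter, Finset.sum_mul]
        exact Finset.sum_congr rfl fun j _ => by split_ifs <;> simp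
    _ = ((Finset.univ.val.map P).map fun R => (Finset.univ.val.map Q).count R * R.natDegree).sum := by
        rw [Multiset.map_map, Finset.sum_eq_multiset_sum]; rfl
    _ = _ := by
        rw [Finset.sum_multiset_map_count]
        exact Finset.sum_congr rfl fun R _ => by rw [smul_eq_mul, mul_assoc]

end Groth.Agent.AbCubeLib.Intertw
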