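import Groth.Agent.AbCubeLib.RankTrans
import Groth.Agent.AbCubeLib.MulDegree
import Mathlib.LinearAlgebra.FreeModule.PID

/-!
# Degrees of matrix endomorphisms of powers of an abelian variety
-/

set_option autoImplicit false
set_option backward.isDefEq.respectTransparency.types false

universe u

open CategoryTheory CategoryTheory.Limits MonoidalCategory CartesianMonoidalCategory AlgebraicGeometry MonObj

namespace Groth.Agent.AbCubeLib

section Smith

/-- Integral matrices with nonzero determinant are equivalent to diagonal ones. -/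
theorem exists_diagonalization {κ : Type} [Fintype κ] [DecidableEq κ] (α : Matrix κ κ ℤ) (hα : α.det ≠ 0) :
    ∃ (U V : Matrix κ κ ℤ) (v : κ → ℤ), IsUnit U.det ∧ IsUnit V.det ∧ α = U * Matrix.diagonal v * V := by
  let L : (κ → ℤ) →ₗ[ℤ] κ → ℤ := Matrix.toLin' α
  have hinj : Function.Injective L := by
    refine (injective_iff_map_eq_zero L).2 fun x hx => ?_
    exact Matrix.eq_zero_of_mulVec_eq_zero hα (by simpa [L] using hx)
  let eR : (κ → ℤ) ≃ₗ[ℤ] LinearMap.range L := LinearEquiv.ofInjective L hinj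
  obtain ⟨b', a, ab, hab⟩ := Submodule.exists_smith_normal_form_of_rank_eq (Pi.basisFun ℤ κ)
    (N := LinearMap.range L) eR.finrank_eq.symm
  let c : Module.Basis κ ℤ (κ → ℤ) := ab.map eR.symm
  have hc : ∀ i, α.mulVec (c i) = a i • b' i := fun i => by
    rw [← hab i]
    have h1 : (eR (c i) : κ → ℤ) = (ab i : κ → ℤ) := by
      rw [Module.Basis.map_apply, LinearEquiv.apply_symm_apply]
    rw [← h1]
    rfl
  let B := (Pi.basisFun ℤ κ).toMatrix b'
  let C := (Pi.basisFun ℤ κ).toMatrix c
  haveI := (Pi.basisFun ℤ κ).invertibleToMatrix b'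
  haveI := (Pi.basisFun ℤ κ).invertibleToMatrix c
  have hCunit : IsUnit C := isUnit_of_invertible C
  have hBunit : IsUnit B := isUnit_of_invertible B
  have hmul : α * C = B * Matrix.diagonal a := by
    ext l i
    have h1 : (α * C) l i = α.mulVec (c i) l := rfl
    rw [h1, hc, Matrix.mul_diagonal]
    show a i * b' i l = B l i * a i
    rw [mul_comm]
    rfl
  refine ⟨B, ⅟C, a, (Matrix.isUnit_iff_isUnit_det B).1 hBunit,
    (Matrix.isUnit_iff_isUnit_det _).1 (isUnit_of_invertible (⅟C)), ?_⟩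
  rw [← hmul, mul_invOf_cancel_right]

end Smith

variable {k : Type u} [Field k] {X : Over (Spec (CommRingCat.of k))} [GrpObj X] [IsCommMonObj X] {r : ℕ}

local notation "𝐏" => (∏ᶜ fun _ : Fin r => X)
local notation "π𝐏" => Pi.π (fun _ : Fin r => X)

/-- The endomorphism of `X ^ r` of an integral matrix. -/
noncomputable def matMap (α : Matrix (Fin r) (Fin r) ℤ) : 𝐏 ⟶ 𝐏 :=
  Pi.lift fun i => ∏ j : Fin r, (π𝐏 j) ^ (α i j)

theorem matMap_π (α : Matrix (Fin r) (Fin r) ℤ) (i : Fin r) :
    matMap (X := X) α ≫ π𝐏 i = ∏ j : Fin r, (π𝐏 j) ^ (α i j) :=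
  Pi.lift_π _ _

/-- Precomposition is a homomorphism. -/
noncomputable def preHom {T T' : Over (Spec (CommRingCat.of k))} (f : T' ⟶ T) : (T ⟶ X) →* (T' ⟶ X) :=
  MonoidHom.mk' (fun a => f ≫ a) fun a b => MonObj.comp_mul f a b

theorem prod_zpow_sum {G : Type*} [CommGroup G] (a : G) {κ : Type*} (s : Finset κ) (c : κ → ℤ) :
    ∏ j ∈ s, a ^ c j = a ^ ∑ j ∈ s, c j := by
  classical
  induction s using Finset.induction with
  | empty => simp
  | insert i s hi ih => rw [Finset.prod_insert hi, Finset.sum_insert hi, ih, zpow_add]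

theorem matMap_comp (α β : Matrix (Fin r) (Fin r) ℤ) :
    matMap (X := X) α ≫ matMap β = matMap (β * α) := by
  refine Pi.hom_ext _ _ fun i => ?_
  rw [Category.assoc, matMap_π, matMap_π]
  show preHom (matMap α) (∏ j : Fin r, (π𝐏 j) ^ (β i j)) = _
  rw [map_prod]
  simp only [map_zpow]
  have h : ∀ j, preHom (X := X) (matMap α) (π𝐏 j) = ∏ l : Fin r, (π𝐏 l) ^ (α j l) := fun j => matMap_π α j
  simp only [h, ← Finset.prod_zpow, ← _root_.zpow_mul]
  rw [Finset.prod_comm]
  refine Finset.prod_congr rfl fun l _ => ?_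
  rw [prod_zpow_sum, Matrix.mul_apply]
  exact congrArg _ (Finset.sum_congr rfl fun j _ => mul_comm _ _)

theorem matMap_diagonal_π (v : Fin r → ℤ) (i : Fin r) :
    matMap (X := X) (Matrix.diagonal v) ≫ π𝐏 i = (π𝐏 i) ^ v i := by
  rw [matMap_π, Finset.prod_eq_single i (fun j _ hj => by rw [Matrix.diagonal_apply_ne _ (Ne.symm hj), _root_.zpow_zero])
    (fun h => absurd (Finset.mem_univ i) h), Matrix.diagonal_apply_eq]

theorem matMap_one : matMap (X := X) (1 : Matrix (Fin r) (Fin r) ℤ) = 𝟙 𝐏 := by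
  refine Pi.hom_ext _ _ fun i => ?_
  rw [← Matrix.diagonal_one, matMap_diagonal_π, _root_.zpow_one, Category.id_comp]

/-- An elementary diagonal matrix acts as a base change of multiplication by its entry. -/
theorem isPullback_matMap (i₀ : Fin r) (d : ℤ) :
    IsPullback (π𝐏 i₀) (matMap (X := X) (Matrix.diagonal (Function.update 1 i₀ d))) (𝟙 X ^ d) (π𝐏 i₀) := by
  have hw : π𝐏 i₀ ≫ (𝟙 X ^ d) = matMap (Matrix.diagonal (Function.update 1 i₀ d)) ≫ π𝐏 i₀ := by
    rw [matMap_diagonal_π, Function.update_self, GrpObj.comp_zpow, Category.comp_id]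
  have key : ∀ {T : Over (Spec (CommRingCat.of k))} (m : T ⟶ 𝐏) (j : Fin r),
      (m ≫ matMap (X := X) (Matrix.diagonal (Function.update 1 i₀ d))) ≫ π𝐏 j =
        (m ≫ π𝐏 j) ^ Function.update (1 : Fin r → ℤ) i₀ d j := fun m j => by
    rw [Category.assoc, matMap_diagonal_π, GrpObj.comp_zpow]
  refine ⟨⟨hw⟩, ⟨PullbackCone.IsLimit.mk hw (fun s => Pi.lift (Function.update (fun i => s.snd ≫ π𝐏 i) i₀ s.fst))
    (fun s => ?_) (fun s => ?_) (fun s m h1 h2 => ?_)⟩⟩
  · rw [Pi.lift_π, Function.update_self]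
  · refine Pi.hom_ext _ _ fun j => ?_
    rw [key, Pi.lift_π]
    rcases eq_or_ne j i₀ with rfl | hj
    · rw [Function.update_self, Function.update_self]
      exact (by rw [GrpObj.comp_zpow, Category.comp_id] : s.fst ≫ (𝟙 X ^ d) = s.fst ^ d).symm.trans s.condition
    · rw [Function.update_of_ne hj, Function.update_of_ne hj, Pi.one_apply, _root_.zpow_one]
  · refine Pi.hom_ext _ _ fun j => ?_
    rw [Pi.lift_π]
    rcases eq_or_ne j i₀ with rfl | hj
    · rw [Function.update_self, h1]
    · rw [Function.update_of_ne hj, ← h2, key, Function.update_of_ne hj, Pi.one_apply, _root_.zpow_one]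

/-- Finite flat of degree the `2g`-th power of the absolute determinant. -/
def GoodMat (g : ℕ) (α : Matrix (Fin r) (Fin r) ℤ) : Prop :=
  IsFinite (matMap (X := X) α).left ∧ Flat (matMap (X := X) α).left ∧
    ∀ y : ↥(𝐏).left, Scheme.Hom.finrank (matMap (X := X) α).left y = α.det.natAbs ^ (2 * g)

theorem GoodMat.mul {g : ℕ} {α β : Matrix (Fin r) (Fin r) ℤ} (hα : GoodMat (X := X) g α) (hβ : GoodMat (X := X) g β) :
    GoodMat (X := X) g (α * β) := by
  obtain ⟨a1, a2, a3⟩ := hα
  obtain ⟨b1, b2, b3⟩ := hβ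
  unfold GoodMat
  rw [← matMap_comp, Over.comp_left]
  refine ⟨inferInstance, inferInstance, fun y => ?_⟩
  rw [finrank_comp _ _ b3, a3, Matrix.det_mul, Int.natAbs_mul, mul_pow, mul_comm]

theorem goodMat_of_isUnit {g : ℕ} {α : Matrix (Fin r) (Fin r) ℤ} (h : IsUnit α.det) : GoodMat (X := X) g α := by
  haveI : IsIso (matMap (X := X) α) := ⟨⟨matMap α⁻¹,
    by rw [matMap_comp, Matrix.nonsing_inv_mul α h, matMap_one],
    by rw [matMap_comp, Matrix.mul_nonsing_inv α h, matMap_one]⟩⟩
  haveI : IsIso (matMap (X := X) α).left := inferInstanceAs (IsIso ((Over.forget _).map (matMap (X := X) α)))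
  refine ⟨inferInstance, inferInstance, fun y => ?_⟩
  rw [Scheme.Hom.finrank_eq_one_of_isIso, Pi.one_apply, Int.isUnit_iff_natAbs_eq.1 h, one_pow]

variable [IsProper X.hom] [GeometricallyIntegral X.hom]

theorem goodMat_elementary {g : ℕ} (hg : topologicalKrullDim X.left = g) (i₀ : Fin r) {d : ℤ} (hd : d ≠ 0) :
    GoodMat (X := X) g (Matrix.diagonal (Function.update (1 : Fin r → ℤ) i₀ d)) := by
  obtain ⟨h1, h2, -, h4⟩ := zpow_properties (A := X) hd
  have H := (isPullback_matMap (X := X) i₀ d).map (Over.forget _)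
  refine ⟨MorphismProperty.of_isPullback H h1, MorphismProperty.of_isPullback H h2, fun y => ?_⟩
  haveI : Flat ((Over.forget _).map (𝟙 X ^ d)) := h2
  haveI : IsFinite ((Over.forget _).map (𝟙 X ^ d)) := h1
  refine (Scheme.Hom.finrank_of_isPullback _ _ _ _ H y).trans ?_
  rw [Matrix.det_diagonal, Finset.prod_update_of_mem (Finset.mem_univ i₀)]
  simpa using h4 g hg _

theorem goodMat_diagonal {g : ℕ} (hg : topologicalKrullDim X.left = g) (v : Fin r → ℤ) (hv : ∀ i, v i ≠ 0) :
    GoodMat (X := X) g (Matrix.diagonal v) := by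
  classical
  suffices H : ∀ s : Finset (Fin r), GoodMat (X := X) g (Matrix.diagonal (s.piecewise v 1)) by
    have h := H Finset.univ
    rwa [Finset.piecewise_univ] at h
  intro s
  induction s using Finset.induction with
  | empty =>
    rw [Finset.piecewise_empty, Matrix.diagonal_one']
    exact goodMat_of_isUnit (by rw [Matrix.det_one]; exact isUnit_one)
  | insert i s hi ih =>
    have e : Matrix.diagonal ((insert i s).piecewise v 1) =
        Matrix.diagonal (Function.update (1 : Fin r → ℤ) i (v i)) * Matrix.diagonal (s.piecewise v 1) := by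
      rw [Matrix.diagonal_mul_diagonal]
      congr 1
      funext j
      rcases eq_or_ne j i with rfl | hj
      · simp [hi]
      · simp [hj]
    rw [e]
    exact (goodMat_elementary hg i (hv i)).mul ih

/-- **The degree of a matrix endomorphism.** -/
theorem goodMat_of_det_ne_zero {g : ℕ} (hg : topologicalKrullDim X.left = g) {α : Matrix (Fin r) (Fin r) ℤ}
    (hα : α.det ≠ 0) : GoodMat (X := X) g α := by
  obtain ⟨U, V, v, hU, hV, rfl⟩ := exists_diagonalization α hα
  refine ((goodMat_of_isUnit hU).mul (goodMat_diagonal hg v fun i hi => hα ?_)).mul (goodMat_of_isUnit hV)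
  rw [Matrix.det_mul, Matrix.det_mul, Matrix.det_diagonal, Finset.prod_eq_zero (Finset.mem_univ i) hi, mul_zero,
    zero_mul]

end Groth.Agent.AbCubeLib
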