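import Groth.Agent.AbCubeLib.Torsion
import Groth.Agent.AbCubeLib.InfinitesimalRank
import Groth.Agent.AdicRing.CompQuot
import Groth.Agent.GenSmoothLib.TangentRank

/-!
# An abelian variety has at most `p ^ g` points killed by `p` in characteristic `p`

Every tangent vector is killed by `p`, so the invariant derivations kill the functions pulled back
by `[p]`; hence every local ring of the fibre has length at least `p ^ g`.
-/

set_option autoImplicit false
set_option backward.isDefEq.respectTransparency.types false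
set_option linter.style.haveILetI false

universe u

open CategoryTheory CategoryTheory.Limits MonoidalCategory CartesianMonoidalCategory AlgebraicGeometry MonObj
  TopologicalSpace

namespace Groth.Agent.AbCubeLib

open Groth.Agent.LieSLib Groth.Agent.AbVarLib

section Alg

variable {k : Type u} [Field k]

/-- Functoriality of dual numbers in the ring. -/
noncomputable def tsMap {R S : Type u} [CommRing R] [CommRing S] (l : R →+* S) :
    TrivSqZeroExt R R →+* TrivSqZeroExt S S where
  toFun x := TrivSqZeroExt.inl (l x.fst) + TrivSqZeroExt.inr (l x.snd)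
  map_one' := by ext <;> simp
  map_mul' x y := by ext <;> simp [mul_comm]
  map_zero' := by ext <;> simp
  map_add' x y := by ext <;> simp

theorem tsMap_fst {R S : Type u} [CommRing R] [CommRing S] (l : R →+* S) (x : TrivSqZeroExt R R) :
    (tsMap l x).fst = l x.fst := by simp [tsMap]

theorem tsMap_snd {R S : Type u} [CommRing R] [CommRing S] (l : R →+* S) (x : TrivSqZeroExt R R) :
    (tsMap l x).snd = l x.snd := by simp [tsMap]

/-- Dual numbers over a local ring are local. -/
theorem isLocalRing_dual (O : Type u) [CommRing O] [IsLocalRing O] : IsLocalRing (TrivSqZeroExt O O) :=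
  IsLocalRing.of_isUnit_or_isUnit_one_sub_self fun a => by
    rw [TrivSqZeroExt.isUnit_iff_isUnit_fst, TrivSqZeroExt.isUnit_iff_isUnit_fst, TrivSqZeroExt.fst_sub,
      TrivSqZeroExt.fst_one]
    exact IsLocalRing.isUnit_or_isUnit_one_sub_self _

variable {O : Type u} [CommRing O] [IsLocalRing O] [IsNoetherianRing O] [Algebra k O]

theorem ker_point (χ : O →ₐ[k] k) : RingHom.ker χ = IsLocalRing.maximalIdeal O := by
  have : (RingHom.ker χ).IsMaximal := RingHom.ker_isMaximal_of_surjective χ
    (fun r => ⟨algebraMap k O r, χ.commutes r⟩)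
  exact IsLocalRing.eq_maximalIdeal this

theorem sub_point_mem (χ : O →ₐ[k] k) (z : O) : z - algebraMap k O (χ z) ∈ IsLocalRing.maximalIdeal O := by
  rw [← ker_point χ, RingHom.mem_ker, map_sub, AlgHom.commutes]
  exact sub_self _

theorem finite_quotient_maximalIdeal_pow (χ : O →ₐ[k] k) (n : ℕ) :
    Module.Finite k (O ⧸ IsLocalRing.maximalIdeal O ^ n) := by
  have : Module.Finite k (O ⧸ IsLocalRing.maximalIdeal O) := by
    refine Module.Finite.of_surjective (Algebra.linearMap k (O ⧸ IsLocalRing.maximalIdeal O)) fun q => ?_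
    obtain ⟨z, rfl⟩ := Ideal.Quotient.mk_surjective q
    exact ⟨χ z, (Ideal.Quotient.eq.2 (sub_point_mem χ z)).symm⟩
  exact AdicRing.finite_quotient_pow O (IsLocalRing.maximalIdeal O) n

/-- Coordinates and tangent vectors at a rational point of a local ring of dimension at least `g`. -/
theorem exists_coordinates (χ : O →ₐ[k] k) {g : ℕ} (hg : (g : WithBot ℕ∞) ≤ ringKrullDim O) :
    ∃ (x : Fin g → O) (ξ : Fin g → (O →+* TrivSqZeroExt k k)),
      (∀ i, x i ∈ IsLocalRing.maximalIdeal O) ∧ (∀ i y, (ξ i y).fst = χ y) ∧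
      (∀ i c, ξ i (algebraMap k O c) = algebraMap k (TrivSqZeroExt k k) c) ∧
      (∀ i j, (ξ i (x j)).snd = if i = j then 1 else 0) := by
  classical
  set m := IsLocalRing.maximalIdeal O
  haveI : Module.Finite k (O ⧸ m ^ 2) := finite_quotient_maximalIdeal_pow χ 2
  let π : O →ₗ[k] O ⧸ m ^ 2 := (Ideal.Quotient.mkₐ k (m ^ 2)).toLinearMap
  let V : Submodule k (O ⧸ m ^ 2) := Submodule.map π (m.restrictScalars k)
  let b := Module.finBasis k V
  set r := Module.finrank k V
  choose x hx hxb using fun i => (b i).2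
  have hspan : m ≤ Ideal.span (Set.range x) ⊔ m ^ 2 := by
    intro y hy
    have hy' : π y ∈ V := Submodule.mem_map_of_mem hy
    have h := congrArg Subtype.val (b.sum_repr ⟨π y, hy'⟩)
    rw [Submodule.coe_sum] at h
    have hz : y - ∑ i, b.repr ⟨π y, hy'⟩ i • x i ∈ m ^ 2 := by
      rw [← Ideal.Quotient.eq_zero_iff_mem]
      show π _ = 0
      rw [map_sub, map_sum, sub_eq_zero]
      refine h.symm.trans (Finset.sum_congr rfl fun i _ => ?_)
      rw [map_smul, SetLike.val_smul, hxb]
    have hs : (∑ i, b.repr ⟨π y, hy'⟩ i • x i) ∈ Ideal.span (Set.range x) :=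
      Submodule.sum_mem _ fun i _ => Submodule.smul_of_tower_mem _ _ (Ideal.subset_span ⟨i, rfl⟩)
    simpa using Submodule.add_mem_sup hs hz
  have hgen : m = Ideal.span (Set.range x) := by
    refine le_antisymm ?_ (Ideal.span_le.2 (by rintro _ ⟨i, rfl⟩; exact hx i))
    refine Submodule.le_of_le_smul_of_le_jacobson_bot (IsNoetherian.noetherian m)
      (IsLocalRing.maximalIdeal_le_jacobson _) ?_
    rw [smul_eq_mul, ← pow_two]
    exact hspan
  have hgr : g ≤ r := by
    have h1 := (ringKrullDim_le_spanFinrank_maximalIdeal (R := O))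
    have h2 : m.spanFinrank ≤ r := by
      rw [hgen]
      refine le_trans (Submodule.spanFinrank_span_le_ncard_of_finite (Set.finite_range x)) ?_
      rw [← Set.image_univ]
      exact le_trans (Set.ncard_image_le Set.finite_univ) (by simp [Set.ncard_univ])
    exact le_trans (by exact_mod_cast hg.trans h1) h2
  have hmem : ∀ z, π (z - algebraMap k O (χ z)) ∈ V := fun z => Submodule.mem_map_of_mem (sub_point_mem χ z)
  let L : O →ₗ[k] V := (π ∘ₗ (LinearMap.id - Algebra.linearMap k O ∘ₗ χ.toLinearMap)).codRestrict V hmem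
  have hLmul : ∀ z w, L (z * w) = χ z • L w + χ w • L z := fun z w => by
    refine Subtype.ext ?_
    show π (z * w - algebraMap k O (χ (z * w))) =
      χ z • π (w - algebraMap k O (χ w)) + χ w • π (z - algebraMap k O (χ z))
    rw [← map_smul, ← map_smul, ← map_add]
    refine (Ideal.Quotient.eq).2 ?_
    have e : z * w - algebraMap k O (χ (z * w)) -
        (χ z • (w - algebraMap k O (χ w)) + χ w • (z - algebraMap k O (χ z))) =
        (z - algebraMap k O (χ z)) * (w - algebraMap k O (χ w)) := by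
      rw [Algebra.smul_def, Algebra.smul_def, map_mul, map_mul]; ring
    rw [e, pow_two]
    exact Ideal.mul_mem_mul (sub_point_mem χ z) (sub_point_mem χ w)
  have hL1 : ∀ c, L (algebraMap k O c) = 0 := fun c => Subtype.ext (by
    show π (algebraMap k O c - algebraMap k O (χ (algebraMap k O c))) = 0
    rw [AlgHom.commutes, Algebra.algebraMap_self, RingHom.id_apply, sub_self, map_zero])
  let emb : Fin g → Fin r := Fin.castLE hgr
  let ξ : Fin g → (O →+* TrivSqZeroExt k k) := fun i =>
    { toFun := fun z => TrivSqZeroExt.inl (χ z) + TrivSqZeroExt.inr (b.coord (emb i) (L z))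
      map_one' := by
        have := hL1 1
        rw [map_one] at this
        ext <;> simp [this]
      map_mul' := fun z w => TrivSqZeroExt.ext (by simp) (by
        rw [hLmul, map_add, map_smul, map_smul]
        simp
        ring)
      map_zero' := by ext <;> simp
      map_add' := fun z w => by ext <;> simp }
  refine ⟨fun i => x (emb i), ξ, fun i => hx _, fun i y => by simp [ξ], fun i c => ?_, fun i j => ?_⟩
  · ext <;> simp [ξ, hL1, TrivSqZeroExt.algebraMap_eq_inl']
  · have hLx : L (x (emb j)) = b (emb j) := Subtype.ext (by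
      show π (x (emb j) - algebraMap k O (χ (x (emb j)))) = _
      have : χ (x (emb j)) = 0 := by rw [← RingHom.mem_ker, ker_point χ]; exact hx _
      rw [this, map_zero, sub_zero, hxb])
    rw [show (ξ i (x (emb j))).snd = b.coord (emb i) (L (x (emb j))) by simp [ξ], hLx, Module.Basis.coord_apply,
      Module.Basis.repr_self, Finsupp.single_apply]
    simp [emb, eq_comm, (Fin.castLE_injective hgr).eq_iff]

end Alg

section Geo

variable {k : Type u} [Field k] {A : Over (Spec (CommRingCat.of k))} [GrpObj A]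

theorem exists_stalk_factor {X : Scheme.{u}} {x : X} {R : CommRingCat.{u}} [IsLocalRing R] (w : Spec R ⟶ X)
    (hx : w (IsLocalRing.closedPoint R) = x) : ∃ Ψ, Spec.map Ψ ≫ X.fromSpecStalk x = w := by
  subst hx
  exact ⟨_, Scheme.Spec_stalkClosedPointTo_fromSpecStalk w⟩

/-- Tangent vectors at a rational point spread to derivations of the local ring killing the functions
pulled back by `[p]`. -/
theorem exists_derivation_pow_char [IsCommMonObj A] (p : ℕ) [CharP k p] (x₀ : A.left)
    [Algebra k (A.left.presheaf.stalk x₀)]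
    (halg : Spec.map (CommRingCat.ofHom (algebraMap k (A.left.presheaf.stalk x₀))) =
      A.left.fromSpecStalk x₀ ≫ A.hom)
    (χ : A.left.presheaf.stalk x₀ →ₐ[k] k) (ξ : A.left.presheaf.stalk x₀ →+* TrivSqZeroExt k k)
    (hξ : ∀ y, (ξ y).fst = χ y) (hξc : ∀ c, ξ (algebraMap k _ c) = algebraMap k (TrivSqZeroExt k k) c) :
    ∃ D : Derivation k (A.left.presheaf.stalk x₀) (A.left.presheaf.stalk x₀),
      (∀ y, χ (D y) = (ξ y).snd) ∧ ∀ z, D ((𝟙 A ^ p).left.stalkMap x₀ z) = 0 := by
  haveI : IsLocalRing (TrivSqZeroExt (A.left.presheaf.stalk x₀) (A.left.presheaf.stalk x₀)) := isLocalRing_dual (A.left.presheaf.stalk x₀)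
  let g₀ : Spec (CommRingCat.of (A.left.presheaf.stalk x₀)) ⟶ Spec (CommRingCat.of k) :=
    Spec.map (CommRingCat.ofHom (algebraMap k (A.left.presheaf.stalk x₀)))
  let idS : Spec (CommRingCat.of k) ⟶ Spec (CommRingCat.of k) := 𝟙 _
  let aO : LieS.pt (A.left.presheaf.stalk x₀) g₀ ⟶ A := Over.homMk (A.left.fromSpecStalk x₀) halg.symm
  let r : LieS.pt k idS ⟶ LieS.pt (A.left.presheaf.stalk x₀) g₀ := Over.homMk (Spec.map (CommRingCat.ofHom χ.toRingHom)) (by
    show Spec.map _ ≫ Spec.map _ = 𝟙 _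
    rw [LieS.specMap_comp]
    exact (congrArg (fun h => Spec.map (CommRingCat.ofHom h)) χ.comp_algebraMap).trans specMap_algebraMap_self)
  let q : tpt g₀ ((A.left.presheaf.stalk x₀) : Type u) ⟶ tpt idS k := Over.homMk (Spec.map (CommRingCat.ofHom (tsMap (algebraMap k (A.left.presheaf.stalk x₀))))) (by
    show Spec.map _ ≫ Spec.map _ ≫ 𝟙 _ = Spec.map _ ≫ Spec.map _
    rw [Category.comp_id, LieS.specMap_comp, LieS.specMap_comp]
    congr 2
    refine RingHom.ext fun c => TrivSqZeroExt.ext ?_ ?_ <;> simp [tsMap, TrivSqZeroExt.algebraMap_eq_inl'])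
  let q' : tpt idS k ⟶ tpt g₀ ((A.left.presheaf.stalk x₀) : Type u) := Over.homMk (Spec.map (CommRingCat.ofHom (tsMap χ.toRingHom))) (by
    show Spec.map _ ≫ Spec.map _ ≫ Spec.map _ = Spec.map _ ≫ 𝟙 _
    rw [Category.comp_id, ← Category.assoc, LieS.specMap_comp, LieS.specMap_comp]
    congr 2
    refine RingHom.ext fun c => TrivSqZeroExt.ext ?_ ?_ <;> simp [tsMap, TrivSqZeroExt.algebraMap_eq_inl'])
  have hq'q : q' ≫ q = 𝟙 _ := by
    refine Over.OverMorphism.ext ?_
    show Spec.map _ ≫ Spec.map _ = 𝟙 _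
    rw [LieS.specMap_comp, show (tsMap χ.toRingHom).comp (tsMap (algebraMap k (A.left.presheaf.stalk x₀))) = RingHom.id _ from
      RingHom.ext fun z => TrivSqZeroExt.ext (by simp [tsMap]) (by simp [tsMap]), CommRingCat.ofHom_id]
    exact Spec.map_id _
  have hq'p : q' ≫ tproj g₀ = tproj idS ≫ r := by
    refine Over.OverMorphism.ext ?_
    show Spec.map _ ≫ Spec.map _ = Spec.map _ ≫ Spec.map _
    rw [LieS.specMap_comp, LieS.specMap_comp]
    congr 2
    refine RingHom.ext fun z => TrivSqZeroExt.ext ?_ ?_ <;> simp [tsMap, TrivSqZeroExt.algebraMap_eq_inl']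
  let s : LieS.pt (A.left.presheaf.stalk x₀) g₀ ⟶ LieS.pt k idS := Over.homMk (Spec.map (CommRingCat.ofHom (algebraMap k (A.left.presheaf.stalk x₀))))
    (Category.comp_id _)
  have hzq : zsec g₀ ≫ q = s ≫ zsec idS := by
    refine Over.OverMorphism.ext ?_
    show Spec.map _ ≫ Spec.map _ = Spec.map _ ≫ Spec.map _
    rw [LieS.specMap_comp, LieS.specMap_comp]
    congr 2
    exact RingHom.ext fun z => by simp [tsMap]
  -- the tangent vector at the origin
  let v : tpt idS k ⟶ A := Over.homMk (Spec.map (CommRingCat.ofHom ξ) ≫ A.left.fromSpecStalk x₀) (by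
    show (_ ≫ _) ≫ A.hom = Spec.map _ ≫ 𝟙 _
    rw [Category.assoc, ← halg, LieS.specMap_comp, Category.comp_id]
    congr 2
    exact RingHom.ext hξc)
  have hzv : zsec idS ≫ v = r ≫ aO := by
    refine Over.OverMorphism.ext ?_
    show Spec.map _ ≫ Spec.map _ ≫ A.left.fromSpecStalk x₀ = Spec.map _ ≫ A.left.fromSpecStalk x₀
    rw [← Category.assoc, LieS.specMap_comp, show (TrivSqZeroExt.fstHom k k k).toRingHom.comp ξ = χ.toRingHom from
      RingHom.ext fun y => hξ y]
  have hzt : zsec idS (M := k) ≫ tproj idS = 𝟙 (LieS.pt k idS) := by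
    refine Over.OverMorphism.ext ?_
    show Spec.map _ ≫ Spec.map _ = 𝟙 _
    rw [LieS.specMap_comp, show (TrivSqZeroExt.fstHom k k k).toRingHom.comp (algebraMap k (TrivSqZeroExt k k)) =
      RingHom.id k from RingHom.ext fun c => by simp [TrivSqZeroExt.algebraMap_eq_inl'], CommRingCat.ofHom_id]
    exact Spec.map_id _
  have hzt' : zsec g₀ (M := ↑(A.left.presheaf.stalk x₀)) ≫ tproj g₀ = 𝟙 (LieS.pt (A.left.presheaf.stalk x₀) g₀) := by
    refine Over.OverMorphism.ext ?_
    show Spec.map _ ≫ Spec.map _ = 𝟙 _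
    rw [LieS.specMap_comp, show (TrivSqZeroExt.fstHom (↑(A.left.presheaf.stalk x₀)) ↑(A.left.presheaf.stalk x₀) ↑(A.left.presheaf.stalk x₀)).toRingHom.comp
      (algebraMap (A.left.presheaf.stalk x₀) (TrivSqZeroExt (A.left.presheaf.stalk x₀) (A.left.presheaf.stalk x₀))) = RingHom.id (A.left.presheaf.stalk x₀) from
      RingHom.ext fun c => by simp [TrivSqZeroExt.algebraMap_eq_inl'], CommRingCat.ofHom_id]
    exact Spec.map_id _
  let t : tpt idS k ⟶ A := v * (tproj idS ≫ r ≫ aO)⁻¹
  have ht : zsec idS ≫ t = 1 := by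
    rw [MonObj.comp_mul, GrpObj.comp_inv, hzv, ← Category.assoc, hzt, Category.id_comp, mul_inv_cancel]
  let tO : tpt g₀ ((A.left.presheaf.stalk x₀) : Type u) ⟶ A := q ≫ t
  have htO : zsec g₀ ≫ tO = 1 := by rw [← Category.assoc, hzq, Category.assoc, ht, MonObj.comp_one]
  let w : tpt g₀ ((A.left.presheaf.stalk x₀) : Type u) ⟶ A := tO * (tproj g₀ ≫ aO)
  have hwz : zsec g₀ ≫ w = aO := by
    rw [MonObj.comp_mul, htO, _root_.one_mul, ← Category.assoc, hzt', Category.id_comp]
  have hwq : q' ≫ w = v := by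
    rw [MonObj.comp_mul, ← Category.assoc, hq'q, Category.id_comp, ← Category.assoc, hq'p, Category.assoc]
    exact inv_mul_cancel_right v _
  have hwp : w ≫ (𝟙 A ^ p) = tproj g₀ ≫ aO ≫ (𝟙 A ^ p) := by
    have h0 : tO ^ p = 1 := by
      have : CharP (A.left.presheaf.stalk x₀) p := charP_of_injective_algebraMap (algebraMap k (A.left.presheaf.stalk x₀)).injective p
      rw [← zpow_natCast, zpow_eq_tmap_comp g₀ htO, show ((p : ℤ) • LinearMap.id : (A.left.presheaf.stalk x₀) →ₗ[(A.left.presheaf.stalk x₀)] (A.left.presheaf.stalk x₀)) = 0 from by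
        rw [← Int.cast_smul_eq_zsmul (A.left.presheaf.stalk x₀), Int.cast_natCast, CharP.cast_eq_zero, zero_smul],
        tmap_zero, Category.assoc, htO, MonObj.comp_one]
    rw [MonObj.comp_pow, Category.comp_id, mul_pow, h0, _root_.one_mul, MonObj.comp_pow, MonObj.comp_pow,
      Category.comp_id]
  -- factor through the local ring
  have hcl : w.left (IsLocalRing.closedPoint (TrivSqZeroExt (A.left.presheaf.stalk x₀) (A.left.presheaf.stalk x₀))) = x₀ := by
    have h1 : (zsec g₀ (M := ((A.left.presheaf.stalk x₀) : Type u))).left (IsLocalRing.closedPoint (A.left.presheaf.stalk x₀)) =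
        IsLocalRing.closedPoint (TrivSqZeroExt (A.left.presheaf.stalk x₀) (A.left.presheaf.stalk x₀)) := by
      haveI : IsLocalHom (TrivSqZeroExt.fstHom (↑(A.left.presheaf.stalk x₀)) ↑(A.left.presheaf.stalk x₀) ↑(A.left.presheaf.stalk x₀)).toRingHom :=
        ⟨fun z hz => TrivSqZeroExt.isUnit_iff_isUnit_fst.2 hz⟩
      exact IsLocalRing.comap_closedPoint _
    rw [← h1]
    exact (congrArg (fun f : LieS.pt (A.left.presheaf.stalk x₀) g₀ ⟶ A => f.left (IsLocalRing.closedPoint (A.left.presheaf.stalk x₀))) hwz).trans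
      Scheme.fromSpecStalk_closedPoint
  obtain ⟨Ψ', hΨ⟩ := exists_stalk_factor (R := CommRingCat.of (TrivSqZeroExt (A.left.presheaf.stalk x₀) (A.left.presheaf.stalk x₀))) w.left hcl
  set Ψ := Ψ'.hom
  have hfst : ∀ y, (Ψ y).fst = y := by
    have h : Spec.map (CommRingCat.ofHom ((TrivSqZeroExt.fstHom (↑(A.left.presheaf.stalk x₀)) ↑(A.left.presheaf.stalk x₀) ↑(A.left.presheaf.stalk x₀)).toRingHom.comp Ψ)) ≫
        A.left.fromSpecStalk x₀ = Spec.map (𝟙 (A.left.presheaf.stalk x₀)) ≫ A.left.fromSpecStalk x₀ := by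
      rw [← LieS.specMap_comp, Category.assoc, CommRingCat.ofHom_hom]
      refine (congrArg (_ ≫ ·) hΨ).trans ((congrArg CommaMorphism.left hwz).trans ?_)
      rw [Spec.map_id, Category.id_comp]
      rfl
    have h' := Spec.map_injective ((cancel_mono _).1 h)
    exact fun y => congrArg (fun f : (A.left.presheaf.stalk x₀) ⟶ (A.left.presheaf.stalk x₀) => f.hom y) h'
  have hconst : ∀ c, Ψ (algebraMap k (A.left.presheaf.stalk x₀) c) = TrivSqZeroExt.inl (algebraMap k (A.left.presheaf.stalk x₀) c) := by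
    have h : Spec.map (CommRingCat.ofHom (Ψ.comp (algebraMap k (A.left.presheaf.stalk x₀)))) =
        Spec.map (CommRingCat.ofHom ((algebraMap (A.left.presheaf.stalk x₀) (TrivSqZeroExt (A.left.presheaf.stalk x₀) (A.left.presheaf.stalk x₀))).comp (algebraMap k (A.left.presheaf.stalk x₀)))) := by
      rw [← LieS.specMap_comp, ← LieS.specMap_comp, halg, ← Category.assoc, CommRingCat.ofHom_hom]
      exact (congrArg (· ≫ A.hom) hΨ).trans ((Over.w w).trans (congrArg (_ ≫ ·) halg))
    have h' := Spec.map_injective h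
    intro c
    have := congrArg (fun f : CommRingCat.of k ⟶ CommRingCat.of (TrivSqZeroExt (A.left.presheaf.stalk x₀) (A.left.presheaf.stalk x₀)) => f.hom c) h'
    simpa [TrivSqZeroExt.algebraMap_eq_inl'] using this
  let D : Derivation k (A.left.presheaf.stalk x₀) (A.left.presheaf.stalk x₀) := Derivation.mk'
    { toFun := fun y => (Ψ y).snd
      map_add' := fun y z => by simp
      map_smul' := fun c y => by
        rw [Algebra.smul_def, map_mul, hconst, RingHom.id_apply, Algebra.smul_def]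
        simp [hfst] }
    fun y z => by simp [hfst, mul_comm]
  refine ⟨D, fun y => ?_, fun z => ?_⟩
  · have h : Spec.map (CommRingCat.ofHom ((tsMap χ.toRingHom).comp Ψ)) ≫ A.left.fromSpecStalk x₀ =
        Spec.map (CommRingCat.ofHom ξ) ≫ A.left.fromSpecStalk x₀ := by
      rw [← LieS.specMap_comp, Category.assoc, CommRingCat.ofHom_hom]
      exact (congrArg (_ ≫ ·) hΨ).trans (congrArg CommaMorphism.left hwq)
    have := congrArg TrivSqZeroExt.snd
      (RingHom.congr_fun (congrArg CommRingCat.Hom.hom (Spec.map_injective ((cancel_mono _).1 h))) y)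
    exact (tsMap_snd χ.toRingHom (Ψ y)).symm.trans this
  · set φ := (𝟙 A ^ p).left.stalkMap x₀
    have h : Spec.map (CommRingCat.ofHom (Ψ.comp φ.hom)) ≫ A.left.fromSpecStalk ((𝟙 A ^ p).left x₀) =
        Spec.map (CommRingCat.ofHom ((algebraMap (A.left.presheaf.stalk x₀) (TrivSqZeroExt (A.left.presheaf.stalk x₀) (A.left.presheaf.stalk x₀))).comp φ.hom)) ≫
          A.left.fromSpecStalk ((𝟙 A ^ p).left x₀) := by
      rw [← LieS.specMap_comp, ← LieS.specMap_comp, Category.assoc, Category.assoc, CommRingCat.ofHom_hom,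
        CommRingCat.ofHom_hom, Scheme.SpecMap_stalkMap_fromSpecStalk, ← Category.assoc]
      exact (congrArg (· ≫ (𝟙 A ^ p).left) hΨ).trans (congrArg CommaMorphism.left hwp)
    have := congrArg TrivSqZeroExt.snd
      (RingHom.congr_fun (congrArg CommRingCat.Hom.hom (Spec.map_injective ((cancel_mono _).1 h))) z)
    show (Ψ (φ z)).snd = 0
    exact this.trans (by simp [TrivSqZeroExt.algebraMap_eq_inl'])

variable [IsAlgClosed k] [IsProper A.hom] [GeometricallyIntegral A.hom]

/-- The local ring of the fibre of `[p]` at a rational point has length at least `p ^ g`. -/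
theorem exists_fibre_quotient (p : ℕ) [Fact p.Prime] [CharP k p] {g : ℕ} (hg : topologicalKrullDim A.left = g)
    {F : Type u} [CommRing F] [Algebra k F] [Module.Finite k F]
    (e : Spec (CommRingCat.of F) ≅ pullback (𝟙 A ^ p).left (1 : 𝟙_ (Over (Spec (CommRingCat.of k))) ⟶ A).left)
    (he : e.hom ≫ pullback.snd _ _ = Spec.map (CommRingCat.ofHom (algebraMap k F)))
    (a : 𝟙_ (Over (Spec (CommRingCat.of k))) ⟶ A) (ha : a ≫ (𝟙 A ^ p) = 1) :
    ∃ J : Ideal F, p ^ g ≤ Module.finrank k (F ⧸ J) ∧ ∀ M : PrimeSpectrum F, J ≤ M.asIdeal →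
      (pullback.fst (𝟙 A ^ p).left (1 : 𝟙_ (Over (Spec (CommRingCat.of k))) ⟶ A).left) (e.hom M) = a.left (IsLocalRing.closedPoint k) := by
  haveI : IsCommMonObj A := isCommMonObj_of_isProper_of_geometricallyIntegral A
  haveI : IsLocallyNoetherian A.left := LocallyOfFiniteType.isLocallyNoetherian A.hom
  haveI : IsIntegral A.left := GeometricallyIntegral.isIntegral_of_subsingleton A.hom
  set x₀ := a.left (IsLocalRing.closedPoint k)
  set O : CommRingCat.{u} := A.left.presheaf.stalk x₀
  let c : CommRingCat.of k ⟶ O := Spec.preimage (A.left.fromSpecStalk x₀ ≫ A.hom)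
  algebraize [c.hom]
  have halg : Spec.map (CommRingCat.ofHom (algebraMap k O)) = A.left.fromSpecStalk x₀ ≫ A.hom :=
    Spec.map_preimage _
  let χ₀ : O ⟶ CommRingCat.of k := Scheme.stalkClosedPointTo a.left
  have hχe : Spec.map χ₀ ≫ A.left.fromSpecStalk x₀ = a.left := Scheme.Spec_stalkClosedPointTo_fromSpecStalk a.left
  have hχc : c ≫ χ₀ = 𝟙 _ := Spec.map_injective (by
    rw [Spec.map_comp, Spec.map_preimage, ← Category.assoc, hχe, Spec.map_id]
    exact Over.w a)
  let χ : O →ₐ[k] k :=
    { χ₀.hom with commutes' := fun r => congrArg (fun f : CommRingCat.of k ⟶ CommRingCat.of k => f.hom r) hχc }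
  have hdim : (g : WithBot ℕ∞) ≤ ringKrullDim O := by
    rw [GenSmoothLib.ringKrullDim_stalk_of_isClosed A.hom x₀ (isClosed_point a),
      ← DimLib.topologicalKrullDim_eq_ptDim_genericPoint A.hom, hg]
  obtain ⟨x, ξ, hx, hξ, hξc, hξx⟩ := exists_coordinates χ hdim
  choose D hD hD0 using fun i => exists_derivation_pow_char p x₀ halg χ (ξ i) (hξ i) (hξc i)
  let f := (𝟙 A ^ p).left
  set φ := f.stalkMap x₀
  let P : Ideal O := (IsLocalRing.maximalIdeal (A.left.presheaf.stalk (f x₀))).map φ.hom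
  have hPm : P ≤ IsLocalRing.maximalIdeal O := Ideal.map_le_iff_le_comap.2 fun z hz =>
    (IsLocalRing.mem_maximalIdeal _).2 fun hu => (IsLocalRing.mem_maximalIdeal _).1 hz (IsUnit.of_map φ.hom z hu)
  have hDP : ∀ i, ∀ y ∈ P, D i y ∈ P := by
    intro i y hy
    induction hy using Submodule.span_induction with
    | mem y hy =>
      obtain ⟨z, -, rfl⟩ := hy
      rw [hD0]; exact zero_mem _
    | zero => rw [map_zero]; exact zero_mem _
    | add y z _ _ hy hz => rw [map_add]; exact add_mem hy hz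
    | smul o y hy' hy =>
      rw [smul_eq_mul, Derivation.leibniz, smul_eq_mul, smul_eq_mul]
      exact add_mem (Ideal.mul_mem_left _ _ hy) (Ideal.mul_mem_right _ _ hy')
  have hDx : ∀ i j, D i (x j) - (if i = j then 1 else 0) ∈ IsLocalRing.maximalIdeal O := fun i j => by
    rw [← ker_point χ, RingHom.mem_ker, map_sub, hD, hξx, apply_ite χ, map_one, map_zero, sub_self]
  have hinj : ∀ r : k, algebraMap k O r ∈ IsLocalRing.maximalIdeal O → r = 0 := fun r hr => by
    rw [← ker_point χ, RingHom.mem_ker, AlgHom.commutes] at hr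
    exact hr
  have hp : ∀ n : ℕ, 0 < n → n < p → (n : k) ≠ 0 := fun n h0 hn h =>
    (Nat.not_dvd_of_pos_of_lt h0 hn) ((CharP.cast_eq_zero_iff k p n).1 h)
  set N := g * p + 1
  haveI : Module.Finite k (O ⧸ IsLocalRing.maximalIdeal O ^ N) := finite_quotient_maximalIdeal_pow χ N
  haveI : Module.Finite k (O ⧸ (P ⊔ IsLocalRing.maximalIdeal O ^ N)) :=
    Module.Finite.of_surjective (Ideal.Quotient.factorₐ k (le_sup_right (a := P))).toLinearMap
      (Ideal.Quotient.factor_surjective (le_sup_right (a := P)))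
  have hbound := pow_le_finrank_quotient hinj hx D hDx hPm hDP hp
  let Q := O ⧸ (P ⊔ IsLocalRing.maximalIdeal O ^ N)
  -- the artinian neighbourhood lies in the fibre
  let j : Spec (CommRingCat.of Q) ⟶ A.left :=
    Spec.map (CommRingCat.ofHom (Ideal.Quotient.mk (P ⊔ IsLocalRing.maximalIdeal O ^ N))) ≫ A.left.fromSpecStalk x₀
  have hjA : j ≫ A.hom = Spec.map (CommRingCat.ofHom (algebraMap k Q)) := by
    rw [Category.assoc, ← halg, LieS.specMap_comp]
  let cy : CommRingCat.of k ⟶ A.left.presheaf.stalk (f x₀) := Spec.preimage (A.left.fromSpecStalk (f x₀) ≫ A.hom)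
  have hcy : cy ≫ φ = c := Spec.map_injective (by
    rw [Spec.map_comp, Spec.map_preimage, Spec.map_preimage, ← Category.assoc,
      Scheme.SpecMap_stalkMap_fromSpecStalk, Category.assoc, Over.w])
  have hmk : (Ideal.Quotient.mk (P ⊔ IsLocalRing.maximalIdeal O ^ N)).comp φ.hom =
      (algebraMap k Q).comp (χ₀.hom.comp φ.hom) := by
    refine RingHom.ext fun z => (Ideal.Quotient.eq).2 (Submodule.mem_sup_left ?_)
    have hz : z - cy.hom (χ (φ.hom z)) ∈ IsLocalRing.maximalIdeal (A.left.presheaf.stalk (f x₀)) := by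
      refine (IsLocalRing.mem_maximalIdeal _).2 fun hu => ?_
      have := hu.map (χ.toRingHom.comp φ.hom)
      rw [map_sub, RingHom.comp_apply, RingHom.comp_apply,
        show φ.hom (cy.hom (χ (φ.hom z))) = algebraMap k O (χ (φ.hom z)) from
          congrArg (fun t : CommRingCat.of k ⟶ O => t.hom (χ (φ.hom z))) hcy] at this
      simp at this
    have := Ideal.mem_map_of_mem φ.hom hz
    rwa [map_sub, show φ.hom (cy.hom (χ (φ.hom z))) = algebraMap k O (χ (φ.hom z)) from
      congrArg (fun t : CommRingCat.of k ⟶ O => t.hom (χ (φ.hom z))) hcy] at this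
  have hjf : j ≫ f = Spec.map (CommRingCat.ofHom (algebraMap k Q)) ≫
      (1 : 𝟙_ (Over (Spec (CommRingCat.of k))) ⟶ A).left := by
    rw [← ha, Over.comp_left, ← hχe, Category.assoc, Category.assoc, ← Scheme.SpecMap_stalkMap_fromSpecStalk]
    simp only [← Category.assoc, ← Spec.map_comp]
    congr 2
    exact CommRingCat.hom_ext hmk
  let s : Spec (CommRingCat.of Q) ⟶ pullback f (1 : 𝟙_ (Over (Spec (CommRingCat.of k))) ⟶ A).left :=
    pullback.lift j (Spec.map (CommRingCat.ofHom (algebraMap k Q))) hjf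
  haveI : IsClosedImmersion (1 : 𝟙_ (Over (Spec (CommRingCat.of k))) ⟶ A).left := by
    haveI : IsClosedImmersion ((1 : 𝟙_ (Over (Spec (CommRingCat.of k))) ⟶ A).left ≫ A.hom) := by
      rw [Over.w]; exact inferInstanceAs (IsClosedImmersion (𝟙 _))
    exact IsClosedImmersion.of_comp _ A.hom
  haveI : IsClosedImmersion j := by
    haveI : IsFinite (j ≫ A.hom) := by
      rw [hjA, IsFinite.SpecMap_iff]
      exact RingHom.finite_algebraMap.2 inferInstance
    haveI : IsClosedImmersion (Spec.map (CommRingCat.ofHom (Ideal.Quotient.mk (P ⊔ IsLocalRing.maximalIdeal O ^ N)))) :=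
      IsClosedImmersion.spec_of_surjective _ Ideal.Quotient.mk_surjective
    exact (IsClosedImmersion.iff_isFinite_and_mono j).2 ⟨IsFinite.of_comp j A.hom, inferInstance⟩
  haveI : IsClosedImmersion (s ≫ pullback.fst _ _) := by rw [pullback.lift_fst]; infer_instance
  haveI : IsClosedImmersion s := IsClosedImmersion.of_comp s (pullback.fst _ _)
  let ψ₀ : CommRingCat.of F ⟶ CommRingCat.of Q := Spec.preimage (s ≫ e.inv)
  have hψ₀ : Spec.map ψ₀ = s ≫ e.inv := Spec.map_preimage _
  haveI : IsClosedImmersion (Spec.map ψ₀) := by rw [hψ₀]; infer_instance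
  have hsurj : Function.Surjective ψ₀.hom := by
    have h : Function.Surjective (Spec.map ψ₀).appTop :=
      (IsClosedImmersion.isAffine_surjective_of_isAffine (Spec.map ψ₀)).2
    intro q
    obtain ⟨z, hz⟩ := h ((Scheme.ΓSpecIso (CommRingCat.of Q)).inv.hom q)
    refine ⟨(Scheme.ΓSpecIso (CommRingCat.of F)).hom.hom z, ?_⟩
    have := congrArg (fun t => t.hom z) (Scheme.ΓSpecIso_naturality ψ₀)
    refine this.symm.trans ?_
    show (Scheme.ΓSpecIso (CommRingCat.of Q)).hom.hom ((Spec.map ψ₀).appTop z) = q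
    rw [hz]
    exact congrArg (fun t : CommRingCat.of Q ⟶ CommRingCat.of Q => t.hom q)
      (Scheme.ΓSpecIso (CommRingCat.of Q)).inv_hom_id
  have hψc : ∀ r, ψ₀.hom (algebraMap k F r) = algebraMap k Q r := by
    have h : Spec.map (CommRingCat.ofHom (algebraMap k F) ≫ ψ₀) = Spec.map (CommRingCat.ofHom (algebraMap k Q)) := by
      rw [Spec.map_comp, hψ₀, ← he, Category.assoc, Iso.inv_hom_id_assoc]
      exact pullback.lift_snd _ _ _
    exact fun r => congrArg (fun t : CommRingCat.of k ⟶ CommRingCat.of Q => t.hom r) (Spec.map_injective h)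
  let ψ : F →ₐ[k] Q := { ψ₀.hom with commutes' := hψc }
  refine ⟨RingHom.ker ψ, hbound.trans_eq (Ideal.quotientKerAlgEquivOfSurjective (f := ψ) hsurj).toLinearEquiv.finrank_eq.symm,
    fun M hM => ?_⟩
  obtain ⟨M', hM'⟩ : M ∈ Set.range (PrimeSpectrum.comap ψ₀.hom) := by
    rw [range_comap_of_surjective _ _ hsurj]
    exact hM
  have hM1 : M'.asIdeal.comap (Ideal.Quotient.mk (P ⊔ IsLocalRing.maximalIdeal O ^ N)) =
      IsLocalRing.maximalIdeal O := by
    refine le_antisymm (IsLocalRing.le_maximalIdeal (Ideal.comap_isPrime _ _).ne_top) fun z hz => ?_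
    refine (Ideal.comap_isPrime _ _).mem_of_pow_mem N ?_
    rw [Ideal.mem_comap, map_pow, ← map_pow, Ideal.Quotient.eq_zero_iff_mem.2
      (Submodule.mem_sup_right (Ideal.pow_mem_pow hz N))]
    exact zero_mem _
  have h1 : (pullback.fst f _) (e.hom M) = j M' := by
    rw [← hM', show PrimeSpectrum.comap ψ₀.hom M' = (s ≫ e.inv) M' from congrArg (fun t => t M') hψ₀]
    rw [← Scheme.Hom.comp_apply, ← Scheme.Hom.comp_apply]
    simp only [Category.assoc, Iso.inv_hom_id_assoc]
    rw [pullback.lift_fst]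
  rw [h1, Scheme.Hom.comp_apply, show (Spec.map (CommRingCat.ofHom
    (Ideal.Quotient.mk (P ⊔ IsLocalRing.maximalIdeal O ^ N)))) M' = IsLocalRing.closedPoint O from
      PrimeSpectrum.ext hM1]
  exact Scheme.fromSpecStalk_closedPoint

/-- At most `p ^ g` rational points are killed by `p`. -/
theorem natCard_ker_pow_char_le (p : ℕ) [Fact p.Prime] [CharP k p] {g : ℕ} (hg : topologicalKrullDim A.left = g) :
    Nat.card {a : 𝟙_ (Over (Spec (CommRingCat.of k))) ⟶ A // a ≫ (𝟙 A ^ p) = 1} ≤ p ^ g := by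
  classical
  have hp0 : 0 < p := (Fact.out : p.Prime).pos
  haveI := isFinite_pow (A := A) hp0
  haveI := flat_pow (A := A) hp0
  haveI := finite_ker (𝟙 A ^ p)
  haveI := Fintype.ofFinite {a : 𝟙_ (Over (Spec (CommRingCat.of k))) ⟶ A // a ≫ (𝟙 A ^ p) = 1}
  obtain ⟨F, _, _, _, e, he⟩ := exists_algebra
    (pullback.snd (𝟙 A ^ p).left (1 : 𝟙_ (Over (Spec (CommRingCat.of k))) ⟶ A).left)
  choose J hJ hJpt using fun a : {a : 𝟙_ (Over (Spec (CommRingCat.of k))) ⟶ A // a ≫ (𝟙 A ^ p) = 1} =>
    exists_fibre_quotient p hg e he a.1 a.2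
  have hcop : Pairwise (Function.onFun IsCoprime J) := fun a b hab => by
    show IsCoprime (J a) (J b)
    rw [Ideal.isCoprime_iff_sup_eq]
    by_contra hne
    obtain ⟨M, hM, hle⟩ := Ideal.exists_le_maximal _ hne
    exact hab (Subtype.ext (point_ext ((hJpt a ⟨M, hM.isPrime⟩ (le_sup_left.trans hle)).symm.trans
      (hJpt b ⟨M, hM.isPrime⟩ (le_sup_right.trans hle)))))
  let π : F →ₗ[k] ((a : _) → F ⧸ J a) := LinearMap.pi fun a => (Ideal.Quotient.mkₐ k (J a)).toLinearMap
  have hπ : Function.Surjective π := fun y => by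
    obtain ⟨q, hq⟩ := Ideal.quotientInfToPiQuotient_surj hcop y
    obtain ⟨z, rfl⟩ := Ideal.Quotient.mk_surjective q
    exact ⟨z, hq⟩
  haveI : ∀ a, Module.Finite k (F ⧸ J a) := fun a =>
    Module.Finite.of_surjective (Ideal.Quotient.mkₐ k (J a)).toLinearMap Ideal.Quotient.mk_surjective
  have h1 := LinearMap.finrank_le_finrank_of_surjective hπ
  rw [Module.finrank_pi_fintype, ← finrank_eq_of_algebra e he (IsLocalRing.closedPoint k),
    Scheme.Hom.finrank_pullback_snd, finrank_pow hp0 hg] at h1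
  have h2 := (Finset.sum_le_sum fun a _ => hJ a).trans h1
  rw [Finset.sum_const, Finset.card_univ, smul_eq_mul, ← Nat.card_eq_fintype_card, two_mul, pow_add] at h2
  exact Nat.le_of_mul_le_mul_right h2 (pow_pos hp0 g)

end Geo

end Groth.Agent.AbCubeLib
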