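import Mathlib

/-!
# Abelian groups with prescribed numbers of torsion elements
-/

set_option autoImplicit false

universe u

namespace Groth.Agent.AbCubeLib

variable {M : Type u} [AddCommGroup M]

/-- The subgroup of elements killed by `N`. -/
def tors (M : Type u) [AddCommGroup M] (N : ℕ) : AddSubgroup M := (nsmulAddMonoidHom N : M →+ M).ker

theorem mem_tors {N : ℕ} {x : M} : x ∈ tors M N ↔ N • x = 0 := Iff.rfl

theorem nsmul_tors {N : ℕ} (x : tors M N) : N • x = 0 := Subtype.ext x.2

theorem tors_mono {N N' : ℕ} (h : N ∣ N') : tors M N ≤ tors M N' := by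
  intro x hx
  obtain ⟨c, rfl⟩ := h
  rw [mem_tors, mul_comm, mul_nsmul', mem_tors.1 hx, nsmul_zero]

section PrimePow

variable {l r : ℕ} (hl : l.Prime)

/-- Multiplication by `l ^ j` as a map `M[l^(i+j)] → M[l^i]`. -/
def mulPow (M : Type u) [AddCommGroup M] (l i j : ℕ) : tors M (l ^ (i + j)) →+ tors M (l ^ i) where
  toFun x := ⟨l ^ j • (x : M), by rw [mem_tors, ← mul_nsmul', ← pow_add]; exact x.2⟩
  map_zero' := Subtype.ext (nsmul_zero _)
  map_add' x y := Subtype.ext (nsmul_add _ _ _)

include hl in
/-- With `l ^ (r m)` elements killed by `l ^ m`, multiplication by powers of `l` is surjective. -/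
theorem mulPow_surjective {i j : ℕ} (hi : Nat.card (tors M (l ^ i)) = l ^ (r * i))
    (hj : Nat.card (tors M (l ^ j)) = l ^ (r * j)) (hij : Nat.card (tors M (l ^ (i + j))) = l ^ (r * (i + j))) :
    Function.Surjective (mulPow M l i j) := by
  have hpos : ∀ e : ℕ, 0 < l ^ e := fun e => pow_pos hl.pos e
  have : Finite (tors M (l ^ i)) := Nat.finite_of_card_ne_zero (by rw [hi]; exact (hpos _).ne')
  have : Finite (tors M (l ^ (i + j))) := Nat.finite_of_card_ne_zero (by rw [hij]; exact (hpos _).ne')
  have hk : Nat.card (mulPow M l i j).ker = l ^ (r * j) := by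
    rw [← hj]
    refine Nat.card_congr
      { toFun := fun x => ⟨(x.1 : M), congrArg Subtype.val x.2⟩
        invFun := fun y => ⟨⟨y.1, tors_mono (pow_dvd_pow l (Nat.le_add_left j i)) y.2⟩, Subtype.ext y.2⟩
        left_inv := fun x => rfl
        right_inv := fun y => rfl }
  have h1 := (mulPow M l i j).ker.card_mul_index
  rw [AddSubgroup.index_ker, hk, hij] at h1
  have h2 : Nat.card (mulPow M l i j).range = Nat.card (tors M (l ^ i)) := by
    rw [hi]
    refine Nat.eq_of_mul_eq_mul_left (hpos (r * j)) (h1.trans ?_)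
    rw [← pow_add, mul_add, add_comm]
  exact AddMonoidHom.range_eq_top.1 (AddSubgroup.eq_top_of_card_eq _ h2)

variable (hcard : ∀ n, Nat.card (tors M (l ^ n)) = l ^ (r * n))

include hl in
/-- Lifts of generators of `M[l]` generate `M[l^m]`. -/
theorem closure_eq_of_lift {m : ℕ} (x : Fin r → M) (hx : ∀ i, x i ∈ tors M (l ^ (m + 1)))
    (hgen : AddSubgroup.closure (Set.range fun i => l ^ m • x i) = tors M l) :
    AddSubgroup.closure (Set.range x) = tors M (l ^ (m + 1)) := by
  refine le_antisymm ((AddSubgroup.closure_le _).2 (Set.range_subset_iff.2 hx)) ?_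
  suffices ∀ j ≤ m + 1, tors M (l ^ j) ≤ AddSubgroup.closure (Set.range x) from this _ le_rfl
  intro j
  induction j with
  | zero =>
    intro _ y hy
    rw [mem_tors, pow_zero, one_nsmul] at hy
    rw [hy]
    exact zero_mem _
  | succ j ih =>
    intro hj y hy
    have h1 : l ^ j • y ∈ tors M l := by rw [mem_tors, ← mul_nsmul', ← pow_succ']; exact hy
    rw [← hgen] at h1
    obtain ⟨c, hc⟩ := AddSubgroup.mem_closure_range_iff.1 h1
    have hc' : l ^ j • (∑ i, c i • l ^ (m - j) • x i) = l ^ j • y := by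
      rw [hc, Finset.smul_sum, Finsupp.sum_fintype _ _ (fun i => zero_zsmul _)]
      refine Finset.sum_congr rfl fun i _ => ?_
      rw [smul_comm, ← mul_nsmul', ← pow_add, Nat.add_sub_cancel' (by omega)]
    have h2 : y - ∑ i, c i • l ^ (m - j) • x i ∈ AddSubgroup.closure (Set.range x) :=
      ih (by omega) (by rw [mem_tors, nsmul_sub, hc', sub_self])
    have h3 : ∑ i, c i • l ^ (m - j) • x i ∈ AddSubgroup.closure (Set.range x) :=
      sum_mem fun i _ => zsmul_mem (nsmul_mem (AddSubgroup.subset_closure (Set.mem_range_self i)) _) _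
    simpa using add_mem h2 h3

/-- The homomorphism from `(ZMod N)^r` given by `r` elements killed by `N`. -/
def zmodPiHom {N : ℕ} (x : Fin r → tors M N) : (Fin r → ZMod N) →+ tors M N :=
  ∑ i, (ZMod.lift N ⟨zmultiplesHom _ (x i), by
    refine Subtype.ext ?_
    rw [zmultiplesHom_apply, AddSubgroup.coe_zsmul, natCast_zsmul]
    exact (x i).2⟩).comp (Pi.evalAddMonoidHom (fun _ : Fin r => ZMod N) i)

theorem zmodPiHom_intCast {N : ℕ} (x : Fin r → tors M N) (c : Fin r → ℤ) :
    zmodPiHom x (fun i => (c i : ZMod N)) = ∑ i, c i • x i := by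
  simp [zmodPiHom]

theorem zmodPiHom_natCast {N : ℕ} (x : Fin r → tors M N) (c : Fin r → ℕ) :
    ((zmodPiHom x (fun i => (c i : ZMod N)) : tors M N) : M) = ∑ i, c i • (x i : M) := by
  have := zmodPiHom_intCast x (fun i => (c i : ℤ))
  simp only [Int.cast_natCast, natCast_zsmul] at this
  rw [this, AddSubgroup.val_finsetSum]
  rfl

theorem zmodPiHom_bijective {N : ℕ} (hN : 0 < N) (hc : Nat.card (tors M N) = N ^ r) (x : Fin r → tors M N)
    (hgen : AddSubgroup.closure (Set.range fun i => (x i : M)) = tors M N) : Function.Bijective (zmodPiHom x) := by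
  have : NeZero N := ⟨hN.ne'⟩
  rw [Nat.bijective_iff_surjective_and_card]
  refine ⟨fun y => ?_, by rw [hc]; simp⟩
  obtain ⟨c, hc⟩ := AddSubgroup.mem_closure_range_iff.1 (hgen.ge y.2)
  refine ⟨fun i => (c i : ZMod N), Subtype.ext ?_⟩
  rw [zmodPiHom_intCast, AddSubgroup.val_finsetSum, hc, Finsupp.sum_fintype _ _ (fun i => zero_zsmul _)]
  exact Finset.sum_congr rfl fun i _ => AddSubgroup.coe_zsmul _ _ _

/-- An elementary abelian group of order `l ^ r` has `r` generators. -/
theorem exists_generators_aux {l r : ℕ} [Fact l.Prime] (h1 : Nat.card (tors M l) = l ^ r)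
    [Module (ZMod l) (tors M l)] :
    ∃ b : Fin r → tors M l, AddSubgroup.closure (Set.range fun i => (b i : M)) = tors M l := by
  have : Finite (tors M l) := Nat.finite_of_card_ne_zero (by rw [h1]; exact (pow_pos (Fact.out : l.Prime).pos _).ne')
  have : Module.Finite (ZMod l) (tors M l) := Module.Finite.of_finite
  have hr : Module.finrank (ZMod l) (tors M l) = r := by
    have := Module.natCard_eq_pow_finrank (K := ZMod l) (V := tors M l)
    rw [h1, Nat.card_zmod] at this
    exact (Nat.pow_right_injective (Fact.out : l.Prime).two_le this).symm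
  let b := Module.finBasisOfFinrankEq (ZMod l) (tors M l) hr
  refine ⟨b, le_antisymm ((AddSubgroup.closure_le _).2 (Set.range_subset_iff.2 fun i => (b i).2)) fun y hy => ?_⟩
  rw [show y = ((⟨y, hy⟩ : tors M l) : M) from rfl, ← b.sum_repr ⟨y, hy⟩, AddSubgroup.val_finsetSum]
  refine sum_mem fun i _ => ?_
  rw [← ZMod.natCast_zmod_val (b.repr _ i), Nat.cast_smul_eq_nsmul, AddSubgroup.coe_nsmul]
  exact nsmul_mem (AddSubgroup.subset_closure (Set.mem_range_self i)) _

theorem exists_generators {l r : ℕ} (hl : l.Prime) (h1 : Nat.card (tors M l) = l ^ r) :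
    ∃ b : Fin r → tors M l, AddSubgroup.closure (Set.range fun i => (b i : M)) = tors M l :=
  have : Fact l.Prime := ⟨hl⟩
  @exists_generators_aux M _ l r _ h1 (AddCommGroup.zmodModule nsmul_tors)

include hl hcard in
/-- A compatible system of generators. -/
theorem exists_compatible_generators : ∃ x : ℕ → Fin r → M,
    (∀ n i, x n i ∈ tors M (l ^ n)) ∧ (∀ n i, l • x (n + 1) i = x n i) ∧
      ∀ n, AddSubgroup.closure (Set.range (x n)) = tors M (l ^ n) := by
  have : Fact l.Prime := ⟨hl⟩
  have h1 : Nat.card (tors M l) = l ^ r := by simpa using hcard 1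
  have : Finite (tors M l) := Nat.finite_of_card_ne_zero (by rw [h1]; exact (pow_pos hl.pos _).ne')
  obtain ⟨b, hb⟩ := exists_generators hl h1
  -- successive lifts
  have hlift : ∀ n (y : Fin r → tors M (l ^ n)), ∃ z : Fin r → tors M (l ^ (n + 1)), ∀ i, l • (z i : M) = y i := by
    intro n y
    choose z hz using fun i => mulPow_surjective (M := M) hl (hcard n) (hcard 1) (hcard (n + 1)) (y i)
    exact ⟨z, fun i => by simpa [mulPow] using congrArg Subtype.val (hz i)⟩
  choose L hL using hlift
  let X : ∀ n : ℕ, Fin r → tors M (l ^ (n + 1)) := fun n =>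
    Nat.rec (fun i => ⟨b i, by simpa using (b i).2⟩) (fun n y => L (n + 1) y) n
  have hX : ∀ (n : ℕ) (i : Fin r), l • Subtype.val (X (n + 1) i) = Subtype.val (X n i) := fun n i => hL (n + 1) (X n) i
  have hXb : ∀ n i, l ^ n • (Subtype.val (X n i)) = Subtype.val (b i) := by
    intro n
    induction n with
    | zero => intro i; rw [pow_zero, one_nsmul]; rfl
    | succ n ih => intro i; rw [pow_succ, mul_nsmul', hX, ih]
  refine ⟨fun n => match n with
    | 0 => fun _ => 0
    | n + 1 => fun i => Subtype.val (X n i), ?_, ?_, ?_⟩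
  · rintro (_ | n) i
    · exact zero_mem _
    · exact (X n i).2
  · rintro (_ | n) i
    · simpa [mem_tors] using (X 0 i).2
    · exact hX n i
  · rintro (_ | n)
    · refine le_antisymm ((AddSubgroup.closure_le _).2 (Set.range_subset_iff.2 fun i => zero_mem _)) fun y hy => ?_
      rw [mem_tors, pow_zero, one_nsmul] at hy
      rw [hy]
      exact zero_mem _
    · refine closure_eq_of_lift hl (fun i => Subtype.val (X n i)) (fun i => (X n i).2) ?_
      simp_rw [hXb]
      exact hb

end PrimePow

theorem coprime_add_bijective {a b : ℕ} (hab : Nat.Coprime a b) :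
    Function.Bijective (fun p : tors M a × tors M b =>
      (⟨(p.1 : M) + p.2, add_mem (tors_mono (dvd_mul_right a b) p.1.2) (tors_mono (dvd_mul_left b a) p.2.2)⟩ :
        tors M (a * b))) := by
  have hbez : (a : ℤ) * Nat.gcdA a b + (b : ℤ) * Nat.gcdB a b = 1 := by
    rw [← Nat.gcd_eq_gcd_ab, hab.gcd_eq_one]; norm_num
  have hkey : ∀ x : M, x = (Nat.gcdA a b • (a • x)) + Nat.gcdB a b • (b • x) := fun x => by
    rw [← natCast_zsmul x a, ← natCast_zsmul x b, smul_smul, smul_smul, ← add_smul, mul_comm _ (a : ℤ),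
      mul_comm _ (b : ℤ), hbez, one_smul]
  constructor
  · rintro ⟨u, v⟩ ⟨u', v'⟩ h
    have h' : (u : M) + v = u' + v' := congrArg Subtype.val h
    have hw : (u : M) - u' = v' - v := by rw [sub_eq_sub_iff_add_eq_add, h', add_comm]
    have ha : a • ((u : M) - u') = 0 := by rw [nsmul_sub, mem_tors.1 u.2, mem_tors.1 u'.2, sub_zero]
    have hb : b • ((u : M) - u') = 0 := by rw [hw, nsmul_sub, mem_tors.1 v.2, mem_tors.1 v'.2, sub_zero]
    have h0 : (u : M) - u' = 0 := by rw [hkey ((u : M) - u'), ha, hb, smul_zero, smul_zero, add_zero]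
    refine Prod.ext (Subtype.ext (sub_eq_zero.1 h0)) (Subtype.ext (sub_eq_zero.1 ?_).symm)
    rw [← hw, h0]
  · intro x
    refine ⟨(⟨Nat.gcdB a b • (b • (x : M)), ?_⟩, ⟨Nat.gcdA a b • (a • (x : M)), ?_⟩), Subtype.ext ?_⟩
    · rw [mem_tors, smul_comm, ← mul_nsmul']
      exact (congrArg _ x.2).trans (smul_zero _)
    · rw [mem_tors, smul_comm, ← mul_nsmul', mul_comm b a]
      exact (congrArg _ x.2).trans (smul_zero _)
    · exact (add_comm _ _).trans (hkey x).symm

/-- Elements killed by `ab` for coprime `a`, `b`. -/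
noncomputable def torsMulEquiv {a b : ℕ} (hab : Nat.Coprime a b) : tors M a × tors M b ≃+ tors M (a * b) :=
  AddEquiv.ofBijective
    (AddMonoidHom.mk' _ fun p q => Subtype.ext (add_add_add_comm (p.1 : M) q.1 p.2 q.2)) (coprime_add_bijective hab)

/-- A group with `d ^ r` elements killed by each divisor `d` of `n` has `n`-torsion `(Z/n)^r`. -/
theorem nonempty_zmod_pi_equiv {r n : ℕ} (hn : 0 < n) (hcard : ∀ d, d ∣ n → Nat.card (tors M d) = d ^ r) :
    Nonempty ((Fin r → ZMod n) ≃+ tors M n) := by
  induction n using Nat.recOnPosPrimePosCoprime with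
  | zero => omega
  | one =>
    have : Subsingleton (tors M 1) := ⟨fun x y => Subtype.ext (by
      have hx : 1 • (x : M) = 0 := x.2
      have hy : 1 • (y : M) = 0 := y.2
      rw [one_nsmul] at hx hy
      rw [hx, hy])⟩
    exact ⟨{ toFun := 0, invFun := 0, left_inv := fun x => Subsingleton.elim _ _,
             right_inv := fun x => Subsingleton.elim _ _, map_add' := fun x y => Subsingleton.elim _ _ }⟩
  | prime_pow p m hp hm =>
    -- work inside the torsion subgroup, where the count holds in every degree up to `m`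
    obtain ⟨m, rfl⟩ := Nat.exists_eq_succ_of_ne_zero hm.ne'
    have h1 : Nat.card (tors M p) = p ^ r := hcard p (dvd_pow_self p (Nat.succ_ne_zero m))
    have hfin : Finite (tors M p) := Nat.finite_of_card_ne_zero (by rw [h1]; exact (pow_pos hp.pos _).ne')
    have hsurj : Function.Surjective (mulPow M p 1 m) := by
      refine mulPow_surjective hp (r := r) ?_ ?_ ?_
      · simpa using h1
      · rw [hcard _ (pow_dvd_pow p m.le_succ), ← pow_mul, mul_comm]
      · rw [add_comm 1 m, hcard _ dvd_rfl, ← pow_mul, mul_comm]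
    obtain ⟨b, hb'⟩ := exists_generators hp h1
    choose z hz using fun i => hsurj ⟨b i, by simpa using (b i).2⟩
    have hz' : ∀ i, p ^ m • (z i : M) = b i := fun i => congrArg Subtype.val (hz i)
    have hb : AddSubgroup.closure (Set.range fun i => p ^ m • (z i : M)) = tors M p := by
      simp_rw [hz']
      exact hb'
    have hgen := closure_eq_of_lift hp (fun i => (z i : M))
      (fun i => by rw [add_comm m 1]; exact (z i).2) hb
    exact ⟨AddEquiv.ofBijective (zmodPiHom fun i => ⟨(z i : M), by rw [Nat.succ_eq_add_one, add_comm m 1]; exact (z i).2⟩)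
      (zmodPiHom_bijective (pow_pos hp.pos _) (hcard _ dvd_rfl) _ hgen)⟩
  | coprime a b ha hb hab iha ihb =>
    obtain ⟨ea⟩ := iha (by omega) fun d hd => hcard d (hd.trans (dvd_mul_right a b))
    obtain ⟨eb⟩ := ihb (by omega) fun d hd => hcard d (hd.trans (dvd_mul_left b a))
    exact ⟨((AddEquiv.piCongrRight fun _ => (ZMod.chineseRemainder hab).toAddEquiv).trans
      { toFun := fun f => ((fun i => (f i).1), fun i => (f i).2)
        invFun := fun p i => (p.1 i, p.2 i)
        left_inv := fun f => rfl
        right_inv := fun p => rfl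
        map_add' := fun f g => rfl }).trans ((ea.prodCongr eb).trans (torsMulEquiv hab))⟩

/-- The number of elements killed by `n` divides `n ^ R` if it is at most that for all `n`. -/
theorem card_tors_dvd {R : ℕ} (hfin : ∀ n, 0 < n → Finite (tors M n))
    (hle : ∀ n, 0 < n → Nat.card (tors M n) ≤ n ^ R) {n : ℕ} (hn : 0 < n) : Nat.card (tors M n) ∣ n ^ R := by
  induction n using Nat.recOnPosPrimePosCoprime with
  | zero => omega
  | one =>
    have := hle 1 one_pos
    rw [one_pow] at this ⊢
    have := hfin 1 one_pos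
    have h0 : 0 < Nat.card (tors M 1) := Nat.card_pos
    rw [show Nat.card (tors M 1) = 1 by omega]
  | prime_pow p m hp hm =>
    have : Fact p.Prime := ⟨hp⟩
    have := hfin _ hn
    have hP : IsPGroup p (Multiplicative (tors M (p ^ m))) := fun x => ⟨m, Multiplicative.toAdd.injective
      (Subtype.ext (by rw [toAdd_pow, AddSubgroup.coe_nsmul]; exact x.toAdd.2))⟩
    obtain ⟨e, he⟩ := hP.exists_card_eq
    rw [Nat.card_congr Multiplicative.toAdd] at he
    have h := hle _ hn
    rw [he, ← pow_mul] at h ⊢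
    exact pow_dvd_pow p ((Nat.pow_le_pow_iff_right hp.one_lt).1 h)
  | coprime a b ha hb hab iha ihb =>
    rw [← Nat.card_congr (torsMulEquiv hab).toEquiv, Nat.card_prod, mul_pow]
    exact mul_dvd_mul (iha (by omega)) (ihb (by omega))

end Groth.Agent.AbCubeLib
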