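import Groth.Agent.AbCubeLib.PRankBound
import Groth.Agent.AbCubeLib.TorsionGroup
import Groth.Agent.AbCubeLib.Torsion

/-!
# The `p`-power torsion of a divisible group with finite `p`-torsion
-/

set_option autoImplicit false
set_option backward.isDefEq.respectTransparency.types false

universe u v

open CategoryTheory CategoryTheory.Limits MonoidalCategory CartesianMonoidalCategory AlgebraicGeometry MonObj

namespace Groth.Agent.AbCubeLib

section Group

variable {M : Type u} [AddCommGroup M]

/-- In a `p`-divisible group with finite `p`-torsion all `p`-power torsion counts are powers. -/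
theorem natCard_tors_pow_of_surjective {p : ℕ} (hp : 0 < p) (hdiv : Function.Surjective fun x : M => p • x)
    {i : ℕ} (h : Nat.card (tors M p) = p ^ i) (m : ℕ) : Nat.card (tors M (p ^ m)) = p ^ (i * m) := by
  induction m with
  | zero =>
    rw [Nat.mul_zero, pow_zero, Nat.card_eq_one_iff_unique]
    refine ⟨⟨fun x y => Subtype.ext ?_⟩, inferInstance⟩
    have hx : 1 • (x : M) = 0 := x.2
    have hy : 1 • (y : M) = 0 := y.2
    rw [one_nsmul] at hx hy
    rw [hx, hy]
  | succ m ih =>
    let f : tors M (p ^ (m + 1)) →+ tors M (p ^ m) :=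
      AddMonoidHom.mk' (fun x => ⟨p • (x : M), by rw [mem_tors, ← mul_nsmul', ← pow_succ]; exact x.2⟩)
        fun x y => Subtype.ext (nsmul_add _ _ _)
    have hf : Function.Surjective f := fun y => by
      obtain ⟨x, hx⟩ := hdiv (y : M)
      refine ⟨⟨x, ?_⟩, Subtype.ext hx⟩
      rw [mem_tors, pow_succ, mul_nsmul']
      exact (congrArg _ hx).trans y.2
    have hk : Nat.card f.ker = p ^ i := by
      rw [← h]
      exact Nat.card_congr
        { toFun := fun x => ⟨(x.1 : M), congrArg Subtype.val x.2⟩
          invFun := fun y => ⟨⟨y.1, tors_mono (dvd_pow_self p (Nat.succ_ne_zero m)) y.2⟩, Subtype.ext y.2⟩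
          left_inv := fun x => rfl
          right_inv := fun y => rfl }
    have h1 := f.ker.card_mul_index
    rw [AddSubgroup.index_ker, hk, AddMonoidHom.range_eq_top.2 hf, AddSubgroup.card_top, ih] at h1
    rw [← h1, ← pow_add]
    congr 1
    ring

/-- A surjection with finite kernel of `p`-divisible groups preserves the rank of the `p`-power torsion. -/
theorem rank_eq_of_surjective {N : Type v} [AddCommGroup N] {p : ℕ} (hp : 1 < p)
    (hdiv : Function.Surjective fun x : M => p • x) (f : M →+ N) (hf : Function.Surjective f) [Finite f.ker]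
    {i j : ℕ} (hi : ∀ m, Nat.card (tors M (p ^ m)) = p ^ (i * m))
    (hj : ∀ m, Nat.card (tors N (p ^ m)) = p ^ (j * m)) : i = j := by
  have hp0 : 0 < p := by omega
  have hdiv' : ∀ m, Function.Surjective fun x : M => p ^ m • x := by
    intro m
    induction m with
    | zero => exact fun x => ⟨x, by simp⟩
    | succ m ih =>
      intro x
      obtain ⟨y, hy⟩ := ih x
      obtain ⟨z, hz⟩ := hdiv y
      refine ⟨z, ?_⟩
      show p ^ (m + 1) • z = x
      rw [pow_succ, mul_nsmul']
      exact (congrArg _ hz).trans hy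
  have hfinM : ∀ m, Finite (tors M (p ^ m)) := fun m =>
    Nat.finite_of_card_ne_zero (by rw [hi]; exact (pow_pos hp0 _).ne')
  have hfinN : ∀ m, Finite (tors N (p ^ m)) := fun m =>
    Nat.finite_of_card_ne_zero (by rw [hj]; exact (pow_pos hp0 _).ne')
  set c := Nat.card f.ker with hc
  have hc0 : 0 < c := Nat.card_pos
  -- torsion of `M` maps to torsion of `N` with kernel inside `f.ker`
  have h1 : ∀ m, p ^ (i * m) ≤ c * p ^ (j * m) := by
    intro m
    have := hfinM m
    have := hfinN m
    let g : tors M (p ^ m) →+ tors N (p ^ m) :=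
      AddMonoidHom.mk' (fun x => ⟨f x, by rw [mem_tors, ← map_nsmul, show p ^ m • (x : M) = 0 from x.2, map_zero]⟩)
        fun x y => Subtype.ext (map_add f _ _)
    have h := g.ker.card_mul_index
    rw [AddSubgroup.index_ker, hi] at h
    rw [← h, ← hj m]
    refine Nat.mul_le_mul ?_ (Nat.card_le_card_of_injective _ Subtype.val_injective)
    exact Nat.card_le_card_of_injective (fun x => (⟨(x.1 : M), congrArg Subtype.val x.2⟩ : f.ker))
      fun x y hxy => Subtype.ext (Subtype.ext (congrArg (fun w : f.ker => (w : M)) hxy))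
  -- elements sent into `f.ker` by `p ^ m` cover the torsion of `N`
  have h2 : ∀ m, p ^ (j * m) ≤ c * p ^ (i * m) := by
    intro m
    let S : AddSubgroup M := f.ker.comap (nsmulAddMonoidHom (p ^ m))
    let a : S →+ f.ker := AddMonoidHom.mk' (fun x => ⟨p ^ m • (x : M), x.2⟩) fun x y => Subtype.ext (nsmul_add _ _ _)
    have hak : Nat.card a.ker = p ^ (i * m) := by
      rw [← hi m]
      exact Nat.card_congr
        { toFun := fun x => ⟨(x.1 : M), congrArg Subtype.val x.2⟩
          invFun := fun y => ⟨⟨y.1, by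
            show f (p ^ m • (y : M)) = 0
            rw [show p ^ m • (y : M) = 0 from y.2, map_zero]⟩, Subtype.ext y.2⟩
          left_inv := fun x => rfl
          right_inv := fun y => rfl }
    have haS := a.ker.card_mul_index
    rw [AddSubgroup.index_ker, hak] at haS
    have hS : Nat.card S ≤ c * p ^ (i * m) := by
      rw [← haS, mul_comm c]
      exact Nat.mul_le_mul_left _ (Nat.card_le_card_of_injective _ Subtype.val_injective)
    have hS0 : Finite S := Nat.finite_of_card_ne_zero (by
      rw [← haS]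
      exact (Nat.mul_pos (pow_pos hp0 _) Nat.card_pos).ne')
    rw [← hj m]
    refine le_trans (Nat.card_le_card_of_surjective
      (fun x : S => (⟨f x, by rw [mem_tors, ← map_nsmul]; exact x.2⟩ : tors N (p ^ m))) fun y => ?_) hS
    obtain ⟨x, hx⟩ := hf (y : N)
    exact ⟨⟨x, by show f (p ^ m • x) = 0; rw [map_nsmul, hx]; exact y.2⟩, Subtype.ext hx⟩
  have key : ∀ a b : ℕ, (∀ m, p ^ (a * m) ≤ c * p ^ (b * m)) → a ≤ b := by
    intro a b h
    by_contra hab
    push Not at hab
    have h' := h c
    obtain ⟨d, rfl⟩ := Nat.exists_eq_add_of_lt hab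
    rw [show (b + d + 1) * c = b * c + (d + 1) * c by ring, pow_add, mul_comm c] at h'
    have h'' : p ^ ((d + 1) * c) ≤ c := Nat.le_of_mul_le_mul_left h' (pow_pos hp0 _)
    have h3 : p ^ c ≤ p ^ ((d + 1) * c) := Nat.pow_le_pow_right hp0 (Nat.le_mul_of_pos_left c (Nat.succ_pos d))
    have h4 : c < p ^ c := Nat.lt_pow_self hp
    omega
  exact le_antisymm (key i j h1) (key j i h2)

end Group

section Geo

variable {k : Type u} [Field k] {A : Over (Spec (CommRingCat.of k))} [GrpObj A] [IsProper A.hom]
  [GeometricallyIntegral A.hom] [IsCommMonObj A]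

omit [IsProper A.hom] [GeometricallyIntegral A.hom] in
/-- Torsion points as additive torsion. -/
theorem natCard_tors_additive {T : Over (Spec (CommRingCat.of k))} (n : ℕ) :
    Nat.card (tors (Additive (T ⟶ A)) n) = Nat.card (AbDual.torsPts A n T) :=
  Nat.card_congr
    { toFun := fun x => ⟨Additive.toMul x.1, by
        rw [AbDual.mem_torsPts, ← toMul_nsmul, show n • x.1 = 0 from x.2, toMul_zero]⟩
      invFun := fun y => ⟨Additive.ofMul y.1, by rw [mem_tors, ← ofMul_pow, show y.1 ^ n = 1 from y.2, ofMul_one]⟩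
      left_inv := fun x => rfl
      right_inv := fun y => rfl }

omit [IsProper A.hom] [GeometricallyIntegral A.hom] in
/-- Torsion points as the multiplicative form of additive torsion. -/
def torsPtsEquivTors {T : Over (Spec (CommRingCat.of k))} (n : ℕ) :
    AbDual.torsPts A n T ≃* Multiplicative (tors (Additive (T ⟶ A)) n) where
  toFun y := Multiplicative.ofAdd ⟨Additive.ofMul y.1, by
    rw [mem_tors, ← ofMul_pow, show y.1 ^ n = 1 from y.2, ofMul_one]⟩
  invFun f := ⟨Additive.toMul f.toAdd.1, by
    rw [AbDual.mem_torsPts, ← toMul_nsmul, show n • f.toAdd.1 = 0 from f.toAdd.2, toMul_zero]⟩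
  left_inv _ := rfl
  right_inv _ := rfl
  map_mul' _ _ := rfl

/-- The `p`-rank of an abelian variety over an algebraically closed field of characteristic `p`. -/
theorem exists_pRank [IsAlgClosed k] (p : ℕ) [Fact p.Prime] [CharP k p] {g : ℕ}
    (hg : topologicalKrullDim A.left = g) :
    ∃ i : ℕ, i ≤ g ∧ ∀ m : ℕ,
      Nat.card (AbDual.torsPts A (p ^ m) (𝟙_ (Over (Spec (CommRingCat.of k))))) = p ^ (i * m) ∧
      Nonempty (AbDual.torsPts A (p ^ m) (𝟙_ (Over (Spec (CommRingCat.of k)))) ≃*
        Multiplicative (Fin i → ZMod (p ^ m))) := by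
  have hp : p.Prime := Fact.out
  let M := Additive (𝟙_ (Over (Spec (CommRingCat.of k))) ⟶ A)
  have := finite_torsPts (A := A) hp.pos
  have hP : IsPGroup p (AbDual.torsPts A p (𝟙_ (Over (Spec (CommRingCat.of k))))) := fun x =>
    ⟨1, Subtype.ext (by rw [pow_one, SubmonoidClass.coe_pow]; exact x.2)⟩
  obtain ⟨i, hi⟩ := hP.exists_card_eq
  have hle : p ^ i ≤ p ^ g := by rw [← hi, natCard_torsPts]; exact natCard_ker_pow_char_le p hg
  refine ⟨i, (Nat.pow_le_pow_iff_right hp.one_lt).1 hle, ?_⟩
  have hdiv : Function.Surjective fun x : M => p • x := fun x => by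
    obtain ⟨b, hb⟩ := exists_pow_eq (A := A) hp.pos (Additive.toMul x)
    refine ⟨Additive.ofMul b, Additive.toMul.injective ?_⟩
    show Additive.toMul (p • Additive.ofMul b) = Additive.toMul x
    rw [toMul_nsmul]
    exact hb
  have hcard := natCard_tors_pow_of_surjective hp.pos hdiv (i := i) (by rw [natCard_tors_additive]; exact hi)
  intro m
  refine ⟨(natCard_tors_additive _).symm.trans (hcard m), ?_⟩
  obtain ⟨e⟩ := nonempty_zmod_pi_equiv (M := M) (r := i) (pow_pos hp.pos m) fun d hd => by
    obtain ⟨l, -, rfl⟩ := (Nat.dvd_prime_pow hp).1 hd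
    rw [hcard, ← pow_mul, mul_comm]
  exact ⟨(torsPtsEquivTors (p ^ m)).trans (AddEquiv.toMultiplicative e.symm)⟩

end Geo

end Groth.Agent.AbCubeLib
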