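import Groth.Agent.CubeLib.FieldChange
import Groth.Agent.AbCubeLib.CubeRel
import Groth.Agent.AbSchLib.GlobalSections
import Groth.Agent.AbVarLib.GeomIntegralSmooth
import Groth.Agent.CubeLib.FieldDescent
import Groth.Agent.AbCubeLib.Torsion
import Groth.Prelude

/-!
# Poincaré classes over a field are biadditive

A Poincaré class on `A ×_k At` is trivial on both axes, so by the theorem of the cube it is additive in each variable.
-/

set_option autoImplicit false

universe u

open CategoryTheory CategoryTheory.Limits MonoidalCategory CartesianMonoidalCategory MonObj GrpObj AlgebraicGeometry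
open Groth.Agent.PicLib Groth.Agent.AmpleLib

namespace Groth.Agent.AbCubeLib

/-- Inverse images of algebraically trivial modules are algebraically trivial. -/
theorem isAlgEquivZero_pullback {K : Type u} [Field K] {X Y : Scheme.{u}} [X.Over (Spec (CommRingCat.of K))]
    [Y.Over (Spec (CommRingCat.of K))] (f : Y ⟶ X) (hf : f ≫ (X ↘ Spec (CommRingCat.of K)) = Y ↘ Spec (CommRingCat.of K))
    {L : X.Modules} (hL : Pic13.IsAlgEquivZero K X L) :
    Pic13.IsAlgEquivZero K Y ((Scheme.Modules.pullback f).obj L) := by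
  obtain ⟨T, q, hT, hlft, hqc, M, hM, t, t₀, ht, ht₀, ⟨e⟩, ⟨e₀⟩⟩ := hL
  let F : Pic13.prodK K Y q ⟶ Pic13.prodK K X q := pullback.map _ _ _ _ f (𝟙 T) (𝟙 _) (by simp [hf]) (by simp)
  have hs : ∀ (s : Spec (CommRingCat.of K) ⟶ T) (hs : s ≫ q = 𝟙 _),
      Pic13.sliceAt K Y q s hs ≫ F = f ≫ Pic13.sliceAt K X q s hs := fun s hs => by
    simp only [F, Pic13.sliceAt, pullback.map]
    apply pullback.hom_ext
    · rw [Category.assoc, Category.assoc]
      erw [pullback.lift_fst, pullback.lift_fst]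
      erw [pullback.lift_fst_assoc]
      simp
    · rw [Category.assoc, Category.assoc]
      erw [pullback.lift_snd, pullback.lift_snd]
      try erw [pullback.lift_snd]
      simp [reassoc_of% hf]
  have hM' : PicF.IsInvertible ((Scheme.Modules.pullback F).obj M) := PicLoc.isInvertible_pullback F hM
  have hfib : ∀ (s : Spec (CommRingCat.of K) ⟶ T) (hs' : s ≫ q = 𝟙 _) (N : X.Modules),
      Nonempty (Pic13.fibreMod K X q s hs' M ≅ N) →
      Nonempty (Pic13.fibreMod K Y q s hs' ((Scheme.Modules.pullback F).obj M) ≅ (Scheme.Modules.pullback f).obj N) := by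
    rintro s hs' N ⟨e⟩
    have h1 : PicM.of (PicLoc.isInvertible_pullback (Pic13.sliceAt K Y q s hs') hM') =
        PicM.of (PicLoc.isInvertible_pullback f (PicLoc.isInvertible_pullback (Pic13.sliceAt K X q s hs') hM)) := by
      rw [← PicM.pull_of (Pic13.sliceAt K Y q s hs') hM', ← PicM.pull_of F hM, PicM.pull_pull, hs, ← PicM.pull_pull,
        PicM.pull_of _ hM, PicM.pull_of]
    exact ⟨((PicM.of_eq_iff _ _).1 h1).some ≪≫ (Scheme.Modules.pullback f).mapIso e⟩
  refine ⟨T, q, hT, hlft, hqc, _, hM', t, t₀, ht, ht₀, hfib t ht L ⟨e⟩, ?_⟩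
  obtain ⟨e'⟩ := hfib t₀ ht₀ _ ⟨e₀⟩
  exact ⟨e' ≪≫ (exists_pullStructureIso f).some⟩

/-- The structure module is algebraically trivial. -/
theorem isAlgEquivZero_structureModule (K : Type u) [Field K] (X : Scheme.{u}) [X.Over (Spec (CommRingCat.of K))] :
    Pic13.IsAlgEquivZero K X (Coh.structureModule X) := by
  refine ⟨Spec (CommRingCat.of K), 𝟙 _, ?_, inferInstance, inferInstance, Coh.structureModule _,
    PicLoc.isInvertible_structureModule _, 𝟙 _, 𝟙 _, Category.comp_id _, Category.comp_id _,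
    exists_pullStructureIso _, exists_pullStructureIso _⟩
  infer_instance

variable {S : Scheme.{u}} {X : Scheme.{u}} {f : X ⟶ S}

/-- The trivial class is of Pic⁰. -/
theorem isPicZeroCl_one (T : Over S) : AbDual.IsPicZeroCl f T (1 : PicM (PicF.XT f T)).val := by
  refine ⟨Coh.structureModule _, rfl, PicLoc.isInvertible_structureModule _, fun t Ω _ _ σ _ => ?_⟩
  letI : (pullback (PicF.XTproj f T) σ).Over (Spec (CommRingCat.of Ω)) := ⟨pullback.snd _ _⟩
  exact isAlgEquivZero_congr (exists_pullStructureIso _).some.symm (isAlgEquivZero_structureModule Ω _)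
where
  isAlgEquivZero_congr {Ω : Type u} [Field Ω] {Y : Scheme.{u}} [Y.Over (Spec (CommRingCat.of Ω))] {L M : Y.Modules}
      (e : L ≅ M) (h : Pic13.IsAlgEquivZero Ω Y L) : Pic13.IsAlgEquivZero Ω Y M := by
    obtain ⟨T, q, hT, hlft, hqc, N, hN, t, t₀, ht, ht₀, ⟨e₁⟩, he₀⟩ := h
    exact ⟨T, q, hT, hlft, hqc, N, hN, t, t₀, ht, ht₀, ⟨e₁ ≪≫ e⟩, he₀⟩

/-- Pic⁰ classes pull back to Pic⁰ classes. -/
theorem isPicZeroCl_pullCl {T T' : Over S} (g : T' ⟶ T) {c : PicF.Cl (PicF.XT f T)} (hc : AbDual.IsPicZeroCl f T c) :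
    AbDual.IsPicZeroCl f T' (PicF.pullCl (PicF.XTmap f g) c) := by
  obtain ⟨L, rfl, hL, hfib⟩ := hc
  refine ⟨_, rfl, PicLoc.isInvertible_pullback _ hL, fun t Ω _ _ σ hσ => ?_⟩
  let σ' : Spec (CommRingCat.of Ω) ⟶ T.left := σ ≫ g.left
  have hσ' : Set.range σ'.base = {g.left t} := by
    rw [show (σ'.base : _ → _) = g.left.base ∘ σ.base from rfl, Set.range_comp, hσ, Set.image_singleton]
  letI : (pullback (PicF.XTproj f T) σ').Over (Spec (CommRingCat.of Ω)) := ⟨pullback.snd _ _⟩
  letI : (pullback (PicF.XTproj f T') σ).Over (Spec (CommRingCat.of Ω)) := ⟨pullback.snd _ _⟩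
  let e : pullback (PicF.XTproj f T') σ ⟶ pullback (PicF.XTproj f T) σ' :=
    pullback.lift (pullback.fst _ _ ≫ PicF.XTmap f g) (pullback.snd _ _) (by
      simp only [PicF.XTmap, PicF.XTproj, Category.assoc, pullback.lift_snd, σ']
      rw [← Category.assoc, pullback.condition, Category.assoc])
  have h := isAlgEquivZero_pullback e (pullback.lift_snd _ _ _) (hfib (g.left t) Ω σ' hσ')
  refine isPicZeroCl_one.isAlgEquivZero_congr (Nonempty.some ?_) h
  refine (PicM.of_eq_iff (PicLoc.isInvertible_pullback _ (PicLoc.isInvertible_pullback _ hL))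
    (PicLoc.isInvertible_pullback _ (PicLoc.isInvertible_pullback _ hL))).1 ?_
  rw [← PicM.pull_of e (PicLoc.isInvertible_pullback _ hL), ← PicM.pull_of _ hL, PicM.pull_pull,
    ← PicM.pull_of (pullback.fst (PicF.XTproj f T') σ) (PicLoc.isInvertible_pullback _ hL), ← PicM.pull_of _ hL,
    PicM.pull_pull, pullback.lift_fst]

theorem XTmap_eq (A : Over S) {T T' : Over S} (g : T' ⟶ T) :
    PicF.XTmap A.hom g = (lift (fst A T') (snd A T' ≫ g)).left := by
  simp only [PicF.XTmap, pullback.map]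
  apply pullback.hom_ext
  · rw [pullback.lift_fst, Category.comp_id]
    exact (congrArg (fun t => Over.Hom.left t) (lift_fst (fst A T') (snd A T' ≫ g))).symm
  · rw [pullback.lift_snd]
    exact (congrArg (fun t => Over.Hom.left t) (lift_snd (fst A T') (snd A T' ≫ g))).symm

theorem bcMap_eq {A B : Over S} (h : A ⟶ B) (T : Over S) :
    AbDual.bcMap h T = (lift (fst A T ≫ h) (snd A T)).left := by
  simp only [AbDual.bcMap, pullback.map]
  apply pullback.hom_ext
  · rw [pullback.lift_fst]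
    exact (congrArg (fun t => Over.Hom.left t) (lift_fst (fst A T ≫ h) (snd A T))).symm
  · rw [pullback.lift_snd, Category.comp_id]
    exact (congrArg (fun t => Over.Hom.left t) (lift_snd (fst A T ≫ h) (snd A T))).symm

section Field

variable {k : Type u} [Field k] {A At : Over (Spec (CommRingCat.of k))}

/-- A Pic⁰ class over the ground field which the dual sends to the origin is trivial. -/
theorem eq_one_of_phi_eq_one [IsProper A.hom] [GeometricallyIntegral A.hom] [GrpObj At]
    {φ : ∀ T : Over (Spec (CommRingCat.of k)), PicF.Cl (PicF.XT A.hom T) → (T ⟶ At)}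
    (hφ : AbDual.IsDualAV Scheme.fppfPrecoverage A At φ)
    (c : PicM (PicF.XT A.hom (𝟙_ (Over (Spec (CommRingCat.of k))))))
    (hc : AbDual.IsPicZeroCl A.hom _ c.val) (h : φ _ c.val = 1) : c = 1 := by
  let T : Over (Spec (CommRingCat.of k)) := 𝟙_ _
  have h1 : φ T (1 : PicM (PicF.XT A.hom T)).val = 1 := by
    have h2 := hφ.mul T (Coh.structureModule _) (Coh.structureModule _) (isPicZeroCl_one T) (isPicZeroCl_one T)
    have e : PicF.cl (CohB1.tensorMod (Coh.structureModule (PicF.XT A.hom T)) (Coh.structureModule _)) =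
        (1 : PicM (PicF.XT A.hom T)).val := congrArg PicM.val (one_mul (1 : PicM (PicF.XT A.hom T)))
    rw [e] at h2
    exact mul_eq_left.1 h2.symm
  obtain ⟨R, hR, hRu⟩ := hφ.relPic.locallyInjective T c.val (1 : PicM (PicF.XT A.hom T)).val hc
    (isPicZeroCl_one T) (h.trans h1.symm)
  obtain ⟨_, _, ⟨hu⟩, ⟨w, -⟩⟩ := hR.1 (IsLocalRing.closedPoint k : Spec (CommRingCat.of k))
  rename_i U u
  let K := U.residueField w
  let g : Spec K ⟶ Spec (CommRingCat.of k) := U.fromSpecResidueField w ≫ u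
  let j : A.left ⟶ PicF.XT A.hom T := pullback.lift (𝟙 _) A.hom (by simp [T])
  have hj : pullback.fst A.hom T.hom ≫ j = 𝟙 _ := by
    apply pullback.hom_ext
    · rw [Category.assoc, Category.id_comp, pullback.lift_fst, Category.comp_id]
    · simp only [j, Category.assoc, pullback.lift_snd, Category.id_comp]
      exact pullback.condition.trans (Category.comp_id _)
  let m : pullback A.hom g ⟶ PicF.XT A.hom (AbDual.ovr T u) :=
    pullback.lift (pullback.fst _ _) (pullback.snd _ _ ≫ U.fromSpecResidueField w) (by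
      simp only [AbDual.ovr, Over.mk_hom, Category.assoc]
      exact pullback.condition.trans (by simp [g, T]))
  have hm : m ≫ PicF.XTmap A.hom (AbDual.ovrHom T u) = pullback.fst A.hom g ≫ j := by
    apply pullback.hom_ext
    · simp only [m, j, PicF.XTmap, Category.assoc, pullback.map, pullback.lift_fst, pullback.lift_fst_assoc,
        Category.comp_id]
    · simp only [m, j, PicF.XTmap, Category.assoc, pullback.lift_snd, pullback.lift_snd_assoc, Over.homMk_left]
      exact pullback.condition.symm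
  have hb : PicM.pull j c = 1 := by
    refine CubeLib.eq_one_of_bc (K := K) (IsPullback.of_hasPullback A.hom g) _ ?_
    rw [PicM.pull_pull, ← hm, ← PicM.pull_pull,
      show PicM.pull (PicF.XTmap A.hom (AbDual.ovrHom T u)) c =
        PicM.pull (PicF.XTmap A.hom (AbDual.ovrHom T u)) 1 from PicM.ext (hRu u hu),
      map_one, map_one]
  have := congrArg (PicM.pull (pullback.fst A.hom T.hom)) hb
  rwa [PicM.pull_pull, hj, PicM.pull_id, map_one] at this

variable [GrpObj A] [IsProper A.hom] [GeometricallyIntegral A.hom]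
  [GrpObj At] [IsProper At.hom] [GeometricallyIntegral At.hom]
  {φ : ∀ T : Over (Spec (CommRingCat.of k)), PicF.Cl (PicF.XT A.hom T) → (T ⟶ At)}

/-- A Poincaré class is trivial on both axes. -/
theorem poincare_axes (hφ : AbDual.IsDualAV Scheme.fppfPrecoverage A At φ) (P : PicM (A ⊗ At).left)
    (hP : AbDual.IsPoincareCl A At φ P.val) :
    pb (lift (1 : At ⟶ A) (𝟙 At)) P = 1 ∧ pb (lift (𝟙 A) (1 : A ⟶ At)) P = 1 := by
  obtain ⟨h0, hid, hrig⟩ := hP
  refine ⟨?_, ?_⟩
  · refine PicM.ext ((congrArg (fun m => PicF.pullCl m P.val) ?_).trans hrig)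
    apply pullback.hom_ext
    · rw [PicF.secT, pullback.lift_fst]
      refine ((congrArg (fun t => Over.Hom.left t) (lift_fst (1 : At ⟶ A) (𝟙 At))).trans
        (one_left_eq (B := A) At)).trans ?_
      rw [MonObj.one_eq_one (M := A)]
    · rw [PicF.secT, pullback.lift_snd]
      exact congrArg (fun t => Over.Hom.left t) (lift_snd (1 : At ⟶ A) (𝟙 At))
  · let T : Over (Spec (CommRingCat.of k)) := 𝟙_ _
    have hc : PicM.pull (PicF.XTmap A.hom η[At]) P = 1 :=
      eq_one_of_phi_eq_one hφ _ (isPicZeroCl_pullCl η[At] h0) (by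
        refine (hφ.relPic.natural _ _ η[At] _ h0).trans ?_
        rw [hid, Category.comp_id]
        exact (MonObj.one_eq_one (M := At)))
    have := congrArg (PicM.pull (pullback.lift (𝟙 A.left) A.hom (by simp [T]) : A.left ⟶ PicF.XT A.hom T)) hc
    rw [PicM.pull_pull, map_one] at this
    refine Eq.trans (congrArg (fun m => PicM.pull m P) ?_) this
    apply pullback.hom_ext
    · simp only [PicF.XTmap, pullback.map, Category.assoc, pullback.lift_fst, Category.comp_id]
      exact (congrArg (fun t => Over.Hom.left t) (lift_fst (𝟙 A) (1 : A ⟶ At))).trans (pullback.lift_fst _ _ _).symm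
    · simp only [PicF.XTmap, pullback.map, Category.assoc, pullback.lift_snd, pullback.lift_snd_assoc]
      refine (congrArg (fun t => Over.Hom.left t) (lift_snd (𝟙 A) (1 : A ⟶ At))).trans ?_
      refine (one_left_eq (B := At) A).trans ?_
      erw [pullback.lift_snd_assoc]
      rw [MonObj.one_eq_one (M := At)]

/-- A Poincaré class is additive in the first variable. -/
theorem poincare_mul_left (hφ : AbDual.IsDualAV Scheme.fppfPrecoverage A At φ) (P : PicM (A ⊗ At).left)
    (hP : AbDual.IsPoincareCl A At φ P.val) {V : Over (Spec (CommRingCat.of k))} (f g : V ⟶ A) (h : V ⟶ At) :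
    pb (lift (f * g) h) P = pb (lift f h) P * pb (lift g h) P := by
  obtain ⟨hA, hB⟩ := poincare_axes hφ P hP
  let p₁ : A ⊗ (A ⊗ At) ⟶ A := fst _ _
  let p₂ : A ⊗ (A ⊗ At) ⟶ A := snd _ _ ≫ fst _ _
  let p₃ : A ⊗ (A ⊗ At) ⟶ At := snd _ _ ≫ snd _ _
  have key : pb (lift (p₁ * p₂) p₃) P = pb (lift p₁ p₃) P * pb (lift p₂ p₃) P := by
    refine CubeLib.eq_of_slices (1 : _ ⟶ A) (1 : _ ⟶ A) (1 : _ ⟶ At) ?_ ?_ ?_
    · show pb _ (pb _ P) = pb _ (pb _ P * pb _ P)
      simp only [pb, map_mul]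
      show pb _ (pb _ P) = pb _ (pb _ P) * pb _ (pb _ P)
      rw [pb_pb, pb_pb, pb_pb]
      simp only [comp_lift, MonObj.comp_mul, p₁, p₂, p₃, lift_fst, lift_snd, lift_snd_assoc, lift_fst_assoc,
        MonObj.comp_one, Category.id_comp, _root_.one_mul]
      rw [show lift (1 : A ⊗ At ⟶ A) (snd A At) = snd A At ≫ lift (1 : At ⟶ A) (𝟙 At) by
        simp [comp_lift], ← pb_pb, hA]
      simp [pb]
    · show pb _ (pb _ P) = pb _ (pb _ P * pb _ P)
      simp only [pb, map_mul]
      show pb _ (pb _ P) = pb _ (pb _ P) * pb _ (pb _ P)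
      rw [pb_pb, pb_pb, pb_pb]
      simp only [comp_lift, MonObj.comp_mul, p₁, p₂, p₃, lift_fst, lift_snd, lift_snd_assoc, lift_fst_assoc,
        MonObj.comp_one, Category.id_comp, _root_.mul_one]
      rw [show lift (1 : A ⊗ At ⟶ A) (snd A At) = snd A At ≫ lift (1 : At ⟶ A) (𝟙 At) by
        simp [comp_lift], ← pb_pb _ _ P, hA]
      simp [pb]
    · show pb _ (pb _ P) = pb _ (pb _ P * pb _ P)
      simp only [pb, map_mul]
      show pb _ (pb _ P) = pb _ (pb _ P) * pb _ (pb _ P)
      rw [pb_pb, pb_pb, pb_pb]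
      simp only [comp_lift, MonObj.comp_mul, p₁, p₂, p₃, lift_fst, lift_snd, lift_snd_assoc, lift_fst_assoc,
        MonObj.comp_one, Category.id_comp]
      rw [show ∀ q : A ⊗ A ⟶ A, lift q (1 : A ⊗ A ⟶ At) = q ≫ lift (𝟙 A) (1 : A ⟶ At) from fun q => by
        simp [comp_lift], show lift (fst A A) (1 : A ⊗ A ⟶ At) = fst A A ≫ lift (𝟙 A) (1 : A ⟶ At) by
        simp [comp_lift], show lift (snd A A) (1 : A ⊗ A ⟶ At) = snd A A ≫ lift (𝟙 A) (1 : A ⟶ At) by
        simp [comp_lift]]
      simp only [← pb_pb, hB]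
      simp [pb]
  have := congrArg (pb (lift f (lift g h))) key
  rw [show pb (lift f (lift g h)) (pb (lift p₁ p₃) P * pb (lift p₂ p₃) P) =
      pb (lift f (lift g h)) (pb (lift p₁ p₃) P) * pb (lift f (lift g h)) (pb (lift p₂ p₃) P) from map_mul _ _ _,
    pb_pb, pb_pb, pb_pb] at this
  simpa [comp_lift, MonObj.comp_mul, p₁, p₂, p₃] using this

/-- A Poincaré class is additive in the second variable. -/
theorem poincare_mul_right (hφ : AbDual.IsDualAV Scheme.fppfPrecoverage A At φ) (P : PicM (A ⊗ At).left)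
    (hP : AbDual.IsPoincareCl A At φ P.val) {V : Over (Spec (CommRingCat.of k))} (f : V ⟶ A) (g h : V ⟶ At) :
    pb (lift f (g * h)) P = pb (lift f g) P * pb (lift f h) P := by
  obtain ⟨hA, hB⟩ := poincare_axes hφ P hP
  let p₁ : A ⊗ (At ⊗ At) ⟶ A := fst _ _
  let p₂ : A ⊗ (At ⊗ At) ⟶ At := snd _ _ ≫ fst _ _
  let p₃ : A ⊗ (At ⊗ At) ⟶ At := snd _ _ ≫ snd _ _
  have key : pb (lift p₁ (p₂ * p₃)) P = pb (lift p₁ p₂) P * pb (lift p₁ p₃) P := by
    refine CubeLib.eq_of_slices (1 : _ ⟶ A) (1 : _ ⟶ At) (1 : _ ⟶ At) ?_ ?_ ?_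
    · simp only [pb, map_mul]
      show pb _ (pb _ P) = pb _ (pb _ P) * pb _ (pb _ P)
      rw [pb_pb, pb_pb, pb_pb]
      simp only [comp_lift, MonObj.comp_mul, p₁, p₂, p₃, lift_fst, lift_snd, lift_snd_assoc, lift_fst_assoc,
        MonObj.comp_one, Category.id_comp]
      rw [show ∀ q : At ⊗ At ⟶ At, lift (1 : At ⊗ At ⟶ A) q = q ≫ lift (1 : At ⟶ A) (𝟙 At) from fun q => by
        simp [comp_lift], show lift (1 : At ⊗ At ⟶ A) (fst At At) = fst At At ≫ lift (1 : At ⟶ A) (𝟙 At) by
        simp [comp_lift], show lift (1 : At ⊗ At ⟶ A) (snd At At) = snd At At ≫ lift (1 : At ⟶ A) (𝟙 At) by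
        simp [comp_lift]]
      simp only [← pb_pb, hA]
      simp [pb]
    · simp only [pb, map_mul]
      show pb _ (pb _ P) = pb _ (pb _ P) * pb _ (pb _ P)
      rw [pb_pb, pb_pb, pb_pb]
      simp only [comp_lift, MonObj.comp_mul, p₁, p₂, p₃, lift_fst, lift_snd, lift_snd_assoc, lift_fst_assoc,
        MonObj.comp_one, Category.id_comp, _root_.one_mul]
      rw [show lift (fst A At) (1 : A ⊗ At ⟶ At) = fst A At ≫ lift (𝟙 A) (1 : A ⟶ At) by
        simp [comp_lift], ← pb_pb _ _ P, hB]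
      simp [pb]
    · simp only [pb, map_mul]
      show pb _ (pb _ P) = pb _ (pb _ P) * pb _ (pb _ P)
      rw [pb_pb, pb_pb, pb_pb]
      simp only [comp_lift, MonObj.comp_mul, p₁, p₂, p₃, lift_fst, lift_snd, lift_snd_assoc, lift_fst_assoc,
        MonObj.comp_one, Category.id_comp, _root_.mul_one]
      rw [show lift (fst A At) (1 : A ⊗ At ⟶ At) = fst A At ≫ lift (𝟙 A) (1 : A ⟶ At) by
        simp [comp_lift], ← pb_pb _ _ P, hB]
      simp [pb]
  have := congrArg (pb (lift f (lift g h))) key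
  rw [show pb (lift f (lift g h)) (pb (lift p₁ p₂) P * pb (lift p₁ p₃) P) =
      pb (lift f (lift g h)) (pb (lift p₁ p₂) P) * pb (lift f (lift g h)) (pb (lift p₁ p₃) P) from map_mul _ _ _,
    pb_pb, pb_pb, pb_pb] at this
  simpa [comp_lift, MonObj.comp_mul, p₁, p₂, p₃] using this

/-- Powers and inverses in either variable of a Poincaré class. -/
theorem poincare_pow (hφ : AbDual.IsDualAV Scheme.fppfPrecoverage A At φ) (P : PicM (A ⊗ At).left)
    (hP : AbDual.IsPoincareCl A At φ P.val) {V : Over (Spec (CommRingCat.of k))} (f : V ⟶ A) (g : V ⟶ At) (n : ℕ) :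
    (pb (lift (f ^ n) g) P = pb (lift f g) P ^ n ∧ pb (lift f (g ^ n)) P = pb (lift f g) P ^ n) ∧
      pb (lift f⁻¹ g) P * pb (lift f g) P = 1 ∧ pb (lift f g⁻¹) P * pb (lift f g) P = 1 := by
  obtain ⟨hA, hB⟩ := poincare_axes hφ P hP
  have hl : pb (lift (1 : V ⟶ A) g) P = 1 := by
    rw [show lift (1 : V ⟶ A) g = g ≫ lift (1 : At ⟶ A) (𝟙 At) by simp [comp_lift], ← pb_pb, hA]
    exact map_one _
  have hr : pb (lift f (1 : V ⟶ At)) P = 1 := by
    rw [show lift f (1 : V ⟶ At) = f ≫ lift (𝟙 A) (1 : A ⟶ At) by simp [comp_lift], ← pb_pb, hB]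
    exact map_one _
  refine ⟨?_, ?_, ?_⟩
  · induction n with
    | zero => simpa only [pow_zero] using And.intro hl hr
    | succ m ih =>
      rw [pow_succ f, pow_succ g, pow_succ _ m, poincare_mul_left hφ P hP, poincare_mul_right hφ P hP, ih.1, ih.2]
      exact ⟨rfl, rfl⟩
  · rw [← poincare_mul_left hφ P hP, inv_mul_cancel, hl]
  · rw [← poincare_mul_right hφ P hP, inv_mul_cancel, hr]

end Field

end Groth.Agent.AbCubeLib
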