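import Groth.Agent.AbCubeLib.Subvariety

/-!
# Evaluation of functions at rational points
-/

set_option autoImplicit false
set_option backward.isDefEq.respectTransparency.types false

universe u

open CategoryTheory CategoryTheory.Limits MonoidalCategory CartesianMonoidalCategory AlgebraicGeometry MonObj
  TopologicalSpace

namespace Groth.Agent.AbCubeLib

variable {k : Type u} [Field k]

/-- The value of a function at a rational point of its open set. -/
noncomputable def evPt {X : Over (Spec (CommRingCat.of k))} (x : 𝟙_ (Over (Spec (CommRingCat.of k))) ⟶ X)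
    (U : X.left.Opens) (h : ⊤ ≤ x.left ⁻¹ᵁ U) : Γ(X.left, U) →+* Γ(Spec (CommRingCat.of k), ⊤) :=
  (x.left.appLE U ⊤ h).hom

theorem top_le_preimage {X : Over (Spec (CommRingCat.of k))} (x : 𝟙_ (Over (Spec (CommRingCat.of k))) ⟶ X)
    {U : X.left.Opens} (h : ptOf x ∈ U) : (⊤ : (Spec (CommRingCat.of k)).Opens) ≤ x.left ⁻¹ᵁ U := fun z _ => by
  show x.left z ∈ U
  haveI : Subsingleton ↥(Spec (CommRingCat.of k)) := inferInstanceAs (Subsingleton (PrimeSpectrum k))
  rwa [Subsingleton.elim (α := ↥(Spec (CommRingCat.of k))) z (IsLocalRing.closedPoint k)]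

theorem mem_of_top_le {X : Over (Spec (CommRingCat.of k))} {x : 𝟙_ (Over (Spec (CommRingCat.of k))) ⟶ X}
    {U : X.left.Opens} (h : (⊤ : (Spec (CommRingCat.of k)).Opens) ≤ x.left ⁻¹ᵁ U) : ptOf x ∈ U :=
  h (x := IsLocalRing.closedPoint k) trivial

theorem evPt_res {X : Over (Spec (CommRingCat.of k))} (x : 𝟙_ (Over (Spec (CommRingCat.of k))) ⟶ X)
    {U V : X.left.Opens} (hVU : V ≤ U) (h : ⊤ ≤ x.left ⁻¹ᵁ V) (s : Γ(X.left, U)) :
    evPt x V h ((X.left.presheaf.map (homOfLE hVU).op).hom s) = evPt x U (h.trans (fun _ hz => hVU hz)) s := by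
  show (X.left.presheaf.map (homOfLE hVU).op ≫ x.left.appLE V ⊤ h).hom s = _
  rw [Scheme.Hom.map_appLE]
  rfl

theorem evPt_congr {X : Over (Spec (CommRingCat.of k))} {x y : 𝟙_ (Over (Spec (CommRingCat.of k))) ⟶ X} (hxy : x = y)
    {U : X.left.Opens} (h : ⊤ ≤ x.left ⁻¹ᵁ U) (h' : ⊤ ≤ y.left ⁻¹ᵁ U) (s : Γ(X.left, U)) :
    evPt x U h s = evPt y U h' s := by
  subst hxy; rfl

theorem evPt_comp {X Y : Over (Spec (CommRingCat.of k))} (x : 𝟙_ (Over (Spec (CommRingCat.of k))) ⟶ X) (f : X ⟶ Y)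
    (U : Y.left.Opens) (h : ⊤ ≤ (x ≫ f).left ⁻¹ᵁ U) (V : X.left.Opens) (e : V ≤ f.left ⁻¹ᵁ U)
    (hV : ⊤ ≤ x.left ⁻¹ᵁ V) (s : Γ(Y.left, U)) :
    evPt x V hV ((f.left.appLE U V e).hom s) = evPt (x ≫ f) U h s := by
  show (f.left.appLE U V e ≫ x.left.appLE V ⊤ hV).hom s = _
  rw [Scheme.Hom.appLE_comp_appLE]
  rfl

/-- Functions on a reduced scheme of finite type over an algebraically closed field are determined by their values at
rational points. -/
theorem eq_of_evPt [IsAlgClosed k] {X : Over (Spec (CommRingCat.of k))} [LocallyOfFiniteType X.hom] [IsReduced X.left]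
    {U : X.left.Opens} (s t : Γ(X.left, U))
    (h : ∀ (x : 𝟙_ (Over (Spec (CommRingCat.of k))) ⟶ X) (hx : ⊤ ≤ x.left ⁻¹ᵁ U), evPt x U hx s = evPt x U hx t) :
    s = t := by
  rw [← sub_eq_zero, ← AlgebraicGeometry.basicOpen_eq_bot_iff]
  by_contra hne
  obtain ⟨w, hw⟩ : ((X.left.basicOpen (s - t) : X.left.Opens) : Set X.left).Nonempty := by
    rw [Set.nonempty_iff_ne_empty]
    exact fun he => hne (TopologicalSpace.Opens.ext (by simpa using he))
  have : JacobsonSpace X.left := LocallyOfFiniteType.jacobsonSpace X.hom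
  obtain ⟨v, hv, hvc⟩ := nonempty_inter_closedPoints (Z := ((X.left.basicOpen (s - t) : X.left.Opens) : Set X.left))
    ⟨w, hw⟩ (X.left.basicOpen (s - t)).isOpen.isLocallyClosed
  obtain ⟨x, rfl⟩ := exists_ptOf (mem_closedPoints_iff.1 hvc)
  have hx := top_le_preimage x (X.left.basicOpen_le (s - t) hv)
  have h0 : (x.left.appLE U ⊤ hx).hom (s - t) = 0 := by rw [map_sub, sub_eq_zero]; exact h x hx
  have hmem : IsLocalRing.closedPoint k ∈ (⊤ : (Spec (CommRingCat.of k)).Opens) ⊓ x.left ⁻¹ᵁ X.left.basicOpen (s - t) :=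
    ⟨trivial, hv⟩
  have hb : (Spec (CommRingCat.of k)).basicOpen ((x.left.appLE U ⊤ hx).hom (s - t)) =
      (⊤ : (Spec (CommRingCat.of k)).Opens) ⊓ x.left ⁻¹ᵁ X.left.basicOpen (s - t) :=
    Scheme.basicOpen_appLE _ _ _ hx _
  rw [h0, Scheme.basicOpen_zero] at hb
  exact ((SetLike.ext_iff.1 hb (IsLocalRing.closedPoint k)).2 hmem)

end Groth.Agent.AbCubeLib
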