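import Mathlib.FieldTheory.IsAlgClosed.Basic
import Mathlib.LinearAlgebra.Matrix.Charpoly.Basic
import Mathlib.Analysis.Normed.Field.Basic
import Mathlib.Topology.Algebra.Polynomial
import Mathlib.FieldTheory.Minpoly.Field

/-!
# A monic polynomial is determined by the absolute values of its resultants
-/

set_option autoImplicit false

open Polynomial
open scoped Classical

namespace Groth.Agent.AbCubeLib

section Monic

variable {R S : Type*} [CommRing R] [CommRing S] {d : ℕ}

/-- The monic polynomial with given lower coefficients. -/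
noncomputable def monicOf (c : Fin d → R) : R[X] := X ^ d + ∑ i, C (c i) * X ^ (i : ℕ)

theorem map_monicOf (f : R →+* S) (c : Fin d → R) : (monicOf c).map f = monicOf (f ∘ c) := by
  simp [monicOf, Polynomial.map_sum]

theorem coeff_monicOf (c : Fin d → R) (i : ℕ) :
    (monicOf c).coeff i = if h : i < d then c ⟨i, h⟩ else if i = d then 1 else 0 := by
  rw [monicOf, coeff_add, coeff_X_pow, finsetSum_coeff]
  simp only [coeff_C_mul_X_pow]
  by_cases h : i < d
  · rw [if_neg h.ne, zero_add, dif_pos h, Finset.sum_eq_single (⟨i, h⟩ : Fin d) _ (by simp), if_pos rfl]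
    intro j _ hj
    rw [if_neg fun e => hj (Fin.ext e.symm)]
  · rw [dif_neg h, Finset.sum_eq_zero (fun (j : Fin d) _ => if_neg fun e : i = (j : ℕ) => h (e ▸ j.2)), add_zero]

theorem monicOf_coeff (F : R[X]) (hF : F.Monic) (hd : F.natDegree = d) :
    monicOf (fun i : Fin d => F.coeff i) = F := by
  refine Polynomial.ext fun i => ?_
  rw [coeff_monicOf]
  split_ifs with h h'
  · rfl
  · rw [h', ← hd]; exact hF.coeff_natDegree.symm
  · rw [coeff_eq_zero_of_natDegree_lt (by omega)]

theorem monicOf_monic [Nontrivial R] (c : Fin d → R) : (monicOf c).Monic ∧ (monicOf c).natDegree = d := by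
  have hle : (monicOf c).natDegree ≤ d := natDegree_le_iff_coeff_eq_zero.2 fun N hN => by
    rw [coeff_monicOf, dif_neg (by omega), if_neg (by omega)]
  have hd : (monicOf c).coeff d = 1 := by rw [coeff_monicOf, dif_neg (lt_irrefl d), if_pos rfl]
  have h : (monicOf c).natDegree = d := le_antisymm hle (le_natDegree_of_ne_zero (by rw [hd]; exact one_ne_zero))
  exact ⟨by rw [Monic, leadingCoeff, h, hd], h⟩

end Monic

section Count

variable {K L : Type*} [Field K] [Field L] [IsAlgClosed L] [Algebra K L]

/-- Monic polynomials with the same root counts are equal. -/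
theorem eq_of_countP (P R : K[X]) (hP : P.Monic) (hR : R.Monic)
    (h : ∀ π : K[X], π.Monic → 0 < π.natDegree →
      (P.aroots L).countP (fun a => aeval a π = 0) = (R.aroots L).countP (fun a => aeval a π = 0)) : P = R := by
  classical
  obtain ⟨N, hN⟩ : ∃ N, N = P.natDegree := ⟨_, rfl⟩
  induction N using Nat.strong_induction_on generalizing P R with
  | _ N ih =>
    have key : ∀ Q : K[X], Q.Monic → 0 < Q.natDegree → ∃ r : L, r ∈ Q.aroots L ∧ IsIntegral K r := by
      intro Q hQ hQd
      obtain ⟨r, hr⟩ := IsAlgClosed.exists_aeval_eq_zero (k := L) Q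
        (degree_ne_of_natDegree_ne (by omega) : Q.degree ≠ (0 : ℕ))
      exact ⟨r, (mem_aroots).2 ⟨hQ.ne_zero, hr⟩, ⟨Q, hQ, hr⟩⟩
    rcases Nat.eq_zero_or_pos N with hN0 | hN0
    · have hP1 : P = 1 := hP.natDegree_eq_zero.1 (by omega)
      rcases Nat.eq_zero_or_pos R.natDegree with hR0 | hR0
      · rw [hP1, hR.natDegree_eq_zero.1 hR0]
      · obtain ⟨r, hr, hint⟩ := key R hR hR0
        have := h (minpoly K r) (minpoly.monic hint) (minpoly.natDegree_pos hint)
        rw [hP1, aroots_one, Multiset.countP_zero] at this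
        exact absurd this.symm (Multiset.countP_pos.2 ⟨r, hr, minpoly.aeval K r⟩).ne'
    · obtain ⟨r, hr, hint⟩ := key P hP (by omega)
      set π := minpoly K r with hπ
      have hπm : π.Monic := minpoly.monic hint
      have hcount := h π hπm (minpoly.natDegree_pos hint)
      obtain ⟨s, hs, hs0⟩ := Multiset.countP_pos.1
        (hcount ▸ Multiset.countP_pos.2 ⟨r, hr, minpoly.aeval K r⟩ : 0 < (R.aroots L).countP (fun a => aeval a π = 0))
      have hπs : π = minpoly K s := minpoly.eq_of_irreducible_of_monic (minpoly.irreducible hint) hs0 hπm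
      obtain ⟨P', rfl⟩ : π ∣ P := minpoly.dvd K r (mem_aroots.1 hr).2
      obtain ⟨R', rfl⟩ : π ∣ R := hπs ▸ minpoly.dvd K s (mem_aroots.1 hs).2
      have hP' : P'.Monic := hπm.of_mul_monic_left hP
      have hR' : R'.Monic := hπm.of_mul_monic_left hR
      have hlt : P'.natDegree < N := by
        have h1 := minpoly.natDegree_pos hint
        have h2 := hπm.natDegree_mul hP'
        rw [← hπ] at h1
        omega
      rw [ih _ hlt P' R' hP' hR' (fun q hq hqd => ?_) rfl]
      have h3 := h q hq hqd
      rw [aroots_mul (mul_ne_zero hπm.ne_zero hP'.ne_zero), aroots_mul (mul_ne_zero hπm.ne_zero hR'.ne_zero),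
        Multiset.countP_add, Multiset.countP_add] at h3
      omega

/-- Values of the norm form of a monic polynomial. -/
def IsNormForm (L : Type*) [Field L] [Algebra K L] (P : K[X]) (N : ∀ d, MvPolynomial (Fin d) K) : Prop :=
  ∀ (d : ℕ) (c : Fin d → L), MvPolynomial.aeval c (N d) = ((P.aroots L).map fun a => (monicOf c).eval a).prod

/-- A norm form is determined by the linear polynomials and multiplicativity. -/
theorem isNormForm_of_mul (P : K[X]) (N : ∀ d, MvPolynomial (Fin d) K) (h0 : N 0 = 1)
    (hmul : ∀ (d : ℕ) (c : Fin d → L) (b : L),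
      MvPolynomial.aeval (fun i : Fin (d + 1) => (monicOf c * (X - C b)).coeff i) (N (d + 1)) =
        MvPolynomial.aeval c (N d) * ((P.aroots L).map fun a => a - b).prod) :
    IsNormForm L P N := by
  intro d
  induction d with
  | zero =>
    intro c
    rw [h0, map_one, Multiset.prod_eq_one]
    intro x hx
    obtain ⟨a, -, rfl⟩ := Multiset.mem_map.1 hx
    simp [monicOf]
  | succ d ih =>
    intro c
    obtain ⟨hm, hd⟩ := monicOf_monic c
    obtain ⟨b, hb⟩ := IsAlgClosed.exists_root (monicOf c) (degree_ne_of_natDegree_ne (by omega) : _ ≠ ((0 : ℕ) : WithBot ℕ))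
    obtain ⟨G, hG⟩ := dvd_iff_isRoot.2 hb
    have hGm : G.Monic := (monic_X_sub_C b).of_mul_monic_left (hG ▸ hm)
    have hGd : G.natDegree = d := by
      have h2 := (monic_X_sub_C b).natDegree_mul hGm
      rw [← hG, hd, natDegree_X_sub_C] at h2
      omega
    have e : monicOf (fun i : Fin d => G.coeff i) * (X - C b) = monicOf c := by
      rw [monicOf_coeff G hGm hGd, hG, mul_comm]
    have h1 := hmul d (fun i => G.coeff i) b
    have hc : (fun i : Fin (d + 1) => (monicOf c).coeff i) = c := funext fun i => by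
      rw [coeff_monicOf, dif_pos i.2]
    rw [e, hc, ih] at h1
    rw [h1, ← e, ← Multiset.prod_map_mul]
    refine congrArg Multiset.prod (Multiset.map_congr rfl fun a _ => ?_)
    simp

end Count

section Normed

variable {K : Type*} [NontriviallyNormedField K]

/-- Polynomials with the same absolute values vanish to the same order. -/
theorem rootMultiplicity_eq_of_norm_eq {g h : K[X]} (hg : g ≠ 0) (hh : h ≠ 0)
    (e : ∀ x, ‖g.eval x‖ = ‖h.eval x‖) : g.rootMultiplicity 0 = h.rootMultiplicity 0 := by
  have key : ∀ g h : K[X], g ≠ 0 → h ≠ 0 → (∀ x, ‖g.eval x‖ = ‖h.eval x‖) →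
      ¬ g.rootMultiplicity 0 < h.rootMultiplicity 0 := by
    intro g h hg hh e hlt
    haveI : (nhdsWithin (0 : K) ({0}ᶜ : Set K)).NeBot := NormedField.nhdsNE_neBot 0
    obtain ⟨u, hu, hu0⟩ := exists_eq_pow_rootMultiplicity_mul_and_not_dvd g hg 0
    obtain ⟨v, hv, -⟩ := exists_eq_pow_rootMultiplicity_mul_and_not_dvd h hh 0
    set a := g.rootMultiplicity 0
    set b := h.rootMultiplicity 0
    have hne : u.eval 0 ≠ 0 := fun h0 => hu0 (dvd_iff_isRoot.2 h0)
    have heq : ∀ x : K, x ≠ 0 → ‖u.eval x‖ = ‖x‖ ^ (b - a) * ‖v.eval x‖ := by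
      intro x hx
      have h1 := e x
      rw [hu, hv] at h1
      simp only [eval_mul, eval_pow, eval_sub, eval_X, eval_C, sub_zero, norm_mul, norm_pow] at h1
      refine mul_left_cancel₀ (pow_ne_zero a (norm_ne_zero_iff.2 hx)) ?_
      rw [h1, ← mul_assoc, ← pow_add, Nat.add_sub_cancel' hlt.le]
    have ht1 : Filter.Tendsto (fun x => ‖u.eval x‖) (nhdsWithin 0 ({0}ᶜ : Set K)) (nhds ‖u.eval 0‖) :=
      (u.continuous.norm.tendsto 0).mono_left nhdsWithin_le_nhds
    have ht2 : Filter.Tendsto (fun x : K => ‖x‖ ^ (b - a) * ‖v.eval x‖) (nhdsWithin 0 ({0}ᶜ : Set K)) (nhds 0) := by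
      have hc : Continuous (fun x : K => ‖x‖ ^ (b - a) * ‖v.eval x‖) :=
        (continuous_norm.pow _).mul v.continuous.norm
      rw [show (0 : ℝ) = ‖(0 : K)‖ ^ (b - a) * ‖v.eval 0‖ by simp [zero_pow (by omega : b - a ≠ 0)]]
      exact (hc.tendsto 0).mono_left nhdsWithin_le_nhds
    have hev : (fun x => ‖u.eval x‖) =ᶠ[nhdsWithin 0 ({0}ᶜ : Set K)] fun x : K => ‖x‖ ^ (b - a) * ‖v.eval x‖ :=
      eventually_nhdsWithin_of_forall fun x hx => heq x hx
    have := tendsto_nhds_unique (ht1.congr' hev) ht2
    exact hne (norm_eq_zero.1 this)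
  exact le_antisymm (not_lt.1 (key h g hh hg fun x => (e x).symm)) (not_lt.1 (key g h hg hh e))

variable {L : Type*} [Field L] [IsAlgClosed L] [Algebra K L]

theorem rootMultiplicity_shift (P : K[X]) (N : ∀ d, MvPolynomial (Fin d) K) (hN : IsNormForm L P N) (π : K[X])
    (hπ : π.Monic) (hd : 0 < π.natDegree) :
    let g := MvPolynomial.aeval
      (fun i : Fin π.natDegree => C (π.coeff i) + if (i : ℕ) = 0 then X else 0) (N π.natDegree)
    g ≠ 0 ∧ g.rootMultiplicity 0 = (P.aroots L).countP (fun a => aeval a π = 0) := by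
  classical
  intro g
  have hg : g.map (algebraMap K L) = (((P.aroots L).map fun a => -aeval a π).map fun b => X - C b).prod := by
    refine Polynomial.funext fun x => ?_
    rw [eval_map, ← aeval_def, eval_multiset_prod, Multiset.map_map, Multiset.map_map, ← AlgHom.comp_apply,
      MvPolynomial.comp_aeval]
    refine (hN π.natDegree _).trans (congrArg Multiset.prod (Multiset.map_congr rfl fun a _ => ?_))
    have e : monicOf (fun i : Fin π.natDegree =>
        aeval x (C (π.coeff i) + if (i : ℕ) = 0 then X else 0)) = π.map (algebraMap K L) + C x := by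
      refine Polynomial.ext fun i => ?_
      rw [coeff_monicOf, coeff_add, coeff_map, coeff_C]
      split_ifs with h1 h2 h3 h4 <;> try omega
      · simp [h2]
      · simp [h2]
      · rw [h3, hπ.coeff_natDegree, map_one, add_zero]
      · rw [coeff_eq_zero_of_natDegree_lt (by omega), map_zero, add_zero]
    rw [e]
    simp [eval_map_algebraMap, add_comm]
  have hne : g.map (algebraMap K L) ≠ 0 := hg ▸ (monic_multiset_prod_of_monic _ _ fun b _ => monic_X_sub_C b).ne_zero
  refine ⟨fun h => hne (by rw [h, Polynomial.map_zero]), ?_⟩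
  rw [eq_rootMultiplicity_map (algebraMap K L).injective, map_zero, hg, ← count_roots, roots_multiset_prod_X_sub_C,
    Multiset.count_map, Multiset.countP_eq_card_filter]
  exact congrArg Multiset.card (Multiset.filter_congr fun a _ => ⟨fun h => neg_eq_zero.1 h.symm, fun h => (neg_eq_zero.2 h).symm⟩)

/-- A monic polynomial is determined by the absolute values of its norm form. -/
theorem eq_of_norm_eq (P R : K[X]) (hP : P.Monic) (hR : R.Monic) (N M : ∀ d, MvPolynomial (Fin d) K)
    (hN : IsNormForm L P N) (hM : IsNormForm L R M)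
    (heq : ∀ d (c : Fin d → K), ‖MvPolynomial.eval c (N d)‖ = ‖MvPolynomial.eval c (M d)‖) : P = R := by
  refine eq_of_countP (L := L) P R hP hR fun π hπ hd => ?_
  obtain ⟨hg, hg'⟩ := rootMultiplicity_shift P N hN π hπ hd
  obtain ⟨hh, hh'⟩ := rootMultiplicity_shift R M hM π hπ hd
  rw [← hg', ← hh']
  refine rootMultiplicity_eq_of_norm_eq hg hh fun x => ?_
  have key : ∀ Q : MvPolynomial (Fin π.natDegree) K,
      (MvPolynomial.aeval (fun i : Fin π.natDegree => C (π.coeff i) + if (i : ℕ) = 0 then X else 0) Q).eval x =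
        MvPolynomial.eval (fun i : Fin π.natDegree => π.coeff i + if (i : ℕ) = 0 then x else 0) Q := by
    intro Q
    rw [← coe_aeval_eq_eval, ← AlgHom.comp_apply, MvPolynomial.comp_aeval, ← MvPolynomial.aeval_eq_eval]
    congr 2
    funext i
    split_ifs <;> simp
  rw [key, key, heq]

end Normed

section Matrix

variable {K : Type*} [Field K] {L : Type*} [Field L] [IsAlgClosed L] [Algebra K L] {n : Type*} [Fintype n] [DecidableEq n]

/-- The norm form of a matrix. -/
noncomputable def matForm (W : Matrix n n K) (d : ℕ) : MvPolynomial (Fin d) K :=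
  (aeval (W.map (MvPolynomial.C : K →+* MvPolynomial (Fin d) K))
    (monicOf fun i : Fin d => (MvPolynomial.X i : MvPolynomial (Fin d) K))).det

theorem map_matForm {S : Type*} [CommRing S] [Algebra K S] (W : Matrix n n K) {d : ℕ} (c : Fin d → S) :
    MvPolynomial.aeval c (matForm W d) = (aeval (W.map (algebraMap K S)) (monicOf c)).det := by
  rw [matForm, AlgHom.map_det]
  congr 1
  rw [aeval_def, aeval_def, AlgHom.mapMatrix_apply, ← AlgHom.coe_toRingHom, ← RingHom.mapMatrix_apply, hom_eval₂]
  rw [show monicOf c = (monicOf fun i : Fin d => (MvPolynomial.X i : MvPolynomial (Fin d) K)).map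
    ((MvPolynomial.aeval c).toRingHom : MvPolynomial (Fin d) K →+* S) by
      rw [map_monicOf]; congr 1; funext i; simp, eval₂_map]
  congr 1
  · refine RingHom.ext fun p => ?_
    ext i j
    rcases eq_or_ne i j with rfl | h <;> simp [Matrix.algebraMap_matrix_apply, MvPolynomial.aeval_def, *]
  · ext i j
    simp

/-- The characteristic polynomial has the determinant as norm form. -/
theorem isNormForm_matForm (W : Matrix n n K) : IsNormForm L W.charpoly (matForm W) := by
  refine isNormForm_of_mul _ _ ?_ fun d c b => ?_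
  · simp [matForm, monicOf]
  · rw [map_matForm, map_matForm]
    have e : monicOf (fun i : Fin (d + 1) => (monicOf c * (X - C b)).coeff i) = monicOf c * (X - C b) := by
      obtain ⟨h1, h2⟩ := monicOf_monic c
      refine monicOf_coeff _ (h1.mul (monic_X_sub_C b)) ?_
      rw [h1.natDegree_mul (monic_X_sub_C b), h2, natDegree_X_sub_C]
    rw [e, map_mul, Matrix.det_mul]
    congr 1
    set WL := W.map (algebraMap K L)
    have hcp : W.charpoly.map (algebraMap K L) = WL.charpoly := (Matrix.charpoly_map _ _).symm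
    have h1 : WL.charpoly.eval b = ((W.charpoly.aroots L).map fun a => b - a).prod := by
      rw [aroots_def, hcp]
      conv_lhs => rw [(IsAlgClosed.splits WL.charpoly).eq_prod_roots_of_monic WL.charpoly_monic]
      rw [eval_multiset_prod, Multiset.map_map]
      simp
    have hcard : Multiset.card (W.charpoly.aroots L) = Fintype.card n := by
      rw [aroots_def, hcp, (IsAlgClosed.splits WL.charpoly).natDegree_eq_card_roots.symm, Matrix.charpoly_natDegree_eq_dim]
    rw [map_sub, aeval_X, aeval_C, ← neg_sub, Matrix.det_neg]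
    rw [show ((W.charpoly.aroots L).map fun a => a - b) = ((W.charpoly.aroots L).map fun a => b - a).map Neg.neg by
      simp [Multiset.map_map], Multiset.prod_map_neg, Multiset.card_map, hcard, ← h1, Matrix.eval_charpoly]
    rfl

end Matrix

end Groth.Agent.AbCubeLib
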