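import Groth.Agent.AbCubeLib.PolyNorm
import Mathlib.Algebra.MvPolynomial.Funext
import Mathlib.RingTheory.MvPolynomial.Homogeneous
import Mathlib.NumberTheory.Padics.PadicIntegers
import Mathlib.Topology.Algebra.MvPolynomial
import Mathlib.Topology.Instances.Matrix
import Mathlib.NumberTheory.Padics.RingHoms
import Mathlib.Analysis.SpecificLimits.Normed

/-!
# Norm forms with integral values and forms with `l`-adically equal absolute values
-/

set_option autoImplicit false

open Polynomial
open scoped Classical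

namespace Groth.Agent.AbCubeLib

section NormForm

variable {K L : Type*} [Field K] [Algebra ℚ K] [Field L] [IsAlgClosed L] [Algebra ℚ L] [Algebra K L]
  [IsScalarTower ℚ K L]

/-- Specialisations of the universal multiplicativity identity. -/
theorem aeval_coeff_mul {d : ℕ} (P : ℚ[X]) (N₁ : MvPolynomial (Fin (d + 1)) ℚ) (N₀ : MvPolynomial (Fin d) ℚ)
    {S : Type*} [CommRing S] [Algebra ℚ S] (v : Option (Fin d) → S) :
    MvPolynomial.aeval v (MvPolynomial.aeval (fun i : Fin (d + 1) =>
      ((monicOf (fun i => (MvPolynomial.X (some i) : MvPolynomial (Option (Fin d)) ℚ)) *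
        (X - C (MvPolynomial.X none))).coeff i)) N₁) =
      MvPolynomial.aeval (fun i : Fin (d + 1) => (monicOf (fun i => v (some i)) * (X - C (v none))).coeff i) N₁ ∧
    MvPolynomial.aeval v (MvPolynomial.aeval (fun i => (MvPolynomial.X (some i) : MvPolynomial (Option (Fin d)) ℚ)) N₀ *
      aeval (MvPolynomial.X none : MvPolynomial (Option (Fin d)) ℚ) P) =
      MvPolynomial.aeval (fun i => v (some i)) N₀ * aeval (v none) P := by
  refine ⟨?_, ?_⟩
  · rw [← AlgHom.comp_apply, MvPolynomial.comp_aeval]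
    congr 2
    funext i
    refine (coeff_map (MvPolynomial.aeval v : MvPolynomial (Option (Fin d)) ℚ →ₐ[ℚ] S).toRingHom
      (i : ℕ)).symm.trans ?_
    simp [Polynomial.map_mul, map_monicOf, Function.comp_def]
  · rw [map_mul, ← AlgHom.comp_apply, MvPolynomial.comp_aeval, ← aeval_algHom_apply]
    simp

/-- A multiplicative function on monic integral polynomials, given by forms, is a norm form. -/
theorem isNormForm_of_values {r : ℕ} (P : ℚ[X]) (hP : P.Monic) (hPd : P.natDegree = 2 * r) (ν : ℤ[X] → ℚ)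
    (hν1 : ν 1 = 1) (hνmul : ∀ F G, ν (F * G) = ν F * ν G) (hlin : ∀ n : ℤ, ν (X - C n) = P.eval (n : ℚ))
    (Nq : ∀ d, MvPolynomial (Fin d) ℚ)
    (hN : ∀ (d : ℕ) (c : Fin d → ℤ), MvPolynomial.eval (fun i => (c i : ℚ)) (Nq d) = ν (monicOf c)) :
    IsNormForm L (P.map (algebraMap ℚ K)) (fun d => MvPolynomial.map (algebraMap ℚ K) (Nq d)) := by
  have h0 : Nq 0 = 1 := by
    refine MvPolynomial.funext fun x => ?_
    have hx : x = fun i : Fin 0 => ((0 : ℤ) : ℚ) := funext fun i => i.elim0
    rw [hx, hN, map_one, show monicOf (fun _ : Fin 0 => (0 : ℤ)) = 1 by simp [monicOf], hν1]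
  have hprod : ∀ x : L, ((P.aroots L).map fun a => a - x).prod = aeval x P := by
    intro x
    have hsp := IsAlgClosed.splits (P.map (algebraMap ℚ L))
    have hcard : Multiset.card (P.aroots L) = 2 * r := by
      rw [aroots_def, hsp.natDegree_eq_card_roots.symm, hP.natDegree_map, hPd]
    rw [show ((P.aroots L).map fun a => a - x) = ((P.aroots L).map fun a => x - a).map Neg.neg by
        simp [Multiset.map_map],
      Multiset.prod_map_neg, Multiset.card_map, hcard, pow_mul, neg_one_sq, one_pow, one_mul,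
      aeval_def, ← eval_map]
    conv_rhs => rw [hsp.eq_prod_roots_of_monic (hP.map _)]
    rw [eval_multiset_prod, Multiset.map_map, ← aroots_def]
    simp
  refine isNormForm_of_mul _ _ (by simp only [h0, map_one]) fun d c x => ?_
  rw [MvPolynomial.aeval_map_algebraMap, MvPolynomial.aeval_map_algebraMap,
    show (P.map (algebraMap ℚ K)).aroots L = P.aroots L by
      rw [aroots_def, aroots_def, map_map, ← IsScalarTower.algebraMap_eq],
    hprod]
  -- an identity of polynomials
  let G : Polynomial (MvPolynomial (Option (Fin d)) ℚ) :=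
    monicOf (fun i => MvPolynomial.X (some i)) * (X - C (MvPolynomial.X none))
  let lhs : MvPolynomial (Option (Fin d)) ℚ := MvPolynomial.aeval (fun i : Fin (d + 1) => G.coeff i) (Nq (d + 1))
  let rhs : MvPolynomial (Option (Fin d)) ℚ :=
    MvPolynomial.aeval (fun i => MvPolynomial.X (some i)) (Nq d) *
      aeval (MvPolynomial.X none : MvPolynomial (Option (Fin d)) ℚ) P
  have hid : lhs = rhs := by
    refine MvPolynomial.funext_set (fun _ => Set.range (Int.cast : ℤ → ℚ))
      (fun _ => Set.infinite_range_of_injective Int.cast_injective) fun v hv => ?_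
    choose w hw using fun i => hv i (Set.mem_univ i)
    obtain rfl : v = fun i => (w i : ℚ) := funext fun i => (hw i).symm
    obtain ⟨h1, h2⟩ := aeval_coeff_mul P (Nq (d + 1)) (Nq d) fun i => (w i : ℚ)
    rw [MvPolynomial.aeval_eq_eval] at h1 h2
    rw [h1, h2]
    let G' : ℤ[X] := monicOf (fun i => w (some i)) * (X - C (w none))
    have hF := monicOf_monic (fun i => w (some i))
    have hG'm : G'.Monic := hF.1.mul (monic_X_sub_C _)
    have hG'd : G'.natDegree = d + 1 := by
      rw [hF.1.natDegree_mul (monic_X_sub_C _), hF.2, natDegree_X_sub_C]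
    have hco : (fun i : Fin (d + 1) => (monicOf (fun i => ((w (some i) : ℤ) : ℚ)) *
        (X - C ((w none : ℤ) : ℚ))).coeff i) = fun i : Fin (d + 1) => ((G'.coeff i : ℤ) : ℚ) := by
      funext i
      rw [← eq_intCast (Int.castRingHom ℚ) (G'.coeff i), ← coeff_map, Polynomial.map_mul, map_monicOf,
        Polynomial.map_sub, Polynomial.map_X, Polynomial.map_C]
      rfl
    rw [hco, MvPolynomial.aeval_eq_eval, hN, monicOf_coeff G' hG'm hG'd, hνmul, hlin, MvPolynomial.aeval_eq_eval, hN, coe_aeval_eq_eval]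
  obtain ⟨h1, h2⟩ := aeval_coeff_mul P (Nq (d + 1)) (Nq d) (fun o : Option (Fin d) => Option.elim o x c)
  exact (h1.symm.trans (congrArg _ hid)).trans h2

end NormForm

section Padic

variable {l : ℕ} [Fact l.Prime]

/-- Equal absolute values at integral points give equal absolute values everywhere. -/
theorem norm_eq_of_norm_eq_int {σ : Type*} [Fintype σ] {m : ℕ} (Q : MvPolynomial σ ℚ) (hQ : Q.IsHomogeneous m)
    {κ : Type*} [Fintype κ] [DecidableEq κ] (hκ : Fintype.card κ = m) (M : σ → Matrix κ κ ℚ_[l])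
    (h : ∀ a : σ → ℤ, ‖((MvPolynomial.eval (fun i => (a i : ℚ)) Q : ℚ) : ℚ_[l])‖ =
      ‖(∑ i, (a i : ℚ_[l]) • M i).det‖)
    (a : σ → ℚ_[l]) : ‖MvPolynomial.aeval a Q‖ = ‖(∑ i, a i • M i).det‖ := by
  let D : (σ → ℚ_[l]) → ℚ_[l] := fun a => MvPolynomial.aeval a Q
  let E : (σ → ℚ_[l]) → ℚ_[l] := fun a => (∑ i, a i • M i).det
  have hDsmul : ∀ (s : ℚ_[l]) b, D (s • b) = s ^ m * D b := fun s b => by
    simp only [D]
    conv_lhs => rw [Q.as_sum]
    conv_rhs => rw [Q.as_sum]
    simp only [map_sum, Finset.mul_sum]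
    refine Finset.sum_congr rfl fun v hv => ?_
    have hdeg := hQ (MvPolynomial.mem_support_iff.1 hv)
    rw [MvPolynomial.aeval_monomial, MvPolynomial.aeval_monomial, Finsupp.prod_fintype _ _ (fun i => pow_zero _),
      Finsupp.prod_fintype _ _ (fun i => pow_zero _)]
    simp only [Pi.smul_apply, smul_eq_mul, mul_pow, Finset.prod_mul_distrib, Finset.prod_pow_eq_pow_sum]
    rw [show (∑ i, v i) = m by rw [← hdeg]; simp [Finsupp.weight_apply, Finsupp.sum_fintype]]
    ring
  have hEsmul : ∀ (s : ℚ_[l]) b, E (s • b) = s ^ m * E b := fun s b => by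
    simp only [E, Pi.smul_apply, smul_eq_mul, mul_smul, ← Finset.smul_sum, Matrix.det_smul, hκ]
  have hDcont : Continuous D := by
    show Continuous fun x => MvPolynomial.aeval x Q
    simp_rw [MvPolynomial.aeval_def, MvPolynomial.eval₂_eq_eval_map]
    exact MvPolynomial.continuous_eval _
  have hEcont : Continuous E := Continuous.matrix_det
    (continuous_finsetSum _ fun i _ => (continuous_apply i).smul continuous_const)
  have hclosed : ∀ b : σ → ℤ_[l], ‖D fun i => (b i : ℚ_[l])‖ = ‖E fun i => (b i : ℚ_[l])‖ := by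
    have hcoe : Continuous (fun b : σ → ℤ_[l] => fun i => (b i : ℚ_[l])) :=
      continuous_pi fun i => continuous_subtype_val.comp (continuous_apply i)
    have hdense : DenseRange (fun b : σ → ℤ => fun i => (b i : ℤ_[l])) :=
      DenseRange.piMap fun _ => PadicInt.denseRange_intCast
    have := hdense.equalizer (hDcont.comp hcoe).norm (hEcont.comp hcoe).norm (funext fun b => by
      have e : D (fun i => (b i : ℚ_[l])) = ((MvPolynomial.eval (fun i => (b i : ℚ)) Q : ℚ) : ℚ_[l]) := by
        rw [← eq_ratCast (algebraMap ℚ ℚ_[l]), ← MvPolynomial.aeval_eq_eval, ← MvPolynomial.aeval_algebraMap_apply]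
        simp only [D, Function.comp_def, map_intCast]
      simp only [Function.comp_apply, PadicInt.coe_intCast]
      rw [e, h b])
    exact fun b => congrFun this b
  obtain ⟨n, hn⟩ : ∃ n : ℕ, ∀ i, ‖((l : ℚ_[l]) ^ n) * a i‖ ≤ 1 := by
    have hlim : ∀ i, ∀ᶠ n : ℕ in Filter.atTop, ‖((l : ℚ_[l]) ^ n) * a i‖ ≤ 1 := fun i => by
      have h := ((tendsto_pow_atTop_nhds_zero_of_norm_lt_one
        (show ‖(l : ℚ_[l])‖ < 1 from Padic.norm_p_lt_one)).mul_const (a i)).norm
      rw [zero_mul, norm_zero] at h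
      exact h.eventually (eventually_le_nhds zero_lt_one)
    exact (Filter.eventually_all.2 hlim).exists
  have h2 := hclosed fun i => ⟨((l : ℚ_[l]) ^ n) * a i, hn i⟩
  rw [show (fun i => ((⟨((l : ℚ_[l]) ^ n) * a i, hn i⟩ : ℤ_[l]) : ℚ_[l])) = ((l : ℚ_[l]) ^ n) • a from rfl,
    hDsmul, hEsmul, norm_mul, norm_mul] at h2
  exact mul_left_cancel₀ (norm_ne_zero_iff.2
    (pow_ne_zero _ (pow_ne_zero _ (Nat.cast_ne_zero.2 (Fact.out : l.Prime).ne_zero)))) h2

/-- A determinant vanishing in the limit. -/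
theorem det_eq_zero_of_norm_eq {κ : Type*} [Fintype κ] [DecidableEq κ] (W : Matrix κ κ ℤ_[l]) (P : ℚ[X])
    (hP0 : P.eval 0 = 0)
    (h : ∀ᶠ j : ℕ in Filter.atTop, ‖(W + Matrix.scalar κ ((l : ℤ_[l]) ^ j)).det‖ =
      ‖((P.eval ((l : ℚ) ^ j) : ℚ) : ℚ_[l])‖) : W.det = 0 := by
  have hc : Filter.Tendsto (fun j : ℕ => (l : ℤ_[l]) ^ j) Filter.atTop (nhds 0) :=
    tendsto_pow_atTop_nhds_zero_of_norm_lt_one (by
      rw [PadicInt.norm_p]; exact inv_lt_one_of_one_lt₀ (by exact_mod_cast (Fact.out : l.Prime).one_lt))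
  have hlim1 : Filter.Tendsto (fun j : ℕ => ‖(W + Matrix.scalar κ ((l : ℤ_[l]) ^ j)).det‖) Filter.atTop
      (nhds ‖W.det‖) := by
    have hcont : Continuous (fun s : ℤ_[l] => ‖(W + Matrix.scalar κ s).det‖) := by
      refine continuous_norm.comp (Continuous.matrix_det (continuous_const.add ?_))
      show Continuous fun s : ℤ_[l] => Matrix.diagonal fun _ : κ => s
      exact (continuous_pi fun _ => continuous_id).matrix_diagonal
    simpa [Function.comp_def] using (hcont.tendsto 0).comp hc
  have hlim2 : Filter.Tendsto (fun j : ℕ => ‖((P.eval ((l : ℚ) ^ j) : ℚ) : ℚ_[l])‖) Filter.atTop (nhds 0) := by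
    have hcont : Continuous (fun s : ℤ_[l] => ‖(P.map (algebraMap ℚ ℚ_[l])).eval (s : ℚ_[l])‖) :=
      ((P.map (algebraMap ℚ ℚ_[l])).continuous.comp continuous_subtype_val).norm
    have h2 := (hcont.tendsto 0).comp hc
    have e : (P.map (algebraMap ℚ ℚ_[l])).eval (((0 : ℤ_[l])) : ℚ_[l]) = 0 := by
      rw [PadicInt.coe_zero, ← map_zero (algebraMap ℚ ℚ_[l]), eval_map_algebraMap, aeval_algebraMap_apply,
        coe_aeval_eq_eval, hP0, map_zero]
    rw [e, norm_zero] at h2
    refine h2.congr fun j => ?_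
    simp only [Function.comp_apply, PadicInt.coe_pow, PadicInt.coe_natCast]
    rw [eval_map, ← eq_ratCast (algebraMap ℚ ℚ_[l]), ← eval₂_hom, map_pow, map_natCast]
  exact norm_eq_zero.1 (tendsto_nhds_unique (hlim1.congr' h) hlim2)

end Padic

end Groth.Agent.AbCubeLib
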