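import Groth.Agent.AbCubeLib.CommonKernel
import Groth.Agent.AbCubeLib.FiniteProduct
import Groth.Agent.AbCubeLib.DenseTorsion

/-!
# Powers of an abelian variety in the preadditive category of commutative group schemes
-/

set_option autoImplicit false
set_option backward.isDefEq.respectTransparency.types false
set_option maxHeartbeats 1600000

universe u

open CategoryTheory CategoryTheory.Limits MonoidalCategory CartesianMonoidalCategory AlgebraicGeometry MonObj

namespace Groth.Agent.AbCubeLib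

variable {K : Type u} [Field K]

/-- The power `A ^ n` with its projections and injections. -/
theorem exists_power (A : Over (Spec (CommRingCat.of K))) [GrpObj A] [IsCommMonObj A] [IsProper A.hom]
    [GeometricallyIntegral A.hom] (n : ℕ) :
    ∃ (P : Over (Spec (CommRingCat.of K))) (_ : GrpObj P) (_ : IsCommMonObj P) (_ : IsProper P.hom)
      (_ : GeometricallyIntegral P.hom) (pr : Fin n → EndAV.Hom P A) (inc : Fin n → EndAV.Hom A P),
      (∀ i j, inc i ≫ pr j = if i = j then 𝟙 _ else 0) ∧ (∑ i, pr i ≫ inc i = 𝟙 _) ∧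
      (∀ (T : Over (Spec (CommRingCat.of K))) (a b : T ⟶ P), (∀ i, a ≫ (pr i).toHom = b ≫ (pr i).toHom) → a = b) ∧
      (∀ (T : Over (Spec (CommRingCat.of K))) [GrpObj T] [IsCommMonObj T] (f : Fin n → EndAV.Hom T A),
        ∃ g : EndAV.Hom T P, ∀ i, g ≫ pr i = f i) := by
  classical
  obtain ⟨d, hd⟩ := exists_dim_eq A
  obtain ⟨P, _, pr, hPp, hPg, hpr, -, hu⟩ := exists_product (fun _ : Fin n => A) (fun _ => d) (fun _ => hd) Finset.univ
  haveI : IsCommMonObj P := isCommMonObj_of_isProper_of_geometricallyIntegral P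
  haveI : ∀ i, IsMonHom (pr i (Finset.mem_univ i)) := fun i => hpr i _
  let Pr : Fin n → EndAV.Hom P A := fun i => EndAV.Hom.of (pr i (Finset.mem_univ i))
  have hext : ∀ (T : Over (Spec (CommRingCat.of K))) (a b : T ⟶ P),
      (∀ i, a ≫ (Pr i).toHom = b ≫ (Pr i).toHom) → a = b := fun T a b h => by
    obtain ⟨g, -, huniq⟩ := hu T fun i _ => b ≫ pr i (Finset.mem_univ i)
    exact (huniq a fun i hi => h i).trans (huniq b fun i hi => rfl).symm
  have hlift : ∀ (T : Over (Spec (CommRingCat.of K))) [GrpObj T] [IsCommMonObj T] (f : Fin n → EndAV.Hom T A),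
      ∃ g : EndAV.Hom T P, ∀ i, g ≫ Pr i = f i := by
    intro T _ _ f
    obtain ⟨g, hg, -⟩ := hu T fun i _ => (f i).toHom
    have hg' : ∀ i, g ≫ (Pr i).toHom = (f i).toHom := fun i => hg i _
    haveI : IsMonHom g := by
      refine ⟨hext _ _ _ fun i => ?_, hext _ _ _ fun i => ?_⟩
      · rw [Category.assoc, hg', IsMonHom.one_hom, IsMonHom.one_hom]
      · rw [Category.assoc, hg', IsMonHom.mul_hom, Category.assoc, IsMonHom.mul_hom, tensorHom_comp_tensorHom_assoc, hg']
    exact ⟨EndAV.Hom.of g, fun i => EndAV.Hom.ext (hg' i)⟩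
  choose inc hinc using fun i => hlift A fun j => if i = j then 𝟙 _ else 0
  refine ⟨P, inferInstance, inferInstance, hPp, hPg, Pr, inc, hinc, ?_, hext, hlift⟩
  refine EndAV.Hom.ext (hext _ _ _ fun j => ?_)
  have : (∑ i, Pr i ≫ inc i) ≫ Pr j = Pr j := by
    rw [Preadditive.sum_comp, Finset.sum_eq_single j]
    · rw [Category.assoc, hinc, if_pos rfl, Category.comp_id]
    · intro i _ hij
      rw [Category.assoc, hinc, if_neg hij, Limits.comp_zero]
    · exact fun h => absurd (Finset.mem_univ j) h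
  rw [EndAV.Hom.toHom_id, Category.id_comp, ← EndAV.Hom.toHom_comp, this]

/-- A power of a variety with annihilated Frobenius has annihilated Frobenius. -/
theorem killed_of_pr [Finite K] (Q : Polynomial ℤ) {P A : Over (Spec (CommRingCat.of K))} [GrpObj P] [IsCommMonObj P]
    [GrpObj A] [IsCommMonObj A] {n : ℕ} (pr : Fin n → EndAV.Hom P A)
    (hpr : ∀ (T : Over (Spec (CommRingCat.of K))) (a b : T ⟶ P), (∀ i, a ≫ (pr i).toHom = b ≫ (pr i).toHom) → a = b)
    (hA : Killed Q A) : Killed Q P := by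
  obtain ⟨πA, _, hπA, hQ⟩ := hA
  obtain ⟨πP, _, hπP⟩ := exists_isFrob P
  exact ⟨πP, inferInstance, hπP,
    killed_of_jointly_mono Q (fun i => (pr i).toHom) (fun a b h => hpr P a b h) πP hπP πA hπA hQ⟩

end Groth.Agent.AbCubeLib
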