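import Groth.Agent.AbCubeLib.PRankBound
import Groth.Agent.AbCubeLib.DenseTorsion

/-!
# The torsion subschemes of `p`-power order are schematically dense in an abelian variety
-/

set_option autoImplicit false
set_option backward.isDefEq.respectTransparency.types false
set_option linter.style.haveILetI false
set_option maxHeartbeats 1000000

universe u

open CategoryTheory CategoryTheory.Limits MonoidalCategory CartesianMonoidalCategory AlgebraicGeometry MonObj
  TopologicalSpace

namespace Groth.Agent.AbCubeLib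

open Groth.Agent.LieSLib Groth.Agent.AbVarLib

variable {k : Type u} [Field k] {A : Over (Spec (CommRingCat.of k))} [GrpObj A]

theorem pow_comp_pow (a b : ℕ) : (𝟙 A ^ a) ≫ (𝟙 A ^ b) = 𝟙 A ^ (a * b) := by
  rw [MonObj.comp_pow, Category.comp_id, ← pow_mul]

theorem id_pow_apply_one (n : ℕ) :
    η[A] ≫ (𝟙 A ^ n) = η[A] := by
  rw [MonObj.comp_pow, Category.comp_id]
  have h : (η[A] : 𝟙_ (Over (Spec (CommRingCat.of k))) ⟶ A) = 1 := by
    rw [MonObj.one_eq_one]
  rw [h, one_pow]

/-- The origin. -/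
noncomputable def origin (A : Over (Spec (CommRingCat.of k))) [GrpObj A] : A.left :=
  η[A].left (IsLocalRing.closedPoint k)

/-- In characteristic `p` the pullback by `[p]` maps the maximal ideal at the origin into its square. -/
theorem exists_pow_endo [IsCommMonObj A] (p : ℕ) [CharP k p] :
    ∃ (_ : Algebra k (A.left.presheaf.stalk (origin A)))
      (χ : A.left.presheaf.stalk (origin A) →ₐ[k] k) (Φ : A.left.presheaf.stalk (origin A) →ₐ[k] A.left.presheaf.stalk (origin A)),
      Spec.map (CommRingCat.ofHom (algebraMap k (A.left.presheaf.stalk (origin A)))) =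
        A.left.fromSpecStalk (origin A) ≫ A.hom ∧
      Spec.map (CommRingCat.ofHom χ.toRingHom) ≫ A.left.fromSpecStalk (origin A) = η[A].left ∧
      Spec.map (CommRingCat.ofHom Φ.toRingHom) ≫ A.left.fromSpecStalk (origin A) =
        A.left.fromSpecStalk (origin A) ≫ (𝟙 A ^ p).left ∧
      ∀ z ∈ IsLocalRing.maximalIdeal (A.left.presheaf.stalk (origin A)),
        Φ z ∈ IsLocalRing.maximalIdeal (A.left.presheaf.stalk (origin A)) ^ 2 := by
  let x₀ := origin A
  obtain ⟨φ, hφ⟩ := Spec.map_surjective (A.left.fromSpecStalk x₀ ≫ A.hom)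
  letI : Algebra k (A.left.presheaf.stalk x₀) := φ.hom.toAlgebra
  have halg : Spec.map (CommRingCat.ofHom (algebraMap k (A.left.presheaf.stalk x₀))) =
      A.left.fromSpecStalk x₀ ≫ A.hom := hφ
  let e : Spec (CommRingCat.of k) ⟶ A.left := η[A].left
  have he : e ≫ A.hom = 𝟙 _ := Over.w η[A]
  obtain ⟨χ', hχ'⟩ := exists_stalk_factor (R := CommRingCat.of k) e (x := x₀) rfl
  have hχc : ∀ c, χ'.hom (algebraMap k (A.left.presheaf.stalk x₀) c) = c := by
    have h : Spec.map (CommRingCat.ofHom (χ'.hom.comp (algebraMap k (A.left.presheaf.stalk x₀)))) =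
        Spec.map (𝟙 (CommRingCat.of k)) := by
      rw [← LieS.specMap_comp, halg, CommRingCat.ofHom_hom, ← Category.assoc, hχ', he, Spec.map_id]
    intro c
    exact congrArg (fun f : CommRingCat.of k ⟶ CommRingCat.of k => f.hom c) (Spec.map_injective h)
  let χ : A.left.presheaf.stalk x₀ →ₐ[k] k := { χ'.hom with commutes' := hχc }
  have hp0 : (A.left.fromSpecStalk x₀ ≫ (𝟙 A ^ p).left) (IsLocalRing.closedPoint _) = x₀ := by
    show (𝟙 A ^ p).left (A.left.fromSpecStalk x₀ (IsLocalRing.closedPoint _)) = x₀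
    rw [Scheme.fromSpecStalk_closedPoint]
    show (η[A] ≫ (𝟙 A ^ p)).left (IsLocalRing.closedPoint k) = x₀
    rw [id_pow_apply_one]
    rfl
  obtain ⟨Φ', hΦ'⟩ := exists_stalk_factor (R := A.left.presheaf.stalk x₀)
    (A.left.fromSpecStalk x₀ ≫ (𝟙 A ^ p).left) hp0
  have hΦc : ∀ c, Φ'.hom (algebraMap k (A.left.presheaf.stalk x₀) c) = algebraMap k (A.left.presheaf.stalk x₀) c := by
    have h : Spec.map (CommRingCat.ofHom (Φ'.hom.comp (algebraMap k (A.left.presheaf.stalk x₀)))) =
        Spec.map (CommRingCat.ofHom (algebraMap k (A.left.presheaf.stalk x₀))) := by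
      rw [← LieS.specMap_comp, halg, CommRingCat.ofHom_hom, ← Category.assoc, hΦ', Category.assoc, Over.w]
    intro c
    exact congrArg (fun f : CommRingCat.of k ⟶ A.left.presheaf.stalk x₀ => f.hom c) (Spec.map_injective h)
  let Φ : A.left.presheaf.stalk x₀ →ₐ[k] A.left.presheaf.stalk x₀ := { Φ'.hom with commutes' := hΦc }
  refine ⟨inferInstance, χ, Φ, halg, hχ', hΦ', fun z hz => ?_⟩
  let m := IsLocalRing.maximalIdeal (A.left.presheaf.stalk x₀)
  let M := A.left.presheaf.stalk x₀ ⧸ m ^ 2
  letI : Module kᵐᵒᵖ M := Module.compHom M ((RingHom.id k).fromOpposite mul_comm)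
  haveI : IsCentralScalar k M := ⟨fun _ _ => rfl⟩
  have hker : RingHom.ker χ = m := by
    have : (RingHom.ker χ).IsMaximal := RingHom.ker_isMaximal_of_surjective χ
      (fun r => ⟨algebraMap k _ r, χ.commutes r⟩)
    exact IsLocalRing.eq_maximalIdeal this
  have hsub : ∀ z, z - algebraMap k (A.left.presheaf.stalk x₀) (χ z) ∈ m := fun z => by
    rw [← hker, RingHom.mem_ker, map_sub, AlgHom.commutes]
    exact sub_self _
  let π : A.left.presheaf.stalk x₀ →ₗ[k] M := (Ideal.Quotient.mkₐ k (m ^ 2)).toLinearMap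
  let L : A.left.presheaf.stalk x₀ →ₗ[k] M :=
    π ∘ₗ (LinearMap.id - Algebra.linearMap k (A.left.presheaf.stalk x₀) ∘ₗ χ.toLinearMap)
  have hLmul : ∀ z w, L (z * w) = χ z • L w + χ w • L z := fun z w => by
    show π (z * w - algebraMap k _ (χ (z * w))) =
      χ z • π (w - algebraMap k _ (χ w)) + χ w • π (z - algebraMap k _ (χ z))
    rw [← map_smul, ← map_smul, ← map_add]
    refine (Ideal.Quotient.eq).2 ?_
    have e : z * w - algebraMap k (A.left.presheaf.stalk x₀) (χ (z * w)) -
        (χ z • (w - algebraMap k (A.left.presheaf.stalk x₀) (χ w)) +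
          χ w • (z - algebraMap k (A.left.presheaf.stalk x₀) (χ z))) =
        (z - algebraMap k (A.left.presheaf.stalk x₀) (χ z)) * (w - algebraMap k (A.left.presheaf.stalk x₀) (χ w)) := by
      rw [Algebra.smul_def, Algebra.smul_def, map_mul, map_mul]; ring
    rw [e, pow_two]
    exact Ideal.mul_mem_mul (hsub z) (hsub w)
  have hL1 : ∀ c, L (algebraMap k (A.left.presheaf.stalk x₀) c) = 0 := fun c => by
    show π (algebraMap k _ c - algebraMap k _ (χ (algebraMap k _ c))) = 0
    rw [AlgHom.commutes, Algebra.algebraMap_self, RingHom.id_apply, sub_self, map_zero]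
  let ξ : A.left.presheaf.stalk x₀ →+* TrivSqZeroExt k M :=
    { toFun := fun z => TrivSqZeroExt.inl (χ z) + TrivSqZeroExt.inr (L z)
      map_one' := by
        have := hL1 1
        rw [map_one] at this
        ext <;> simp [this]
      map_mul' := fun z w => TrivSqZeroExt.ext (by simp) (by
        rw [hLmul]
        simp)
      map_zero' := by ext <;> simp
      map_add' := fun z w => TrivSqZeroExt.ext (by simp) (by
        simp
        exact (zero_add (L z + L w)).trans (congrArg₂ (· + ·) (zero_add (L z)) (zero_add (L w))).symm) }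
  let idS : Spec (CommRingCat.of k) ⟶ Spec (CommRingCat.of k) := 𝟙 _
  let v : tpt idS M ⟶ A := Over.homMk (Spec.map (CommRingCat.ofHom ξ) ≫ A.left.fromSpecStalk x₀) (by
    show (_ ≫ _) ≫ A.hom = Spec.map _ ≫ 𝟙 _
    rw [Category.assoc, ← halg, LieS.specMap_comp, Category.comp_id]
    congr 2
    refine RingHom.ext fun c => TrivSqZeroExt.ext ?_ ?_
    · simp [ξ, TrivSqZeroExt.algebraMap_eq_inl']
    · simp [ξ, hL1, TrivSqZeroExt.algebraMap_eq_inl'])
  have hv : zsec idS ≫ v = 1 := by
    rw [show (1 : LieS.pt k idS ⟶ A) = toUnit _ ≫ η[A] from rfl]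
    refine Over.OverMorphism.ext ?_
    show Spec.map _ ≫ Spec.map _ ≫ A.left.fromSpecStalk x₀ = (toUnit (LieS.pt k idS)).left ≫ η[A].left
    rw [← Category.assoc, LieS.specMap_comp, show (TrivSqZeroExt.fstHom k k M).toRingHom.comp ξ = χ.toRingHom from
      RingHom.ext fun y => by simp [ξ]]
    exact hχ'.trans (Category.id_comp _).symm
  have hvp : v ≫ (𝟙 A ^ p) = tproj idS ≫ (1 : LieS.pt k idS ⟶ A) := by
    rw [MonObj.comp_pow, Category.comp_id, ← zpow_natCast, zpow_eq_tmap_comp idS hv,
      show ((p : ℤ) • LinearMap.id : M →ₗ[k] M) = 0 from by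
        rw [← Int.cast_smul_eq_zsmul k, Int.cast_natCast, CharP.cast_eq_zero, zero_smul],
      tmap_zero, Category.assoc, hv]
  have hring : ∀ z, ξ (Φ z) = algebraMap k (TrivSqZeroExt k M) (χ z) := by
    have h : Spec.map (CommRingCat.ofHom (ξ.comp Φ.toRingHom)) ≫ A.left.fromSpecStalk x₀ =
        Spec.map (CommRingCat.ofHom ((algebraMap k (TrivSqZeroExt k M)).comp χ.toRingHom)) ≫
          A.left.fromSpecStalk x₀ := by
      rw [← LieS.specMap_comp, ← LieS.specMap_comp, Category.assoc, Category.assoc]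
      refine (congrArg (_ ≫ ·) hΦ').trans ((Category.assoc _ _ _).symm.trans ((congrArg CommaMorphism.left hvp).trans ?_))
      rw [show (1 : LieS.pt k idS ⟶ A) = toUnit _ ≫ η[A] from rfl]
      show Spec.map _ ≫ ((toUnit (LieS.pt k idS)).left ≫ η[A].left) = _
      refine congrArg (Spec.map _ ≫ ·) ?_
      exact (Category.id_comp _).trans hχ'.symm
    intro z
    exact RingHom.congr_fun (congrArg CommRingCat.Hom.hom (Spec.map_injective ((cancel_mono _).1 h))) z
  have h1 := congrArg TrivSqZeroExt.fst (hring z)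
  have h2 := congrArg TrivSqZeroExt.snd (hring z)
  have hz0 : χ z = 0 := by rw [← RingHom.mem_ker, hker]; exact hz
  simp [ξ, hz0, TrivSqZeroExt.algebraMap_eq_inl'] at h1 h2
  change π (Φ z - algebraMap k _ (χ (Φ z))) = 0 at h2
  rw [h1, map_zero, sub_zero] at h2
  exact Ideal.Quotient.eq_zero_iff_mem.1 h2

theorem exists_pow_lift [IsCommMonObj A] (p : ℕ) [CharP k p] (N : ℕ) :
    ∀ (R : CommRingCat.{u}) (q : A.left.presheaf.stalk (origin A) ⟶ R),
      IsLocalRing.maximalIdeal (A.left.presheaf.stalk (origin A)) ^ (2 ^ N) ≤ RingHom.ker q.hom →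
      (Spec.map q ≫ A.left.fromSpecStalk (origin A)) ≫ (𝟙 A ^ (p ^ N)).left =
        ((Spec.map q ≫ A.left.fromSpecStalk (origin A)) ≫ A.hom) ≫ η[A].left := by
  obtain ⟨_, χ, Φ, halg, hχ, hΦ, hsq⟩ := exists_pow_endo (A := A) p
  let x₀ := origin A
  let m := IsLocalRing.maximalIdeal (A.left.presheaf.stalk x₀)
  have hiter : ∀ n : ℕ, ∃ Ψ : A.left.presheaf.stalk x₀ →ₐ[k] A.left.presheaf.stalk x₀,
      Spec.map (CommRingCat.ofHom Ψ.toRingHom) ≫ A.left.fromSpecStalk x₀ =
        A.left.fromSpecStalk x₀ ≫ (𝟙 A ^ (p ^ n)).left ∧ m.map Ψ.toRingHom ≤ m ^ (2 ^ n) := by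
    intro n
    induction n with
    | zero =>
      refine ⟨AlgHom.id k _, ?_, ?_⟩
      · simp only [pow_zero, pow_one, Over.id_left, Category.comp_id]
        rw [show (AlgHom.id k (A.left.presheaf.stalk x₀)).toRingHom = RingHom.id _ from rfl, CommRingCat.ofHom_id,
          Spec.map_id, Category.id_comp]
      · simp only [pow_zero, pow_one]
        exact (Ideal.map_id m).le
    | succ n ih =>
      obtain ⟨Ψ, hΨ, hm⟩ := ih
      refine ⟨Φ.comp Ψ, ?_, ?_⟩
      · rw [show (Φ.comp Ψ).toRingHom = Φ.toRingHom.comp Ψ.toRingHom from rfl, ← LieS.specMap_comp, Category.assoc, hΨ,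
          ← Category.assoc, hΦ, Category.assoc, ← Over.comp_left, pow_comp_pow, pow_succ']
      · rw [show (Φ.comp Ψ).toRingHom = Φ.toRingHom.comp Ψ.toRingHom from rfl, ← Ideal.map_map]
        refine (Ideal.map_mono hm).trans ?_
        rw [Ideal.map_pow, pow_succ', pow_mul]
        exact Ideal.pow_right_mono (Ideal.map_le_iff_le_comap.2 fun z hz => Ideal.mem_comap.2 (hsq z hz)) _
  intro R q hq
  obtain ⟨Ψ, hΨ, hm⟩ := hiter N
  have hsub : ∀ z, z - algebraMap k (A.left.presheaf.stalk x₀) (χ z) ∈ m := fun z => by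
    have hk : (RingHom.ker χ).IsMaximal := RingHom.ker_isMaximal_of_surjective χ
      (fun r => ⟨algebraMap k _ r, χ.commutes r⟩)
    rw [show m = RingHom.ker χ from (IsLocalRing.eq_maximalIdeal hk).symm, RingHom.mem_ker, map_sub, AlgHom.commutes]
    exact sub_self _
  have hcomp : q.hom.comp Ψ.toRingHom = (q.hom.comp (algebraMap k (A.left.presheaf.stalk x₀))).comp χ.toRingHom := by
    refine RingHom.ext fun z => ?_
    have hz := hq (hm (Ideal.mem_map_of_mem _ (hsub z)))
    rw [RingHom.mem_ker, map_sub, map_sub, sub_eq_zero] at hz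
    refine hz.trans (congrArg q.hom ?_)
    exact Ψ.commutes (χ z)
  rw [Category.assoc, ← hΨ]
  simp only [Category.assoc]
  rw [← Category.assoc (A.left.fromSpecStalk (origin A)) A.hom, ← halg, ← hχ]
  simp only [← Category.assoc]
  congr 1
  have := congrArg (fun f => Spec.map (CommRingCat.ofHom f)) hcomp
  simpa only [CommRingCat.ofHom_comp, CommRingCat.ofHom_hom, Spec.map_comp, Category.assoc] using this

variable [IsProper A.hom] [GeometricallyIntegral A.hom]

/-- In characteristic `p` a closed subscheme containing the `p`-power torsion subschemes is everything. -/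
theorem surjective_of_charP [IsCommMonObj A] (p : ℕ) (hp : 1 < p) [CharP k p] {Z : Scheme.{u}} (c : Z ⟶ A.left)
    [IsClosedImmersion c]
    (hc : ∀ m : ℕ, 0 < m → ∃ t : pullback η[A].left ((𝟙 A ^ (p ^ m)).left) ⟶ Z,
      t ≫ c = pullback.snd η[A].left ((𝟙 A ^ (p ^ m)).left)) :
    Function.Surjective c := by
  haveI : IsIntegral A.left := GeometricallyIntegral.isIntegral_of_subsingleton A.hom
  haveI : IsLocallyNoetherian A.left := LocallyOfFiniteType.isLocallyNoetherian A.hom
  let x₀ := origin A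
  let O := A.left.presheaf.stalk x₀
  let m := IsLocalRing.maximalIdeal O
  -- lift through the thickenings
  have hlift : ∀ n : ℕ, ∃ w : Spec (CommRingCat.of (O ⧸ m ^ (2 ^ (n + 1)))) ⟶ Z,
      w ≫ c = Spec.map (CommRingCat.ofHom (Ideal.Quotient.mk (m ^ (2 ^ (n + 1))))) ≫ A.left.fromSpecStalk x₀ := by
    intro n
    obtain ⟨t, ht⟩ := hc (n + 1) (Nat.succ_pos n)
    let q : O ⟶ CommRingCat.of (O ⧸ m ^ (2 ^ (n + 1))) := CommRingCat.ofHom (Ideal.Quotient.mk (m ^ (2 ^ (n + 1))))
    have hlift' := exists_pow_lift (A := A) p (n + 1) (CommRingCat.of (O ⧸ m ^ (2 ^ (n + 1)))) q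
      (by rw [show q.hom = Ideal.Quotient.mk (m ^ (2 ^ (n + 1))) from rfl, Ideal.mk_ker])
    refine ⟨pullback.lift _ (Spec.map q ≫ A.left.fromSpecStalk x₀) hlift'.symm ≫ t, ?_⟩
    rw [Category.assoc, ht]
    exact pullback.lift_snd _ _ _
  have hne : ∀ n : ℕ, IsLocalRing (O ⧸ m ^ (2 ^ (n + 1))) := fun n => by
    haveI : Nontrivial (O ⧸ m ^ (2 ^ (n + 1))) := Ideal.Quotient.nontrivial_iff.2
      (ne_top_of_le_ne_top (IsLocalRing.maximalIdeal.isMaximal O).ne_top (Ideal.pow_le_self (by positivity)))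
    exact IsLocalRing.of_surjective' _ Ideal.Quotient.mk_surjective
  have hcp : ∀ n, (haveI := hne n; (Spec.map (CommRingCat.ofHom (Ideal.Quotient.mk (m ^ (2 ^ (n + 1))))) ≫
      A.left.fromSpecStalk x₀) (IsLocalRing.closedPoint (O ⧸ m ^ (2 ^ (n + 1)))) = x₀) := by
    intro n
    haveI := hne n
    haveI : IsLocalHom (Ideal.Quotient.mk (m ^ (2 ^ (n + 1)))) :=
      IsLocalHom.of_surjective _ Ideal.Quotient.mk_surjective
    refine Eq.trans ?_ Scheme.fromSpecStalk_closedPoint
    have hf : IsLocalHom (Ideal.Quotient.mk (m ^ (2 ^ (n + 1)))) := inferInstance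
    have h1 := (IsLocalRing.isLocalHom_iff_comap_closedPoint
      (R := (O : Type u)) (S := (O : Type u) ⧸ m ^ (2 ^ (n + 1))) (Ideal.Quotient.mk (m ^ (2 ^ (n + 1))))).1 hf
    show A.left.fromSpecStalk x₀ _ = _
    exact congrArg (fun q : Spec O => A.left.fromSpecStalk x₀ q) h1
  obtain ⟨w₀, hw₀⟩ := hlift 0
  haveI := hne 0
  let z : Z := w₀ (IsLocalRing.closedPoint (O ⧸ m ^ (2 ^ (0 + 1))))
  have hz : c z = x₀ := by
    rw [← hcp 0, ← hw₀]
    rfl
  -- the stalk map is injective
  have hinj : Function.Injective (c.stalkMap z).hom := by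
    rw [injective_iff_map_eq_zero]
    intro f hf
    have key : ∀ n : ℕ, (A.left.presheaf.stalkSpecializes (specializes_of_eq hz.symm)).hom.comp (RingHom.id _) f = 0 ∨
        (A.left.presheaf.stalkSpecializes (specializes_of_eq hz.symm)).hom f ∈ m ^ (2 ^ (n + 1)) := by
      intro n
      right
      haveI := hne n
      obtain ⟨w, hw⟩ := hlift n
      have hwz : w (IsLocalRing.closedPoint (O ⧸ m ^ (2 ^ (n + 1)))) = z := by
        apply c.isClosedEmbedding.injective
        rw [hz, ← hcp n, ← hw]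
        rfl
      obtain ⟨Ψ, hΨ⟩ := exists_stalk_factor (R := CommRingCat.of (O ⧸ m ^ (2 ^ (n + 1)))) w hwz
      have h : Spec.map (c.stalkMap z ≫ Ψ) ≫ A.left.fromSpecStalk (c z) =
          Spec.map (A.left.presheaf.stalkSpecializes (specializes_of_eq hz.symm) ≫
            CommRingCat.ofHom (Ideal.Quotient.mk (m ^ (2 ^ (n + 1))))) ≫ A.left.fromSpecStalk (c z) := by
        rw [Spec.map_comp, Category.assoc, Scheme.SpecMap_stalkMap_fromSpecStalk, ← Category.assoc, hΨ, hw,
          Spec.map_comp, Category.assoc, Scheme.SpecMap_stalkSpecializes_fromSpecStalk]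
        rfl
      have h' := congrArg (fun g : A.left.presheaf.stalk (c z) ⟶ CommRingCat.of (O ⧸ m ^ (2 ^ (n + 1))) => g.hom f)
        (Spec.map_injective ((cancel_mono _).1 h))
      simp only [CommRingCat.hom_comp, RingHom.comp_apply, hf, map_zero] at h'
      exact Ideal.Quotient.eq_zero_iff_mem.1 h'.symm
    have hzero : (A.left.presheaf.stalkSpecializes (specializes_of_eq hz.symm)).hom f = 0 := by
      rw [← Ideal.mem_bot, ← Ideal.iInf_pow_eq_bot_of_isLocalRing m (IsLocalRing.maximalIdeal.isMaximal O).ne_top,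
        Ideal.mem_iInf]
      intro n
      rcases key n with h | h
      · rw [show (A.left.presheaf.stalkSpecializes (specializes_of_eq hz.symm)).hom f = 0 from h]
        exact zero_mem _
      · exact Ideal.pow_le_pow_right ((Nat.lt_two_pow_self).le.trans (Nat.pow_le_pow_right two_pos (Nat.le_succ n))) h
    haveI : IsIso (A.left.presheaf.stalkSpecializes (specializes_of_eq hz.symm)) :=
      ⟨A.left.presheaf.stalkSpecializes (specializes_of_eq hz), by simp, by simp⟩
    exact (ConcreteCategory.bijective_of_isIso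
      (A.left.presheaf.stalkSpecializes (specializes_of_eq hz.symm))).1 (hzero.trans (map_zero _).symm)
  haveI : IsIso (c.stalkMap z) := (ConcreteCategory.isIso_iff_bijective _).2 ⟨hinj, c.stalkMap_surjective z⟩
  have hgen : genericPoint A.left ∈ Set.range c := by
    have h : genericPoint A.left ∈ Set.range (Spec.map (c.stalkMap z) ≫ A.left.fromSpecStalk (c z)) := by
      have h0 : genericPoint A.left ∈ Set.range (A.left.fromSpecStalk (c z)) := by
        rw [Scheme.range_fromSpecStalk]
        exact genericPoint_specializes _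
      obtain ⟨a, ha⟩ := h0
      exact ⟨inv (Spec.map (c.stalkMap z)) a, by
        rw [← ha]
        show A.left.fromSpecStalk (c z) ((inv (Spec.map (c.stalkMap z)) ≫ Spec.map (c.stalkMap z)) a) = _
        rw [IsIso.inv_hom_id]
        rfl⟩
    rw [Scheme.SpecMap_stalkMap_fromSpecStalk] at h
    obtain ⟨a, ha⟩ := h
    exact ⟨_, ha⟩
  intro y
  have : y ∈ closure ({genericPoint A.left} : Set A.left) := by
    rw [genericPoint_closure]
    trivial
  exact c.isClosedEmbedding.isClosed_range.closure_subset_iff.2 (Set.singleton_subset_iff.2 hgen) this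

/-- Away from the characteristic a closed subset containing the `p`-power torsion is everything. -/
theorem surjective_of_prime_ne [IsCommMonObj A] (p : ℕ) (hp : p.Prime) (hpk : (p : k) ≠ 0) {Z : Scheme.{u}}
    (c : Z ⟶ A.left) [IsClosedImmersion c]
    (hc : ∀ m : ℕ, 0 < m → ∃ t : pullback η[A].left ((𝟙 A ^ (p ^ m)).left) ⟶ Z,
      t ≫ c = pullback.snd η[A].left ((𝟙 A ^ (p ^ m)).left)) :
    Function.Surjective c := by
  let K := AlgebraicClosure k
  let sK : Spec (CommRingCat.of K) ⟶ Spec (CommRingCat.of k) := Spec.map (CommRingCat.ofHom (algebraMap k K))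
  let B := (Over.pullback sK).obj A
  letI : GrpObj B := Functor.grpObjObj (F := Over.pullback sK) (G := A)
  haveI : IsProper B.hom := inferInstanceAs (IsProper (pullback.snd A.hom sK))
  haveI : GeometricallyIntegral B.hom := inferInstanceAs (GeometricallyIntegral (pullback.snd A.hom sK))
  haveI : IsCommMonObj B := isCommMonObj_of_isProper_of_geometricallyIntegral B
  have hpK : (p : K) ≠ 0 := by
    rw [← map_natCast (algebraMap k K)]
    exact (map_ne_zero _).2 hpk
  let pr : B.left ⟶ A.left := pullback.fst A.hom sK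
  have hdense := closure_eq_univ_of_powTors_le (A := B) hp hpK (powTors B p) le_rfl
  have hsub : ptOf '' (SetLike.coe (powTors B p)) ⊆ pr ⁻¹' Set.range c := by
    rintro _ ⟨a, ⟨n, hn⟩, rfl⟩
    have hn' : a ^ (p ^ (n + 1)) = 1 := by
      rw [pow_succ, pow_mul, (AbDual.mem_torsPts B _).1 hn, one_pow]
    have hmap : (Over.pullback sK).map (𝟙 A ^ (p ^ (n + 1))) = 𝟙 B ^ (p ^ (n + 1)) := by
      rw [← (Over.pullback sK).map_id A]
      exact map_pow (Over.pullback sK).homMonoidHom (𝟙 A) _
    have h1 : a ≫ (Over.pullback sK).map (𝟙 A ^ (p ^ (n + 1))) = η[B] := by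
      rw [hmap, MonObj.comp_pow, Category.comp_id, hn', MonObj.one_eq_one]
    have h2 : (η[B]).left ≫ pr = ((η[B]).left ≫ pr ≫ A.hom) ≫ η[A].left := by
      show (Functor.LaxMonoidal.ε (Over.pullback sK) ≫ (Over.pullback sK).map η[A]).left ≫ pr = _
      rw [show pr ≫ A.hom = B.hom ≫ sK from pullback.condition]
      rw [← Category.assoc (η[B]).left B.hom, Over.w]
      show ((Functor.LaxMonoidal.ε (Over.pullback sK)).left ≫ ((Over.pullback sK).map η[A]).left) ≫ pr = _
      rw [Category.assoc]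
      have e1 : ((Over.pullback sK).map η[A]).left ≫ pr =
          pullback.fst (𝟙 (Spec (CommRingCat.of k))) sK ≫ η[A].left := pullback.lift_fst _ _ _
      refine (congrArg (_ ≫ ·) e1).trans ?_
      rw [← Category.assoc]
      congr 1
      have e2 := Over.w (Functor.LaxMonoidal.ε (Over.pullback sK))
      have e3 : pullback.fst (𝟙 (Spec (CommRingCat.of k))) sK = pullback.snd (𝟙 (Spec (CommRingCat.of k))) sK ≫ sK := by
        rw [← pullback.condition, Category.comp_id]
      rw [e3, ← Category.assoc]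
      exact congrArg (· ≫ sK) e2
    have h3 : (𝟙 A ^ (p ^ (n + 1))).left (pr (ptOf a)) ∈ Set.range η[A].left := by
      have e : ((Over.pullback sK).map (𝟙 A ^ (p ^ (n + 1)))).left ≫ pr = pr ≫ (𝟙 A ^ (p ^ (n + 1))).left :=
        pullback.lift_fst _ _ _
      have e' : a.left ≫ (pr ≫ (𝟙 A ^ (p ^ (n + 1))).left) = η[B].left ≫ pr := by
        rw [← e, ← Category.assoc, ← Over.comp_left, h1]
      rw [h2] at e'
      exact ⟨_, (congrArg (fun f : (𝟙_ (Over (Spec (CommRingCat.of K)))).left ⟶ A.left =>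
        f (IsLocalRing.closedPoint K)) e').symm⟩
    obtain ⟨y, hy⟩ := h3
    obtain ⟨z, -, hz⟩ := Scheme.Pullback.exists_preimage_pullback (f := η[A].left)
      (g := (𝟙 A ^ (p ^ (n + 1))).left) y (pr (ptOf a)) hy
    obtain ⟨t, ht⟩ := hc (n + 1) (Nat.succ_pos n)
    exact ⟨t z, by rw [← hz, ← ht]; rfl⟩
  have huniv : pr ⁻¹' Set.range c = Set.univ := by
    refine Set.eq_univ_of_univ_subset ?_
    rw [← hdense]
    exact (c.isClosedEmbedding.isClosed_range.preimage pr.continuous).closure_subset_iff.2 hsub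
  haveI : Surjective sK := ⟨fun x => ⟨IsLocalRing.closedPoint K, Subsingleton.elim (α := PrimeSpectrum k) _ _⟩⟩
  haveI : Surjective pr := MorphismProperty.pullback_fst (P := @Surjective) _ _ inferInstance
  intro y
  obtain ⟨x, rfl⟩ := pr.surjective y
  exact Set.eq_univ_iff_forall.1 huniv x

/-- A closed subscheme containing all the `p`-power torsion subschemes is everything. -/
theorem isIso_of_primePowerTorsion [IsCommMonObj A] (p : ℕ) (hp : p.Prime) {Z : Scheme.{u}} (c : Z ⟶ A.left)
    [IsClosedImmersion c]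
    (hc : ∀ m : ℕ, 0 < m → ∃ t : pullback η[A].left ((𝟙 A ^ (p ^ m)).left) ⟶ Z,
      t ≫ c = pullback.snd η[A].left ((𝟙 A ^ (p ^ m)).left)) :
    IsIso c := by
  haveI : IsIntegral A.left := GeometricallyIntegral.isIntegral_of_subsingleton A.hom
  haveI : Surjective c := ⟨by
    by_cases h : (p : k) = 0
    · haveI : CharP k p := (CharP.charP_iff_prime_eq_zero hp).2 h
      exact surjective_of_charP p hp.one_lt c hc
    · exact surjective_of_prime_ne p hp h c hc⟩
  exact isIso_of_isClosedImmersion_of_surjective c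

end Groth.Agent.AbCubeLib
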