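import Groth.Agent.AbCubeLib.Complement
import Groth.Agent.UnipStruct.Group
import Groth.Agent.HopfQuot.SchemeQuot
import Groth.Agent.SGA3cLib.DeligneField
import Groth.Agent.AbVarLib.KernelQuot

/-!
# Projections onto abelian subvarieties, up to isogeny
-/

set_option autoImplicit false
set_option backward.isDefEq.respectTransparency.types false

universe u

open CategoryTheory CategoryTheory.Limits MonoidalCategory CartesianMonoidalCategory AlgebraicGeometry MonObj
  TopologicalSpace WithConv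

namespace Groth.Agent.AbCubeLib

variable {k : Type u} [Field k]

/-- A finite group scheme over a field is killed by a positive integer. -/
theorem exists_pow_eq_one_of_isFinite (G : Over (Spec (CommRingCat.of k))) [GrpObj G] [IsFinite G.hom] :
    ∃ n : ℕ, 0 < n ∧ ∀ (T : Over (Spec (CommRingCat.of k))) (a : T ⟶ G), a ^ n = 1 := by
  haveI : IsAffine G.left := isAffine_of_isAffineHom G.hom
  obtain ⟨R, _, _, e, _, _⟩ := HopfQuot.exists_spec (k := k) G
  haveI : IsIso e.left := inferInstanceAs (IsIso ((Over.forget _).map e))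
  haveI hfin : IsFinite (HopfQuot.spec (k := k) R).hom := by rw [← Over.w e]; infer_instance
  haveI : Module.Finite k R :=
    RingHom.finite_algebraMap.1 ((IsFinite.SpecMap_iff (CommRingCat.ofHom (algebraMap k R))).1 hfin)
  haveI : Nontrivial R := (Bialgebra.counitAlgHom k R).toRingHom.domain_nontrivial
  refine ⟨Module.finrank k R, Module.finrank_pos, fun T a => ?_⟩
  have hid : (HopfQuot.ptSpec (k := k) (A := R) (T := R) (toConv (AlgHom.id k R))) = 𝟙 (HopfQuot.spec (k := k) R) :=
    Over.OverMorphism.ext (by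
      show Spec.map (CommRingCat.ofHom (AlgHom.id k R).toRingHom) = 𝟙 _
      exact Spec.map_id _)
  have hkill : (𝟙 (HopfQuot.spec (k := k) R)) ^ Module.finrank k R = 1 := by
    rw [← hid, ← map_pow, SGA3cLib.pow_finrank_eq_one, map_one]
  calc a ^ Module.finrank k R = ((a ≫ CategoryTheory.inv e) ≫ 𝟙 _ ≫ e) ^ Module.finrank k R := by simp
    _ = (a ≫ CategoryTheory.inv e) ≫ ((𝟙 _) ^ Module.finrank k R) ≫ e := by rw [MonObj.pow_comp, MonObj.comp_pow]
    _ = 1 := by rw [hkill, MonObj.one_comp, MonObj.comp_one]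

variable {A B C : Over (Spec (CommRingCat.of k))} [GrpObj A] [IsCommMonObj A] [IsProper A.hom]
  [GeometricallyIntegral A.hom] [GrpObj B] [IsCommMonObj B] [GrpObj C] [IsCommMonObj C]
  [IsProper B.hom] [IsProper C.hom]

omit [GeometricallyIntegral A.hom] in
/-- An isogeny decomposition has projections up to a positive integer. -/
theorem exists_projection (i : B ⟶ A) [IsMonHom i] (j : C ⟶ A) [IsMonHom j]
    (hfin : IsFinite ((fst B C ≫ i) * (snd B C ≫ j)).left) (hsurj : Surjective ((fst B C ≫ i) * (snd B C ≫ j)).left)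
    [Flat ((fst B C ≫ i) * (snd B C ≫ j)).left] :
    ∃ (n : ℕ) (p : A ⟶ B), 0 < n ∧ IsMonHom p ∧ i ≫ p = (𝟙 B) ^ n ∧ j ≫ p = 1 := by
  set σ := (fst B C ≫ i) * (snd B C ≫ j) with hσ
  haveI : IsMonHom σ := inferInstanceAs (IsMonHom (lift _ _ ≫ μ[A]))
  haveI : IsFinite (UnipStruct.kerObj σ).hom := by
    have := MorphismProperty.of_isPullback (P := @IsFinite)
      (IsPullback.map (Over.forget _) (UnipStruct.isKernel_kerι σ)) hfin
    simpa [Over.toUnit_left] using this
  obtain ⟨n, hn, hkill⟩ := exists_pow_eq_one_of_isFinite (UnipStruct.kerObj σ)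
  haveI : IsMonHom ((𝟙 (B ⊗ C)) ^ n) := isMonHom_npow (𝟙 _) n
  have hker : UnipStruct.kerι σ ≫ (𝟙 (B ⊗ C)) ^ n = 1 := by
    rw [MonObj.comp_pow, Category.comp_id, ← Category.id_comp (UnipStruct.kerι σ), ← MonObj.pow_comp, hkill,
      MonObj.one_comp]
  obtain ⟨τ, ⟨hτ, hστ⟩, -⟩ := AbVarLib.existsUnique_lift_of_kernel σ (UnipStruct.kerι σ)
    (UnipStruct.isKernel_kerι σ) ((𝟙 (B ⊗ C)) ^ n) hker
  refine ⟨n, τ ≫ fst B C, hn, inferInstance, ?_, ?_⟩
  · have h : i = lift (𝟙 B) (1 : B ⟶ C) ≫ σ := by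
      rw [hσ, MonObj.comp_mul, lift_fst_assoc, lift_snd_assoc, MonObj.one_comp, Category.id_comp, _root_.mul_one]
    rw [← Category.assoc, h, Category.assoc, Category.assoc, ← Category.assoc σ, hστ, MonObj.pow_comp,
      Category.id_comp, MonObj.comp_pow, lift_fst]
  · have h : j = lift (1 : C ⟶ B) (𝟙 C) ≫ σ := by
      rw [hσ, MonObj.comp_mul, lift_fst_assoc, lift_snd_assoc, MonObj.one_comp, Category.id_comp, _root_.one_mul]
    rw [← Category.assoc, h, Category.assoc, Category.assoc, ← Category.assoc σ, hστ, MonObj.pow_comp,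
      Category.id_comp, MonObj.comp_pow, lift_fst, one_pow]

end Groth.Agent.AbCubeLib
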