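import Groth.Agent.AbCubeLib.KernelSubvariety
import Groth.Agent.SGA3cLib.Irreducible
import Groth.Agent.SGA3cLib.GeomConn

/-!
# The reduced scheme of a connected closed subgroup of an abelian variety
-/

set_option autoImplicit false
set_option backward.isDefEq.respectTransparency.types false

universe u

open CategoryTheory CategoryTheory.Limits MonoidalCategory CartesianMonoidalCategory AlgebraicGeometry MonObj
  TopologicalSpace
open Groth.Agent.Coherent Groth.Agent.CubeLib

namespace Groth.Agent.AbCubeLib

variable {K : Type u} [Field K] {X : Over (Spec (CommRingCat.of K))} [GrpObj X] [IsProper X.hom]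
  [GeometricallyIntegral X.hom]

local notation "gL" => Spec.map (CommRingCat.ofHom (algebraMap K (AlgebraicClosure K)))

noncomputable local instance (Z : Over (Spec (CommRingCat.of K))) [GrpObj Z] : GrpObj ((Over.pullback gL).obj Z) :=
  Functor.grpObjObj

local instance (Z : Over (Spec (CommRingCat.of K))) [IsProper Z.hom] : IsProper ((Over.pullback gL).obj Z).hom :=
  inferInstanceAs (IsProper (pullback.snd Z.hom gL))

local instance (Z : Over (Spec (CommRingCat.of K))) [GeometricallyIntegral Z.hom] :
    GeometricallyIntegral ((Over.pullback gL).obj Z).hom :=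
  inferInstanceAs (GeometricallyIntegral (pullback.snd Z.hom gL))

/-- A connected closed subgroup has the same points as an abelian subvariety. -/
theorem exists_subvariety_of_connected (Y : Over (Spec (CommRingCat.of K))) [GrpObj Y] (i : Y ⟶ X) [IsMonHom i]
    [IsClosedImmersion i.left] [ConnectedSpace Y.left] :
    ∃ (B : Over (Spec (CommRingCat.of K))) (_ : GrpObj B) (iB : B ⟶ X), IsProper B.hom ∧ GeometricallyIntegral B.hom ∧
      IsMonHom iB ∧ IsClosedImmersion iB.left ∧ Set.range iB.left = Set.range i.left := by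
  let L := AlgebraicClosure K
  haveI : IsProper Y.hom := by rw [← Over.w i]; infer_instance
  haveI : GeometricallyConnected Y.hom := by
    have := SGA3cLib.geometricallyConnected_of_rational_point K Y.hom (𝟙 Y.left) η[Y].left (Over.w η[Y])
      (fun y _ => ⟨y, rfl⟩)
    rwa [Category.id_comp] at this
  haveI : GeometricallyConnected ((Over.pullback gL).obj Y).hom :=
    inferInstanceAs (GeometricallyConnected (pullback.snd Y.hom gL))
  haveI : ConnectedSpace ((Over.pullback gL).obj Y).left :=
    GeometricallyConnected.connectedSpace_of_subsingleton ((Over.pullback gL).obj Y).hom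
  haveI : IrreducibleSpace ((Over.pullback gL).obj Y).left := SGA3cLib.irreducibleSpace_of_connected _
  let iL := (Over.pullback gL).map i
  haveI : IsMonHom iL := inferInstanceAs (IsMonHom ((Over.pullback gL).map i))
  haveI : IsClosedImmersion iL.left := AbVarLib.prop_map @IsClosedImmersion gL i inferInstance
  let Z : Set ((Over.pullback gL).obj X).left := Set.range iL.left
  have hZc : IsClosed Z := iL.left.isClosedEmbedding.isClosed_range
  have hmem : ∀ a : 𝟙_ (Over (Spec (CommRingCat.of L))) ⟶ (Over.pullback gL).obj X, ptOf a ∈ Z → ∃ c, c ≫ iL = a := by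
    intro a ⟨c, hc⟩
    have hcc : IsClosed ({c} : Set ((Over.pullback gL).obj Y).left) := by
      rw [← Set.preimage_image_eq {c} iL.left.isClosedEmbedding.injective, Set.image_singleton, hc]
      exact (isClosed_point a).preimage iL.left.continuous
    obtain ⟨w, rfl⟩ := exists_ptOf hcc
    exact ⟨w, point_ext (show ptOf (w ≫ iL) = ptOf a by rw [ptOf_comp]; exact hc)⟩
  obtain ⟨B', _, i', hiG, hic, hBg, hBp, hrg'⟩ := exists_subvariety hZc
    (by
      have h := (IrreducibleSpace.isIrreducible_univ (X := ((Over.pullback gL).obj Y).left)).image iL.left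
        iL.left.continuous.continuousOn
      rwa [Set.image_univ] at h)
    ⟨ptOf 1, by rw [← ptOf_comp, MonObj.one_comp]⟩ (by
      intro a b ha hb
      obtain ⟨c, rfl⟩ := hmem a ha
      obtain ⟨c', rfl⟩ := hmem b hb
      exact ⟨ptOf (c * c'⁻¹), by rw [← ptOf_comp, MonObj.mul_comp, GrpObj.inv_comp]⟩)
  have hsq := AbVarLib.isPullback_map gL i
  haveI : Surjective gL := ⟨fun x => ⟨IsLocalRing.closedPoint L, Subsingleton.elim (α := PrimeSpectrum K) _ _⟩⟩
  haveI : Surjective (pullback.fst X.hom gL) := MorphismProperty.pullback_fst (P := @Surjective) _ _ inferInstance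
  have hpre : Z = pullback.fst X.hom gL ⁻¹' Set.range i.left := by
    ext x
    constructor
    · rintro ⟨w, rfl⟩
      exact ⟨pullback.fst Y.hom gL w, by rw [← Scheme.Hom.comp_apply, hsq.w]; rfl⟩
    · rintro ⟨w, hw⟩
      obtain ⟨v, hv, -⟩ := Scheme.exists_preimage_of_isPullback hsq.flip x w hw.symm
      exact ⟨v, hv⟩
  obtain ⟨B, hB, iB, h1, h2, h3, h4, -, hr⟩ := exists_descend_subvariety i' (fun σ => ⟨1, one_pos, fun y => by
    have hy : ptOf (actPt σ X (y ≫ i')) ∈ Set.range i'.left := by
      rw [hrg', hpre, Set.mem_preimage]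
      obtain ⟨x, hx⟩ := (bcPts_bijective gL X).2 (y ≫ i')
      rw [← hx, actPt_bcPts]
      have e : ∀ v : extPt (K := K) L ⟶ X, pullback.fst X.hom gL (ptOf (bcPts gL X v)) = v.left (IsLocalRing.closedPoint L) :=
        fun v => by
          show (pullback.fst X.hom gL) ((bcPts gL X v).left _) = _
          rw [← Scheme.Hom.comp_apply]
          exact congrArg (fun f => f (IsLocalRing.closedPoint L)) (tautPt_map_left gL v)
      rw [e, Over.comp_left, Scheme.Hom.comp_apply]
      rw [Subsingleton.elim (α := PrimeSpectrum L) ((extPtMap (K := K) L σ).left _) (IsLocalRing.closedPoint L), ← e x,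
        hx, ← Set.mem_preimage, ← hpre, ← hrg', ptOf_comp]
      exact ⟨_, rfl⟩
    obtain ⟨c, hc⟩ := hy
    have hcc : IsClosed ({c} : Set B'.left) := by
      rw [← Set.preimage_image_eq {c} i'.left.isClosedEmbedding.injective, Set.image_singleton, hc]
      exact (isClosed_point _).preimage i'.left.continuous
    obtain ⟨z, rfl⟩ := exists_ptOf hcc
    exact ⟨z, by rw [pow_one]; exact point_ext (show ptOf (z ≫ i') = _ by rw [ptOf_comp]; exact hc)⟩⟩)
  refine ⟨B, hB, iB, h1, h2, h3, h4, ?_⟩
  rw [hr, hrg', hpre, Set.image_preimage_eq _ (pullback.fst X.hom gL).surjective]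

/-- The reduced scheme of a connected closed subgroup is an abelian subvariety. -/
theorem geometricallyIntegral_reduced (Y : Over (Spec (CommRingCat.of K))) [GrpObj Y] (i : Y ⟶ X) [IsMonHom i]
    [IsClosedImmersion i.left] [ConnectedSpace Y.left] (Yr : Scheme.{u}) (j : Yr ⟶ Y.left) [IsClosedImmersion j]
    [Surjective j] [IsReduced Yr] :
    GeometricallyIntegral (j ≫ Y.hom) ∧
      ∃ _ : GrpObj (Over.mk (j ≫ Y.hom)), IsMonHom (Over.homMk j rfl : Over.mk (j ≫ Y.hom) ⟶ Y) := by
  obtain ⟨B, _, iB, hBp, hBg, hiB, hiBc, hrg⟩ := exists_subvariety_of_connected Y i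
  haveI : IsReduced B.left := by
    haveI : IsIntegral B.left := GeometricallyIntegral.isIntegral_of_subsingleton B.hom
    infer_instance
  let Z : Over (Spec (CommRingCat.of K)) := Over.mk (j ≫ Y.hom)
  let jY : Z ⟶ Y := Over.homMk j rfl
  haveI : IsClosedImmersion jY.left := inferInstanceAs (IsClosedImmersion j)
  haveI : IsClosedImmersion (jY ≫ i).left := by rw [Over.comp_left]; infer_instance
  haveI : IsReduced Z.left := inferInstanceAs (IsReduced Yr)
  have hrZ : Set.range (jY ≫ i).left = Set.range iB.left := by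
    rw [hrg, Over.comp_left]
    ext x
    constructor
    · rintro ⟨a, rfl⟩
      exact ⟨j a, rfl⟩
    · rintro ⟨a, rfl⟩
      obtain ⟨b, rfl⟩ := j.surjective a
      exact ⟨b, rfl⟩
  obtain ⟨u, hu⟩ := RedSepLib.exists_lift_of_range_subset iB.left (jY ≫ i).left hrZ.ge
  obtain ⟨v, hv⟩ := RedSepLib.exists_lift_of_range_subset (jY ≫ i).left iB.left hrZ.le
  obtain ⟨e, he⟩ : ∃ e : B ≅ Z, e.inv.left ≫ iB.left = (jY ≫ i).left := ⟨
    { hom := Over.homMk u (by rw [← Over.w (jY ≫ i), reassoc_of% hu, Over.w])
      inv := Over.homMk v (by rw [← Over.w iB, reassoc_of% hv, Over.w])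
      hom_inv_id := Over.OverMorphism.ext ((cancel_mono iB.left).1 (by
        rw [Over.comp_left, Category.assoc]; exact (congrArg (u ≫ ·) hv).trans (hu.trans (Category.id_comp _).symm)))
      inv_hom_id := Over.OverMorphism.ext ((cancel_mono (jY ≫ i).left).1 (by
        rw [Over.comp_left, Category.assoc]; exact (congrArg (v ≫ ·) hu).trans (hv.trans (Category.id_comp _).symm))) }, hv⟩
  haveI : IsIso e.inv.left := inferInstanceAs (IsIso ((Over.forget _).map e.inv))
  refine ⟨?_, GrpObj.ofIso e, ?_⟩
  · have h := Over.w e.inv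
    rw [show j ≫ Y.hom = Z.hom from rfl, ← h]
    exact (MorphismProperty.cancel_left_of_respectsIso (P := @GeometricallyIntegral.{u}) e.inv.left B.hom).2 hBg
  · letI : GrpObj Z := GrpObj.ofIso e
    haveI := Over.mono_of_mono_left i
    haveI : IsMonHom e.hom := isMonHom_ofIso e
    haveI : IsMonHom e.inv := inferInstanceAs (IsMonHom e.inv)
    have hj : jY ≫ i = e.inv ≫ iB := Over.OverMorphism.ext he.symm
    exact {
      one_hom := by
        rw [← cancel_mono i, Category.assoc]
        show η[Z] ≫ jY ≫ i = η[Y] ≫ i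
        rw [hj, ← Category.assoc, IsMonHom.one_hom, IsMonHom.one_hom, IsMonHom.one_hom]
      mul_hom := by
        rw [← cancel_mono i, Category.assoc]
        show μ[Z] ≫ jY ≫ i = _
        rw [hj, IsMonHom.mul_hom_assoc, IsMonHom.mul_hom, tensorHom_comp_tensorHom_assoc, Category.assoc,
          IsMonHom.mul_hom, tensorHom_comp_tensorHom_assoc, hj] }

end Groth.Agent.AbCubeLib
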