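import Groth.Agent.AbCubeLib.RootPow

/-!
# The functional equation of alternating products over subsets of roots
-/

set_option autoImplicit false

namespace Groth.Agent.AbCubeLib

variable {K : Type*} [Field K] {ι : Type*} [DecidableEq ι]

/-- The alternating product of `c * ∏ v` over subsets. -/
theorem altProd_insert (v : ι → K) (c : K) {a : ι} {S : Finset ι} (ha : a ∉ S) :
    ∏ I ∈ (insert a S).powerset, (c * ∏ i ∈ I, v i) ^ ((-1 : ℤ) ^ I.card) =
      (∏ I ∈ S.powerset, (c * ∏ i ∈ I, v i) ^ ((-1 : ℤ) ^ I.card)) *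
        (∏ I ∈ S.powerset, (c * v a * ∏ i ∈ I, v i) ^ ((-1 : ℤ) ^ I.card))⁻¹ := by
  rw [Finset.prod_powerset_insert ha, ← Finset.prod_inv_distrib]
  congr 1
  refine Finset.prod_congr rfl fun I hI => ?_
  have haI : a ∉ I := fun h => ha (Finset.mem_powerset.1 hI h)
  rw [Finset.card_insert_of_notMem haI, Finset.prod_insert haI, pow_succ, mul_neg_one, zpow_neg, ← mul_assoc]

theorem altProd_indep (v : ι → K) (hv : ∀ i, v i ≠ 0) (S : Finset ι) :
    S.Nonempty → ∀ c c' : K, c ≠ 0 → c' ≠ 0 →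
      ∏ I ∈ S.powerset, (c * ∏ i ∈ I, v i) ^ ((-1 : ℤ) ^ I.card) =
        ∏ I ∈ S.powerset, (c' * ∏ i ∈ I, v i) ^ ((-1 : ℤ) ^ I.card) := by
  induction S using Finset.induction_on with
  | empty => intro h; exact absurd h Finset.not_nonempty_empty
  | @insert a S ha ih =>
    intro _ c c' hc hc'
    rw [altProd_insert v c ha, altProd_insert v c' ha]
    rcases S.eq_empty_or_nonempty with rfl | hS
    · simp only [Finset.powerset_empty, Finset.prod_singleton, Finset.prod_empty, Finset.card_empty, pow_zero,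
        zpow_one, mul_one]
      field_simp [hv a]
    · rw [ih hS c c' hc hc', ih hS (c * v a) (c' * v a) (mul_ne_zero hc (hv a)) (mul_ne_zero hc' (hv a))]

/-- For at least two elements the alternating product is trivial. -/
theorem altProd_eq_one (v : ι → K) (hv : ∀ i, v i ≠ 0) {S : Finset ι} (hS : 1 < S.card) {c : K} (hc : c ≠ 0) :
    ∏ I ∈ S.powerset, (c * ∏ i ∈ I, v i) ^ ((-1 : ℤ) ^ I.card) = 1 := by
  obtain ⟨a, ha⟩ := Finset.card_pos.1 (by omega : 0 < S.card)
  rw [← Finset.insert_erase ha, altProd_insert v c (Finset.notMem_erase a S),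
    altProd_indep v hv (S.erase a) (Finset.card_pos.1 (by rw [Finset.card_erase_of_mem ha]; omega))
      (c * v a) c (mul_ne_zero hc (hv a)) hc]
  refine mul_inv_cancel₀ (Finset.prod_ne_zero_iff.2 fun I _ => zpow_ne_zero _ (mul_ne_zero hc ?_))
  exact Finset.prod_ne_zero_iff.2 fun i _ => hv i

/-- The functional equation. -/
theorem alternating_funcEq {d : ℕ} (hd : Even d) (hd1 : 1 < d) (r : Fin d → K) (hr : ∀ i, r i ≠ 0) (t : K)
    (ht : t ≠ 0) :
    ∏ j ∈ Finset.range (d + 1), (∏ I ∈ (Finset.univ : Finset (Fin d)).powersetCard j,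
        (1 - (∏ i ∈ I, r i) * ((∏ i, r i) * t)⁻¹)) ^ ((-1 : ℤ) ^ (j + 1)) =
      ∏ j ∈ Finset.range (d + 1), (∏ I ∈ (Finset.univ : Finset (Fin d)).powersetCard j,
        (1 - (∏ i ∈ I, r i) * t)) ^ ((-1 : ℤ) ^ (j + 1)) := by
  have hp : ∀ I : Finset (Fin d), ∏ i ∈ I, r i ≠ 0 := fun I => Finset.prod_ne_zero_iff.2 fun i _ => hr i
  have key : ∀ j ∈ Finset.range (d + 1), ∏ I ∈ (Finset.univ : Finset (Fin d)).powersetCard j,
      (1 - (∏ i ∈ I, r i) * ((∏ i, r i) * t)⁻¹) =
      (∏ I ∈ (Finset.univ : Finset (Fin d)).powersetCard (d - j), (-t⁻¹ * ∏ i ∈ I, (r i)⁻¹)) *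
        ∏ I ∈ (Finset.univ : Finset (Fin d)).powersetCard (d - j), (1 - (∏ i ∈ I, r i) * t) := by
    intro j hj
    rw [← Finset.prod_mul_distrib]
    refine Finset.prod_nbij' (fun I => Iᶜ) (fun I => Iᶜ) ?_ ?_ (fun I _ => compl_compl I) (fun I _ => compl_compl I) ?_
    · intro I hI
      simp only [Finset.mem_coe, Finset.mem_powersetCard, Finset.subset_univ, true_and] at hI ⊢
      rw [Finset.card_compl, Fintype.card_fin, hI]
    · intro I hI
      simp only [Finset.mem_coe, Finset.mem_powersetCard, Finset.subset_univ, true_and] at hI ⊢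
      rw [Finset.card_compl, Fintype.card_fin, hI]
      have := Finset.mem_range.1 hj; omega
    · intro I _
      rw [← Finset.prod_mul_prod_compl I r, Finset.prod_inv_distrib]
      have := hp I
      have := hp Iᶜ
      field_simp
      ring
  rw [Finset.prod_congr rfl fun j hj => by rw [key j hj, mul_zpow], Finset.prod_mul_distrib]
  have hexp : ∀ j ∈ Finset.range (d + 1), ((-1 : ℤ) ^ (j + 1)) = (-1 : ℤ) ^ (d - j + 1) := by
    intro j hj
    refine neg_one_pow_congr ?_
    have := Finset.mem_range.1 hj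
    have h1 := Nat.even_sub (m := d) (n := j) (by omega)
    simp only [Nat.even_add_one, h1, hd, true_iff]
  have h1 : ∏ j ∈ Finset.range (d + 1),
      (∏ I ∈ (Finset.univ : Finset (Fin d)).powersetCard (d - j), (-t⁻¹ * ∏ i ∈ I, (r i)⁻¹)) ^ ((-1 : ℤ) ^ (j + 1)) = 1 := by
    rw [Finset.prod_congr rfl fun j hj => by rw [hexp j hj]]
    have hrefl := Finset.prod_range_reflect (fun j => (∏ I ∈ (Finset.univ : Finset (Fin d)).powersetCard j,
      (-t⁻¹ * ∏ i ∈ I, (r i)⁻¹)) ^ ((-1 : ℤ) ^ (j + 1))) (d + 1)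
    simp only [Nat.add_sub_cancel] at hrefl
    rw [hrefl]
    have h := altProd_eq_one (fun i => (r i)⁻¹) (fun i => inv_ne_zero (hr i))
      (S := (Finset.univ : Finset (Fin d))) (by rw [Finset.card_univ, Fintype.card_fin]; omega)
      (c := -t⁻¹) (neg_ne_zero.2 (inv_ne_zero ht))
    rw [Finset.prod_powerset, Finset.card_univ, Fintype.card_fin] at h
    rw [← inv_one (G := K), ← h, ← Finset.prod_inv_distrib]
    refine Finset.prod_congr rfl fun j _ => ?_
    rw [← Finset.prod_inv_distrib, ← Finset.prod_zpow]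
    refine Finset.prod_congr rfl fun I hI => ?_
    rw [(Finset.mem_powersetCard.1 hI).2, ← zpow_neg, pow_succ, mul_neg_one]
  rw [h1, one_mul, Finset.prod_congr rfl fun j hj => by rw [hexp j hj]]
  have hrefl := Finset.prod_range_reflect (fun j => (∏ I ∈ (Finset.univ : Finset (Fin d)).powersetCard j,
      (1 - (∏ i ∈ I, r i) * t)) ^ ((-1 : ℤ) ^ (j + 1))) (d + 1)
  simp only [Nat.add_sub_cancel] at hrefl
  exact hrefl

end Groth.Agent.AbCubeLib
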