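import Mathlib

/-!
# Products of roots of an integral polynomial, taken over subsets
-/

set_option autoImplicit false

universe u

namespace Groth.Agent.AbCubeLib

theorem exists_fin_map {α : Type*} (R : Multiset α) :
    ∃ r : Fin R.card → α, R = (Finset.univ : Finset (Fin R.card)).val.map r := by
  induction R using Quotient.inductionOn with
  | h l => exact ⟨l.get, (congrArg (fun m : List α => (m : Multiset α)) (List.ofFn_get l)).symm.trans
      (Fin.univ_val_map l.get).symm⟩

theorem prod_powersetCard_map {α M : Type*} [CommMonoid α] [CommMonoid M] {d : ℕ} (r : Fin d → α) (j : ℕ)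
    (φ : α → M) :
    ((((Finset.univ : Finset (Fin d)).val.map r).powersetCard j).map fun I => φ I.prod).prod =
      ∏ I ∈ (Finset.univ : Finset (Fin d)).powersetCard j, φ (∏ i ∈ I, r i) := by
  rw [Multiset.powersetCard_map, Multiset.map_map, ← Finset.map_val_val_powersetCard, Multiset.map_map]
  rfl

theorem isAlgebraic_algebraicClosure_rat : Algebra.IsAlgebraic ℚ (AlgebraicClosure ℚ) := by
  convert AlgebraicClosure.isAlgebraic ℚ
  all_goals first | exact Algebra.algebra_ext _ _ fun q => (eq_ratCast (algebraMap ℚ (AlgebraicClosure ℚ)) q).trans (eq_ratCast (@algebraMap ℚ (AlgebraicClosure ℚ) _ _ (AlgebraicClosure.instAlgebra ℚ)) q).symm | rfl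

/-- An element of an algebraic closure of `ℚ` which is integral and fixed by all automorphisms is an integer. -/
theorem mem_range_intCast {x : AlgebraicClosure ℚ} (hint : IsIntegral ℤ x)
    (hfix : ∀ σ : AlgebraicClosure ℚ ≃ₐ[ℚ] AlgebraicClosure ℚ, σ x = x) : ∃ z : ℤ, (z : AlgebraicClosure ℚ) = x := by
  have halg := isAlgebraic_algebraicClosure_rat
  have : IsAlgClosure ℚ (AlgebraicClosure ℚ) := ⟨inferInstance, halg⟩
  have : IsGalois ℚ (AlgebraicClosure ℚ) := IsAlgClosure.isGalois ℚ _
  obtain ⟨q, hq⟩ := (InfiniteGalois.mem_range_algebraMap_iff_fixed x).2 hfix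
  rw [← hq] at hint
  have hq' : IsIntegral ℤ q := (isIntegral_algebraMap_iff (algebraMap ℚ (AlgebraicClosure ℚ)).injective).1 hint
  obtain ⟨z, hz⟩ := IsIntegrallyClosed.isIntegral_iff.1 hq'
  exact ⟨z, by rw [← hq, ← hz]; simp⟩

/-- The polynomial whose reciprocal roots are the products of `j` of the roots has integral coefficients. -/
theorem exists_int_poly_powersetCard (P : Polynomial ℤ) (hP : P.Monic) (j : ℕ) :
    ∃ Q : Polynomial ℤ, Q.map (Int.castRingHom ℂ) = (((P.map (Int.castRingHom ℂ)).roots.powersetCard j).map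
      fun I => (1 : Polynomial ℂ) - Polynomial.C I.prod * Polynomial.X).prod := by
  have halg := isAlgebraic_algebraicClosure_rat
  let ι : (AlgebraicClosure ℚ) →+* ℂ := (IsAlgClosed.lift (R := ℚ) (M := ℂ) (S := (AlgebraicClosure ℚ))).toRingHom
  have hR : ∀ {K : Type} [Field K] (σ : (AlgebraicClosure ℚ) →+* K),
      (P.map (Int.castRingHom K)).roots = (P.map (Int.castRingHom (AlgebraicClosure ℚ))).roots.map σ := by
    intro K _ σ
    rw [← Polynomial.Splits.roots_map (IsAlgClosed.splits (P.map (Int.castRingHom (AlgebraicClosure ℚ)))) σ, Polynomial.map_map,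
      RingHom.ext_int (σ.comp (Int.castRingHom (AlgebraicClosure ℚ))) (Int.castRingHom K)]
  let R := (P.map (Int.castRingHom (AlgebraicClosure ℚ))).roots
  let F : Polynomial (AlgebraicClosure ℚ) := ((R.powersetCard j).map fun I => (1 : Polynomial (AlgebraicClosure ℚ)) - Polynomial.C I.prod * Polynomial.X).prod
  have hmap : ∀ {K : Type} [Field K] (σ : (AlgebraicClosure ℚ) →+* K), F.map σ = (((P.map (Int.castRingHom K)).roots.powersetCard j).map
      fun I => (1 : Polynomial K) - Polynomial.C I.prod * Polynomial.X).prod := by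
    intro K _ σ
    rw [Polynomial.map_multiset_prod, hR σ, Multiset.powersetCard_map, Multiset.map_map, Multiset.map_map]
    refine congrArg Multiset.prod (Multiset.map_congr rfl fun I _ => ?_)
    simp [Polynomial.map_sub, map_multiset_prod, Polynomial.map_multiset_prod, Multiset.map_map]
  have hfix : ∀ σ : (AlgebraicClosure ℚ) ≃ₐ[ℚ] (AlgebraicClosure ℚ), F.map (σ : (AlgebraicClosure ℚ) →+* (AlgebraicClosure ℚ)) = F := fun σ => hmap (σ : (AlgebraicClosure ℚ) →+* (AlgebraicClosure ℚ))
  have hint : ∀ i, IsIntegral ℤ (F.coeff i) := by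
    have h : F ∈ Polynomial.lifts (algebraMap (integralClosure ℤ (AlgebraicClosure ℚ)) (AlgebraicClosure ℚ)) := by
      refine Subsemiring.multiset_prod_mem _ _ fun p hp => ?_
      obtain ⟨I, hI, rfl⟩ := Multiset.mem_map.1 hp
      have hI' : I.prod ∈ integralClosure ℤ (AlgebraicClosure ℚ) := Subalgebra.multiset_prod_mem _ fun a ha =>
        ⟨P, hP, by
          have h := (Polynomial.mem_roots'.1 (Multiset.mem_of_le (Multiset.mem_powersetCard.1 hI).1 ha)).2
          rwa [Polynomial.IsRoot, Polynomial.eval_map] at h⟩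
      exact ⟨1 - Polynomial.C (⟨I.prod, hI'⟩ : integralClosure ℤ (AlgebraicClosure ℚ)) * Polynomial.X,
        by simp [Polynomial.coe_mapRingHom]⟩
    intro i
    obtain ⟨z, hz⟩ := (Polynomial.lifts_iff_coeff_lifts F).1 h i
    exact hz ▸ z.2
  have hlift : F ∈ Polynomial.lifts (Int.castRingHom (AlgebraicClosure ℚ)) := by
    rw [Polynomial.lifts_iff_coeff_lifts]
    intro i
    exact mem_range_intCast (hint i) fun σ => by
      conv_rhs => rw [← hfix σ]
      rw [Polynomial.coeff_map]
      rfl
  obtain ⟨Q, hQ⟩ := hlift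
  refine ⟨Q, ?_⟩
  rw [← hmap ι, ← hQ, Polynomial.coe_mapRingHom, Polynomial.map_map,
    RingHom.ext_int (ι.comp (Int.castRingHom (AlgebraicClosure ℚ))) (Int.castRingHom ℂ)]

end Groth.Agent.AbCubeLib
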