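import Groth.Agent.AbCubeLib.DegreeTrace

/-!
# The pairing and endomorphisms of Rosati type
-/

set_option autoImplicit false
set_option linter.style.haveILetI false
set_option backward.isDefEq.respectTransparency.types false

universe u

open CategoryTheory CategoryTheory.Limits MonoidalCategory CartesianMonoidalCategory AlgebraicGeometry MonObj
  TopologicalSpace
open Groth.Agent.PicLib Groth.Agent.CubeLib Groth.Agent.AmpleLib Groth.Agent.Coherent

namespace Groth.Agent.AbCubeLib

variable {k : Type u} [Field k]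

/-- See-saw over a proper base: two classes agreeing on the slices at points and on one section are equal. -/
theorem eq_of_point_slices [IsAlgClosed k] {T W : Over (Spec (CommRingCat.of k))} [IsProper T.hom]
    [IsReduced T.left] [GrpObj W] [IsProper W.hom] [GeometricallyIntegral W.hom] {a b : PicM (T ⊗ W).left}
    (hax : pb (lift (𝟙 T) 1) a = pb (lift (𝟙 T) 1) b)
    (hsl : ∀ t : 𝟙_ (Over (Spec (CommRingCat.of k))) ⟶ T,
      pb (lift (toUnit W ≫ t) (𝟙 W)) a = pb (lift (toUnit W ≫ t) (𝟙 W)) b) : a = b := by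
  have : IsProper (fst T W).left := inferInstanceAs (IsProper (pullback.fst T.hom W.hom))
  have : GeometricallyIntegral (fst T W).left := inferInstanceAs (GeometricallyIntegral (pullback.fst T.hom W.hom))
  have : GeometricallyConnected (fst T W).left := ⟨fun K _ w Q p q hQ => by
    have := GeometricallyIrreducible.geometrically_irreducibleSpace (f := (fst T W).left) w p q hQ
    infer_instance⟩
  have : Flat W.hom := flat_of_field _
  have : Flat (fst T W).left := inferInstanceAs (Flat (pullback.fst T.hom W.hom))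
  have : IsLocallyNoetherian T.left := LocallyOfFiniteType.isLocallyNoetherian T.hom
  have : JacobsonSpace T.left := LocallyOfFiniteType.jacobsonSpace T.hom
  obtain ⟨b', hb'⟩ := PicM.exists_mul_eq_one b
  obtain ⟨N, hN, hNe⟩ := PicM.exists_eq_of (a * b')
  have hall : ∀ y, PicM.pull ((fst T W).left.fiberι y) (PicM.of hN) = 1 := by
    intro y
    by_contra hy
    obtain ⟨z, hz, hzc⟩ := nonempty_inter_closedPoints
      (Z := {y : T.left | PicM.pull ((fst T W).left.fiberι y) (PicM.of hN) = 1}ᶜ) ⟨y, hy⟩
      (isClosed_setOf_trivial_fibre (fst T W).left (fun y =>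
        GeometricallyIntegral.geometrically_isIntegral (f := (fst T W).left) _ _ _
          (IsPullback.of_hasPullback (fst T W).left (T.left.fromSpecResidueField y))) hN).isOpen_compl.isLocallyClosed
    let t : 𝟙_ (Over (Spec (CommRingCat.of k))) ⟶ T :=
      Over.homMk (pointOfClosedPoint T.hom z hzc) (pointOfClosedPoint_comp T.hom z hzc)
    refine hz ?_
    show PicM.pull ((fst T W).left.fiberι z) (PicM.of hN) = 1
    rw [show z = t.left (IsLocalRing.closedPoint k) from (pointOfClosedPoint_apply _ _ _ _).symm,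
      pull_fiberι_eq_one_iff, ← hNe, pb, map_mul]
    change pb _ a * pb _ b' = 1
    rw [hsl t, pb, ← map_mul, hb', map_one]
  obtain ⟨c, hc⟩ := exists_pull_eq (f := (fst T W).left) (bijective_algebraMap_fibre _) (PicM.of hN) hall
  change pb (fst T W) c = _ at hc
  have h1 : c = 1 := by
    have h2 := congrArg (pb (lift (𝟙 T) (1 : T ⟶ W))) (hc.trans hNe.symm)
    rw [pb_pb, lift_fst, pb_id, pb, map_mul] at h2
    change c = pb _ a * pb _ b' at h2
    rw [hax, pb, ← map_mul, hb', map_one] at h2
    exact h2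
  refine PicM.eq_of_mul_inv hb' ?_
  rw [hNe, ← hc, h1, pb, map_one]

variable {A : Over (Spec (CommRingCat.of k))} [GrpObj A] [IsCommMonObj A] [IsProper A.hom]
  [GeometricallyIntegral A.hom]

/-- A relation of Rosati type moves `ρ` across the pairing. -/
theorem pairing_rosati [IsAlgClosed k] {L : A.left.Modules} (hL : CohB1.IsAmple L) (α ρ : EndAV.End A) (n : ℕ)
    (hρ : ∀ x : (𝟙_ (Over (Spec (CommRingCat.of k))) ⟶ A),
      Nonempty (CohB1.tensorMod
          ((Scheme.Modules.pullback ((𝟙 A * (toUnit A ≫ x ≫ EndAV.End.toHom ρ))).left).obj (L))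
          ((Scheme.Modules.pullback (EndAV.End.toHom α).left).obj (CohB1.tensorPow L n)) ≅
        CohB1.tensorMod (L) ((Scheme.Modules.pullback (EndAV.End.toHom α).left).obj
          ((Scheme.Modules.pullback ((𝟙 A * (toUnit A ≫ x))).left).obj (CohB1.tensorPow L n)))))
    (f g : EndAV.End A) :
    pairing (PicM.of hL.1) (ρ * f) g = (n : ℤ) • pairing (PicM.of hL.1) f (α * g) := by
  let a := PicM.of hL.1
  haveI : IsIntegral A.left := GeometricallyIntegral.isIntegral_of_subsingleton A.hom
  have hx : ∀ x : 𝟙_ (Over (Spec (CommRingCat.of k))) ⟶ A,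
      pb (𝟙 A * (toUnit A ≫ x ≫ ρ.toHom)) a * pb α.toHom a ^ n =
        a * pb ((toUnit A ≫ x) * α.toHom) a ^ n := fun x => by
    have hn := isInvertible_tensorPow hL.1 n
    have h : PicM.of (isInvertible_tensorMod
          (PicLoc.isInvertible_pullback ((𝟙 A * (toUnit A ≫ x ≫ ρ.toHom))).left hL.1)
          (PicLoc.isInvertible_pullback α.toHom.left hn)) =
        PicM.of (isInvertible_tensorMod hL.1 (PicLoc.isInvertible_pullback α.toHom.left
          (PicLoc.isInvertible_pullback ((𝟙 A * (toUnit A ≫ x))).left hn))) := (PicM.of_eq_iff _ _).2 (hρ x)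
    change pb _ a * pb α.toHom (PicM.of hn) = a * pb α.toHom (pb _ (PicM.of hn)) at h
    simp only [show PicM.of hn = a ^ n from PicM.of_tensorPow hL.1 n, map_pow] at h
    have e : α.toHom ≫ (𝟙 A * (toUnit A ≫ x)) = (toUnit A ≫ x) * α.toHom := by
      rw [comp_mul, Category.comp_id, comp_toUnit_assoc, _root_.mul_comm α.toHom]
    have e2 := pb_pb α.toHom (𝟙 A * (toUnit A ≫ x)) a
    rw [e] at e2
    rw [← e2]
    exact h
  let p : A ⊗ A ⟶ A := fst A A
  let q : A ⊗ A ⟶ A := snd A A
  have huniv : pb ((p ≫ ρ.toHom) * q) a * (pb p a * pb (q ≫ α.toHom) a) ^ n =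
      pb (p ≫ ρ.toHom) a * pb q a * pb (p * (q ≫ α.toHom)) a ^ n := by
    refine eq_of_point_slices ?_ fun x => ?_
    · simp only [map_mul, map_pow, pb_pb, comp_mul, ← Category.assoc]
      simp only [p, q, lift_fst, lift_snd, Category.id_comp, MonObj.one_comp, _root_.mul_one, pb_one]
    · simp only [map_mul, map_pow, pb_pb, comp_mul, ← Category.assoc]
      simp only [p, q, lift_fst, lift_snd, Category.id_comp]
      have hc : ∀ y : 𝟙_ (Over (Spec (CommRingCat.of k))) ⟶ A, pb (toUnit A ≫ y) a = 1 := fun y => by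
        rw [← pb_pb, show pb y a = 1 from PicM.eq_one_of_field k _, pb, map_one]
      have e : toUnit A ≫ x ≫ ρ.toHom = (toUnit A ≫ x) ≫ ρ.toHom := (Category.assoc _ _ _).symm
      rw [hc x, ← e, hc, _root_.one_mul, _root_.one_mul, pb_id, _root_.mul_comm (toUnit A ≫ x ≫ ρ.toHom), hx x]
  have h := congrArg (pb (lift f.toHom g.toHom)) huniv
  simp only [map_mul, map_pow, pb_pb, comp_mul] at h
  simp only [p, q, lift_fst_assoc, lift_snd_assoc, lift_fst, lift_snd] at h
  have hE : pbU a (ρ * f + g) + (n : ℤ) • (pbU a f + pbU a (α * g)) =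
      pbU a (ρ * f) + pbU a g + (n : ℤ) • pbU a (f + α * g) := by
    apply Additive.toMul.injective
    simp only [toMul_add, toMul_zsmul, zpow_natCast]
    refine Units.ext ?_
    simp only [Units.val_mul, Units.val_pow_eq_pow_val, pbU_val, EndAV.End.toHom_add, EndAV.End.toHom_mul]
    exact h
  show pairing a (ρ * f) g = (n : ℤ) • pairing a f (α * g)
  rw [pairing, pairing, eq_sub_of_add_eq hE]
  module

end Groth.Agent.AbCubeLib
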