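import Groth.Agent.AbCubeLib.TracePositive

/-!
# Endomorphisms which are positive for an ample class
-/

set_option autoImplicit false
set_option linter.style.haveILetI false
set_option backward.isDefEq.respectTransparency.types false

universe u

open CategoryTheory CategoryTheory.Limits MonoidalCategory CartesianMonoidalCategory AlgebraicGeometry MonObj
  TopologicalSpace
open Groth.Agent.PicLib Groth.Agent.CubeLib Groth.Agent.AmpleLib Groth.Agent.Coherent

namespace Groth.Agent.AbCubeLib

variable {k : Type u} [Field k] {A : Over (Spec (CommRingCat.of k))} [GrpObj A] [IsCommMonObj A] [IsProper A.hom]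
  [GeometricallyIntegral A.hom]

theorem symU_val (a : PicM A.left) (φ : EndAV.End A) :
    ((Additive.toMul (symU a φ) : (PicM A.left)ˣ) : PicM A.left) = pb φ.toHom (a * pb (𝟙 A)⁻¹ a) := by
  rw [symU, toMul_add, Units.val_mul, pbU_val, pbU_val, EndAV.End.toHom_neg,
    show φ.toHom⁻¹ = φ.toHom ≫ (𝟙 A)⁻¹ by rw [GrpObj.comp_inv, Category.comp_id], ← pb_pb]
  exact (map_mul _ _ _).symm

/-- A positivity relation between `α` and the class of `M` compares the pairings. -/
theorem pairing_positive [IsAlgClosed k] {L : A.left.Modules} (hL : CohB1.IsAmple L) (α : EndAV.End A) (m : ℕ)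
    {M : A.left.Modules} (hM : PicF.IsInvertible M)
    (hpos : ∀ x : (𝟙_ (Over (Spec (CommRingCat.of k))) ⟶ A),
      Nonempty (CohB1.tensorMod ((Scheme.Modules.pullback ((𝟙 A * (toUnit A ≫ x))).left).obj (M))
          (CohB1.tensorPow L m) ≅
        CohB1.tensorMod (M)
          ((Scheme.Modules.pullback ((𝟙 A * (toUnit A ≫ x ≫ EndAV.End.toHom (α)))).left).obj (CohB1.tensorPow L m))))
    (f g : EndAV.End A) :
    pairing (PicM.of hM) f g = (m : ℤ) • pairing (PicM.of hL.1) (α * f) g := by
  let a := PicM.of hL.1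
  let c := PicM.of hM
  haveI : IsIntegral A.left := GeometricallyIntegral.isIntegral_of_subsingleton A.hom
  have hx : ∀ x : 𝟙_ (Over (Spec (CommRingCat.of k))) ⟶ A,
      pb (𝟙 A * (toUnit A ≫ x)) c * a ^ m = c * pb (𝟙 A * (toUnit A ≫ x ≫ α.toHom)) a ^ m := fun x => by
    have hn := isInvertible_tensorPow hL.1 m
    have h : PicM.of (isInvertible_tensorMod (PicLoc.isInvertible_pullback ((𝟙 A * (toUnit A ≫ x))).left hM) hn) =
        PicM.of (isInvertible_tensorMod hM
          (PicLoc.isInvertible_pullback ((𝟙 A * (toUnit A ≫ x ≫ α.toHom))).left hn)) :=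
      (PicM.of_eq_iff _ _).2 (hpos x)
    change pb _ c * PicM.of hn = c * pb _ (PicM.of hn) at h
    simp only [show PicM.of hn = a ^ m from PicM.of_tensorPow hL.1 m, map_pow] at h
    exact h
  let p : A ⊗ A ⟶ A := fst A A
  let q : A ⊗ A ⟶ A := snd A A
  have huniv : pb (p * q) c * (pb (p ≫ α.toHom) a * pb q a) ^ m =
      pb p c * pb q c * pb ((p ≫ α.toHom) * q) a ^ m := by
    refine eq_of_point_slices ?_ fun x => ?_
    · simp only [map_mul, map_pow, pb_pb, comp_mul, ← Category.assoc]
      simp only [p, q, lift_fst, lift_snd, Category.id_comp, _root_.mul_one, pb_one]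
    · simp only [map_mul, map_pow, pb_pb, comp_mul, ← Category.assoc]
      simp only [p, q, lift_fst, lift_snd, Category.id_comp]
      have hc : ∀ (y : 𝟙_ (Over (Spec (CommRingCat.of k))) ⟶ A) (b : PicM A.left), pb (toUnit A ≫ y) b = 1 :=
        fun y b => by rw [← pb_pb, show pb y b = 1 from PicM.eq_one_of_field k _, pb, map_one]
      have e : toUnit A ≫ x ≫ α.toHom = (toUnit A ≫ x) ≫ α.toHom := (Category.assoc _ _ _).symm
      rw [hc x, ← e, hc, _root_.one_mul, _root_.one_mul, pb_id, pb_id, _root_.mul_comm (toUnit A ≫ x),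
        _root_.mul_comm (toUnit A ≫ x ≫ α.toHom), hx x]
  have h := congrArg (pb (lift f.toHom g.toHom)) huniv
  simp only [map_mul, map_pow, pb_pb, comp_mul] at h
  simp only [p, q, lift_fst_assoc, lift_snd_assoc, lift_fst, lift_snd] at h
  have hE : pbU c (f + g) + (m : ℤ) • (pbU a (α * f) + pbU a g) =
      pbU c f + pbU c g + (m : ℤ) • pbU a (α * f + g) := by
    apply Additive.toMul.injective
    simp only [toMul_add, toMul_zsmul, zpow_natCast]
    refine Units.ext ?_
    simp only [Units.val_mul, Units.val_pow_eq_pow_val, pbU_val, EndAV.End.toHom_add, EndAV.End.toHom_mul]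
    exact h
  show pairing c f g = (m : ℤ) • pairing a (α * f) g
  rw [pairing, pairing, eq_sub_of_add_eq hE]
  module

/-- A section with the generic point in its locus is nonzero. -/
theorem unitDesc_ne_zero {X : Scheme.{u}} {L : X.Modules} (b : Γ(L, ⊤)) {x : X} (hb : x ∈ glocus L b) :
    unitDesc L b ≠ 0 := by
  intro h
  have hb0 : b = 0 := by
    have e := congrArg (fun φ => unitVal φ (⊤ : X.Opens)) h
    simp only [unitVal_unitDesc, resM_self] at e
    exact e.trans rfl
  subst hb0
  haveI : Nonempty (glocus L (0 : Γ(L, ⊤))) := ⟨⟨x, hb⟩⟩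
  have hg := (isGen_glocus (0 : Γ(L, ⊤))) (glocus L (0 : Γ(L, ⊤))) le_rfl
  have h0 : resM L le_rfl (resM L le_top (0 : Γ(L, ⊤))) = (0 : Γ(L, glocus L (0 : Γ(L, ⊤)))) := by
    simp
  exact one_ne_zero (hg.1 (a₁ := (1 : Γ(X, glocus L (0 : Γ(L, ⊤))))) (a₂ := 0) (by simp [h0]))

/-- A section whose locus is not everything is no isomorphism. -/
theorem not_isIso_unitDesc {X : Scheme.{u}} {L : X.Modules} (b : Γ(L, ⊤)) (hb : glocus L b ≠ ⊤) :
    ¬ IsIso (unitDesc L b) := by
  intro h
  refine hb (top_le_iff.1 fun x hx => Opens.mem_sSup.2 ⟨⊤, ?_, hx⟩)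
  exact (inferInstance : IsIso ((Scheme.Modules.restrictFunctor (⊤ : X.Opens).ι).map (unitDesc L b)))

/-- A morphism of modules out of the structure module is an isomorphism if it generates everywhere. -/
theorem isIso_of_glocus_eq_top {X : Scheme.{u}} {L : X.Modules} (s : Coh.structureModule X ⟶ L)
    (h : glocus L (unitVal s ⊤) = ⊤) : IsIso s := by
  have hg := (le_genLocus_iff s ⊤).1 (by rw [genLocus_eq_glocus, h])
  rw [Scheme.Modules.Hom.isIso_iff_isIso_app]
  intro W
  rw [ConcreteCategory.isIso_iff_bijective]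
  have hW := hg W le_top
  rw [resM_unitVal] at hW
  have : (fun r : Γ(X, W) => r • unitVal s W) = s.app W := funext fun r => (app_unit s r).symm
  rw [this] at hW
  exact hW

end Groth.Agent.AbCubeLib
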