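import Groth.Agent.AbCubeLib.EndSimple
import Groth.Agent.AbCubeLib.CharpolyMinpoly

/-!
# Characteristic polynomials on simple abelian varieties
-/

set_option autoImplicit false
set_option backward.isDefEq.respectTransparency.types false

universe u

open CategoryTheory CategoryTheory.Limits MonoidalCategory CartesianMonoidalCategory AlgebraicGeometry MonObj

namespace Groth.Agent.AbCubeLib

variable {k : Type u} [Field k] {A : Over (Spec (CommRingCat.of k))} [GrpObj A] [IsCommMonObj A]
  [IsProper A.hom] [GeometricallyIntegral A.hom]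
  {K : Type u} [Field K] [IsAlgClosed K]
  (j : Spec (CommRingCat.of K) ⟶ Spec (CommRingCat.of k)) {l : ℕ} [Fact l.Prime]
  [Module.Free ℤ_[l] (AbDual.TateMod A l (Over.mk j))] [Module.Finite ℤ_[l] (AbDual.TateMod A l (Over.mk j))]

/-- On a simple abelian variety every characteristic polynomial is a power of an irreducible one. -/
theorem exists_charpoly_eq_pow_of_simple (hl : (l : k) ≠ 0)
    (hsimple : ∀ (B : Over (Spec (CommRingCat.of k))) [GrpObj B] [GeometricallyIntegral B.hom] (i : B ⟶ A) [IsMonHom i]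
      [IsClosedImmersion i.left], Subsingleton B.left ∨ IsIso i) (φ : EndAV.End A) :
    ∃ (h : Polynomial ℚ) (n : ℕ), Irreducible h ∧
      ((EndAV.End.tateRep l (Over.mk j) φ).charpoly).map (algebraMap ℤ_[l] ℚ_[l]) =
        (h.map (algebraMap ℚ ℚ_[l])) ^ n := by
  obtain ⟨g, hg⟩ := exists_dim_eq A
  rcases eq_or_ne g 0 with rfl | hg0
  · obtain ⟨P, hPm, hPd, -, hc⟩ := exists_int_charpoly_bc j hg φ
    refine ⟨Polynomial.X, 0, Polynomial.irreducible_X, ?_⟩
    rw [hc l hl, hPm.natDegree_eq_zero.1 (by rw [hPd]), Polynomial.map_one, Polynomial.map_one, pow_zero]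
  · haveI := nontrivial_end0 j hl hg hg0
    haveI : NoZeroDivisors (EndAV.End0 A) := ⟨fun {a b} hab => by
      by_cases ha : a = 0
      · exact Or.inl ha
      · exact Or.inr ((isUnit_of_ne_zero_of_simple hsimple a ha).mul_right_eq_zero.1 hab)⟩
    haveI : IsDomain (EndAV.End0 A) := NoZeroDivisors.to_isDomain _
    haveI := finite_end0 (A := A)
    have hint : IsIntegral ℚ (EndAV.toEnd0 φ) := IsIntegral.of_finite ℚ _
    obtain ⟨P, -, -, hP, hP'⟩ := exists_charpoly_eq_pow j hl hg φ (minpoly.irreducible hint) (minpoly.monic hint)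
      (minpoly.aeval ℚ _)
    refine ⟨minpoly ℚ (EndAV.toEnd0 φ), 2 * g / (minpoly ℚ (EndAV.toEnd0 φ)).natDegree, minpoly.irreducible hint, ?_⟩
    rw [hP, ← Polynomial.map_pow, ← hP', Polynomial.map_map, Polynomial.map_map]
    congr 1

end Groth.Agent.AbCubeLib
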