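import Mathlib

/-!
# The cokernel of a surjection with finite kernel on Tate modules

For an `l`-divisible abelian group the map on `l`-adic Tate modules of a surjection with finite kernel is
injective, with cokernel the `l`-primary part of the kernel.
-/

set_option autoImplicit false

universe u

namespace Groth.Agent.AbCubeLib.TateCoker

variable {M M' : Type u} [AddCommGroup M] [AddCommGroup M'] (φ : M →+ M') (l : ℕ)

/-- Compatible sequences of `l`-power torsion elements. -/
def tsub (G : Type u) [AddCommGroup G] : AddSubgroup (ℕ → G) where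
  carrier := {x | (∀ n, (l ^ n) • x n = 0) ∧ ∀ n, l • x (n + 1) = x n}
  zero_mem' := ⟨fun n => smul_zero _, fun n => smul_zero _⟩
  add_mem' := by
    rintro x y ⟨hx, hx'⟩ ⟨hy, hy'⟩
    exact ⟨fun n => by rw [Pi.add_apply, smul_add, hx, hy, add_zero],
      fun n => by rw [Pi.add_apply, Pi.add_apply, smul_add, hx', hy']⟩
  neg_mem' := by
    rintro x ⟨hx, hx'⟩
    exact ⟨fun n => by rw [Pi.neg_apply, smul_neg, hx, neg_zero],
      fun n => by rw [Pi.neg_apply, Pi.neg_apply, smul_neg, hx']⟩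

/-- The map on sequences. -/
def tpush : tsub l M →+ tsub l M' where
  toFun x := ⟨fun n => φ (x.1 n), fun n => by rw [← map_nsmul, x.2.1, map_zero],
    fun n => by rw [← map_nsmul, x.2.2]⟩
  map_zero' := Subtype.ext (funext fun _ => map_zero φ)
  map_add' _ _ := Subtype.ext (funext fun _ => map_add φ _ _)

/-- The `l`-primary part of the kernel. -/
def prim : AddSubgroup M := φ.ker ⊓ AddCommGroup.primaryComponent M l

theorem pow_nsmul_shift {G : Type u} [AddCommGroup G] (x : ℕ → G) (hx : ∀ n, l • x (n + 1) = x n) (n : ℕ) :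
    ∀ j, l ^ j • x (n + j) = x n
  | 0 => by simp
  | j + 1 => by
    rw [pow_succ, mul_nsmul', ← add_assoc, hx, pow_nsmul_shift x hx n j]

/-- Sequences of successive `l`-th parts of elements of the primary part of the kernel. -/
def seqs : AddSubgroup (ℕ → M) where
  carrier := {w | (∀ n, l • w (n + 1) = w n) ∧ w 0 ∈ prim φ l}
  zero_mem' := ⟨fun n => smul_zero _, zero_mem _⟩
  add_mem' := by
    rintro x y ⟨hx, hx'⟩ ⟨hy, hy'⟩
    exact ⟨fun n => by rw [Pi.add_apply, Pi.add_apply, smul_add, hx, hy], add_mem hx' hy'⟩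
  neg_mem' := by
    rintro x ⟨hx, hx'⟩
    exact ⟨fun n => by rw [Pi.neg_apply, Pi.neg_apply, smul_neg, hx], neg_mem hx'⟩

variable [hl : Fact l.Prime]

/-- The value at `0`. -/
def toPrim : seqs φ l →+ prim φ l where
  toFun w := ⟨w.1 0, w.2.2⟩
  map_zero' := rfl
  map_add' _ _ := rfl

/-- The image, as a compatible sequence of torsion elements. -/
def toTate : seqs φ l →+ tsub l M' where
  toFun w := ⟨fun n => φ (w.1 n), fun n => by
      rw [← map_nsmul]
      have h := pow_nsmul_shift l w.1 w.2.1 0 n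
      rw [zero_add] at h
      rw [h]
      exact w.2.2.1,
    fun n => by rw [← map_nsmul, w.2.1]⟩
  map_zero' := Subtype.ext (funext fun _ => map_zero φ)
  map_add' _ _ := Subtype.ext (funext fun _ => map_add φ _ _)

variable [Finite φ.ker]

/-- The exponent of `l` in the order of the kernel. -/
noncomputable def kerExp : ℕ := (Nat.card φ.ker).factorization l

omit [Finite φ.ker] in
theorem card_ker_nsmul {x : M} (hx : φ x = 0) : Nat.card φ.ker • x = 0 :=
  congrArg Subtype.val (card_nsmul_eq_zero' (x := (⟨x, hx⟩ : φ.ker)))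

theorem pow_kerExp_nsmul {x : M} (hx : φ x = 0) {k : ℕ} (hk : l ^ k • x = 0) : l ^ kerExp φ l • x = 0 := by
  have h1 : addOrderOf x ∣ Nat.card φ.ker := addOrderOf_dvd_iff_nsmul_eq_zero.2 (card_ker_nsmul φ hx)
  obtain ⟨i, -, hi⟩ := (Nat.dvd_prime_pow hl.out).1 (addOrderOf_dvd_iff_nsmul_eq_zero.2 hk)
  rw [hi] at h1
  have hle : i ≤ kerExp φ l := (Nat.Prime.pow_dvd_iff_le_factorization hl.out Nat.card_pos.ne').1 h1
  exact addOrderOf_dvd_iff_nsmul_eq_zero.1 (hi ▸ pow_dvd_pow l hle)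

omit hl [Finite φ.ker] in
theorem pow_kerExp_mul_ordCompl : l ^ kerExp φ l * (Nat.card φ.ker / l ^ kerExp φ l) = Nat.card φ.ker :=
  Nat.ordProj_mul_ordCompl_eq_self _ _

theorem exists_bezout (j : ℕ) : ∃ a b : ℤ, a * ((Nat.card φ.ker / l ^ kerExp φ l : ℕ) : ℤ) + b * ((l ^ j : ℕ) : ℤ) = 1 :=
  Nat.isCoprime_iff_coprime.2 ((Nat.Coprime.pow_left j (Nat.coprime_ordCompl hl.out Nat.card_pos.ne')).symm)

theorem apply_zero_of_toTate_mem_range (w : seqs φ l) (h : toTate φ l w ∈ (tpush φ l).range) : w.1 0 = 0 := by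
  obtain ⟨x, hx⟩ := h
  obtain ⟨e, he⟩ : ∃ e, e = kerExp φ l := ⟨_, rfl⟩
  have hv : φ (w.1 e - x.1 e) = 0 := by
    have h2 : φ (x.1 e) = φ (w.1 e) := congrFun (congrArg Subtype.val hx) e
    rw [map_sub, h2, sub_self]
  have h0 : l ^ e • (w.1 e - x.1 e) = w.1 0 := by
    have h3 := pow_nsmul_shift l w.1 w.2.1 0 e
    rw [zero_add] at h3
    rw [nsmul_sub, h3, x.2.1, sub_zero]
  obtain ⟨m', hm'⟩ : ∃ m', m' = Nat.card φ.ker / l ^ kerExp φ l := ⟨_, rfl⟩
  have h4 : m' • w.1 0 = 0 := by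
    rw [← h0, ← mul_nsmul', mul_comm, hm', he, pow_kerExp_mul_ordCompl]
    exact card_ker_nsmul φ (he ▸ hv)
  obtain ⟨k, hk⟩ := w.2.2.2
  obtain ⟨a, b, hab⟩ := exists_bezout φ l k
  rw [← hm'] at hab
  calc w.1 0 = (a * (m' : ℤ) + b * ((l ^ k : ℕ) : ℤ)) • w.1 0 := by rw [hab, one_zsmul]
    _ = 0 := by rw [add_zsmul, mul_zsmul, mul_zsmul, natCast_zsmul, natCast_zsmul, h4, hk, smul_zero, smul_zero, add_zero]

theorem tpush_injective : Function.Injective (tpush φ l) := by
  refine (injective_iff_map_eq_zero _).2 fun x hx => Subtype.ext (funext fun n => ?_)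
  show x.1 n = 0
  rw [← pow_nsmul_shift l x.1 x.2.2 n (kerExp φ l)]
  exact pow_kerExp_nsmul φ l (congrFun (congrArg Subtype.val hx) (n + kerExp φ l)) (x.2.1 _)

variable (hsurj : Function.Surjective φ) (hdiv : ∀ a : M, ∃ b : M, l • b = a)

include hdiv in
omit hl [Finite φ.ker] in
theorem toPrim_surjective : Function.Surjective (toPrim φ l) := by
  intro z
  choose d hd using hdiv
  refine ⟨⟨fun n => d^[n] z.1, fun n => ?_, ?_⟩, Subtype.ext rfl⟩
  · show l • d^[n + 1] z.1 = d^[n] z.1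
    rw [Function.iterate_succ_apply']
    exact hd _
  · exact z.2

include hsurj in
theorem exists_lift_torsion {n : ℕ} {y : M'} (hy : l ^ n • y = 0) :
    ∃ x : M, φ x = y ∧ l ^ (n + kerExp φ l) • x = 0 := by
  obtain ⟨x, rfl⟩ := hsurj y
  obtain ⟨a, b, hab⟩ := exists_bezout φ l (n + kerExp φ l)
  obtain ⟨m', hm'⟩ : ∃ m', m' = Nat.card φ.ker / l ^ kerExp φ l := ⟨_, rfl⟩
  rw [← hm'] at hab
  refine ⟨a • m' • x, ?_, ?_⟩
  · calc φ (a • m' • x) = (a * (m' : ℤ)) • φ x + (b * ((l ^ (n + kerExp φ l) : ℕ) : ℤ)) • φ x := by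
          rw [map_zsmul, map_nsmul, mul_zsmul (φ x) b, mul_zsmul (φ x) a, natCast_zsmul, natCast_zsmul, pow_add,
            mul_comm, mul_nsmul', hy, smul_zero, smul_zero, add_zero]
      _ = φ x := by rw [← add_zsmul, hab, one_zsmul]
  · rw [smul_comm, ← mul_nsmul', show l ^ (n + kerExp φ l) * m' = Nat.card φ.ker * l ^ n by
      rw [hm', pow_add, mul_assoc, pow_kerExp_mul_ordCompl, mul_comm], mul_nsmul']
    rw [card_ker_nsmul φ (by rw [map_nsmul, hy]), smul_zero]

include hsurj in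
theorem toTate_surjective : Function.Surjective (toTate φ l) := by
  intro y
  obtain ⟨e, he⟩ : ∃ e, e = kerExp φ l := ⟨_, rfl⟩
  choose x hx hx' using fun n => exists_lift_torsion φ l hsurj (y.2.1 n)
  let w : ℕ → M := fun j => l ^ e • x (j + e)
  have hw : ∀ n, φ (w n) = y.1 n := fun n => by
    show φ (l ^ e • x (n + e)) = y.1 n
    rw [map_nsmul, hx, pow_nsmul_shift l y.1 y.2.2 n e]
  refine ⟨⟨w, fun n => ?_, ?_, ⟨2 * e, ?_⟩⟩, Subtype.ext (funext hw)⟩
  · have h1 : φ (l • x (n + e + 1) - x (n + e)) = 0 := by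
      rw [map_sub, map_nsmul, hx, hx, y.2.2, sub_self]
    have h2 : l ^ (n + e + 1 + kerExp φ l) • (l • x (n + e + 1) - x (n + e)) = 0 := by
      rw [nsmul_sub, smul_comm, hx', smul_zero, show n + e + 1 + kerExp φ l = 1 + (n + e + kerExp φ l) by omega,
        pow_add, mul_nsmul', hx', smul_zero, sub_zero]
    have h3 := pow_kerExp_nsmul φ l h1 h2
    rw [← he, nsmul_sub, sub_eq_zero] at h3
    show l • l ^ e • x (n + 1 + e) = l ^ e • x (n + e)
    rw [show n + 1 + e = n + e + 1 by omega, smul_comm]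
    exact h3
  · show φ (w 0) = 0
    rw [hw]
    have := y.2.1 0
    rwa [pow_zero, one_nsmul] at this
  · show l ^ (2 * e) • l ^ e • x (0 + e) = 0
    rw [show 2 * e = e + e by omega, smul_comm]
    have h4 := hx' (0 + e)
    rw [zero_add, ← he] at h4
    rw [zero_add, h4, smul_zero]

include hsurj hdiv in
/-- **The cokernel is the primary part of the kernel.** -/
theorem nonempty_coker_equiv :
    Nonempty ((tsub l M' ⧸ (tpush φ l).range) ≃+ prim φ l) := by
  let g : seqs φ l →+ tsub l M' ⧸ (tpush φ l).range := (QuotientAddGroup.mk' _).comp (toTate φ l)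
  have hg : Function.Surjective g := (QuotientAddGroup.mk'_surjective _).comp (toTate_surjective φ l hsurj)
  have hker : g.ker = (toPrim φ l).ker := by
    refine AddSubgroup.ext fun w => ?_
    show ((toTate φ l w : tsub l M' ⧸ (tpush φ l).range)) = 0 ↔ toPrim φ l w = 0
    rw [QuotientAddGroup.eq_zero_iff]
    refine ⟨fun h => Subtype.ext (apply_zero_of_toTate_mem_range φ l w h), fun h => ?_⟩
    have h0 : w.1 0 = 0 := congrArg Subtype.val h
    refine ⟨⟨w.1, fun n => ?_, w.2.1⟩, Subtype.ext rfl⟩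
    have := pow_nsmul_shift l w.1 w.2.1 0 n
    rw [zero_add] at this
    rw [this, h0]
  exact ⟨(QuotientAddGroup.quotientKerEquivOfSurjective g hg).symm.trans
    ((QuotientAddGroup.quotientAddEquivOfEq hker).trans
      (QuotientAddGroup.quotientKerEquivOfSurjective (toPrim φ l) (toPrim_surjective φ l hdiv)))⟩

end Groth.Agent.AbCubeLib.TateCoker
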