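import Groth.Agent.AbCubeLib.TateCoker
import Groth.Agent.AbCubeLib.HomTate
import Groth.Agent.AbCubeLib.TateImage
import Groth.Agent.AbCubeLib.PointCount

/-!
# Cokernel on Tate modules of an isogeny: the primary part of its kernel
-/

set_option autoImplicit false
set_option backward.isDefEq.respectTransparency.types false

universe u

open CategoryTheory CategoryTheory.Limits MonoidalCategory CartesianMonoidalCategory AlgebraicGeometry MonObj

namespace Groth.Agent.AbCubeLib

variable {S : Scheme.{u}} {X Y N T : Over S} [GrpObj X] [IsCommMonObj X] [GrpObj Y] [IsCommMonObj Y]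
  [GrpObj N] [IsCommMonObj N] (i : N ⟶ X) [IsMonHom i] (f : X ⟶ Y) [IsMonHom f] (hN : AlgGrp.IsKernel i f)

/-- Postcomposition on points, additively. -/
def pushPts {A B : Over S} [GrpObj A] [GrpObj B] [IsCommMonObj A] [IsCommMonObj B] (q : A ⟶ B) [IsMonHom q] (T : Over S) :
    Additive (T ⟶ A) →+ Additive (T ⟶ B) where
  toFun a := Additive.ofMul (a.toMul ≫ q)
  map_zero' := congrArg Additive.ofMul (MonObj.one_comp q)
  map_add' a b := congrArg Additive.ofMul (MonObj.mul_comp a.toMul b.toMul q)

include hN in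
omit [GrpObj X] [IsCommMonObj X] [GrpObj N] [IsCommMonObj N] [IsMonHom i] [IsMonHom f] in
theorem comp_kernel_eq_one (n : T ⟶ N) : (n ≫ i) ≫ f = 1 := by
  rw [Category.assoc, show i ≫ f = toUnit N ≫ η[Y] from hN.w, Hom.one_def, ← Category.assoc,
    toUnit_unique (n ≫ toUnit N) (toUnit T)]

include hN in
omit [GrpObj X] [IsCommMonObj X] [GrpObj N] [IsCommMonObj N] [IsMonHom i] [IsMonHom f] in
theorem exists_lift_kernel (a : T ⟶ X) (ha : a ≫ f = 1) : ∃ n : T ⟶ N, n ≫ i = a :=
  ⟨hN.lift a (toUnit T) (by rw [ha, Hom.one_def]), hN.lift_fst _ _ _⟩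

include hN in
omit [GrpObj X] [IsCommMonObj X] [IsCommMonObj Y] [GrpObj N] [IsCommMonObj N] [IsMonHom i] [IsMonHom f] in
theorem kernel_points_injective : Function.Injective (fun n : T ⟶ N => n ≫ i) := fun a b h =>
  hN.hom_ext h (toUnit_unique _ _)

/-- The primary part of the kernel of `f` on points is the primary part of the points of `N`. -/
noncomputable def primEquiv (l : ℕ) :
    Additive ↥(CommGroup.primaryComponent (T ⟶ N) l) ≃+ TateCoker.prim (pushPts f T) l :=
  AddEquiv.ofBijective
    (show Additive ↥(CommGroup.primaryComponent (T ⟶ N) l) →+ TateCoker.prim (pushPts f T) l from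
    { toFun := fun z => ⟨pushPts i T (Additive.ofMul (z.toMul : T ⟶ N)),
        congrArg Additive.ofMul (comp_kernel_eq_one i f hN (z.toMul : T ⟶ N)), by
          obtain ⟨k, hk⟩ := (CommGroup.mem_primaryComponent.1 z.toMul.2)
          refine ⟨k, ?_⟩
          rw [← map_nsmul, ← ofMul_pow, hk, ofMul_one, map_zero]⟩
      map_zero' := Subtype.ext (map_zero (pushPts i T))
      map_add' := fun _ _ => Subtype.ext (map_add (pushPts i T) _ _) })
    ⟨fun a b h => Additive.toMul.injective (Subtype.ext (kernel_points_injective i f hN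
        (congrArg (fun z => (Subtype.val z).toMul) h))),
      fun z => by
        obtain ⟨n, hn⟩ := exists_lift_kernel i f hN z.1.toMul (congrArg Additive.toMul z.2.1)
        obtain ⟨k, hk⟩ := z.2.2
        refine ⟨Additive.ofMul ⟨n, ⟨k, kernel_points_injective i f hN ?_⟩⟩, Subtype.ext (congrArg Additive.ofMul hn)⟩
        show (n ^ l ^ k) ≫ i = (1 : T ⟶ N) ≫ i
        rw [MonObj.pow_comp, hn, MonObj.one_comp]
        exact congrArg Additive.toMul hk⟩

include hN in
/-- The cokernel on Tate modules of a surjection on divisible points with finite kernel. -/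
theorem tateMap_injective_and_coker_equiv (l : ℕ) [Fact l.Prime] [Finite (T ⟶ N)]
    (hsurj : ∀ b : T ⟶ Y, ∃ a : T ⟶ X, a ≫ f = b) (hdiv : ∀ a : T ⟶ X, ∃ b : T ⟶ X, b ^ l = a) :
    Function.Injective (AbDual.tateMapₗ (l := l) (T := T) f) ∧
      Nonempty ((AbDual.TateMod Y l T ⧸ LinearMap.range (AbDual.tateMapₗ (l := l) (T := T) f)) ≃+
        Additive ↥(CommGroup.primaryComponent (T ⟶ N) l)) := by
  haveI : Finite (pushPts f T).ker := Finite.of_surjective (α := (T ⟶ N))
    (fun n => ⟨Additive.ofMul (n ≫ i), congrArg Additive.ofMul (comp_kernel_eq_one i f hN n)⟩) fun z => by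
      obtain ⟨n, hn⟩ := exists_lift_kernel i f hN z.1.toMul (congrArg Additive.toMul z.2)
      exact ⟨n, Subtype.ext (congrArg Additive.ofMul hn)⟩
  refine ⟨fun a b h => TateCoker.tpush_injective (pushPts f T) l h, ?_⟩
  obtain ⟨e⟩ := TateCoker.nonempty_coker_equiv (pushPts f T) l
    (fun b => (hsurj b.toMul).elim fun a ha => ⟨Additive.ofMul a, congrArg Additive.ofMul ha⟩)
    (fun a => (hdiv a.toMul).elim fun b hb => ⟨Additive.ofMul b, congrArg Additive.ofMul hb⟩)
  exact ⟨e.trans (primEquiv i f hN l).symm⟩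

variable {k : Type u} [Field k] {K : Type u} [Field K]

/-- Points of a finite scheme over a field with values in an extension field are finite. -/
theorem finite_points_of_isFinite (g : Spec (CommRingCat.of K) ⟶ Spec (CommRingCat.of k))
    (M : Over (Spec (CommRingCat.of k))) [IsFinite M.hom] : Finite (Over.mk g ⟶ M) := by
  haveI : IsFinite (pullback.snd M.hom g) := MorphismProperty.pullback_snd (P := @IsFinite) _ _ inferInstance
  haveI : Finite {s : Spec (CommRingCat.of K) ⟶ pullback M.hom g // s ≫ pullback.snd M.hom g = 𝟙 _} :=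
    finite_sections (pullback.snd M.hom g)
  refine Finite.of_injective (β := {s : Spec (CommRingCat.of K) ⟶ pullback M.hom g // s ≫ pullback.snd M.hom g = 𝟙 _})
    (fun a => ⟨pullback.lift a.left (𝟙 _) (by rw [Category.id_comp]; exact Over.w a), pullback.lift_snd _ _ _⟩)
    fun a b h => Over.OverMorphism.ext ?_
  have := congrArg (fun s => Subtype.val s ≫ pullback.fst M.hom g) h
  exact (pullback.lift_fst _ _ _).symm.trans (this.trans (pullback.lift_fst _ _ _))

end Groth.Agent.AbCubeLib
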