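import Groth.Agent.AbCubeLib.TateImage

/-!
# Galois stable subspaces of the rational Tate module as images of endomorphisms, under finiteness
-/

set_option autoImplicit false
set_option backward.isDefEq.respectTransparency.types false

universe u

open CategoryTheory CategoryTheory.Limits MonoidalCategory CartesianMonoidalCategory AlgebraicGeometry MonObj
  TopologicalSpace
open scoped TensorProduct

namespace Groth.Agent.AbCubeLib

/-- Every element of `ℚ_l ⊗ T` is a scalar multiple of an element of `T`. -/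
theorem exists_smul_eq_tmul {l : ℕ} [Fact l.Prime] {T : Type*} [AddCommGroup T] [Module ℤ_[l] T]
    (x : ℚ_[l] ⊗[ℤ_[l]] T) : ∃ (c : ℤ_[l]) (t : T), c ≠ 0 ∧ (algebraMap ℤ_[l] ℚ_[l] c) • x = 1 ⊗ₜ[ℤ_[l]] t := by
  induction x using TensorProduct.induction_on with
  | zero => exact ⟨1, 0, one_ne_zero, by simp⟩
  | tmul a t =>
    obtain ⟨p, q, hq, rfl⟩ := IsFractionRing.div_surjective (A := ℤ_[l]) a
    refine ⟨q, p • t, nonZeroDivisors.ne_zero hq, ?_⟩
    rw [TensorProduct.smul_tmul', smul_eq_mul, mul_div_cancel₀ _ (fun h => nonZeroDivisors.ne_zero hq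
      (IsFractionRing.injective ℤ_[l] ℚ_[l] (h.trans (map_zero _).symm))), Algebra.algebraMap_eq_smul_one,
      TensorProduct.smul_tmul]
  | add x y hx hy =>
    obtain ⟨c, t, hc, e⟩ := hx
    obtain ⟨d, s, hd, e'⟩ := hy
    refine ⟨c * d, d • t + c • s, mul_ne_zero hc hd, ?_⟩
    rw [smul_add, map_mul, mul_smul, mul_smul]
    conv_lhs => arg 1; rw [smul_comm, e]
    rw [e', TensorProduct.tmul_add, algebraMap_smul, algebraMap_smul, TensorProduct.tmul_smul,
      TensorProduct.tmul_smul]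

variable {k : Type u} [Field k] {Ω : Type u} [Field Ω] [Algebra k Ω] [IsAlgClosed Ω] [Algebra.IsAlgebraic k Ω]

/-- **Tate.** Under finiteness, a Galois stable subspace of the rational Tate module is the image of an element of
the span of endomorphisms. -/
theorem exists_span_range_rat {l : ℕ} [Fact l.Prime] (hl : (l : k) ≠ 0) (X : Over (Spec (CommRingCat.of k)))
    [GrpObj X] [IsCommMonObj X] [IsProper X.hom] [GeometricallyIntegral X.hom]
    (hFin : ∃ (J : Type u) (_ : Finite J) (F : J → Over (Spec (CommRingCat.of k))),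
      ∀ (Y : Over (Spec (CommRingCat.of k))) [GrpObj Y] [IsCommMonObj Y] [IsProper Y.hom] [GeometricallyIntegral Y.hom]
        (u : X ⟶ Y) [IsMonHom u] (v : Y ⟶ X) [IsMonHom v] (m : ℕ),
        u ≫ v = (𝟙 X) ^ (l ^ m) → v ≫ u = (𝟙 Y) ^ (l ^ m) → ∃ i, Nonempty (Y ≅ F i))
    (ρ : (Ω ≃ₐ[k] Ω) → Module.End ℤ_[l] (AbDual.TateMod X l (SGA7.pt Ω)))
    (hρ : ∀ (τ : Ω ≃ₐ[k] Ω) (z : AbDual.TateMod X l (SGA7.pt Ω)) (m : ℕ),
      (AbDual.TateMod.component X l (SGA7.pt Ω) m (ρ τ z)).toMul =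
        SGA7.galAct τ (AbDual.TateMod.component X l (SGA7.pt Ω) m z).toMul)
    (W : Submodule ℚ_[l] (ℚ_[l] ⊗[ℤ_[l]] AbDual.TateMod X l (SGA7.pt (K := k) Ω)))
    (hW : ∀ τ : Ω ≃ₐ[k] Ω, W.map ((ρ τ).baseChange ℚ_[l]) ≤ W) :
    ∃ u ∈ Submodule.span ℚ_[l] {ψ : Module.End ℚ_[l] (ℚ_[l] ⊗[ℤ_[l]] AbDual.TateMod X l (SGA7.pt (K := k) Ω)) |
          ∃ (f : X ⟶ X) (_ : IsMonHom f), ψ = (AbDual.tateMapₗ (l := l) (T := SGA7.pt Ω) f).baseChange ℚ_[l]},
      LinearMap.range u = W := by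
  let T := AbDual.TateMod X l (SGA7.pt (K := k) Ω)
  let S : Submodule ℤ_[l] T := (W.restrictScalars ℤ_[l]).comap (TensorProduct.mk ℤ_[l] ℚ_[l] T 1)
  have hmem : ∀ s : T, s ∈ S ↔ (1 : ℚ_[l]) ⊗ₜ[ℤ_[l]] s ∈ W := fun s => Iff.rfl
  obtain ⟨u, hu, hu1, c, hu2⟩ := exists_span_range hl X hFin S (fun σ s hs => by
    refine ⟨ρ σ s, ?_, fun n => hρ σ s n⟩
    rw [hmem] at hs ⊢
    rw [← LinearMap.baseChange_tmul]
    exact hW σ ⟨_, hs, rfl⟩)
  refine ⟨u.baseChange ℚ_[l], ?_, le_antisymm ?_ ?_⟩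
  · clear hu1 hu2
    induction hu using Submodule.span_induction with
    | mem x hx =>
      obtain ⟨f, hf, rfl⟩ := hx
      exact Submodule.subset_span ⟨f, hf, rfl⟩
    | zero => rw [LinearMap.baseChange_zero]; exact zero_mem _
    | add x y _ _ hx hy => rw [LinearMap.baseChange_add]; exact add_mem hx hy
    | smul a x _ hx => rw [LinearMap.baseChange_smul]; exact Submodule.smul_of_tower_mem _ a hx
  · rintro _ ⟨x, rfl⟩
    induction x using TensorProduct.induction_on with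
    | zero => rw [map_zero]; exact zero_mem _
    | tmul a t =>
      rw [LinearMap.baseChange_tmul, ← mul_one a, ← smul_eq_mul, ← TensorProduct.smul_tmul']
      exact W.smul_mem a ((hmem _).1 (hu1 t))
    | add x y hx hy => rw [map_add]; exact add_mem hx hy
  · intro w hw
    obtain ⟨d, s, hd, hs⟩ := exists_smul_eq_tmul w
    obtain ⟨t, ht⟩ := hu2 s ((hmem _).2 (hs ▸ W.smul_mem _ hw))
    set a := algebraMap ℤ_[l] ℚ_[l] (((l : ℤ_[l]) ^ c) * d) with ha
    have ha0 : a ≠ 0 := by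
      rw [ha, ne_eq, IsFractionRing.to_map_eq_zero_iff]
      exact mul_ne_zero (pow_ne_zero _ (by exact_mod_cast (Fact.out : l.Prime).ne_zero)) hd
    refine ⟨a⁻¹ • ((1 : ℚ_[l]) ⊗ₜ[ℤ_[l]] t), ?_⟩
    rw [map_smul, LinearMap.baseChange_tmul, ht, TensorProduct.tmul_smul, ← hs, ← algebraMap_smul ℚ_[l]
      ((l : ℤ_[l]) ^ c), ← mul_smul _ _ w, ← map_mul, ← ha, inv_smul_smul₀ ha0]

end Groth.Agent.AbCubeLib
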