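import Groth.Agent.AbCubeLib.TateImageRat
import Groth.Agent.AbCubeLib.EndSemisimple
import Groth.Agent.AbCubeLib.FiniteProduct
import Groth.Agent.CSA.SemisimpleBaseChange
import Mathlib.FieldTheory.Perfect

/-!
# Semisimplicity and the commutant of the rational Tate module, under finiteness
-/

set_option autoImplicit false
set_option backward.isDefEq.respectTransparency.types false
set_option maxHeartbeats 1600000

universe u

open CategoryTheory CategoryTheory.Limits MonoidalCategory CartesianMonoidalCategory AlgebraicGeometry MonObj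
  TopologicalSpace
open scoped TensorProduct

namespace Groth.Agent.AbCubeLib

section Algebra

variable {F V : Type*} [Field F] [AddCommGroup V] [Module F V]

/-- In a semisimple ring every element is regular. -/
theorem exists_mul_mul_eq_of_semisimple {R : Type*} [Ring R] [IsSemisimpleRing R] (x : R) : ∃ y, x * y * x = x := by
  obtain ⟨e, he, hIe⟩ := IsSemisimpleRing.ideal_eq_span_idempotent (Ideal.span {x})
  obtain ⟨y, hy⟩ := Ideal.mem_span_singleton'.1 (hIe ▸ Ideal.subset_span rfl : e ∈ Ideal.span {x})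
  obtain ⟨r, hr⟩ := Ideal.mem_span_singleton'.1 (hIe.symm ▸ Ideal.subset_span rfl : x ∈ Ideal.span {e})
  refine ⟨y, ?_⟩
  rw [_root_.mul_assoc, hy, ← hr, _root_.mul_assoc, he.eq]

/-- A semisimple algebra of endomorphisms of a finite dimensional space is its double commutant. -/
theorem mem_of_forall_commute [FiniteDimensional F V] (R : Subalgebra F (Module.End F V)) [IsSemisimpleRing R]
    (φ : Module.End F V) (h : ∀ c : Module.End F V, (∀ r ∈ R, c * r = r * c) → c * φ = φ * c) : φ ∈ R := by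
  classical
  have hlin : ∀ (c : Module.End R V) (a : F) (v : V), c (a • v) = a • c v := fun c a v =>
    c.map_smul ⟨algebraMap F (Module.End F V) a, R.algebraMap_mem a⟩ v
  let f : Module.End (Module.End R V) V :=
    { toFun := φ
      map_add' := map_add φ
      map_smul' := fun c v => by
        let c' : Module.End F V := { toFun := fun w => c w, map_add' := map_add c, map_smul' := hlin c }
        have hc : c' * φ = φ * c' := h c' fun r hr => LinearMap.ext fun w => c.map_smul ⟨r, hr⟩ w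
        exact (LinearMap.congr_fun hc v).symm }
  let b := Module.Free.chooseBasis F V
  obtain ⟨r, hr⟩ := jacobson_density f (Finset.univ.image b)
  have e : φ = (r : Module.End F V) := b.ext fun i =>
    hr (b i) (Finset.mem_image_of_mem b (Finset.mem_univ i))
  rw [e]; exact r.2

/-- The centre of a semisimple algebra over a perfect field is separable. -/
theorem isSeparable_center_of_semisimple [PerfectField F] {A : Type*} [Ring A] [Algebra F A] [FiniteDimensional F A]
    [IsSemisimpleRing A] : Algebra.IsSeparable F (Subalgebra.center F A) := by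
  haveI : IsReduced (Subalgebra.center F A) := by
    refine ⟨fun z ⟨n, hn⟩ => ?_⟩
    obtain ⟨y, hy⟩ := exists_mul_mul_eq_of_semisimple (z : A)
    have hzz : (z : A) = (z : A) * (z : A) * y := by
      conv_lhs => rw [← hy, _root_.mul_assoc, Subalgebra.mem_center_iff.1 z.2 y]
      rw [_root_.mul_assoc]
    have h1 : ∀ m : ℕ, (z : A) = (z : A) ^ (m + 1) * y ^ m := by
      intro m
      induction m with
      | zero => simp
      | succ m ih =>
        conv_lhs => rw [ih, pow_succ]; arg 1; arg 2; rw [hzz]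
        rw [pow_succ' y m, pow_succ (z : A) (m + 1), pow_succ (z : A) m]
        simp only [_root_.mul_assoc]
    refine Subtype.ext ((h1 n).trans ?_)
    rw [pow_succ, ← SubmonoidClass.coe_pow, hn]
    simp
  refine ⟨fun z => ?_⟩
  have hint : IsIntegral F z := Algebra.IsIntegral.isIntegral z
  refine PerfectField.separable_iff_squarefree.2 (IsRadical.squarefree (minpoly.ne_zero hint) fun m q hq => ?_)
  refine minpoly.dvd F z (IsNilpotent.eq_zero ⟨m, ?_⟩)
  rw [← map_pow]
  exact Polynomial.aeval_eq_zero_of_dvd_aeval_eq_zero hq (minpoly.aeval F z)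

end Algebra

section GalRep

variable {k : Type u} [Field k] {Ω : Type u} [Field Ω] [Algebra k Ω] {l : ℕ} [Fact l.Prime]

/-- The action of an automorphism of `Ω` on the Tate module of geometric points. -/
noncomputable def galTate (A : Over (Spec (CommRingCat.of k))) [GrpObj A] [IsCommMonObj A] (σ : Ω ≃ₐ[k] Ω) :
    Module.End ℤ_[l] (AbDual.TateMod A l (SGA7.pt (K := k) Ω)) :=
  let g : (SGA7.pt (K := k) Ω ⟶ A) →* (SGA7.pt (K := k) Ω ⟶ A) :=
    MonoidHom.mk' (fun x => SGA7.specAut σ ≫ x) (fun a b => MonObj.comp_mul _ a b)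
  { toFun := fun x => ⟨fun n => MonoidHom.toAdditive g ((x : ℕ → Additive (SGA7.pt (K := k) Ω ⟶ A)) n),
      fun n => by rw [← map_nsmul, x.torsion n, map_zero], fun n => by rw [← map_nsmul, x.compat n]⟩
    map_add' := fun x y => AbDual.TateMod.ext fun n => map_add (MonoidHom.toAdditive g) _ _
    map_smul' := fun a x => AbDual.TateMod.ext fun n => map_nsmul (MonoidHom.toAdditive g) _ _ }

theorem galTate_component (A : Over (Spec (CommRingCat.of k))) [GrpObj A] [IsCommMonObj A] (σ : Ω ≃ₐ[k] Ω)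
    (z : AbDual.TateMod A l (SGA7.pt (K := k) Ω)) (m : ℕ) :
    (AbDual.TateMod.component A l (SGA7.pt Ω) m (galTate A σ z)).toMul =
      SGA7.galAct σ (AbDual.TateMod.component A l (SGA7.pt Ω) m z).toMul := rfl

theorem galTate_comp {A B : Over (Spec (CommRingCat.of k))} [GrpObj A] [IsCommMonObj A] [GrpObj B] [IsCommMonObj B]
    (f : A ⟶ B) [IsMonHom f] (σ : Ω ≃ₐ[k] Ω) :
    AbDual.tateMapₗ (l := l) (T := SGA7.pt Ω) f ∘ₗ galTate A σ =
      galTate B σ ∘ₗ AbDual.tateMapₗ (l := l) (T := SGA7.pt Ω) f :=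
  LinearMap.ext fun x => AbDual.TateMod.ext fun n =>
    congrArg Additive.ofMul (Category.assoc (SGA7.specAut σ) ((x : ℕ → Additive (SGA7.pt (K := k) Ω ⟶ A)) n).toMul f)

theorem galTate_eq (A : Over (Spec (CommRingCat.of k))) [GrpObj A] [IsCommMonObj A]
    (ρ : (Ω ≃ₐ[k] Ω) → Module.End ℤ_[l] (AbDual.TateMod A l (SGA7.pt Ω)))
    (hρ : ∀ (τ : Ω ≃ₐ[k] Ω) (z : AbDual.TateMod A l (SGA7.pt Ω)) (m : ℕ),
      (AbDual.TateMod.component A l (SGA7.pt Ω) m (ρ τ z)).toMul =
        SGA7.galAct τ (AbDual.TateMod.component A l (SGA7.pt Ω) m z).toMul)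
    (σ : Ω ≃ₐ[k] Ω) : ρ σ = galTate A σ :=
  LinearMap.ext fun z => AbDual.TateMod.ext fun m => congrArg Additive.ofMul (hρ σ z m)

end GalRep

section Main

variable {k : Type u} [Field k] {Ω : Type u} [Field Ω] [Algebra k Ω] [IsAlgClosed Ω] [Algebra.IsAlgebraic k Ω]
  {l : ℕ} [Fact l.Prime]

variable (l Ω) in
/-- The image of the endomorphism ring in the endomorphisms of the rational Tate module, with its span. -/
theorem exists_semisimple_image (hl : (l : k) ≠ 0) (X : Over (Spec (CommRingCat.of k))) [GrpObj X] [IsCommMonObj X]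
    [IsProper X.hom] [GeometricallyIntegral X.hom] :
    ∃ R : Subalgebra ℚ_[l] (Module.End ℚ_[l] (ℚ_[l] ⊗[ℤ_[l]] AbDual.TateMod X l (SGA7.pt (K := k) Ω))),
      IsSemisimpleRing R ∧ FiniteDimensional ℚ_[l] (ℚ_[l] ⊗[ℤ_[l]] AbDual.TateMod X l (SGA7.pt (K := k) Ω)) ∧
      Subalgebra.toSubmodule R = Submodule.span ℚ_[l]
        {ψ | ∃ (f : X ⟶ X) (_ : IsMonHom f), ψ = (AbDual.tateMapₗ (l := l) (T := SGA7.pt Ω) f).baseChange ℚ_[l]} := by
  let T := AbDual.TateMod X l (SGA7.pt (K := k) Ω)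
  obtain ⟨g, hg⟩ := exists_dim_eq X
  obtain ⟨bas⟩ := exists_tate_basis_of_algClosed (A := X) Ω hg hl
  haveI : Module.Finite ℤ_[l] T := Module.Finite.of_basis bas
  haveI : Module.Finite ℚ (EndAV.End0 X) := finite_end0 (A := X)
  haveI : IsSemisimpleRing (EndAV.End0 X) := isSemisimpleRing_end0 (A := X)
  haveI : Algebra.IsSeparable ℚ (Subalgebra.center ℚ (EndAV.End0 X)) := isSeparable_center_of_semisimple
  haveI := CSA.isSemisimpleRing_baseChange ℚ (EndAV.End0 X) ℚ_[l]
  let B := Module.End ℚ_[l] (ℚ_[l] ⊗[ℤ_[l]] T)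
  let ψ : EndAV.End X →+* B :=
    (Module.End.baseChangeHom ℤ_[l] ℚ_[l] T).toRingHom.comp (EndAV.End.tateRep l (SGA7.pt (K := k) Ω))
  let ψ' : EndAV.End X →ₐ[ℤ] B :=
    { ψ with
      commutes' := fun z => (congrArg ψ (eq_intCast (algebraMap ℤ (EndAV.End X)) z)).trans
        ((map_intCast ψ z).trans (eq_intCast (algebraMap ℤ B) z).symm) }
  let ψ0 : EndAV.End0 X →ₐ[ℚ] B :=
    Algebra.TensorProduct.lift (Algebra.ofId ℚ _) ψ' (fun q φ => Algebra.commutes q (ψ φ))
  let Φ : ℚ_[l] ⊗[ℚ] EndAV.End0 X →ₐ[ℚ_[l]] B :=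
    Algebra.TensorProduct.lift (Algebra.ofId ℚ_[l] _) ψ0 (fun q φ => Algebra.commutes q (ψ0 φ))
  refine ⟨Φ.range, RingHom.isSemisimpleRing_of_surjective (R := ℚ_[l] ⊗[ℚ] EndAV.End0 X) (S := Φ.range) Φ.rangeRestrict.toRingHom Φ.rangeRestrict_surjective,
    inferInstance, le_antisymm ?_ ?_⟩
  · rintro _ ⟨x, rfl⟩
    induction x using TensorProduct.induction_on with
    | zero => rw [map_zero]; exact zero_mem _
    | tmul a y =>
      obtain ⟨n, φ, -, rfl⟩ := exists_smul_toEnd0 y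
      show Algebra.TensorProduct.lift _ _ _ (a ⊗ₜ[ℚ] _) ∈ _
      rw [Algebra.TensorProduct.lift_tmul, map_smul, Algebra.ofId_apply, ← Algebra.smul_def]
      refine Submodule.smul_mem _ a (Submodule.smul_of_tower_mem _ ((n : ℚ)⁻¹) (Submodule.subset_span
        ⟨φ.toHom, inferInstance, ?_⟩))
      refine (Algebra.TensorProduct.lift_tmul _ _ _ (1 : ℚ) φ).trans ?_
      rw [map_one, _root_.one_mul]
      rfl
    | add x y hx hy => rw [map_add]; exact add_mem hx hy
  · refine Submodule.span_le.2 ?_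
    rintro _ ⟨f, hf, rfl⟩
    refine ⟨1 ⊗ₜ[ℚ] EndAV.toEnd0 (EndAV.End.of f), ?_⟩
    show Algebra.TensorProduct.lift _ _ _ ((1 : ℚ_[l]) ⊗ₜ[ℚ] _) = _
    rw [Algebra.TensorProduct.lift_tmul, map_one, _root_.one_mul]
    refine (Algebra.TensorProduct.lift_tmul _ _ _ (1 : ℚ) _).trans ?_
    rw [map_one, _root_.one_mul]
    rfl

/-- **Semisimplicity and the commutant (Tate), under finiteness.** -/
theorem semisimple_and_commutant (hl : (l : k) ≠ 0)
    (hFin : ∀ (Z : Over (Spec (CommRingCat.of k))) [GrpObj Z] [IsCommMonObj Z] [IsProper Z.hom] [GeometricallyIntegral Z.hom],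
      ∃ (J : Type u) (_ : Finite J) (F : J → Over (Spec (CommRingCat.of k))),
        ∀ (Y : Over (Spec (CommRingCat.of k))) [GrpObj Y] [IsCommMonObj Y] [IsProper Y.hom] [GeometricallyIntegral Y.hom]
          (u : Z ⟶ Y) [IsMonHom u] (v : Y ⟶ Z) [IsMonHom v] (m : ℕ),
          u ≫ v = (𝟙 Z) ^ (l ^ m) → v ≫ u = (𝟙 Y) ^ (l ^ m) → ∃ i, Nonempty (Y ≅ F i))
    (X : Over (Spec (CommRingCat.of k))) [GrpObj X] [IsCommMonObj X] [IsProper X.hom] [GeometricallyIntegral X.hom] :
    (∀ W : Submodule ℚ_[l] (ℚ_[l] ⊗[ℤ_[l]] AbDual.TateMod X l (SGA7.pt (K := k) Ω)),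
        (∀ τ : Ω ≃ₐ[k] Ω, W.map ((galTate X τ).baseChange ℚ_[l]) ≤ W) →
        ∃ W' : Submodule ℚ_[l] (ℚ_[l] ⊗[ℤ_[l]] AbDual.TateMod X l (SGA7.pt (K := k) Ω)),
          IsCompl W W' ∧ ∀ τ : Ω ≃ₐ[k] Ω, W'.map ((galTate X τ).baseChange ℚ_[l]) ≤ W') ∧
      ∀ φ : Module.End ℚ_[l] (ℚ_[l] ⊗[ℤ_[l]] AbDual.TateMod X l (SGA7.pt (K := k) Ω)),
        (∀ τ : Ω ≃ₐ[k] Ω, φ ∘ₗ (galTate X τ).baseChange ℚ_[l] = (galTate X τ).baseChange ℚ_[l] ∘ₗ φ) →
        φ ∈ Submodule.span ℚ_[l] {ψ : Module.End ℚ_[l] (ℚ_[l] ⊗[ℤ_[l]] AbDual.TateMod X l (SGA7.pt (K := k) Ω)) |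
          ∃ (f : X ⟶ X) (_ : IsMonHom f), ψ = (AbDual.tateMapₗ (l := l) (T := SGA7.pt Ω) f).baseChange ℚ_[l]} := by
  obtain ⟨R, _, _, hR⟩ := exists_semisimple_image Ω l hl X
  have hcomm : ∀ r ∈ R, ∀ τ : Ω ≃ₐ[k] Ω,
      r ∘ₗ (galTate X τ).baseChange ℚ_[l] = (galTate X τ).baseChange ℚ_[l] ∘ₗ r := by
    intro r hr τ
    rw [← Subalgebra.mem_toSubmodule, hR] at hr
    induction hr using Submodule.span_induction with
    | mem x hx => obtain ⟨f, hf, rfl⟩ := hx; rw [← LinearMap.baseChange_comp, galTate_comp, LinearMap.baseChange_comp]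
    | zero => simp
    | add x y _ _ hx hy => rw [LinearMap.add_comp, LinearMap.comp_add, hx, hy]
    | smul a x _ hx => rw [LinearMap.smul_comp, LinearMap.comp_smul, hx]
  refine ⟨fun W hW => ?_, fun φ hφ => ?_⟩
  · obtain ⟨u, hu, rfl⟩ := exists_span_range_rat hl X (hFin X) (galTate X) (galTate_component X) W hW
    rw [← hR, Subalgebra.mem_toSubmodule] at hu
    obtain ⟨⟨y, hy⟩, huy⟩ := exists_mul_mul_eq_of_semisimple (⟨u, hu⟩ : R)
    have huy' : u * y * u = u := congrArg Subtype.val huy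
    let e : Module.End ℚ_[l] _ := u * y
    have he : IsIdempotentElem e := by
      show u * y * (u * y) = u * y
      rw [← _root_.mul_assoc, huy']
    have hrg : LinearMap.range e = LinearMap.range u := by
      refine le_antisymm (LinearMap.range_comp_le_range y u) ?_
      conv_lhs => rw [← huy']
      exact LinearMap.range_comp_le_range u e
    refine ⟨LinearMap.ker e, hrg ▸ (LinearMap.IsIdempotentElem.isCompl he : IsCompl _ _), fun τ => ?_⟩
    rintro _ ⟨x, hx, rfl⟩
    rw [LinearMap.mem_ker]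
    have := LinearMap.congr_fun (hcomm e (mul_mem hu hy) τ) x
    rw [LinearMap.comp_apply, LinearMap.comp_apply] at this
    rw [this, LinearMap.mem_ker.1 hx, map_zero]
  · rw [← hR, Subalgebra.mem_toSubmodule]
    refine mem_of_forall_commute R φ fun c hc => ?_
    haveI : IsProper (X ⊗ X).hom := inferInstanceAs (IsProper (pullback.fst X.hom X.hom ≫ X.hom))
    haveI : GeometricallyIntegral (X ⊗ X).hom := geometricallyIntegral_tensor' X X
    haveI : IsCommMonObj (X ⊗ X) := isCommMonObj_of_isProper_of_geometricallyIntegral _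
    let Tm := fun {A B : Over (Spec (CommRingCat.of k))} [GrpObj A] [IsCommMonObj A] [GrpObj B] [IsCommMonObj B]
      (f : A ⟶ B) [IsMonHom f] => (AbDual.tateMapₗ (l := l) (T := SGA7.pt (K := k) Ω) f).baseChange ℚ_[l]
    have Tcomp : ∀ {A B C : Over (Spec (CommRingCat.of k))} [GrpObj A] [IsCommMonObj A] [GrpObj B] [IsCommMonObj B]
        [GrpObj C] [IsCommMonObj C] (f : A ⟶ B) [IsMonHom f] (g : B ⟶ C) [IsMonHom g],
        Tm g ∘ₗ Tm f = Tm (f ≫ g) := by
      intro A B C _ _ _ _ _ _ f _ g _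
      rw [← LinearMap.baseChange_comp]
      exact congrArg (LinearMap.baseChange ℚ_[l]) (LinearMap.ext (tateMapₗ_comp f g))
    let i₁ : X ⟶ X ⊗ X := lift (𝟙 X) (toUnit X ≫ η[X])
    let i₂ : X ⟶ X ⊗ X := lift (toUnit X ≫ η[X]) (𝟙 X)
    haveI : IsMonHom i₁ := inferInstanceAs (IsMonHom (lift (𝟙 X) (toUnit X ≫ η[X])))
    haveI : IsMonHom i₂ := inferInstanceAs (IsMonHom (lift (toUnit X ≫ η[X]) (𝟙 X)))
    let a₁ := Tm (fst X X)
    let a₂ := Tm (snd X X)
    let j₁ := Tm i₁
    let j₂ := Tm i₂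
    have Tid : Tm (𝟙 X) = 1 := by
      refine (congrArg (LinearMap.baseChange ℚ_[l]) ?_).trans LinearMap.baseChange_id
      exact (EndAV.End.tateRep (A := X) l (SGA7.pt (K := k) Ω)).map_one
    have Tone : Tm (toUnit X ≫ η[X]) = 0 := by
      refine (congrArg (LinearMap.baseChange ℚ_[l]) ?_).trans LinearMap.baseChange_zero
      refine LinearMap.ext fun x => AbDual.TateMod.ext fun n => ?_
      show Additive.ofMul (_ ≫ toUnit X ≫ η[X]) = 0
      rw [← Category.assoc, toUnit_unique (_ ≫ toUnit X) (toUnit _)]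
      rfl
    have Tcongr : ∀ {A B : Over (Spec (CommRingCat.of k))} [GrpObj A] [IsCommMonObj A] [GrpObj B] [IsCommMonObj B]
        {f g : A ⟶ B} [IsMonHom f] [IsMonHom g], f = g → Tm f = Tm g := by
      intro A B _ _ _ _ f g _ _ h; subst h; rfl
    have p11 : a₁ ∘ₗ j₁ = 1 := by rw [Tcomp, Tcongr (lift_fst _ _), Tid]
    have p22 : a₂ ∘ₗ j₂ = 1 := by rw [Tcomp, Tcongr (lift_snd _ _), Tid]
    have p21 : a₂ ∘ₗ j₁ = 0 := by rw [Tcomp, Tcongr (lift_snd _ _), Tone]
    have p12 : a₁ ∘ₗ j₂ = 0 := by rw [Tcomp, Tcongr (lift_fst _ _), Tone]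
    have hjoint : ∀ x, a₁ x = 0 → a₂ x = 0 → x = 0 := by
      have hinj : Function.Injective (LinearMap.prod
          (AbDual.tateMapₗ (l := l) (T := SGA7.pt (K := k) Ω) (fst X X))
          (AbDual.tateMapₗ (l := l) (T := SGA7.pt (K := k) Ω) (snd X X))) := by
        intro x y hxy
        refine AbDual.TateMod.ext fun n => ?_
        have h1 := congrArg (fun w => (w.1 : ℕ → Additive (SGA7.pt (K := k) Ω ⟶ X)) n) hxy
        have h2 := congrArg (fun w => (w.2 : ℕ → Additive (SGA7.pt (K := k) Ω ⟶ X)) n) hxy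
        exact congrArg Additive.ofMul (CartesianMonoidalCategory.hom_ext _ _
          (congrArg Additive.toMul h1) (congrArg Additive.toMul h2))
      intro x h1 h2
      obtain ⟨d, t, hd, ht⟩ := exists_smul_eq_tmul x
      haveI := Module.Free.of_basis (Classical.choice (exists_tate_basis_of_algClosed (A := X) Ω
        (exists_dim_eq X).choose_spec hl))
      have hz : ∀ s : AbDual.TateMod X l (SGA7.pt (K := k) Ω), (1 : ℚ_[l]) ⊗ₜ[ℤ_[l]] s = 0 → s = 0 := by
        intro s hs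
        let b := Classical.choice (exists_tate_basis_of_algClosed (A := X) Ω (exists_dim_eq X).choose_spec hl)
        refine b.repr.map_eq_zero_iff.1 (Finsupp.ext fun i => IsFractionRing.injective ℤ_[l] ℚ_[l] ?_)
        have h := congrArg (fun w => (b.baseChange ℚ_[l]).repr w i) hs
        simpa [Algebra.smul_def] using h
      have ht1 : AbDual.tateMapₗ (l := l) (T := SGA7.pt (K := k) Ω) (fst X X) t = 0 := hz _ (by
        rw [← LinearMap.baseChange_tmul, ← ht, map_smul]
        exact (congrArg _ h1).trans (smul_zero _))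
      have ht2 : AbDual.tateMapₗ (l := l) (T := SGA7.pt (K := k) Ω) (snd X X) t = 0 := hz _ (by
        rw [← LinearMap.baseChange_tmul, ← ht, map_smul]
        exact (congrArg _ h2).trans (smul_zero _))
      have : t = 0 := hinj (by simp [LinearMap.prod_apply, ht1, ht2])
      rw [this, TensorProduct.tmul_zero] at ht
      exact (smul_eq_zero.1 ht).resolve_left (fun h => hd ((IsFractionRing.to_map_eq_zero_iff).1 h))
    have hext : ∀ x y, a₁ x = a₁ y → a₂ x = a₂ y → x = y := fun x y h1 h2 =>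
      sub_eq_zero.1 (hjoint _ (by rw [map_sub, h1, sub_self]) (by rw [map_sub, h2, sub_self]))
    let G : Submodule ℚ_[l] (ℚ_[l] ⊗[ℤ_[l]] AbDual.TateMod (X ⊗ X) l (SGA7.pt (K := k) Ω)) :=
      LinearMap.ker (a₂ - φ ∘ₗ a₁)
    have hGmem : ∀ x, x ∈ G ↔ a₂ x = φ (a₁ x) := fun x => by
      rw [LinearMap.mem_ker, LinearMap.sub_apply, sub_eq_zero]; rfl
    have hgal : ∀ (τ : Ω ≃ₐ[k] Ω) {A B : Over (Spec (CommRingCat.of k))} [GrpObj A] [IsCommMonObj A] [GrpObj B]
        [IsCommMonObj B] (f : A ⟶ B) [IsMonHom f] (x),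
        Tm f ((galTate A τ).baseChange ℚ_[l] x) = (galTate B τ).baseChange ℚ_[l] (Tm f x) := by
      intro τ A B _ _ _ _ f _ x
      rw [← LinearMap.comp_apply, ← LinearMap.comp_apply, ← LinearMap.baseChange_comp, ← LinearMap.baseChange_comp,
        galTate_comp]
    obtain ⟨u, hu, hur⟩ := exists_span_range_rat hl (X ⊗ X) (hFin (X ⊗ X)) (galTate (X ⊗ X))
      (galTate_component (X ⊗ X)) G (fun τ => by
        rintro _ ⟨x, hx, rfl⟩
        rw [hGmem]
        show Tm (snd X X) _ = φ (Tm (fst X X) _)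
        rw [hgal, hgal]
        refine (congrArg _ ((hGmem x).1 hx)).trans ?_
        exact (LinearMap.congr_fun (hφ τ) (a₁ x)).symm)
    let D := j₁ ∘ₗ c ∘ₗ a₁ + j₂ ∘ₗ c ∘ₗ a₂
    have hD1 : ∀ x, a₁ (D x) = c (a₁ x) := fun x => by
      show a₁ (j₁ (c (a₁ x)) + j₂ (c (a₂ x))) = _
      rw [map_add, ← LinearMap.comp_apply, p11, ← LinearMap.comp_apply a₁ j₂, p12]
      simp
    have hD2 : ∀ x, a₂ (D x) = c (a₂ x) := fun x => by
      show a₂ (j₁ (c (a₁ x)) + j₂ (c (a₂ x))) = _
      rw [map_add, ← LinearMap.comp_apply, p21, ← LinearMap.comp_apply a₂ j₂, p22]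
      simp
    have hdec : ∀ x, j₁ (a₁ x) + j₂ (a₂ x) = x := fun x => hext _ _
      (by rw [map_add, ← LinearMap.comp_apply, p11, ← LinearMap.comp_apply a₁ j₂, p12]; simp)
      (by rw [map_add, ← LinearMap.comp_apply, p21, ← LinearMap.comp_apply a₂ j₂, p22]; simp)
    have hDu : ∀ ψ ∈ Submodule.span ℚ_[l] {ψ | ∃ (f : X ⊗ X ⟶ X ⊗ X) (_ : IsMonHom f),
        ψ = (AbDual.tateMapₗ (l := l) (T := SGA7.pt (K := k) Ω) f).baseChange ℚ_[l]}, ∀ x, ψ (D x) = D (ψ x) := by
      intro ψ hψ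
      induction hψ using Submodule.span_induction with
      | mem ψ hψ =>
        obtain ⟨f, hf, rfl⟩ := hψ
        intro x
        have hentry : ∀ (p : X ⊗ X ⟶ X) [IsMonHom p] (j : X ⟶ X ⊗ X) [IsMonHom j] (v),
            Tm p (Tm f (Tm j (c v))) = c (Tm p (Tm f (Tm j v))) := by
          intro p _ j _ v
          have hm : Tm (j ≫ f ≫ p) ∈ R := by
            rw [← Subalgebra.mem_toSubmodule, hR]
            exact Submodule.subset_span ⟨j ≫ f ≫ p, inferInstance, rfl⟩
          have e : ∀ w, Tm p (Tm f (Tm j w)) = Tm (j ≫ f ≫ p) w := fun w => by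
            rw [← Tcomp j (f ≫ p), ← Tcomp f p]; rfl
          rw [e, e]
          exact (LinearMap.congr_fun (hc _ hm) v).symm
        refine hext _ _ ?_ ?_
        · show Tm (fst X X) (Tm f (D x)) = a₁ (D (Tm f x))
          rw [hD1]
          show Tm (fst X X) (Tm f (j₁ (c (a₁ x)) + j₂ (c (a₂ x)))) = c (a₁ (Tm f x))
          rw [map_add, map_add, hentry, hentry, ← map_add, ← map_add, ← map_add, hdec]
        · show Tm (snd X X) (Tm f (D x)) = a₂ (D (Tm f x))
          rw [hD2]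
          show Tm (snd X X) (Tm f (j₁ (c (a₁ x)) + j₂ (c (a₂ x)))) = c (a₂ (Tm f x))
          rw [map_add, map_add, hentry, hentry, ← map_add, ← map_add, ← map_add, hdec]
      | zero => intro x; simp
      | add ψ ψ' _ _ h h' => intro x; simp [h x, h' x]
      | smul a ψ _ h => intro x; simp [h x]
    refine LinearMap.ext fun v => ?_
    have q11 : ∀ w, a₁ (j₁ w) = w := fun w => LinearMap.congr_fun p11 w
    have q22 : ∀ w, a₂ (j₂ w) = w := fun w => LinearMap.congr_fun p22 w
    have q21 : ∀ w, a₂ (j₁ w) = 0 := fun w => LinearMap.congr_fun p21 w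
    have q12 : ∀ w, a₁ (j₂ w) = 0 := fun w => LinearMap.congr_fun p12 w
    have hx : j₁ v + j₂ (φ v) ∈ LinearMap.range u := by
      rw [hur, hGmem]
      simp [q11, q12, q21, q22]
    obtain ⟨x, hx⟩ := hx
    have hDG : D (u x) ∈ G := by
      rw [← hur, ← hDu u hu]
      exact ⟨_, rfl⟩
    rw [hGmem, hD2, hD1, hx] at hDG
    simpa [q11, q12, q21, q22] using hDG

end Main

end Groth.Agent.AbCubeLib
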