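import Groth.Agent.AbCubeLib.RosatiPairing
import Groth.Agent.AbCubeLib.HomQuadratic
import Groth.Agent.CubeLib.SeeSawProper

/-!
# Positivity of the next to leading coefficient of the degree polynomial

When the pairing of the endomorphism with the identity is, up to a positive multiple, the class of a nonzero effective
divisor, the coefficient is positive.
-/

set_option autoImplicit false
set_option linter.style.haveILetI false
set_option backward.isDefEq.respectTransparency.types false

universe u

open CategoryTheory CategoryTheory.Limits MonoidalCategory CartesianMonoidalCategory AlgebraicGeometry MonObj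
  TopologicalSpace
open Groth.Agent.PicLib Groth.Agent.CubeLib Groth.Agent.AmpleLib Groth.Agent.Coherent Groth.Agent.EulerLib
  Groth.Agent.DimLib Groth.Agent.AssSch12

namespace Groth.Agent.AbCubeLib

section Algebra

variable {V : Type*} [AddCommGroup V]

theorem quadPoly_coeff_pos {r : ℕ} (hr : 1 ≤ r) (F : MultilinearMap ℤ (fun _ : Fin r => V) ℤ) (v : Fin 3 → V)
    (h : ∀ s : Fin r → Fin 3, ∑ i, (s i : ℕ) = 2 * r - 1 → 0 < F fun i => v (s i)) :
    0 < (quadPoly F v).coeff (2 * r - 1) := by
  classical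
  simp only [quadPoly, Polynomial.finsetSum_coeff, Polynomial.coeff_C_mul_X_pow]
  refine Finset.sum_pos' (fun s _ => ?_) ?_
  · split_ifs with hs
    · exact_mod_cast (h s hs.symm).le
    · exact le_rfl
  · obtain ⟨r, rfl⟩ : ∃ r', r = r' + 1 := ⟨r - 1, by omega⟩
    let s : Fin (r + 1) → Fin 3 := Fin.cons 1 fun _ => 2
    have hs : ∑ i, (s i : ℕ) = 2 * (r + 1) - 1 := by
      rw [Fin.sum_univ_succ]
      simp [s]
      omega
    refine ⟨s, Finset.mem_univ s, ?_⟩
    rw [if_pos hs.symm]
    exact_mod_cast h s hs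

/-- The index carrying the middle vector, and the other ones carrying the last. -/
theorem exists_index_of_sum {r : ℕ} (s : Fin (r + 1) → Fin 3) (hs : ∑ i, (s i : ℕ) = 2 * (r + 1) - 1) :
    ∃ i₀, s i₀ = 1 ∧ ∀ i, i ≠ i₀ → s i = 2 := by
  classical
  have hle : ∀ i, (s i : ℕ) ≤ 2 := fun i => by have := (s i).2; omega
  obtain ⟨i₀, hi₀⟩ : ∃ i₀, (s i₀ : ℕ) ≠ 2 := by
    by_contra h
    push Not at h
    rw [Finset.sum_congr rfl fun i _ => h i, Finset.sum_const, Finset.card_univ, Fintype.card_fin, smul_eq_mul] at hs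
    omega
  have hsum := Finset.add_sum_erase Finset.univ (fun i => 2 - (s i : ℕ)) (Finset.mem_univ i₀)
  have htot : ∑ i, (2 - (s i : ℕ)) = 1 := by
    have := Finset.sum_add_distrib (s := Finset.univ) (f := fun i => 2 - (s i : ℕ)) (g := fun i => (s i : ℕ))
    simp only [fun i => Nat.sub_add_cancel (hle i), Finset.sum_const, Finset.card_univ, Fintype.card_fin,
      smul_eq_mul] at this
    omega
  simp only [htot] at hsum
  have := hle i₀
  refine ⟨i₀, Fin.ext (by show (s i₀ : ℕ) = 1; omega), fun i hi => Fin.ext ?_⟩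
  have h1 := Finset.single_le_sum (s := Finset.univ.erase i₀) (f := fun i => 2 - (s i : ℕ))
    (fun j _ => Nat.zero_le _) (Finset.mem_erase.2 ⟨hi, Finset.mem_univ i⟩)
  have h2 := hle i
  show (s i : ℕ) = 2
  omega

end Algebra

variable {k : Type u} [Field k] {A : Over (Spec (CommRingCat.of k))} [GrpObj A] [IsCommMonObj A] [IsProper A.hom]
  [GeometricallyIntegral A.hom]

/-- In dimension zero every point is the generic one. -/
theorem eq_genericPoint_of_dim_zero [IrreducibleSpace A.left] (hr : topologicalKrullDim A.left = (0 : ℕ))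
    (z : A.left) : z = genericPoint A.left := by
  have h := topologicalKrullDim_eq_ptDim_genericPoint A.hom
  rw [hr] at h
  have hp : ptDim A.hom (genericPoint A.left) = 0 := (by exact_mod_cast h.symm)
  exact (eq_of_specializes_of_ptDim_le A.hom (genericPoint_specializes z) (by omega)).symm

omit [IsCommMonObj A] in
theorem one_le_of_ne_one [IsCommMonObj A] {r : ℕ} (hr : topologicalKrullDim A.left = r) (α : EndAV.End A)
    (hα : α ≠ 0) : 1 ≤ r := by
  rcases r with _ | r
  · haveI : IsIntegral A.left := GeometricallyIntegral.isIntegral_of_subsingleton A.hom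
    refine absurd (EndAV.Hom.ext ?_) hα
    rw [EndAV.Hom.toHom_zero]
    exact eq_one_of_forall_eq α.toHom (c := α.toHom.left (genericPoint A.left)) fun z =>
      congrArg _ (eq_genericPoint_of_dim_zero hr z)
  · omega

/-- A power of an ample module has a section whose inverse image by a nontrivial homomorphism is neither zero nor
nowhere vanishing. -/
theorem exists_section_pullback {φ : A ⟶ A} [IsMonHom φ] (hφ : φ ≠ 1) [IsIntegral A.left] {M : A.left.Modules}
    (hM : CohB1.IsAmple M) :
    ∃ (m : ℕ) (b : Γ((Scheme.Modules.pullback φ.left).obj (CohB1.tensorPow M m), ⊤)), 0 < m ∧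
      genericPoint A.left ∈ glocus _ b ∧
        glocus ((Scheme.Modules.pullback φ.left).obj (CohB1.tensorPow M m)) b ≠ ⊤ := by
  letI : A.left.Over (Spec (CommRingCat.of k)) := ⟨A.hom⟩
  haveI : IsProper (A.left ↘ Spec (CommRingCat.of k)) := ‹IsProper A.hom›
  haveI : A.left.IsSeparated := isSeparated_of_proper (X := A.left) k
  let ξ := genericPoint A.left
  obtain ⟨-, -, hx'⟩ := isAmple_iff_affGlocus.1 hM
  obtain ⟨m, hm, s, hys, -, hs⟩ := hx' (φ.left ξ)
  have hloc := glocus_pullSec φ.left (isInvertible_tensorPow hM.1 m) s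
  refine ⟨m, pullSec φ.left s, hm, by rw [hloc]; exact hys, fun hall => hφ ?_⟩
  rw [hloc] at hall
  refine eq_one_of_forall_eq φ (c := φ.left ξ) fun z => ?_
  have hsub : closure {φ.left ξ} ⊆ (glocus (CohB1.tensorPow M m) s : Set A.left) := by
    intro w hw
    haveI : IsProper (φ.left ≫ A.hom) := by rw [Over.w]; infer_instance
    haveI : IsProper φ.left := IsProper.of_comp _ A.hom
    obtain ⟨z', rfl⟩ : w ∈ Set.range φ.left :=
      φ.left.isClosedMap.isClosed_range.closure_subset_iff.2 (Set.singleton_subset_iff.2 ⟨ξ, rfl⟩) hw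
    exact hall.ge (Set.mem_univ z')
  refine eq_of_closure_subset_affine k hs hsub ?_
  have hz : z ∈ closure ({ξ} : Set A.left) := (genericPoint_closure A.left).symm ▸ Set.mem_univ z
  have := image_closure_subset_closure_image φ.left.continuous ⟨z, hz, rfl⟩
  rwa [Set.image_singleton] at this

/-- If a positive multiple of the pairing with the identity is a nonzero effective class, the next to leading
coefficient is positive. -/
theorem degPoly_coeff_pos {r : ℕ} (hr : topologicalKrullDim A.left = r) (hr1 : 1 ≤ r) {L : A.left.Modules}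
    (hL : CohB1.IsAmple L) [IsIntegral A.left] (α : EndAV.End A) {P : Polynomial ℚ} (hP : IsDegPoly α P) (d : ℕ)
    (hd : 0 < d) {Q : A.left.Modules} (hQ : PicF.IsInvertible Q) (b : Γ(Q, ⊤))
    (hb : genericPoint A.left ∈ glocus Q b) (hb' : glocus Q b ≠ ⊤)
    (hrel : ((Additive.toMul ((d : ℤ) • (2 : ℤ) • pairing (PicM.of hL.1) α 1) : (PicM A.left)ˣ) : PicM A.left) =
      PicM.of hQ) :
    0 < P.coeff (2 * r - 1) := by
  classical
  letI : A.left.Over (Spec (CommRingCat.of k)) := ⟨A.hom⟩
  haveI : IsProper (A.left ↘ Spec (CommRingCat.of k)) := ‹IsProper A.hom›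
  obtain ⟨F, N, hN, hF, hpoly⟩ := exists_degPoly_eq rfl hr hL
  let a := PicM.of hL.1
  haveI : IsIso ((𝟙 A)⁻¹).left := inferInstanceAs (IsIso ((Over.forget _).map (ι[A])))
  haveI : CompactSpace A.left := QuasiCompact.compactSpace_of_compactSpace A.hom
  have hL' := isAmple_pullback_of_isEmbedding ((𝟙 A)⁻¹).left ((𝟙 A)⁻¹).left.homeomorph.isEmbedding hL
  have hM := isAmple_tensorMod hL hL'
  have hsym1 : ((Additive.toMul (symU a 1) : (PicM A.left)ˣ) : PicM A.left) = PicM.of hM.1 := by
    rw [symU, toMul_add, Units.val_mul, pbU_val, pbU_val, EndAV.End.toHom_neg, EndAV.End.toHom_one, pb_id]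
    exact (congrArg (a * ·) (PicM.pull_of ((𝟙 A)⁻¹).left hL.1)).trans (PicM.of_mul hL.1 hL'.1)
  have hpos : 0 < (quadPoly F ![symU a α, (d : ℤ) • (2 : ℤ) • pairing a α 1, symU a 1]).coeff (2 * r - 1) := by
    refine quadPoly_coeff_pos hr1 F _ fun s hs => ?_
    obtain ⟨r, rfl⟩ : ∃ r', r = r' + 1 := ⟨r - 1, by omega⟩
    obtain ⟨i₀, hi₀, hi⟩ := exists_index_of_sum s hs
    rw [hF, ← interDeg_comp_perm _ (Equiv.swap (0 : Fin (r + 1)) i₀)]
    have hvec : ((fun i => clU (![symU a α, (d : ℤ) • (2 : ℤ) • pairing a α 1, symU a 1] (s i))) ∘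
        ⇑(Equiv.swap (0 : Fin (r + 1)) i₀)) = Fin.cons (InvCl.mk Q hQ) fun _ : Fin r => InvCl.mk _ hM.1 := by
      funext j
      induction j using Fin.cases with
      | zero =>
        rw [Fin.cons_zero, Function.comp_apply, Equiv.swap_apply_left, hi₀]
        show invOf _ = _
        rw [show ((Additive.toMul ((![symU a α, (d : ℤ) • (2 : ℤ) • pairing a α 1, symU a 1] :
            Fin 3 → Additive (PicM A.left)ˣ) 1) : (PicM A.left)ˣ) : PicM A.left) = PicM.of hQ from hrel, invOf_of]
      | succ j =>
        have hne : Equiv.swap (0 : Fin (r + 1)) i₀ j.succ ≠ i₀ := fun e => by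
          have e0 : Equiv.swap (0 : Fin (r + 1)) i₀ j.succ = Equiv.swap (0 : Fin (r + 1)) i₀ 0 :=
            e.trans (Equiv.swap_apply_left 0 i₀).symm
          exact Fin.succ_ne_zero j ((Equiv.swap (0 : Fin (r + 1)) i₀).injective e0)
        rw [Fin.cons_succ, Function.comp_apply, hi _ hne]
        show invOf _ = _
        rw [show ((Additive.toMul ((![symU a α, (d : ℤ) • (2 : ℤ) • pairing a α 1, symU a 1] :
            Fin 3 → Additive (PicM A.left)ˣ) 2) : (PicM A.left)ˣ) : PicM A.left) = PicM.of hM.1 from hsym1, invOf_of]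
    rw [hvec]
    refine interDeg_cons_pos_of_section k (y := genericPoint A.left) ?_ hQ b hb ?_ (fun _ => _) fun _ => hM
    · rw [genericPoint_closure, ← hr]
      exact IsHomeomorph.topologicalKrullDim_eq _ (Homeomorph.Set.univ A.left).isHomeomorph
    · rw [genericPoint_closure]
      exact fun h => hb' (top_le_iff.1 fun z _ => h (Set.mem_univ z))
  have hsc := quadPoly_coeff hr1 F (symU a α) (symU a α) ((2 : ℤ) • pairing a α 1)
    ((d : ℤ) • (2 : ℤ) • pairing a α 1) (symU a 1) 1 d (one_zsmul _)
  rw [Int.cast_one, _root_.one_mul, ← hpoly α P hP, Polynomial.coeff_mul_C] at hsc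
  rw [hsc] at hpos
  have hN' : (0 : ℚ) < N := by exact_mod_cast hN
  have hd' : (0 : ℚ) ≤ ((d : ℤ) : ℚ) := by positivity
  exact pos_of_mul_pos_left (pos_of_mul_pos_right hpos hd') hN'.le

/-- Twice the self pairing is twice the symmetrised class. -/
theorem two_pairing_self (a : PicM A.left) (x : EndAV.End A) : (2 : ℤ) • pairing a x x = (2 : ℤ) • symU a x := by
  have h := symU_add a x (-x)
  rw [add_neg_cancel, pairing_comm a x (-x), pairing_neg_left, smul_neg] at h
  have h0 : symU a (0 : EndAV.End A) = 0 := by rw [symU, neg_zero, pbU_zero, _root_.add_zero]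
  have hn : symU a (-x) = symU a x := by rw [symU, symU, neg_neg, _root_.add_comm]
  rw [h0, hn, eq_comm, add_neg_eq_zero] at h
  rw [← h, two_zsmul]

end Groth.Agent.AbCubeLib
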