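import Groth.Agent.AbCubeLib.WeilPoly

/-!
# The equality case of the trace bound for Weil polynomials
-/

set_option autoImplicit false

open Polynomial

namespace Groth.Agent.AbCubeLib

/-- Equality in the mean inequality forces all entries to be one. -/
theorem eq_one_of_sum_eq_card (s : Multiset ℝ) (hpos : ∀ c ∈ s, 0 < c) (hprod : 1 ≤ s.prod)
    (hsum : s.sum = Multiset.card s) : ∀ c ∈ s, c = 1 := by
  classical
  intro c hc
  by_contra hne
  have hs : ∀ x ∈ s.erase c, 0 < x := fun x hx => hpos x (Multiset.mem_of_mem_erase hx)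
  have h : ∀ t : Multiset ℝ, (∀ c ∈ t, 0 < c) → Real.log t.prod ≤ t.sum - Multiset.card t := by
    intro t
    induction t using Multiset.induction with
    | empty => simp
    | cons a t ih =>
      intro h
      have ha := h a (Multiset.mem_cons_self a t)
      have ht := fun c hc => h c (Multiset.mem_cons_of_mem hc)
      have hp : t.prod ≠ 0 := Multiset.prod_ne_zero fun h0 => lt_irrefl (0 : ℝ) (ht 0 h0)
      rw [Multiset.prod_cons, Real.log_mul ha.ne' hp, Multiset.sum_cons, Multiset.card_cons, Nat.cast_succ]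
      linarith [ih ht, Real.log_le_sub_one_of_pos ha]
  have h1 := Real.log_lt_sub_one_of_pos (hpos c hc) hne
  have h2 := h (s.erase c) hs
  have hp : (s.erase c).prod ≠ 0 := Multiset.prod_ne_zero fun h0 => lt_irrefl (0 : ℝ) (hs 0 h0)
  rw [← Multiset.cons_erase hc, Multiset.prod_cons] at hprod
  rw [← Multiset.cons_erase hc, Multiset.sum_cons, Multiset.card_cons, Nat.cast_succ] at hsum
  have h3 := Real.log_nonneg hprod
  rw [Real.log_mul (hpos c hc).ne' hp] at h3
  linarith

/-- In the equality case all the roots have the extreme real part. -/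
theorem re_eq_of_nextCoeff_eq (P : ℤ[X]) (hP : P.Monic) {g : ℕ} (hd : P.natDegree = 2 * g) {q : ℕ} (hq : q ≠ 0)
    (hroots : ∀ ω ∈ (P.map (Int.castRingHom ℂ)).roots, ‖ω‖ = Real.sqrt q) (e : ℤ) (he : e * e = 1)
    (hext : (P.nextCoeff : ℝ) = -((e : ℝ) * ((g : ℝ) * (⌊2 * Real.sqrt q⌋ : ℝ)))) :
    ∀ ω ∈ (P.map (Int.castRingHom ℂ)).roots, 2 * ω.re = (e : ℝ) * (⌊2 * Real.sqrt q⌋ : ℝ) := by
  set m : ℤ := ⌊2 * Real.sqrt q⌋
  set s := (P.map (Int.castRingHom ℂ)).roots with hs
  have hsp := IsAlgClosed.splits (P.map (Int.castRingHom ℂ))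
  have hcard : Multiset.card s = 2 * g := by rw [hs, ← hsp.natDegree_eq_card_roots, hP.natDegree_map, hd]
  have hsum : (P.nextCoeff : ℝ) = -(s.map Complex.re).sum := by
    have h := hsp.nextCoeff_eq_neg_sum_roots_of_monic (hP.map _)
    rw [nextCoeff_map (RingHom.injective_int _)] at h
    have h2 := congrArg Complex.re h
    rw [Complex.neg_re, show s.sum.re = (s.map Complex.re).sum from map_multiset_sum Complex.reLm s] at h2
    simpa using h2
  let c : ℂ → ℝ := fun ω => (m : ℝ) + 1 - 2 * (e : ℝ) * ω.re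
  have hbound : ∀ ω ∈ s, 0 < c ω := fun ω hω => by
    have h1 : |(e : ℝ) * ω.re| ≤ Real.sqrt q := by
      rw [← hroots ω hω, abs_mul]
      have : |(e : ℝ)| = 1 := by
        have : (e : ℝ) * e = 1 := by exact_mod_cast he
        nlinarith [abs_nonneg (e : ℝ), abs_mul_abs_self (e : ℝ)]
      rw [this, one_mul]
      exact Complex.abs_re_le_norm ω
    have h2 := Int.lt_floor_add_one (2 * Real.sqrt q)
    have h3 := (abs_le.1 h1).2
    show (0 : ℝ) < (m : ℝ) + 1 - 2 * (e : ℝ) * ω.re
    rw [mul_assoc]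
    linarith
  have hne : ∀ ω ∈ s, ω ≠ 0 := fun ω hω h0 => by
    have := hroots ω hω
    rw [h0, norm_zero] at this
    exact (Real.sqrt_pos.2 (Nat.cast_pos.2 (Nat.pos_of_ne_zero hq))).ne this
  -- the product is a positive integer
  obtain ⟨z, hz⟩ := exists_int_prod_eval P (C (m + 1) * X - C e * X ^ 2 - C (e * q)) hP
  obtain ⟨w, hw⟩ := exists_int_prod_eval P X hP
  rw [← hs] at hz hw
  have hfac : ∀ ω ∈ s, ((C (m + 1) * X - C e * X ^ 2 - C (e * (q : ℤ))).map (Int.castRingHom ℂ)).eval ω =
      (c ω : ℂ) * ω := fun ω hω => by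
    have hn : (starRingEnd ℂ) ω * ω = (q : ℂ) := by
      rw [← Complex.normSq_eq_conj_mul_self, Complex.normSq_eq_norm_sq, hroots ω hω,
        Real.sq_sqrt (Nat.cast_nonneg q)]
      norm_num
    simp only [Polynomial.map_sub, Polynomial.map_mul, Polynomial.map_C, Polynomial.map_X, Polynomial.map_pow,
      eval_sub, eval_mul, eval_C, eval_X, eval_pow]
    simp only [map_add, map_one, map_mul, eq_intCast, c, Int.cast_natCast]
    push_cast
    rw [show (2 : ℂ) * (e : ℂ) * (ω.re : ℂ) = (e : ℂ) * (ω + (starRingEnd ℂ) ω) by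
      rw [Complex.add_conj]; push_cast; ring]
    linear_combination ((e : ℂ)) * hn
  rw [Multiset.map_congr rfl hfac, Multiset.prod_map_mul] at hz
  rw [Polynomial.map_X, show s.map (Polynomial.eval · X) = s from
    (Multiset.map_congr rfl fun ω _ => eval_X).trans (Multiset.map_id s)] at hw
  rw [show (s.map fun ω => ω) = s from Multiset.map_id s, hw,
    show (s.map fun ω => (c ω : ℂ)) = (s.map c).map Complex.ofRealHom by rw [Multiset.map_map]; rfl,
    ← map_multiset_prod] at hz
  have hwn : (|w| : ℝ) = (q : ℝ) ^ g := by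
    have h := congrArg (fun x : ℂ => ‖x‖) hw
    simp only [Complex.norm_intCast] at h
    rw [← h, show ‖s.prod‖ = (s.map fun ω => ‖ω‖).prod from map_multiset_prod (normHom (α := ℂ)) s,
      Multiset.map_congr rfl hroots, Multiset.map_const', Multiset.prod_replicate, hcard, pow_mul,
      Real.sq_sqrt (Nat.cast_nonneg q)]
  have hprod1 : 1 ≤ (s.map c).prod := by
    have hp : 0 < (s.map c).prod := Multiset.prod_pos fun x hx => by
      obtain ⟨ω, hω, rfl⟩ := Multiset.mem_map.1 hx
      exact hbound ω hω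
    have hz' : (s.map c).prod * (w : ℝ) = (z : ℝ) := by
      have := congrArg Complex.re hz
      simpa using this
    -- a rational algebraic integer
    have hdvd : ∃ d : ℤ, (s.map c).prod = (d : ℝ) := by
      have hw0 : (w : ℚ) ≠ 0 := by
        intro h0
        rw [Int.cast_eq_zero.1 h0, Int.cast_zero] at hwn
        simp [eq_comm, hq] at hwn
      have hrat : (((s.map c).prod : ℝ) : ℂ) = algebraMap ℚ ℂ ((z : ℚ) / (w : ℚ)) := by
        rw [map_div₀, map_intCast, map_intCast, eq_div_iff (by exact_mod_cast (Int.cast_ne_zero.1 hw0))]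
        exact_mod_cast hz'
      have hint : IsIntegral ℤ (((s.map c).prod : ℝ) : ℂ) := by
        rw [← Complex.ofRealHom_eq_coe, map_multiset_prod, Multiset.map_map]
        refine IsIntegral.multiset_prod fun x hx => ?_
        obtain ⟨ω, hω, rfl⟩ := Multiset.mem_map.1 hx
        have hωi : IsIntegral ℤ ω := ⟨P, hP, by
          rw [algebraMap_int_eq, ← eval_map]
          exact (mem_roots'.1 hω).2⟩
        show IsIntegral ℤ ((c ω : ℂ))
        rw [show (c ω : ℂ) = algebraMap ℤ ℂ (m + 1) - algebraMap ℤ ℂ e * (ω + (starRingEnd ℂ) ω) by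
          simp only [c, Complex.add_conj, algebraMap_int_eq, eq_intCast]; push_cast; ring]
        exact isIntegral_algebraMap.sub (isIntegral_algebraMap.mul (hωi.add (hωi.map (starRingEnd ℂ).toIntAlgHom)))
      rw [hrat, isIntegral_algebraMap_iff (algebraMap ℚ ℂ).injective] at hint
      obtain ⟨d, hd'⟩ := IsIntegrallyClosed.isIntegral_iff.1 hint
      refine ⟨d, Complex.ofReal_injective ?_⟩
      rw [hrat, ← hd', algebraMap_int_eq, eq_intCast, map_intCast, Complex.ofReal_intCast]
    obtain ⟨d, hd'⟩ := hdvd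
    rw [hd'] at hp ⊢
    exact_mod_cast (Int.cast_pos.1 hp : 0 < d)
  have hee : (e : ℝ) * e = 1 := by exact_mod_cast he
  intro ω hω
  have hc := eq_one_of_sum_eq_card (s.map c) (fun x hx => by
    obtain ⟨ω, hω, rfl⟩ := Multiset.mem_map.1 hx
    exact hbound ω hω) hprod1 ?_ (c ω) (Multiset.mem_map.2 ⟨ω, hω, rfl⟩)
  · have h2 : (e : ℝ) * (2 * (e : ℝ) * ω.re) = (e : ℝ) * m := congrArg _ (by
      simp only [c] at hc
      linarith)
    rw [show (e : ℝ) * (2 * (e : ℝ) * ω.re) = 2 * ω.re * ((e : ℝ) * e) by ring, hee, mul_one] at h2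
    exact h2
  · rw [Multiset.card_map, hcard, Multiset.sum_map_sub, Multiset.map_const', Multiset.sum_replicate, hcard,
      Multiset.sum_map_mul_left, nsmul_eq_mul]
    have : (s.map Complex.re).sum = (e : ℝ) * ((g : ℝ) * m) := by rw [hsum] at hext; linarith
    rw [this]
    push_cast
    linear_combination (-2 * (g : ℝ) * m) * hee

/-- The equality case of the trace bound. -/
theorem eq_quadratic_pow_of_nextCoeff_eq (P : ℤ[X]) (hP : P.Monic) {g : ℕ} (hd : P.natDegree = 2 * g) {q : ℕ}
    (hq : q ≠ 0) (hroots : ∀ ω ∈ (P.map (Int.castRingHom ℂ)).roots, ‖ω‖ = Real.sqrt q) (e : ℤ) (he : e * e = 1)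
    (hext : (P.nextCoeff : ℝ) = -((e : ℝ) * ((g : ℝ) * (⌊2 * Real.sqrt q⌋ : ℝ)))) :
    P = (X ^ 2 - C (e * ⌊2 * Real.sqrt q⌋) * X + C (q : ℤ)) ^ g := by
  classical
  have hre := re_eq_of_nextCoeff_eq P hP hd hq hroots e he hext
  refine Polynomial.map_injective (Int.castRingHom ℂ) (RingHom.injective_int _) ?_
  set f := P.map (Int.castRingHom ℂ) with hf
  have hsp := IsAlgClosed.splits f
  have hcard : Multiset.card f.roots = 2 * g := by rw [← hsp.natDegree_eq_card_roots, hP.natDegree_map, hd]
  have hconj : f.roots.map (starRingEnd ℂ) = f.roots := by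
    rw [← hsp.roots_map_of_injective (starRingEnd ℂ).injective, hf, Polynomial.map_map]
    exact congrArg (fun h => (P.map h).roots) (Subsingleton.elim _ _)
  rcases Nat.eq_zero_or_pos g with rfl | hg
  · rw [pow_zero, Polynomial.map_one, hf, (eq_one_of_monic_natDegree_zero hP (by simpa using hd)), Polynomial.map_one]
  obtain ⟨a, ha⟩ := Multiset.exists_mem_of_ne_zero (s := f.roots) fun h => by
    rw [h, Multiset.card_zero] at hcard; omega
  have hnorm : ∀ ω ∈ f.roots, (starRingEnd ℂ) ω * ω = (q : ℂ) := fun ω hω => by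
    rw [← Complex.normSq_eq_conj_mul_self, Complex.normSq_eq_norm_sq, hroots ω hω, Real.sq_sqrt (Nat.cast_nonneg q)]
    norm_num
  have hsum2 : ∀ ω ∈ f.roots, ω + (starRingEnd ℂ) ω = ((e * ⌊2 * Real.sqrt q⌋ : ℤ) : ℂ) := fun ω hω => by
    rw [Complex.add_conj, hre ω hω]
    push_cast
    ring
  have hQ : ((X ^ 2 - C (e * ⌊2 * Real.sqrt q⌋) * X + C (q : ℤ) : ℤ[X])).map (Int.castRingHom ℂ) =
      (X - C a) * (X - C ((starRingEnd ℂ) a)) := by
    simp only [Polynomial.map_add, Polynomial.map_sub, Polynomial.map_mul, Polynomial.map_pow, Polynomial.map_X,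
      Polynomial.map_C]
    rw [eq_intCast (Int.castRingHom ℂ), eq_intCast (Int.castRingHom ℂ), Int.cast_natCast, ← hsum2 a ha, ← hnorm a ha,
      map_add, map_mul]
    ring
  have hmem : ∀ ω ∈ f.roots, ω = a ∨ ω = (starRingEnd ℂ) a := fun ω hω => by
    have : (ω - a) * (ω - (starRingEnd ℂ) a) = 0 := by
      linear_combination ω * (hsum2 ω hω) - ω * (hsum2 a ha) + (hnorm a ha) - (hnorm ω hω)
    rcases mul_eq_zero.1 this with h | h
    · exact Or.inl (sub_eq_zero.1 h)
    · exact Or.inr (sub_eq_zero.1 h)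
  have hdup : f.roots + f.roots = Multiset.replicate (2 * g) a + Multiset.replicate (2 * g) ((starRingEnd ℂ) a) := by
    refine Multiset.ext.2 fun x => ?_
    rw [Multiset.count_add, Multiset.count_add, Multiset.count_replicate, Multiset.count_replicate]
    have hsymm : ∀ y, f.roots.count ((starRingEnd ℂ) y) = f.roots.count y := fun y => by
      conv_lhs => rw [← hconj]
      exact Multiset.count_map_eq_count' _ _ (starRingEnd ℂ).injective y
    by_cases hx : x ∈ f.roots
    · rcases eq_or_ne a ((starRingEnd ℂ) a) with h | h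
      · have hall : ∀ ω ∈ f.roots, ω = a := fun ω hω => (hmem ω hω).elim id fun h' => h'.trans h.symm
        have hr : f.roots = Multiset.replicate (2 * g) a := Multiset.eq_replicate.2 ⟨hcard, hall⟩
        rw [hall x hx, ← h, if_pos rfl, hr, Multiset.count_replicate_self]
      · have hsplit : f.roots.count a + f.roots.count ((starRingEnd ℂ) a) = 2 * g := by
          rw [← hcard, ← Multiset.toFinset_sum_count_eq f.roots,
            Finset.sum_subset (s₂ := {a, (starRingEnd ℂ) a}) (fun ω hω => by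
              rcases hmem ω (Multiset.mem_toFinset.1 hω) with rfl | rfl <;> simp)
              (fun ω _ hω => Multiset.count_eq_zero.2 fun h' => hω (Multiset.mem_toFinset.2 h')),
            Finset.sum_pair h]
        have := hsymm a
        rcases hmem x hx with rfl | rfl
        · rw [if_pos rfl, if_neg (Ne.symm h)]; omega
        · rw [if_neg h, if_pos rfl]; omega
    · have h1 : a ≠ x := fun h => hx (h ▸ ha)
      have h2 : (starRingEnd ℂ) a ≠ x := fun h => hx (h ▸ (by
        rw [← hconj]; exact Multiset.mem_map_of_mem _ ha))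
      rw [Multiset.count_eq_zero.2 hx, if_neg h1, if_neg h2]
  have hsq : f ^ 2 = ((((X ^ 2 - C (e * ⌊2 * Real.sqrt q⌋) * X + C (q : ℤ)) ^ g : ℤ[X])).map (Int.castRingHom ℂ)) ^ 2 := by
    have hprod := hsp.eq_prod_roots_of_monic (hP.map _)
    rw [Polynomial.map_pow, hQ, ← pow_mul, mul_pow]
    conv_lhs => rw [hprod, sq, ← Multiset.prod_add, ← Multiset.map_add, hdup]
    rw [Multiset.map_add, Multiset.prod_add, Multiset.map_replicate, Multiset.map_replicate, Multiset.prod_replicate,
      Multiset.prod_replicate, mul_comm g 2]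
  rcases sq_eq_sq_iff_eq_or_eq_neg.1 hsq with h | h
  · exact h
  · exfalso
    have hmon : (((X ^ 2 - C (e * ⌊2 * Real.sqrt q⌋) * X + C (q : ℤ)) ^ g : ℤ[X]).map (Int.castRingHom ℂ)).Monic := by
      rw [Polynomial.map_pow, hQ]; exact ((monic_X_sub_C _).mul (monic_X_sub_C _)).pow _
    have := congrArg Polynomial.leadingCoeff h
    rw [leadingCoeff_neg, (hP.map _).leadingCoeff, hmon.leadingCoeff] at this
    norm_num at this

end Groth.Agent.AbCubeLib
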